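import Cfsg.Agent.Lib.Perm.Trans.Unit
import Cfsg.Agent.Lib.SU.Ind

/-!
# The standard hermitian form
-/

set_option autoImplicit false
set_option linter.all false

namespace CfsgLib.Perm.Trans.Unit

open scoped Matrix
open Matrix Cfsg.Geo CfsgLib.Perm.Asch CfsgLib.Perm.Trans

variable {F : Type*} [Field F] [Fintype F] {q : ℕ}

theorem ctx_of_card (hF : Fintype.card F = q ^ 2) : Nonempty (CfsgLib.SU.UCtx F q) := by
  obtain ⟨p, hp⟩ := CharP.exists F
  obtain ⟨k, hp', hk⟩ := FiniteField.card F p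
  haveI : Fact p.Prime := ⟨hp'⟩
  obtain ⟨j, -, rfl⟩ : ∃ j ≤ (k : ℕ), q = p ^ j :=
    (Nat.dvd_prime_pow hp').1 (hk ▸ hF ▸ dvd_pow_self q two_ne_zero)
  refine CfsgLib.SU.exists_ctx rfl (Nat.one_le_iff_ne_zero.2 ?_) hF
  rintro rfl
  have := Fintype.one_lt_card (α := F)
  rw [hF, pow_zero, one_pow] at this
  exact lt_irrefl _ this

theorem hermForm_eq_form (C : CfsgLib.SU.UCtx F q) {n : ℕ} (u v : Fin n → F) :
    Cfsg.hermForm n F q u v = C.form u v := C.hermForm_eq u v

theorem isUnitary_hermForm (C : CfsgLib.SU.UCtx F q) {n : ℕ} :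
    IsUnitaryForm C.bar (Cfsg.hermForm n F q) where
  ne_refl h := by
    obtain ⟨y, hy⟩ := C.exists_not_fixed
    exact hy (by rw [h]; rfl)
  involutive := C.bar_bar
  add_left x y v := by simp only [hermForm_eq_form C, C.form_add_left]
  smul_left c x v := by simp only [hermForm_eq_form C, C.form_smul_left]
  herm v w := by simp only [hermForm_eq_form C, C.bar_form]
  nondegenerate v hv := by
    obtain ⟨w, hw⟩ := C.exists_form_eq_one hv
    refine ⟨⟨w, by rw [hermForm_eq_form C, hw]; exact one_ne_zero⟩, ⟨w, ?_⟩⟩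
    rw [hermForm_eq_form C, ← C.bar_form, hw, map_one]
    exact one_ne_zero

theorem unitaryTransvection_mulVec {n : ℕ} (v : Fin n → F) (c : F) (x : Fin n → F) :
    Cfsg.unitaryTransvection n q v c *ᵥ x = x + (c * Cfsg.hermForm n F q x v) • v := by
  rw [Cfsg.unitaryTransvection, add_mulVec, one_mulVec, smul_mulVec, vecMulVec_mulVec, op_smul_eq_smul, smul_smul,
    dotProduct_comm]
  rfl

theorem unitaryTransvection_iff (hF : Fintype.card F = q ^ 2) {n : ℕ} {v : Fin n → F} (hv : v ≠ 0)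
    (hv0 : Cfsg.hermForm n F q v v = 0) (c : F) :
    (∀ x y : Fin n → F, Cfsg.hermForm n F q ((Cfsg.unitaryTransvection n q v c).mulVec x)
      ((Cfsg.unitaryTransvection n q v c).mulVec y) = Cfsg.hermForm n F q x y) ↔ (c = 0 ∨ c ^ (q - 1) = -1) := by
  obtain ⟨C⟩ := ctx_of_card hF
  have hf : IsUnitaryForm C.bar (Cfsg.hermForm n F q) := isUnitary_hermForm C
  have hq := C.q_ne_zero
  have key : ∀ x y : Fin n → F, Cfsg.hermForm n F q ((Cfsg.unitaryTransvection n q v c).mulVec x)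
      ((Cfsg.unitaryTransvection n q v c).mulVec y) = Cfsg.hermForm n F q x y +
        (c + C.bar c) * (Cfsg.hermForm n F q x v * Cfsg.hermForm n F q v y) := by
    intro x y
    rw [unitaryTransvection_mulVec, unitaryTransvection_mulVec]
    simp only [hf.add_left, herm_add_right hf, hf.smul_left, herm_smul_right hf, hv0, map_mul, ← hf.herm]
    ring
  have hiff : (c = 0 ∨ c ^ (q - 1) = -1) ↔ C.bar c = -c := by
    rw [C.bar_eq]
    rcases eq_or_ne c 0 with rfl | hc
    · simp [hq]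
    rw [or_iff_right hc]
    conv_rhs => rw [← Nat.sub_add_cancel (Nat.one_le_iff_ne_zero.2 hq), pow_succ, ← neg_one_mul c,
      mul_left_inj' hc]
  rw [hiff]
  constructor
  · intro h
    obtain ⟨x, hx⟩ := (hf.nondegenerate v hv).1
    have h1 := (key x x).symm.trans (h x x)
    rw [add_eq_left, mul_eq_zero] at h1
    rcases h1 with h1 | h1
    · exact eq_neg_of_add_eq_zero_right h1
    · rcases mul_eq_zero.1 h1 with h2 | h2
      · exact absurd h2 hx
      · exact absurd (herm_swap_zero hf h2) hx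
  · intro h x y
    rw [key, h, add_neg_cancel, zero_mul, add_zero]

theorem su_closure (hF : Fintype.card F = q ^ 2) (n : ℕ) (hn : 3 ≤ n) (h32 : ¬ (n = 3 ∧ q = 2)) :
    Subgroup.closure {A : ↥(Cfsg.SU n F q) | ∃ (v : Fin n → F) (c : F), Cfsg.hermForm n F q v v = 0 ∧
      ((A : Matrix.SpecialLinearGroup (Fin n) F) : Matrix (Fin n) (Fin n) F) =
        Cfsg.unitaryTransvection n q v c} = ⊤ := by
  obtain ⟨C⟩ := ctx_of_card hF
  have hf : IsUnitaryForm C.bar (Cfsg.hermForm n F q) := isUnitary_hermForm C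
  set S := {A : ↥(Cfsg.SU n F q) | ∃ (v : Fin n → F) (c : F), Cfsg.hermForm n F q v v = 0 ∧
    ((A : Matrix.SpecialLinearGroup (Fin n) F) : Matrix (Fin n) (Fin n) F) = Cfsg.unitaryTransvection n q v c}
  let φ : ↥(Cfsg.SU n F q) →* GL (Fin n) F := (Matrix.SpecialLinearGroup.toGL).comp (Cfsg.SU n F q).subtype
  have hφ : ∀ A, (φ A : Matrix (Fin n) (Fin n) F) = A.1.1 := fun A => rfl
  have hM : HasTv hf ((Subgroup.closure S).map φ) ⊤ := by
    intro u _ huu c hc
    have h0 := utv_orth hf huu c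
    refine ⟨h0, ?_⟩
    let A : ↥(Cfsg.SU n F q) := ⟨⟨(tv u (c • hv hf u) h0 : Matrix (Fin n) (Fin n) F),
      congrArg Units.val (tv_mem_SL u _ h0)⟩, fun x y => utv_isometry hf u huu hc h0 x y⟩
    refine ⟨A, Subgroup.subset_closure ⟨u, c, huu, Matrix.ext_iff_mulVec.2 fun x => ?_⟩, Units.ext rfl⟩
    show (tv u (c • hv hf u) h0 : Matrix (Fin n) (Fin n) F) *ᵥ x = _
    rw [unitaryTransvection_mulVec, tv_mulVec, smul_dotProduct, hv_dot, smul_eq_mul]
  have hbig : 4 ≤ Fintype.card (Fin n) ∨ 4 < Fintype.card F := by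
    rw [Fintype.card_fin]
    rcases Nat.lt_or_ge n 4 with h | h
    · refine Or.inr ?_
      have h2 := Fintype.one_lt_card (α := F)
      rw [hF] at h2 ⊢
      have hq2 : 3 ≤ q := by
        rcases Nat.lt_or_ge q 3 with h3 | h3
        · interval_cases q
          · simp at h2
          · simp at h2
          · exact absurd ⟨by omega, rfl⟩ h32
        · exact h3
      nlinarith
    · exact Or.inl h
  refine eq_top_iff.2 fun A _ => ?_
  obtain ⟨B, hB, hBA⟩ := isoU_inf_SL_le hf hM hbig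
    (x := φ A) ⟨fun x y => A.2 x y, Units.ext A.1.2⟩
  have hval : B.1.1 = A.1.1 := by rw [← hφ, ← hφ, hBA]
  have : B = A := Subtype.ext (Subtype.ext hval)
  exact this ▸ hB

end CfsgLib.Perm.Trans.Unit
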