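import Cfsg.Agent.Lib.Perm.Trans.Symp

/-!
# Symplectic transvections generate
-/

set_option autoImplicit false
set_option linter.all false

namespace CfsgLib.Perm.Trans.Symp

open scoped Matrix
open Matrix Cfsg.Geo CfsgLib.Perm.Asch CfsgLib.Perm.Trans

variable {F : Type*} [Field F] {m : ℕ}

/-- the symplectic group inside the general linear group -/
def toGL : Matrix.symplecticGroup (Fin m) F →* GL (Fin m ⊕ Fin m) F :=
  (Units.map (Matrix.symplecticGroup (Fin m) F).subtype).comp toUnits.toMonoidHom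

theorem toGL_coe (A : Matrix.symplecticGroup (Fin m) F) :
    (toGL A : Matrix (Fin m ⊕ Fin m) (Fin m ⊕ Fin m) F) = A.1 := rfl

theorem toGL_injective : Function.Injective (toGL (F := F) (m := m)) := fun A B h =>
  Subtype.ext (congrArg (fun g : GL (Fin m ⊕ Fin m) F => (g : Matrix (Fin m ⊕ Fin m) (Fin m ⊕ Fin m) F)) h)

theorem toGL_mem_iso (A : Matrix.symplecticGroup (Fin m) F) : toGL A ∈ isoSub (Cfsg.sympForm m F) :=
  fun x y => CfsgLib.Sp.sf_sp A x y

theorem toGL_tv (v : Fin m ⊕ Fin m → F) (c : F) :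
    toGL (CfsgLib.Sp.tv v c) = stv isSymplecticForm_sympForm v c := gl_ext_vec fun x => by
  rw [toGL_coe, stv_mulVec]
  exact CfsgLib.Sp.tv_mulVec v c x

/-- the set of symplectic transvections -/
def tvSet (m : ℕ) (F : Type*) [Field F] : Set (Matrix.symplecticGroup (Fin m) F) :=
  {A | ∃ (w : Fin m ⊕ Fin m → F) (c : F),
    (A : Matrix (Fin m ⊕ Fin m) (Fin m ⊕ Fin m) F) = Cfsg.sympTransvection m w c}

theorem stv_mem_map_closure (u : Fin m ⊕ Fin m → F) (c : F) :
    stv isSymplecticForm_sympForm u c ∈ (Subgroup.closure (tvSet m F)).map toGL :=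
  ⟨CfsgLib.Sp.tv u c, Subgroup.subset_closure ⟨u, c, rfl⟩, toGL_tv u c⟩

theorem closure_tvSet : Subgroup.closure (tvSet m F) = ⊤ := by
  have h : (Subgroup.closure (tvSet m F)).map toGL = isoSub (Cfsg.sympForm m F) :=
    eq_isoSub isSymplecticForm_sympForm (by rintro g ⟨A, -, rfl⟩; exact toGL_mem_iso A)
      (fun u c => stv_mem_map_closure u c)
  refine eq_top_iff.2 fun A _ => ?_
  obtain ⟨B, hB, hBA⟩ : toGL A ∈ (Subgroup.closure (tvSet m F)).map toGL := h ▸ toGL_mem_iso A
  exact toGL_injective hBA ▸ hB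

theorem exists_pair_move {u v u' v' : Fin m ⊕ Fin m → F} (h : Cfsg.sympForm m F u v = 1)
    (h' : Cfsg.sympForm m F u' v' = 1) :
    ∃ A ∈ Subgroup.closure (tvSet m F),
      (A : Matrix (Fin m ⊕ Fin m) (Fin m ⊕ Fin m) F).mulVec u = u' ∧
      (A : Matrix (Fin m ⊕ Fin m) (Fin m ⊕ Fin m) F).mulVec v = v' := by
  obtain ⟨t, ⟨⟨A, hA, rfl⟩, -⟩, h1, h2⟩ := move_pair isSymplecticForm_sympForm
    (M := (Subgroup.closure (tvSet m F)).map toGL) (fun w _ c => stv_mem_map_closure w c)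
    (isNondegenerateOn_top isSymplecticForm_sympForm) (W := ⊤) (e := u) (h := v) (e' := u') (h' := v')
    Submodule.mem_top Submodule.mem_top Submodule.mem_top Submodule.mem_top h h'
  exact ⟨A, hA, h1, h2⟩

end CfsgLib.Perm.Trans.Symp
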