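import Cfsg.Agent.Lib.Perm.Trans.QuadSiegel
import Mathlib.GroupTheory.GroupAction.Iwasawa

/-!
# Perfection and simplicity of the projective orthogonal groups
-/

set_option autoImplicit false
set_option linter.all false

namespace CfsgLib.Perm.Trans.Quad

open scoped Matrix Pointwise commutatorElement
open Matrix Cfsg.Geo CfsgLib.Perm.Asch CfsgLib.Perm.Trans

variable {ι : Type} [Fintype ι] [DecidableEq ι] {F : Type*} [Field F]
variable {Q : (ι → F) → F}

local notation "pol" => QuadraticMap.polar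

/-- the underlying linear map of an element of `Ω` -/
abbrev omv (g : Cfsg.Omega F Q) : GL ι F := g.1.1

/-- the embedding of `Ω` in the linear group -/
def omvHom (Q : (ι → F) → F) : Cfsg.Omega F Q →* GL ι F :=
  (Cfsg.isometryGroup F Q).subtype.comp (Cfsg.Omega F Q).subtype

theorem omv_injective : Function.Injective (omvHom Q) := fun _ _ h => Subtype.ext (Subtype.ext h)

theorem omv_iso (g : Cfsg.Omega F Q) : omv g ∈ Cfsg.isometryGroup F Q := g.1.2

/-- the singular points -/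
def SPt (Q : (ι → F) → F) : Type _ :=
  {L : Submodule F (ι → F) // ∃ u, u ≠ 0 ∧ Q u = 0 ∧ L = Submodule.span F {u}}

/-- the point of a singular vector -/
def spt (u : ι → F) (hu0 : u ≠ 0) (hu : Q u = 0) : SPt Q := ⟨Submodule.span F {u}, u, hu0, hu, rfl⟩

theorem spt_surj (x : SPt Q) : ∃ u, ∃ hu0 : u ≠ 0, ∃ hu : Q u = 0, x = spt u hu0 hu := by
  obtain ⟨L, u, hu0, hu, rfl⟩ := x
  exact ⟨u, hu0, hu, rfl⟩

theorem spt_eq_iff {u w : ι → F} {hu0 : u ≠ 0} {hu : Q u = 0} {hw0 : w ≠ 0} {hw : Q w = 0} :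
    spt u hu0 hu = spt w hw0 hw ↔ ∃ c : F, u = c • w := by
  constructor
  · intro h
    have h1 : u ∈ Submodule.span F {w} :=
      (show Submodule.span F {u} = Submodule.span F {w} from congrArg Subtype.val h) ▸ Submodule.mem_span_singleton_self u
    obtain ⟨c, hc⟩ := Submodule.mem_span_singleton.1 h1
    exact ⟨c, hc.symm⟩
  · rintro ⟨c, rfl⟩
    exact Subtype.ext (Submodule.span_singleton_smul_eq (IsUnit.mk0 c fun h => hu0 (by rw [h, zero_smul])) w)

theorem map_pt (g : GL ι F) (u : ι → F) :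
    (Submodule.span F {u}).map (Matrix.mulVecLin (g : Matrix ι ι F)) = Submodule.span F {(g : Matrix ι ι F) *ᵥ u} := by
  rw [Submodule.map_span, Set.image_singleton, Matrix.mulVecLin_apply]

instance sptAction : MulAction (Cfsg.Omega F Q) (SPt Q) where
  smul g L := ⟨L.1.map (Matrix.mulVecLin (omv g : Matrix ι ι F)), by
    obtain ⟨u, hu0, hu, hL⟩ := L.2
    exact ⟨_, fun h => hu0 (gl_mulVec_eq_zero.1 h), (mem_iso.1 (omv_iso g) u).trans hu, by rw [hL, map_pt]⟩⟩
  one_smul L := Subtype.ext (show L.1.map (Matrix.mulVecLin (omv (1 : Cfsg.Omega F Q) : Matrix ι ι F)) = L.1 by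
    simp [omv, Matrix.mulVecLin_one])
  mul_smul g h L := Subtype.ext (show L.1.map (Matrix.mulVecLin (omv (g * h) : Matrix ι ι F)) =
      (L.1.map (Matrix.mulVecLin (omv h : Matrix ι ι F))).map (Matrix.mulVecLin (omv g : Matrix ι ι F)) by
    rw [← Submodule.map_comp, ← Matrix.mulVecLin_mul]; rfl)

theorem smul_spt (g : Cfsg.Omega F Q) {u : ι → F} (hu0 : u ≠ 0) (hu : Q u = 0) :
    g • spt u hu0 hu = spt ((omv g : Matrix ι ι F) *ᵥ u) (fun h => hu0 (gl_mulVec_eq_zero.1 h))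
      ((mem_iso.1 (omv_iso g) u).trans hu) := Subtype.ext (map_pt _ u)

variable [Fintype F] (hQ : IsNondegenerateQuadraticForm Q) (hn : 5 ≤ Fintype.card ι)
include hQ hn

theorem exists_omega_E {u a : ι → F} (hu : Q u = 0) (hua : pol Q u a = 0) :
    ∃ g : Cfsg.Omega F Q, IsE Q u a (omv g) := by
  obtain ⟨k, hk, hkE⟩ := ein_omega hQ hn hu hua
  obtain ⟨x, hx, rfl⟩ := hk
  exact ⟨⟨x, hx⟩, hkE⟩

theorem exists_omega_move {g : GL ι F} (hg : g ∈ eGroup Q) : ∃ x : Cfsg.Omega F Q, omv x = g := by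
  obtain ⟨x, hx, rfl⟩ := eGroup_le_omega hQ hn hg
  exact ⟨⟨x, hx⟩, rfl⟩

/-- `Ω` is perfect -/
theorem omega_perfect : commutator (Cfsg.Omega F Q) = ⊤ := by
  classical
  obtain ⟨M, hMdef⟩ : ∃ M, M = (commutator (Cfsg.Omega F Q)).map (omvHom Q) := ⟨_, rfl⟩
  have hsing : ∀ u a, Q u = 0 → Q a = 0 → pol Q u a = 0 → EIn Q M u a := by
    intro u a hu ha hua
    obtain ⟨W, hWdef⟩ : ∃ W, W = Submodule.span F ({u, a} : Set (ι → F)) := ⟨_, rfl⟩
    obtain ⟨c, hc, hcW⟩ : ∃ c ∈ qperp hQ W, c ∉ W := by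
      by_contra hcon
      push Not at hcon
      have h1 := Submodule.finrank_mono (show qperp hQ W ≤ W from hcon)
      have h2 := finrank_qperp hQ W
      have h3 : Module.finrank F W ≤ 2 := by
        rw [hWdef, ← show (↑({u, a} : Finset (ι → F)) : Set (ι → F)) = {u, a} by simp]
        exact (finrank_span_finset_le_card _).trans Finset.card_le_two
      omega
    obtain ⟨b, hb, hcb⟩ := exists_qperp_ne hQ hcW
    have huW : u ∈ W := hWdef ▸ Submodule.subset_span (Or.inl rfl)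
    have haW : a ∈ W := hWdef ▸ Submodule.subset_span (Or.inr rfl)
    have hub : pol Q u b = 0 := by rw [pcomm]; exact hb u huW
    have hub' : pol Q u (-b) = 0 := by rw [pneg_right hQ, hub, neg_zero]
    obtain ⟨d, hd⟩ := exists_omega_E hQ hn ha (a := -c) (by rw [pneg_right hQ, pcomm, hc a haW, neg_zero])
    obtain ⟨e, he⟩ := exists_omega_E hQ hn hu hub
    obtain ⟨e', he'⟩ := exists_omega_E hQ hn hu hub'
    have hinv : (omv e)⁻¹ = omv e' := by
      refine mul_eq_one_iff_inv_eq.1 (gl_ext_vec fun x => ?_)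
      have h1 := he.mul hQ hu hub hub' he' x
      rw [add_neg_cancel] at h1
      rw [h1, Units.val_one, one_mulVec, pzero_right hQ, qzero hQ]
      simp
    have hdu : (omv d : Matrix ι ι F) *ᵥ u = u := by
      rw [hd, hua, pneg_right hQ, pcomm u c, hc u huW]
      simp
    have hdb : (omv d : Matrix ι ι F) *ᵥ b = b + a := by
      rw [hd, hb a haW, pneg_right hQ, pcomm b c, hcb]
      simp
    have h1 : IsE Q u (b + a) (omv d * omv e * (omv d)⁻¹) := by
      have := he.conj (omv_iso d) (k := omv d)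
      rwa [hdu, hdb] at this
    have h2 : IsE Q u a (omv d * omv e * (omv d)⁻¹ * (omv e)⁻¹) := by
      rw [hinv]
      convert h1.mul hQ hu (by rw [padd_right hQ, hub, hua, add_zero]) hub' he' using 1
      abel
    exact ⟨_, hMdef ▸ ⟨⁅d, e⁆, Subgroup.commutator_mem_commutator (Subgroup.mem_top d) (Subgroup.mem_top e), rfl⟩, h2⟩
  have hle : eGroup Q ≤ M := by
    refine (Subgroup.closure_le _).2 ?_
    rintro g ⟨-, u, a, hu, hua, hgE⟩
    obtain ⟨k, hk, hkE⟩ := ein_of_singular hQ hn hsing hu hua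
    rw [hgE.unique hkE]
    exact hk
  refine eq_top_iff.2 fun x _ => ?_
  have h1 : omvHom Q x ∈ eGroup Q := by
    rw [← omegaGL_eq hQ hn]
    exact ⟨x.1, x.2, rfl⟩
  obtain ⟨y, hy, hyx⟩ := hMdef ▸ hle h1
  rwa [← omv_injective hyx]

omit hn in
/-- the Eichler transformations at a point -/
def rootGrp (L : SPt Q) : Subgroup (Cfsg.Omega F Q) where
  carrier := {g | ∀ u ∈ L.1, u ≠ 0 → ∃ a, pol Q u a = 0 ∧ IsE Q u a (omv g)}
  one_mem' := fun u hu _ => ⟨(0 : F) • u, by rw [psmul_right hQ, zero_mul], by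
    obtain ⟨w, -, hw, hL⟩ := L.2
    rw [hL] at hu
    obtain ⟨c, rfl⟩ := Submodule.mem_span_singleton.1 hu
    exact IsE.one hQ (by rw [qsmul hQ, hw, mul_zero]) _⟩
  mul_mem' := fun {g k} hg hk u hu hu0 => by
    obtain ⟨a, ha, hga⟩ := hg u hu hu0
    obtain ⟨b, hb, hkb⟩ := hk u hu hu0
    obtain ⟨w, -, hw, hL⟩ := L.2
    have huq : Q u = 0 := by
      rw [hL] at hu
      obtain ⟨c, rfl⟩ := Submodule.mem_span_singleton.1 hu
      rw [qsmul hQ, hw, mul_zero]
    exact ⟨a + b, by rw [padd_right hQ, ha, hb, add_zero], hga.mul hQ huq ha hb hkb⟩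
  inv_mem' := fun {g} hg u hu hu0 => by
    obtain ⟨a, ha, hga⟩ := hg u hu hu0
    obtain ⟨w, -, hw, hL⟩ := L.2
    have huq : Q u = 0 := by
      rw [hL] at hu
      obtain ⟨c, rfl⟩ := Submodule.mem_span_singleton.1 hu
      rw [qsmul hQ, hw, mul_zero]
    have ha' : pol Q u (-a) = 0 := by rw [pneg_right hQ, ha, neg_zero]
    obtain ⟨k, -, hkE⟩ := exists_E hQ huq ha'
    refine ⟨-a, ha', ?_⟩
    have h1 : omv g * k = 1 := by
      refine gl_ext_vec fun x => ?_
      have h := hga.mul hQ huq ha ha' hkE x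
      rw [add_neg_cancel] at h
      rw [h, Units.val_one, one_mulVec, pzero_right hQ, qzero hQ]
      simp
    rw [show omv g⁻¹ = k from (mul_eq_one_iff_inv_eq.1 h1)]
    exact hkE

theorem rootGrp_conj (g k : Cfsg.Omega F Q) (L : SPt Q) (hk : k ∈ rootGrp hQ L) :
    g * k * g⁻¹ ∈ rootGrp hQ (g • L) := by
  intro u hu hu0
  obtain ⟨w, hw, rfl⟩ := hu
  rw [Matrix.mulVecLin_apply] at hu0 ⊢
  obtain ⟨a, ha, hka⟩ := hk w hw fun h => hu0 (by rw [h, mulVec_zero])
  exact ⟨_, by rw [iso_pol (omv_iso g), ha], hka.conj (omv_iso g)⟩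

/-- central elements fix the singular points -/
theorem center_fix {z : Cfsg.Omega F Q} (hz : z ∈ Subgroup.center (Cfsg.Omega F Q)) {u : ι → F} (hu0 : u ≠ 0)
    (hu : Q u = 0) : ∃ c : F, (omv z : Matrix ι ι F) *ᵥ u = c • u := by
  obtain ⟨u', -, hu', huu'⟩ := exists_qpartner hQ (ndOn_top hQ) Submodule.mem_top hu0 hu
  have hdim := pair_finrank hQ (P := ⊤) (e := u) (f := u') Submodule.mem_top Submodule.mem_top hu hu' huu'
  rw [finrank_top, Module.finrank_fintype_fun_eq_card] at hdim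
  have hnd := pair_nd hQ (P := ⊤) (e := u) (f := u') Submodule.mem_top Submodule.mem_top hu hu' huu' (ndOn_top hQ)
  obtain ⟨P, hP⟩ : ∃ P, P = pairPerp hQ ⊤ u u' := ⟨_, rfl⟩
  rw [← hP] at hdim hnd
  have hPm : ∀ x ∈ P, pol Q x u = 0 ∧ pol Q x u' = 0 := fun x hx => ((mem_pairPerp hQ).1 (hP ▸ hx)).2
  obtain ⟨w, hw, hw0, hQw⟩ := exists_qsingular hQ hnd (by omega)
  obtain ⟨a, ha, hQa, hwa⟩ := exists_qpartner hQ hnd hw hw0 hQw
  obtain ⟨t, ht, ht0⟩ : ∃ t ∈ pairPerp hQ P w a, t ≠ 0 := by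
    refine Submodule.exists_mem_ne_zero_of_ne_bot fun h => ?_
    have h1 := pair_finrank hQ hw ha hQw hQa hwa
    rw [h, finrank_bot] at h1
    omega
  obtain ⟨htP, htw, hta⟩ := (mem_pairPerp hQ).1 ht
  have key : ∀ b ∈ P, pol Q w b = 1 → ∃ α β : F, (omv z : Matrix ι ι F) *ᵥ u = α • b + β • u := by
    intro b hb hwb
    have hub : pol Q u b = 0 := by rw [pcomm, (hPm b hb).1]
    obtain ⟨e, he⟩ := exists_omega_E hQ hn hu hub
    have hcomm : omv z * omv e = omv e * omv z := by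
      have := (Subgroup.mem_center_iff.1 hz e).symm
      exact congrArg omv this
    have h1 := congrArg (fun g : GL ι F => (g : Matrix ι ι F) *ᵥ w) hcomm
    simp only [gl_mul_mulVec] at h1
    rw [he, he, (hPm w hw).1, hwb, mulVec_sub, mulVec_sub, mulVec_add, mulVec_smul, mulVec_smul, mulVec_smul] at h1
    simp only [zero_smul, one_smul, mul_zero, add_zero, sub_zero] at h1
    obtain ⟨y, hy⟩ : ∃ y, y = (omv z : Matrix ι ι F) *ᵥ w := ⟨_, rfl⟩
    rw [← hy] at h1
    refine ⟨-pol Q y u, pol Q y b + Q b * pol Q y u, ?_⟩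
    have h2 : (omv z : Matrix ι ι F) *ᵥ u = y - (y + pol Q y u • b - pol Q y b • u - (Q b * pol Q y u) • u) := by
      rw [← h1, sub_sub_cancel]
    rw [h2]
    module
  obtain ⟨α, β, h1⟩ := key a ha hwa
  obtain ⟨α', β', h2⟩ := key (a + t) (P.add_mem ha htP) (by rw [padd_right hQ, hwa, pcomm w t, htw, add_zero])
  obtain ⟨p, hp⟩ : ∃ p, p = (α - α') • a - α' • t := ⟨_, rfl⟩
  have h3 : p = (β' - β) • u := by
    have h4 := h1.symm.trans h2
    rw [hp]
    linear_combination (norm := module) h4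
  -- read off coefficients with `w` and a partner of `t`
  obtain ⟨s, hs, hts⟩ := ((pair_nd hQ hw ha hQw hQa hwa hnd) t ht ht0).2
  obtain ⟨hsP, hsw, hsa⟩ := (mem_pairPerp hQ).1 hs
  have h5 := congrArg (fun x => pol Q x s) h3
  simp only [hp, psub_left hQ, psmul_left hQ, pcomm a s, hsa, pcomm u s, (hPm s hsP).1, mul_zero, zero_sub,
    neg_eq_zero, mul_eq_zero] at h5
  have hα' : α' = 0 := h5.resolve_right hts
  refine ⟨β', ?_⟩
  rw [h2, hα', zero_smul, zero_add]

/-- an element fixing all singular points is scalar -/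
theorem scalar_of_fix {g : GL ι F} (hg : ∀ u, Q u = 0 → ∃ c : F, (g : Matrix ι ι F) *ᵥ u = c • u) :
    ∃ c : F, ∀ x, (g : Matrix ι ι F) *ᵥ x = c • x := by
  have horth : ∀ {u w : ι → F} {c d : F}, u ≠ 0 → w ≠ 0 → Q u = 0 → Q w = 0 → pol Q u w = 0 →
      (g : Matrix ι ι F) *ᵥ u = c • u → (g : Matrix ι ι F) *ᵥ w = d • w → c = d := by
    intro u w c d hu0 hw0 hu hw huw hc hd
    by_cases hsp : w ∈ Submodule.span F {u}
    · obtain ⟨t, rfl⟩ := Submodule.mem_span_singleton.1 hsp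
      rw [mulVec_smul, hc, smul_comm] at hd
      exact (smul_left_injective F hw0 hd)
    · obtain ⟨k, hk⟩ := hg (u + w) (by rw [qadd hQ, hu, hw, huw]; ring)
      rw [mulVec_add, hc, hd] at hk
      have h1 : (d - k) • w = (k - c) • u := by linear_combination (norm := module) hk
      by_cases hdk : d - k = 0
      · rw [hdk, zero_smul] at h1
        rw [sub_eq_zero] at hdk
        rcases smul_eq_zero.1 h1.symm with h | h
        · rw [sub_eq_zero] at h
          rw [← h, hdk]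
        · exact absurd h hu0
      · refine absurd ?_ hsp
        rw [← inv_smul_smul₀ hdk w, h1]
        exact Submodule.smul_mem _ _ (Submodule.smul_mem _ _ (Submodule.mem_span_singleton_self u))
  have hall : ∀ {u w : ι → F} {c d : F}, u ≠ 0 → w ≠ 0 → Q u = 0 → Q w = 0 →
      (g : Matrix ι ι F) *ᵥ u = c • u → (g : Matrix ι ι F) *ᵥ w = d • w → c = d := by
    intro u w c d hu0 hw0 hu hw hc hd
    by_cases huw : pol Q u w = 0
    · exact horth hu0 hw0 hu hw huw hc hd
    obtain ⟨w', hw'⟩ : ∃ w', w' = (pol Q u w)⁻¹ • w := ⟨_, rfl⟩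
    have h1 : pol Q u w' = 1 := by rw [hw', psmul_right hQ, inv_mul_cancel₀ huw]
    have h2 : Q w' = 0 := by rw [hw', qsmul hQ, hw, mul_zero]
    have hdim := pair_finrank hQ (P := ⊤) (e := u) (f := w') Submodule.mem_top Submodule.mem_top hu h2 h1
    rw [finrank_top, Module.finrank_fintype_fun_eq_card] at hdim
    have hnd := pair_nd hQ (P := ⊤) (e := u) (f := w') Submodule.mem_top Submodule.mem_top hu h2 h1 (ndOn_top hQ)
    obtain ⟨v, hv, hv0, hQv⟩ := exists_qsingular hQ hnd (by omega)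
    obtain ⟨-, hvu, hvw⟩ := (mem_pairPerp hQ).1 hv
    obtain ⟨k, hk⟩ := hg v hQv
    have hvw' : pol Q w v = 0 := by
      rw [hw', psmul_right hQ, mul_eq_zero] at hvw
      rw [pcomm]
      exact hvw.resolve_left (inv_ne_zero huw)
    exact (horth hu0 hv0 hu hQv (by rw [pcomm, hvu]) hc hk).trans (horth hw0 hv0 hw hQv hvw' hd hk).symm
  obtain ⟨e, -, he0, he⟩ := exists_qsingular hQ (P := ⊤) (ndOn_top hQ)
    (by rw [finrank_top, Module.finrank_fintype_fun_eq_card]; omega)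
  obtain ⟨c, hc⟩ := hg e he
  refine ⟨c, fun x => ?_⟩
  have h := le_of_singular_mem hQ (P := ⊤)
    (S := LinearMap.ker (Matrix.mulVecLin (g : Matrix ι ι F) - c • LinearMap.id)) (ndOn_top hQ)
    (by rw [finrank_top, Module.finrank_fintype_fun_eq_card]; omega) (fun v _ hv => by
      rcases eq_or_ne v 0 with rfl | hv0
      · exact Submodule.zero_mem _
      obtain ⟨d, hd⟩ := hg v hv
      rw [LinearMap.mem_ker, LinearMap.sub_apply, LinearMap.smul_apply, LinearMap.id_apply, Matrix.mulVecLin_apply,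
        hd, hall he0 hv0 he hv hc hd, sub_self]) (Submodule.mem_top (x := x))
  rwa [LinearMap.mem_ker, LinearMap.sub_apply, LinearMap.smul_apply, LinearMap.id_apply, Matrix.mulVecLin_apply,
    sub_eq_zero] at h

theorem spt_preprimitive : MulAction.IsPreprimitive (Cfsg.Omega F Q) (SPt Q) := by
  haveI : MulAction.IsPretransitive (Cfsg.Omega F Q) (SPt Q) := ⟨fun x y => by
    obtain ⟨u, hu0, hu, rfl⟩ := spt_surj x
    obtain ⟨w, hw0, hw, rfl⟩ := spt_surj y
    obtain ⟨g, hg, hgu⟩ := exists_move hQ hn hu0 hw0 hu hw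
    obtain ⟨z, rfl⟩ := exists_omega_move hQ hn hg
    exact ⟨z, by rw [smul_spt, spt_eq_iff]; exact ⟨1, by rw [one_smul, hgu]⟩⟩⟩
  refine ⟨fun {B} hB => ?_⟩
  rw [MulAction.IsTrivialBlock, or_iff_not_imp_left]
  intro hns
  have hinv : ∀ g : Cfsg.Omega F Q, ∀ x ∈ B, g • x ∈ B → g • B = B := fun g x hx hgx =>
    (MulAction.isBlock_iff_smul_eq_of_nonempty.1 hB) ⟨g • x, Set.smul_mem_smul_set hx, hgx⟩
  obtain ⟨x, hx, y, hy, hxy⟩ := Set.not_subsingleton_iff.1 hns
  obtain ⟨a, ha0, ha, rfl⟩ := spt_surj x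
  obtain ⟨b, hb0, hb, rfl⟩ := spt_surj y
  -- two points in general position
  obtain ⟨a, ha0, ha, b, hb0, hb, hxa, hxb, hab⟩ : ∃ a, ∃ ha0 : a ≠ 0, ∃ ha : Q a = 0, ∃ b, ∃ hb0 : b ≠ 0,
      ∃ hb : Q b = 0, spt a ha0 ha ∈ B ∧ spt b hb0 hb ∈ B ∧ pol Q a b ≠ 0 := by
    by_cases hab : pol Q a b = 0
    swap
    · exact ⟨a, ha0, ha, b, hb0, hb, hx, hy, hab⟩
    have hsp : a ∉ Submodule.span F {b} := fun h => by
      obtain ⟨c, hc⟩ := Submodule.mem_span_singleton.1 h
      exact hxy (spt_eq_iff.2 ⟨c, hc.symm⟩)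
    obtain ⟨p, hp, hap⟩ := exists_qperp_ne hQ hsp
    have hpb : pol Q p b = 0 := hp b (Submodule.mem_span_singleton_self b)
    obtain ⟨v, hv⟩ : ∃ v, v = p - Q p • a := ⟨_, rfl⟩
    have hbv : pol Q b v = 0 := by rw [hv, psub_right hQ, psmul_right hQ, pcomm b p, hpb, pcomm b a, hab]; ring
    have hQv : Q v = 0 := by rw [hv, qsub hQ, qsmul hQ, ha, psmul_right hQ, pcomm p a, hap]; ring
    have hav : pol Q a v = 1 := by rw [hv, psub_right hQ, psmul_right hQ, hap, pself hQ, ha]; ring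
    have hdim := pair_finrank hQ (P := ⊤) (e := a) (f := v) Submodule.mem_top Submodule.mem_top ha hQv hav
    rw [finrank_top, Module.finrank_fintype_fun_eq_card] at hdim
    have hnd := pair_nd hQ (P := ⊤) (e := a) (f := v) Submodule.mem_top Submodule.mem_top ha hQv hav (ndOn_top hQ)
    have hbP : b ∈ pairPerp hQ ⊤ a v := (mem_pairPerp hQ).2 ⟨Submodule.mem_top, by rw [pcomm, hab], hbv⟩
    obtain ⟨b', hb', hQb', hbb'⟩ := exists_qpartner hQ hnd hbP hb0 hb
    have hdim' := pair_finrank hQ hbP hb' hb hQb' hbb'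
    obtain ⟨c, hc, hQc⟩ := exists_nonsingular hQ (pair_nd hQ hbP hb' hb hQb' hbb' hnd) (fun h => by
      rw [h, finrank_bot] at hdim'
      omega)
    obtain ⟨hc1, hcb, -⟩ := (mem_pairPerp hQ).1 hc
    obtain ⟨-, hca, hcv⟩ := (mem_pairPerp hQ).1 hc1
    obtain ⟨g, hg⟩ := exists_omega_E hQ hn hQv (a := c) (by rw [pcomm, hcv])
    have hgb : (omv g : Matrix ι ι F) *ᵥ b = b := by
      rw [hg, hbv, pcomm b c, hcb]
      simp
    have hgB := hinv g _ hy (by
      rw [smul_spt]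
      convert hy using 1
      exact spt_eq_iff.2 ⟨1, by rw [one_smul, hgb]⟩)
    refine ⟨a, ha0, ha, (omv g : Matrix ι ι F) *ᵥ a, fun h => ha0 (gl_mulVec_eq_zero.1 h),
      (mem_iso.1 (omv_iso g) a).trans ha, hx, ?_, ?_⟩
    · rw [← hgB, ← smul_spt (hu0 := ha0) (hu := ha)]
      exact Set.smul_mem_smul_set hx
    · rw [hg, hav, pcomm a c, hca]
      simp only [one_smul, zero_smul, sub_zero, mul_one, psub_right hQ, padd_right hQ, psmul_right hQ, pself hQ a, ha,
        pcomm a c, hca, hav, mul_zero, add_zero, zero_sub]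
      exact neg_ne_zero.2 hQc
  -- the block contains every point in general position with one of its points
  have hclose : ∀ a, ∀ ha0 : a ≠ 0, ∀ ha : Q a = 0, ∀ b, ∀ hb0 : b ≠ 0, ∀ hb : Q b = 0, spt a ha0 ha ∈ B →
      spt b hb0 hb ∈ B → pol Q a b ≠ 0 → ∀ c, ∀ hc0 : c ≠ 0, ∀ hc : Q c = 0, pol Q a c ≠ 0 →
        spt c hc0 hc ∈ B := by
    intro a ha0 ha b hb0 hb hxa hxb hab c hc0 hc hac
    obtain ⟨d, k, hk, -, -, hka, hkf⟩ := exists_move_partner hQ (e := a) (f := (pol Q a b)⁻¹ • b)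
      (f' := (pol Q a c)⁻¹ • c) ha (by rw [qsmul hQ, hb, mul_zero]) (by rw [psmul_right hQ, inv_mul_cancel₀ hab])
      (by rw [qsmul hQ, hc, mul_zero]) (by rw [psmul_right hQ, inv_mul_cancel₀ hac])
    obtain ⟨z, rfl⟩ := exists_omega_move hQ hn hk
    have hgB := hinv z _ hxa (by
      rw [smul_spt]
      convert hxa using 1
      exact spt_eq_iff.2 ⟨1, by rw [one_smul, hka]⟩)
    rw [← hgB]
    refine ⟨spt b hb0 hb, hxb, ?_⟩
    show z • spt b hb0 hb = spt c hc0 hc
    rw [smul_spt, spt_eq_iff]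
    refine ⟨pol Q a b * (pol Q a c)⁻¹, ?_⟩
    rw [mulVec_smul] at hkf
    rw [← smul_smul, ← hkf, smul_inv_smul₀ hab]
  refine Set.eq_univ_of_forall fun x => ?_
  obtain ⟨c, hc0, hc, rfl⟩ := spt_surj x
  by_cases hac : pol Q a c = 0
  · obtain ⟨z, hz, haz, hzc⟩ := exists_common_nonorth hQ ha0 hc0 ha hac
    have hz0 : z ≠ 0 := fun h => haz (by rw [h, pzero_right hQ])
    exact hclose z hz0 hz a ha0 ha (hclose a ha0 ha b hb0 hb hxa hxb hab z hz0 hz haz) hxa
      (by rw [pcomm]; exact haz) c hc0 hc hzc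
  · exact hclose a ha0 ha b hb0 hb hxa hxb hab c hc0 hc hac

/-- `PΩ` is simple -/
theorem pomega_isSimple : IsSimpleGroup (Cfsg.POmega F Q) := by
  classical
  have htriv : Subgroup.center (Cfsg.Omega F Q) ≤ (MulAction.toPermHom (Cfsg.Omega F Q) (SPt Q)).ker := fun z hz =>
    Equiv.ext fun x => by
      obtain ⟨u, hu0, hu, rfl⟩ := spt_surj x
      show z • spt u hu0 hu = spt u hu0 hu
      rw [smul_spt, spt_eq_iff]
      exact center_fix hQ hn hz hu0 hu
  letI : MulAction (Cfsg.POmega F Q) (SPt Q) :=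
    MulAction.compHom _ (QuotientGroup.lift _ (MulAction.toPermHom (Cfsg.Omega F Q) (SPt Q)) htriv)
  have hsmul : ∀ (g : Cfsg.Omega F Q) (x : SPt Q),
      (QuotientGroup.mk' (Subgroup.center (Cfsg.Omega F Q)) g) • x = g • x := fun g x => rfl
  haveI hprim : MulAction.IsPreprimitive (Cfsg.POmega F Q) (SPt Q) :=
    haveI := spt_preprimitive hQ hn
    MulAction.IsPreprimitive.of_surjective (f := (⟨id, fun g x => (hsmul g x).symm⟩ :
      SPt Q →ₑ[(QuotientGroup.mk' (Subgroup.center (Cfsg.Omega F Q)))] SPt Q)) Function.surjective_id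
  have hperf : commutator (Cfsg.POmega F Q) = ⊤ := by
    have hc := omega_perfect hQ hn
    rw [commutator_def, ← Subgroup.map_top_of_surjective (QuotientGroup.mk' (Subgroup.center (Cfsg.Omega F Q)))
      (QuotientGroup.mk'_surjective _), ← Subgroup.map_commutator, ← commutator_def, hc]
  -- two distinct points
  obtain ⟨e, -, he0, he⟩ := exists_qsingular hQ (P := ⊤) (ndOn_top hQ)
    (by rw [finrank_top, Module.finrank_fintype_fun_eq_card]; omega)
  obtain ⟨f, -, hf, hef⟩ := exists_qpartner hQ (ndOn_top hQ) Submodule.mem_top he0 he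
  have hf0 : f ≠ 0 := fun h => by rw [h, pzero_right hQ] at hef; exact zero_ne_one hef
  haveI : Nontrivial (Cfsg.POmega F Q) := by
    obtain ⟨g, hg⟩ := MulAction.exists_smul_eq (Cfsg.POmega F Q) (spt e he0 he) (spt f hf0 hf)
    refine ⟨⟨g, 1, fun h => ?_⟩⟩
    rw [h, one_smul, spt_eq_iff] at hg
    obtain ⟨c, hc⟩ := hg
    rw [hc, psmul_left hQ, pself hQ, hf, mul_zero, mul_zero] at hef
    exact zero_ne_one hef
  have hconj : ∀ (g : Cfsg.Omega F Q) (L : SPt Q),
      MulAut.conj g • rootGrp hQ L = rootGrp hQ (g • L) := fun g L => by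
    refine SetLike.ext fun x => ⟨?_, fun hx => ?_⟩
    · rintro ⟨k, hk, rfl⟩
      exact rootGrp_conj hQ hn g k L hk
    · refine ⟨g⁻¹ * x * g, ?_, show g * (g⁻¹ * x * g) * g⁻¹ = x by group⟩
      have := rootGrp_conj hQ hn g⁻¹ x (g • L) hx
      rwa [inv_smul_smul, inv_inv] at this
  let I : MulAction.IwasawaStructure (Cfsg.POmega F Q) (SPt Q) :=
    { T := fun x => (rootGrp hQ x).map (QuotientGroup.mk' _)
      is_comm := fun x => by
        refine ⟨⟨fun p q => Subtype.ext ?_⟩⟩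
        obtain ⟨_, g, hg, rfl⟩ := p
        obtain ⟨_, k, hk, rfl⟩ := q
        obtain ⟨u, hu0, hu, rfl⟩ := spt_surj x
        obtain ⟨a, ha, hga⟩ := hg u (Submodule.mem_span_singleton_self u) hu0
        obtain ⟨b, hb, hkb⟩ := hk u (Submodule.mem_span_singleton_self u) hu0
        have h1 := hga.mul hQ hu ha hb hkb
        have h2 := hkb.mul hQ hu hb ha hga
        rw [add_comm] at h2
        show QuotientGroup.mk' _ g * QuotientGroup.mk' _ k = QuotientGroup.mk' _ k * QuotientGroup.mk' _ g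
        rw [← map_mul, ← map_mul]
        congr 1
        exact omv_injective (h1.unique h2)
      is_conj := fun g x => by
        obtain ⟨g, rfl⟩ := QuotientGroup.mk'_surjective _ g
        rw [hsmul, ← hconj]
        refine SetLike.ext fun y => ⟨?_, ?_⟩
        · rintro ⟨_, ⟨k, hk, rfl⟩, rfl⟩
          refine ⟨_, ⟨k, hk, rfl⟩, ?_⟩
          simp
        · rintro ⟨_, ⟨k, hk, rfl⟩, rfl⟩
          refine ⟨_, ⟨k, hk, rfl⟩, ?_⟩
          simp
      is_generator := by
        rw [eq_top_iff]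
        rintro p -
        obtain ⟨g, rfl⟩ := QuotientGroup.mk'_surjective _ p
        have hle : eGroup Q ≤ (⨆ x, rootGrp hQ x).map (omvHom Q) := by
          refine (Subgroup.closure_le _).2 ?_
          rintro k ⟨-, u, a, hu, hua, hkE⟩
          obtain ⟨z, hz⟩ := exists_omega_E hQ hn hu hua
          rcases eq_or_ne u 0 with rfl | hu0
          · rw [show k = 1 from gl_ext_vec fun x => by rw [hkE, Units.val_one, one_mulVec, pzero_right hQ]; simp]
            exact one_mem _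
          refine ⟨z, Subgroup.mem_iSup_of_mem (spt u hu0 hu) (fun w hw hw0 => ?_), hz.unique hkE⟩
          obtain ⟨c, rfl⟩ := Submodule.mem_span_singleton.1 hw
          have hc : c ≠ 0 := fun h => hw0 (by rw [h, zero_smul])
          refine ⟨c⁻¹ • a, by rw [psmul_left hQ, psmul_right hQ, hua]; ring, IsE.smul hQ ?_⟩
          rwa [smul_smul, mul_inv_cancel₀ hc, one_smul]
        have h1 : omvHom Q g ∈ eGroup Q := by
          rw [← omegaGL_eq hQ hn]
          exact ⟨g.1, g.2, rfl⟩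
        obtain ⟨y, hy, hyg⟩ := hle h1
        rw [← omv_injective hyg, ← Subgroup.map_iSup]
        exact Subgroup.mem_map_of_mem _ hy }
  refine I.isSimpleGroup hperf ⟨fun {g h} e => ?_⟩
  obtain ⟨A, rfl⟩ := QuotientGroup.mk'_surjective _ g
  obtain ⟨B, rfl⟩ := QuotientGroup.mk'_surjective _ h
  obtain ⟨c, hc⟩ := scalar_of_fix hQ hn (g := omv (B⁻¹ * A)) fun u hu => by
    rcases eq_or_ne u 0 with rfl | hu0
    · exact ⟨0, by simp⟩
    have h1 := e (spt u hu0 hu)
    rw [hsmul, hsmul] at h1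
    have h2 : (B⁻¹ * A) • spt u hu0 hu = spt u hu0 hu := by rw [mul_smul, inv_smul_eq_iff]; exact h1
    rw [smul_spt, spt_eq_iff] at h2
    exact h2
  refine ((QuotientGroup.mk'_eq_mk' _).2 ⟨B⁻¹ * A, Subgroup.mem_center_iff.2 fun X => ?_, by group⟩).symm
  refine omv_injective (gl_ext_vec fun x => ?_)
  show ((omv X * omv (B⁻¹ * A) : GL ι F) : Matrix ι ι F) *ᵥ x = ((omv (B⁻¹ * A) * omv X : GL ι F) : Matrix ι ι F) *ᵥ x
  rw [gl_mul_mulVec, gl_mul_mulVec]
  show (omv X : Matrix ι ι F) *ᵥ ((omv (B⁻¹ * A) : Matrix ι ι F) *ᵥ x) =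
    (omv (B⁻¹ * A) : Matrix ι ι F) *ᵥ ((omv X : Matrix ι ι F) *ᵥ x)
  rw [hc, hc, mulVec_smul]

end CfsgLib.Perm.Trans.Quad
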