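import Cfsg.Agent.Lib.Perm.Trans.Basic
import Cfsg.Agent.Lib.Sp.Basic

/-!
# Symplectic groups and their transvections
-/

set_option autoImplicit false
set_option linter.all false

namespace CfsgLib.Perm.Trans.Symp

open scoped Matrix
open Matrix Cfsg.Geo CfsgLib.Perm.Asch CfsgLib.Perm.Trans

variable {ι : Type} [Fintype ι] [DecidableEq ι] {F : Type*} [Field F]
variable {f : (ι → F) → (ι → F) → F}

/-- the isometry group of `f` -/
def isoSub (f : (ι → F) → (ι → F) → F) : Subgroup (GL ι F) := Cfsg.preserving (Cfsg.glToMat ι F) f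

theorem mem_isoSub {g : GL ι F} :
    g ∈ isoSub f ↔ ∀ x y, f ((g : Matrix ι ι F) *ᵥ x) ((g : Matrix ι ι F) *ᵥ y) = f x y := Iff.rfl

variable (hf : IsSymplecticForm f)
include hf

theorem zero_left (v : ι → F) : f 0 v = 0 := by
  simpa using hf.bilinear.smul_left 0 0 v

theorem zero_right (v : ι → F) : f v 0 = 0 := by
  simpa using hf.bilinear.smul_right 0 v 0

theorem neg_left (v w : ι → F) : f (-v) w = -f v w := by
  rw [← neg_one_smul F v, hf.bilinear.smul_left, neg_one_mul]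

theorem neg_right (v w : ι → F) : f v (-w) = -f v w := by
  rw [← neg_one_smul F w, hf.bilinear.smul_right, neg_one_mul]

theorem sub_left (x y v : ι → F) : f (x - y) v = f x v - f y v := by
  rw [sub_eq_add_neg, hf.bilinear.add_left, neg_left hf, sub_eq_add_neg]

theorem sub_right (v x y : ι → F) : f v (x - y) = f v x - f v y := by
  rw [sub_eq_add_neg, hf.bilinear.add_right, neg_right hf, sub_eq_add_neg]

theorem swap_zero {v w : ι → F} (h : f v w = 0) : f w v = 0 := by rw [hf.skew, h, neg_zero]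

theorem swap_ne {v w : ι → F} (h : f v w ≠ 0) : f w v ≠ 0 := fun h0 => h (swap_zero hf h0)

/-- `x ↦ f x u` -/
def sfun (u : ι → F) : (ι → F) →ₗ[F] F where
  toFun x := f x u
  map_add' x y := hf.bilinear.add_left x y u
  map_smul' c x := hf.bilinear.smul_left c x u

/-- the vector of `x ↦ f x u` -/
def sv (u : ι → F) : ι → F := fvec (sfun hf u)

theorem sv_dot (u x : ι → F) : sv hf u ⬝ᵥ x = f x u := fvec_dot (sfun hf u) x

theorem stv_orth (u : ι → F) (c : F) : (c • sv hf u) ⬝ᵥ u = 0 := by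
  rw [smul_dotProduct, sv_dot, hf.alternating, smul_zero]

/-- the transvection `x ↦ x + c f(x, u) u` -/
def stv (u : ι → F) (c : F) : GL ι F := tv u (c • sv hf u) (stv_orth hf u c)

theorem stv_mulVec (u : ι → F) (c : F) (x : ι → F) :
    (stv hf u c : Matrix ι ι F) *ᵥ x = x + (c * f x u) • u := by
  rw [stv, tv_mulVec, smul_dotProduct, sv_dot, smul_eq_mul]

theorem stv_iso (u : ι → F) (c : F) : stv hf u c ∈ isoSub f := by
  rw [mem_isoSub]
  intro x y
  simp only [stv_mulVec, hf.bilinear.add_left, hf.bilinear.add_right, hf.bilinear.smul_left, hf.bilinear.smul_right,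
    hf.alternating, hf.skew u y]
  ring

theorem stv_mem_SL (u : ι → F) (c : F) : stv hf u c ∈ specialLinear ι F := tv_mem_SL _ _ _

theorem stv_zero_left (c : F) : stv hf 0 c = 1 := gl_ext_vec fun x => by
  rw [stv_mulVec, smul_zero, add_zero, Units.val_one, one_mulVec]

theorem stv_zero (u : ι → F) : stv hf u 0 = 1 := gl_ext_vec fun x => by
  rw [stv_mulVec, zero_mul, zero_smul, add_zero, Units.val_one, one_mulVec]

theorem stv_mul (u : ι → F) (a b : F) : stv hf u a * stv hf u b = stv hf u (a + b) := gl_ext_vec fun x => by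
  rw [gl_mul_mulVec, stv_mulVec, stv_mulVec, stv_mulVec, hf.bilinear.add_left, hf.bilinear.smul_left, hf.alternating,
    mul_zero, add_zero, add_assoc, ← add_smul]
  congr 2
  ring

theorem stv_smul (u : ι → F) (a c : F) : stv hf (a • u) c = stv hf u (a * a * c) := gl_ext_vec fun x => by
  rw [stv_mulVec, stv_mulVec, hf.bilinear.smul_right, smul_smul]
  congr 2
  ring

theorem stv_conj {g : GL ι F} (hg : g ∈ isoSub f) (u : ι → F) (c : F) :
    g * stv hf u c * g⁻¹ = stv hf ((g : Matrix ι ι F) *ᵥ u) c := gl_ext_vec fun x => by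
  rw [gl_mul_mulVec, gl_mul_mulVec, stv_mulVec, stv_mulVec, mulVec_add, mulVec_smul, gl_mulVec_inv]
  congr 2
  conv_rhs => rw [← gl_mulVec_inv g x, mem_isoSub.1 hg]

theorem stv_conj_mem {M : Subgroup (GL ι F)} (hM : M ≤ isoSub f) {g : GL ι F} (hg : g ∈ M) {u : ι → F} {c : F}
    (h : stv hf u c ∈ M) : stv hf ((g : Matrix ι ι F) *ᵥ u) c ∈ M := by
  rw [← stv_conj hf (hM hg)]
  exact M.mul_mem (M.mul_mem hg h) (M.inv_mem hg)

/-- the vectors orthogonal to `W` -/
def perp (W : Submodule F (ι → F)) : Submodule F (ι → F) where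
  carrier := {x | ∀ w ∈ W, f x w = 0}
  add_mem' := fun {a b} ha hb w hw => by rw [hf.bilinear.add_left, ha w hw, hb w hw, add_zero]
  zero_mem' := fun w _ => zero_left hf w
  smul_mem' := fun c a ha w hw => by rw [hf.bilinear.smul_left, ha w hw, mul_zero]

theorem mem_perp {W : Submodule F (ι → F)} {x : ι → F} : x ∈ perp hf W ↔ ∀ w ∈ W, f x w = 0 := Iff.rfl

theorem exists_decomp {W : Submodule F (ι → F)} (hW : IsNondegenerateOn f W) (x : ι → F) :
    ∃ w ∈ W, x - w ∈ perp hf W := by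
  let L : W →ₗ[F] Module.Dual F W :=
    { toFun := fun w => (sfun hf (w : ι → F)).comp W.subtype
      map_add' := fun a b => LinearMap.ext fun z => hf.bilinear.add_right _ _ _
      map_smul' := fun c a => LinearMap.ext fun z => hf.bilinear.smul_right _ _ _ }
  have hinj : Function.Injective L := by
    refine (injective_iff_map_eq_zero L).2 fun w hw => ?_
    by_contra hne
    obtain ⟨z, hz, hzw⟩ := (hW w w.2 (fun h => hne (Subtype.ext h))).1
    exact hzw (LinearMap.congr_fun hw ⟨z, hz⟩)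
  obtain ⟨w, hw⟩ := (LinearMap.injective_iff_surjective_of_finrank_eq_finrank (Subspace.dual_finrank_eq).symm).1 hinj
    ((sfun hf x).comp W.subtype)
  refine ⟨w, w.2, fun z hz => ?_⟩
  have h1 : f z (w : ι → F) = f z x := LinearMap.congr_fun hw ⟨z, hz⟩
  rw [sub_left hf, hf.skew x z, hf.skew (w : ι → F) z, h1, sub_self]

theorem disjoint_perp {W : Submodule F (ι → F)} (hW : IsNondegenerateOn f W) {x : ι → F} (hx : x ∈ W)
    (hx' : x ∈ perp hf W) : x = 0 := by
  by_contra hne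
  obtain ⟨z, hz, hxz⟩ := (hW x hx hne).2
  exact hxz (hx' z hz)

theorem perp_perp {W : Submodule F (ι → F)} (hW : IsNondegenerateOn f W) {x : ι → F}
    (hx : ∀ p ∈ perp hf W, f x p = 0) : x ∈ W := by
  obtain ⟨w, hw, hp⟩ := exists_decomp hf hW x
  have h0 : x - w = 0 := by
    by_contra hne
    obtain ⟨z, hz⟩ := (hf.nondegenerate _ hne).2
    obtain ⟨w', hw', hp'⟩ := exists_decomp hf hW z
    refine hz ?_
    rw [show z = w' + (z - w') by abel, hf.bilinear.add_right, hp w' hw', sub_left hf, hx _ hp',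
      swap_zero hf (hp' w hw), sub_zero, add_zero]
  rw [sub_eq_zero.1 h0]
  exact hw

theorem isNondegenerateOn_perp {W : Submodule F (ι → F)} (hW : IsNondegenerateOn f W) :
    IsNondegenerateOn f (perp hf W) := by
  intro p hp hp0
  obtain ⟨z, hz⟩ := (hf.nondegenerate p hp0).2
  obtain ⟨w, hw, hq⟩ := exists_decomp hf hW z
  have hne : f p (z - w) ≠ 0 := by rwa [sub_right hf, hp w hw, sub_zero]
  exact ⟨⟨_, hq, swap_ne hf hne⟩, ⟨_, hq, hne⟩⟩

theorem finrank_add_perp {W : Submodule F (ι → F)} (hW : IsNondegenerateOn f W) :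
    Module.finrank F W + Module.finrank F (perp hf W) = Fintype.card ι := by
  rw [← Module.finrank_fintype_fun_eq_card F]
  refine Submodule.finrank_add_eq_of_isCompl ⟨Submodule.disjoint_def.2 fun x h1 h2 => disjoint_perp hf hW h1 h2, ?_⟩
  refine codisjoint_iff.2 (eq_top_iff.2 fun x _ => ?_)
  obtain ⟨w, hw, hp⟩ := exists_decomp hf hW x
  exact Submodule.mem_sup.2 ⟨w, hw, _, hp, add_sub_cancel _ _⟩

theorem isNondegenerateOn_top : IsNondegenerateOn f (⊤ : Submodule F (ι → F)) := fun v _ hv => by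
  obtain ⟨⟨a, ha⟩, ⟨b, hb⟩⟩ := hf.nondegenerate v hv
  exact ⟨⟨a, Submodule.mem_top, ha⟩, ⟨b, Submodule.mem_top, hb⟩⟩

/-- isometries fixing the vectors orthogonal to `W` -/
def fixSub (W : Submodule F (ι → F)) : Subgroup (GL ι F) where
  carrier := {g | g ∈ isoSub f ∧ ∀ x ∈ perp hf W, (g : Matrix ι ι F) *ᵥ x = x}
  mul_mem' := fun {a b} ha hb => ⟨(isoSub f).mul_mem ha.1 hb.1, fun x hx => by
    rw [gl_mul_mulVec, hb.2 x hx, ha.2 x hx]⟩
  one_mem' := ⟨(isoSub f).one_mem, fun x _ => by rw [Units.val_one, one_mulVec]⟩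
  inv_mem' := fun {a} ha => ⟨(isoSub f).inv_mem ha.1, fun x hx => by
    conv_lhs => rw [← ha.2 x hx]
    rw [gl_inv_mulVec]⟩

theorem stv_mem_fix {W : Submodule F (ι → F)} {u : ι → F} (hu : u ∈ W) (c : F) : stv hf u c ∈ fixSub hf W :=
  ⟨stv_iso hf u c, fun x hx => by rw [stv_mulVec, hx u hu, mul_zero, zero_smul, add_zero]⟩

theorem fix_maps {W : Submodule F (ι → F)} (hW : IsNondegenerateOn f W) {g : GL ι F} (hg : g ∈ fixSub hf W)
    {w : ι → F} (hw : w ∈ W) : (g : Matrix ι ι F) *ᵥ w ∈ W := by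
  refine perp_perp hf hW fun p hp => ?_
  conv_lhs => rw [← hg.2 p hp]
  rw [mem_isoSub.1 hg.1]
  exact swap_zero hf (hp w hw)

section Transitive

variable {M : Subgroup (GL ι F)} {W : Submodule F (ι → F)} (hM : ∀ u ∈ W, ∀ c, stv hf u c ∈ M)
include hM

theorem move_direct {v w : ι → F} (hv : v ∈ W) (hw : w ∈ W) (h : f v w ≠ 0) :
    ∃ t ∈ M ⊓ fixSub hf W, (t : Matrix ι ι F) *ᵥ v = w :=
  ⟨stv hf (w - v) (f v w)⁻¹, ⟨hM _ (W.sub_mem hw hv) _, stv_mem_fix hf (W.sub_mem hw hv) _⟩, by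
    rw [stv_mulVec, sub_right hf, hf.alternating, sub_zero, inv_mul_cancel₀ h, one_smul, add_sub_cancel]⟩

theorem move_vec (hW : IsNondegenerateOn f W) {v w : ι → F} (hv : v ∈ W) (hw : w ∈ W) (hv0 : v ≠ 0) (hw0 : w ≠ 0) :
    ∃ t ∈ M ⊓ fixSub hf W, (t : Matrix ι ι F) *ᵥ v = w := by
  obtain ⟨x, hx, hxv, hxw⟩ : ∃ x ∈ W, f v x ≠ 0 ∧ f x w ≠ 0 := by
    obtain ⟨a, ha, hva⟩ := (hW v hv hv0).2
    obtain ⟨b, hb, hbw⟩ := (hW w hw hw0).1
    by_cases h1 : f a w = 0
    · by_cases h2 : f v b = 0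
      · exact ⟨a + b, W.add_mem ha hb, by rwa [hf.bilinear.add_right, h2, add_zero],
          by rwa [hf.bilinear.add_left, h1, zero_add]⟩
      · exact ⟨b, hb, h2, hbw⟩
    · exact ⟨a, ha, hva, h1⟩
  obtain ⟨s, hs, hsv⟩ := move_direct hf hM hv hx hxv
  obtain ⟨t, ht, htx⟩ := move_direct hf hM hx hw hxw
  exact ⟨t * s, mul_mem ht hs, by rw [gl_mul_mulVec, hsv, htx]⟩

theorem move_second_direct {e h h' : ι → F} (hh : h ∈ W) (hh' : h' ∈ W) (he : f e h = f e h') (hne : f h h' ≠ 0) :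
    ∃ t ∈ M ⊓ fixSub hf W, (t : Matrix ι ι F) *ᵥ e = e ∧ (t : Matrix ι ι F) *ᵥ h = h' :=
  ⟨stv hf (h' - h) (f h h')⁻¹, ⟨hM _ (W.sub_mem hh' hh) _, stv_mem_fix hf (W.sub_mem hh' hh) _⟩,
    by rw [stv_mulVec, sub_right hf, he, sub_self, mul_zero, zero_smul, add_zero],
    by rw [stv_mulVec, sub_right hf, hf.alternating, sub_zero, inv_mul_cancel₀ hne, one_smul, add_sub_cancel]⟩

theorem move_second {e h h' : ι → F} (he : e ∈ W) (hh : h ∈ W) (hh' : h' ∈ W) (h1 : f e h = 1) (h2 : f e h' = 1) :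
    ∃ t ∈ M ⊓ fixSub hf W, (t : Matrix ι ι F) *ᵥ e = e ∧ (t : Matrix ι ι F) *ᵥ h = h' := by
  by_cases hne : f h h' = 0
  · obtain ⟨s, hs, hse, hsh⟩ := move_second_direct hf hM (e := e) hh (W.add_mem hh he)
      (by rw [hf.bilinear.add_right, hf.alternating, add_zero])
      (by rw [hf.bilinear.add_right, hf.alternating, zero_add, hf.skew, h1]; exact neg_ne_zero.2 one_ne_zero)
    obtain ⟨t, ht, hte, hth⟩ := move_second_direct hf hM (e := e) (W.add_mem hh he) hh'
      (by rw [hf.bilinear.add_right, hf.alternating, add_zero, h1, h2])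
      (by rw [hf.bilinear.add_left, hne, h2, zero_add]; exact one_ne_zero)
    exact ⟨t * s, mul_mem ht hs, by rw [gl_mul_mulVec, hse, hte], by rw [gl_mul_mulVec, hsh, hth]⟩
  · exact move_second_direct hf hM hh hh' (h1.trans h2.symm) hne

theorem move_pair (hW : IsNondegenerateOn f W) {e h e' h' : ι → F} (he : e ∈ W) (hh : h ∈ W) (he' : e' ∈ W)
    (hh' : h' ∈ W) (h1 : f e h = 1) (h2 : f e' h' = 1) :
    ∃ t ∈ M ⊓ fixSub hf W, (t : Matrix ι ι F) *ᵥ e = e' ∧ (t : Matrix ι ι F) *ᵥ h = h' := by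
  have he0 : e ≠ 0 := fun h0 => one_ne_zero (h1.symm.trans (by rw [h0, zero_left hf]))
  have he0' : e' ≠ 0 := fun h0 => one_ne_zero (h2.symm.trans (by rw [h0, zero_left hf]))
  obtain ⟨s, hs, hse⟩ := move_vec hf hM hW he he' he0 he0'
  obtain ⟨t, ht, hte, hth⟩ := move_second hf hM he' (fix_maps hf hW hs.2 hh) hh'
    (by rw [← hse, mem_isoSub.1 hs.2.1, h1]) h2
  exact ⟨t * s, mul_mem ht hs, by rw [gl_mul_mulVec, hse, hte], by rw [gl_mul_mulVec, hth]⟩

end Transitive

/-- the transvections in a nondegenerate subspace generate its symplectic group -/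
theorem mem_of_fix {M : Subgroup (GL ι F)} {W : Submodule F (ι → F)} (hW : IsNondegenerateOn f W)
    (hM : ∀ u ∈ W, ∀ c, stv hf u c ∈ M) {g : GL ι F} (hg : g ∈ fixSub hf W) : g ∈ M := by
  induction hn : Module.finrank F W using Nat.strong_induction_on generalizing W g with
  | _ k ih =>
  subst hn
  by_cases hbot : W = ⊥
  · have : g = 1 := gl_ext_vec fun x => by
      rw [hg.2 x (fun w hw => by
        have hw0 : w = 0 := (Submodule.mem_bot F).1 (hbot ▸ hw)
        rw [hw0, zero_right hf]), Units.val_one, one_mulVec]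
    rw [this]
    exact M.one_mem
  obtain ⟨e, he, he0⟩ := Submodule.exists_mem_ne_zero_of_ne_bot hbot
  obtain ⟨y, hy, hey⟩ := (hW e he he0).2
  obtain ⟨h, hh, heh⟩ : ∃ h ∈ W, f e h = 1 :=
    ⟨(f e y)⁻¹ • y, W.smul_mem _ hy, by rw [hf.bilinear.smul_right, inv_mul_cancel₀ hey]⟩
  have hhe : f h e = -1 := by rw [hf.skew, heh]
  obtain ⟨t, ht, hte, hth⟩ := move_pair hf hM hW (fix_maps hf hW hg he) (fix_maps hf hW hg hh) he hh
    (by rw [mem_isoSub.1 hg.1, heh]) heh
  have hg' : t * g ∈ fixSub hf W := mul_mem ht.2 hg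
  let W' : Submodule F (ι → F) := W ⊓ perp hf (Submodule.span F {e, h})
  have hW'mem : ∀ {x}, x ∈ W → f x e = 0 → f x h = 0 → x ∈ W' := fun {x} hx h1 h2 => ⟨hx, fun w hw => by
    obtain ⟨a, b, rfl⟩ := Submodule.mem_span_pair.1 hw
    rw [hf.bilinear.add_right, hf.bilinear.smul_right, hf.bilinear.smul_right, h1, h2, mul_zero, mul_zero, add_zero]⟩
  have hW'e : ∀ {x}, x ∈ W' → f x e = 0 ∧ f x h = 0 := fun {x} hx =>
    ⟨hx.2 e (Submodule.subset_span (by simp)), hx.2 h (Submodule.subset_span (by simp))⟩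
  have hproj : ∀ x, f (x - f x h • e + f x e • h) e = 0 ∧ f (x - f x h • e + f x e • h) h = 0 := fun x => by
    constructor <;> rw [hf.bilinear.add_left, sub_left hf, hf.bilinear.smul_left, hf.bilinear.smul_left,
      hf.alternating] <;> simp [heh, hhe]
  have hW' : IsNondegenerateOn f W' := by
    intro w hw hw0
    obtain ⟨x, hx, hxw⟩ := (hW w hw.1 hw0).1
    have h1 : f (x - f x h • e + f x e • h) w = f x w := by
      rw [hf.bilinear.add_left, sub_left hf, hf.bilinear.smul_left, hf.bilinear.smul_left,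
        swap_zero hf (hW'e hw).1, swap_zero hf (hW'e hw).2]
      ring
    have hmem := hW'mem (W.add_mem (W.sub_mem hx (W.smul_mem _ he)) (W.smul_mem _ hh)) (hproj x).1 (hproj x).2
    exact ⟨⟨_, hmem, by rwa [h1]⟩, ⟨_, hmem, swap_ne hf (by rwa [h1])⟩⟩
  have hlt : Module.finrank F W' < Module.finrank F W :=
    Submodule.finrank_lt_finrank_of_lt (lt_of_le_of_ne inf_le_left fun hEq => by
      have := (hW'e (x := e) (hEq.symm ▸ he)).2
      rw [heh] at this
      exact one_ne_zero this)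
  have hfix : t * g ∈ fixSub hf W' := by
    refine ⟨hg'.1, fun x hx => ?_⟩
    have hp : x - f x h • e + f x e • h ∈ perp hf W := fun w hw => by
      have hmem := hW'mem (W.add_mem (W.sub_mem hw (W.smul_mem _ he)) (W.smul_mem _ hh)) (hproj w).1 (hproj w).2
      have h1 := hx _ hmem
      rw [hf.bilinear.add_right, sub_right hf, hf.bilinear.smul_right, hf.bilinear.smul_right] at h1
      rw [hf.bilinear.add_left, sub_left hf, hf.bilinear.smul_left, hf.bilinear.smul_left, hf.skew e w,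
        hf.skew h w]
      linear_combination h1
    have h2 := hg'.2 _ hp
    rw [mulVec_add, mulVec_sub, mulVec_smul, mulVec_smul] at h2
    rw [gl_mul_mulVec t g e, gl_mul_mulVec t g h, hte, hth] at h2
    exact sub_left_inj.1 (add_left_injective _ h2)
  have h3 := ih _ hlt hW' (fun u hu c => hM u hu.1 c) hfix rfl
  have h4 := M.mul_mem (M.inv_mem ht.1) h3
  rwa [inv_mul_cancel_left] at h4

theorem eq_isoSub {M : Subgroup (GL ι F)} (hle : M ≤ isoSub f) (h : ∀ u c, stv hf u c ∈ M) : M = isoSub f :=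
  le_antisymm hle fun g hg => mem_of_fix hf (isNondegenerateOn_top hf) (fun u _ c => h u c)
    ⟨hg, fun x hx => by
      have hx0 : x = 0 := by
        by_contra hne
        obtain ⟨y, hy⟩ := (hf.nondegenerate x hne).2
        exact hy (hx y Submodule.mem_top)
      rw [hx0, mulVec_zero]⟩

omit hf

theorem isSymplecticForm_sympForm {m : ℕ} : IsSymplecticForm (Cfsg.sympForm m F) where
  bilinear := ⟨CfsgLib.Sp.sf_add_left, CfsgLib.Sp.sf_smul_left, CfsgLib.Sp.sf_add_right, CfsgLib.Sp.sf_smul_right⟩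
  skew := CfsgLib.Sp.sf_swap
  alternating := CfsgLib.Sp.sf_self
  nondegenerate := fun v hv => by
    obtain ⟨x, hx⟩ := CfsgLib.Sp.exists_sf_eq_one hv
    exact ⟨⟨x, fun h0 => one_ne_zero (hx.symm.trans h0)⟩, ⟨x, fun h0 => one_ne_zero (by
      rw [← hx, CfsgLib.Sp.sf_swap, show CfsgLib.Sp.sf v x = 0 from h0, neg_zero])⟩⟩

theorem spGL_eq_isoSub {m : ℕ} : Cfsg.spGL m F = isoSub (Cfsg.sympForm m F) := rfl

end CfsgLib.Perm.Trans.Symp
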