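import Cfsg.Prelude.Def_GeometricClasses
import Cfsg.Agent.Lib.Perm.Asch.Proper

/-!
# Transvections in a subgroup
-/

set_option autoImplicit false
set_option linter.all false

namespace CfsgLib.Perm.Trans

open scoped Matrix
open Matrix Cfsg.Geo CfsgLib.Perm.Asch

variable {ι : Type} [Fintype ι] [DecidableEq ι] {F : Type*} [Field F]

/-- the transvection with centre `u` and functional `φ` lies in `M` -/
def Has (M : Subgroup (GL ι F)) (u φ : ι → F) : Prop := ∃ h : φ ⬝ᵥ u = 0, tv u φ h ∈ M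

theorem Has.orth {M : Subgroup (GL ι F)} {u φ : ι → F} (h : Has M u φ) : φ ⬝ᵥ u = 0 := h.1

theorem gl_ext_vec {g h : GL ι F} (e : ∀ x, (g : Matrix ι ι F) *ᵥ x = (h : Matrix ι ι F) *ᵥ x) : g = h :=
  Units.ext (Matrix.ext_iff_mulVec.2 e)

theorem gl_mul_mulVec (g h : GL ι F) (x : ι → F) :
    ((g * h : GL ι F) : Matrix ι ι F) *ᵥ x = (g : Matrix ι ι F) *ᵥ ((h : Matrix ι ι F) *ᵥ x) := by
  rw [Units.val_mul, Matrix.mulVec_mulVec]

theorem gl_inv_mulVec (g : GL ι F) (x : ι → F) :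
    ((g⁻¹ : GL ι F) : Matrix ι ι F) *ᵥ ((g : Matrix ι ι F) *ᵥ x) = x := by
  rw [Matrix.mulVec_mulVec, Units.inv_mul, Matrix.one_mulVec]

theorem gl_mulVec_inv (g : GL ι F) (x : ι → F) :
    (g : Matrix ι ι F) *ᵥ (((g⁻¹ : GL ι F) : Matrix ι ι F) *ᵥ x) = x := by
  rw [Matrix.mulVec_mulVec, Units.mul_inv, Matrix.one_mulVec]

theorem gl_mulVec_eq_zero {g : GL ι F} {x : ι → F} : (g : Matrix ι ι F) *ᵥ x = 0 ↔ x = 0 :=
  ⟨fun h => by rw [← gl_inv_mulVec g x, h, Matrix.mulVec_zero], fun h => by rw [h, Matrix.mulVec_zero]⟩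

theorem tv_congr_gl {u φ u' φ' : ι → F} (h : φ ⬝ᵥ u = 0) (h' : φ' ⬝ᵥ u' = 0)
    (e : ∀ x, (φ ⬝ᵥ x) • u = (φ' ⬝ᵥ x) • u') : tv u φ h = tv u' φ' h' :=
  gl_ext_vec fun x => by rw [tv_mulVec, tv_mulVec, e]

theorem tv_inv_mulVec (u φ : ι → F) (h : φ ⬝ᵥ u = 0) (x : ι → F) :
    (((tv u φ h)⁻¹ : GL ι F) : Matrix ι ι F) *ᵥ x = x - (φ ⬝ᵥ x) • u := by
  show (1 - vecMulVec u φ) *ᵥ x = _
  rw [sub_mulVec, one_mulVec, vecMulVec_mulVec, op_smul_eq_smul]

variable {M : Subgroup (GL ι F)}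

theorem Has.of_eq {u φ u' φ' : ι → F} (h : Has M u φ) (h' : φ' ⬝ᵥ u' = 0)
    (e : ∀ x, (φ ⬝ᵥ x) • u = (φ' ⬝ᵥ x) • u') : Has M u' φ' :=
  ⟨h', tv_congr_gl h.1 h' e ▸ h.2⟩

theorem has_zero_left (φ : ι → F) : Has M 0 φ :=
  ⟨dotProduct_zero φ, by
    have : tv (0 : ι → F) φ (dotProduct_zero φ) = 1 := gl_ext_vec fun x => by
      rw [tv_mulVec, smul_zero, add_zero, Units.val_one, one_mulVec]
    rw [this]
    exact M.one_mem⟩

theorem has_zero_right (u : ι → F) : Has M u 0 :=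
  ⟨zero_dotProduct u, by
    have : tv u (0 : ι → F) (zero_dotProduct u) = 1 := gl_ext_vec fun x => by
      rw [tv_mulVec, zero_dotProduct, zero_smul, add_zero, Units.val_one, one_mulVec]
    rw [this]
    exact M.one_mem⟩

theorem Has.add_right {u φ ψ : ι → F} (h : Has M u φ) (h' : Has M u ψ) : Has M u (φ + ψ) := by
  refine ⟨by rw [add_dotProduct, h.1, h'.1, add_zero], ?_⟩
  have : tv u (φ + ψ) (by rw [add_dotProduct, h.1, h'.1, add_zero]) = tv u φ h.1 * tv u ψ h'.1 :=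
    gl_ext_vec fun x => by
      rw [gl_mul_mulVec, tv_mulVec, tv_mulVec, tv_mulVec, dotProduct_add, dotProduct_smul, h.1, add_dotProduct,
        smul_zero, add_zero, add_smul]
      abel
  rw [this]
  exact M.mul_mem h.2 h'.2

theorem Has.add_left {u w φ : ι → F} (h : Has M u φ) (h' : Has M w φ) : Has M (u + w) φ := by
  refine ⟨by rw [dotProduct_add, h.1, h'.1, add_zero], ?_⟩
  have : tv (u + w) φ (by rw [dotProduct_add, h.1, h'.1, add_zero]) = tv u φ h.1 * tv w φ h'.1 :=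
    gl_ext_vec fun x => by
      rw [gl_mul_mulVec, tv_mulVec, tv_mulVec, tv_mulVec, dotProduct_add, dotProduct_smul, h'.1, smul_zero,
        add_zero, smul_add]
      abel
  rw [this]
  exact M.mul_mem h.2 h'.2

theorem Has.neg {u φ : ι → F} (h : Has M u φ) : Has M u (-φ) := by
  refine ⟨by rw [neg_dotProduct, h.1, neg_zero], ?_⟩
  have : tv u (-φ) (by rw [neg_dotProduct, h.1, neg_zero]) = (tv u φ h.1)⁻¹ :=
    gl_ext_vec fun x => by
      rw [tv_inv_mulVec, tv_mulVec, neg_dotProduct, neg_smul, sub_eq_add_neg]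
  rw [this]
  exact M.inv_mem h.2

theorem has_smul_iff (u φ : ι → F) {c : F} : Has M (c • u) φ ↔ Has M u (c • φ) := by
  rcases eq_or_ne c 0 with rfl | hc
  · simp only [zero_smul]
    exact ⟨fun _ => has_zero_right u, fun _ => has_zero_left φ⟩
  constructor <;> intro h
  · refine h.of_eq ?_ fun x => by rw [smul_dotProduct, smul_eq_mul, mul_comm, mul_smul]
    have := h.1
    rw [dotProduct_smul] at this
    rw [smul_dotProduct]
    exact this
  · refine h.of_eq ?_ fun x => by rw [smul_dotProduct, smul_eq_mul, mul_comm, mul_smul]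
    have := h.1
    rw [smul_dotProduct] at this
    rw [dotProduct_smul]
    exact this

theorem Has.conj {u φ : ι → F} (h : Has M u φ) {g : GL ι F} (hg : g ∈ M) :
    Has M ((g : Matrix ι ι F) *ᵥ u) (φ ᵥ* ((g⁻¹ : GL ι F) : Matrix ι ι F)) := by
  have h0 : (φ ᵥ* ((g⁻¹ : GL ι F) : Matrix ι ι F)) ⬝ᵥ ((g : Matrix ι ι F) *ᵥ u) = 0 := by
    rw [← dotProduct_mulVec, gl_inv_mulVec, h.1]
  refine ⟨h0, ?_⟩
  have : tv _ _ h0 = g * tv u φ h.1 * g⁻¹ := gl_ext_vec fun x => by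
    rw [gl_mul_mulVec, gl_mul_mulVec, tv_mulVec, tv_mulVec, mulVec_add, gl_mulVec_inv, mulVec_smul,
      ← dotProduct_mulVec]
  rw [this]
  exact M.mul_mem (M.mul_mem hg h.2) (M.inv_mem hg)

/-- the commutator of two transvections -/
theorem Has.comm {u φ w ψ : ι → F} (h : Has M u φ) (h' : Has M w ψ) (hψu : ψ ⬝ᵥ u = 0) :
    Has M u ((φ ⬝ᵥ w) • ψ) := by
  have h0 : ((φ ⬝ᵥ w) • ψ) ⬝ᵥ u = 0 := by rw [smul_dotProduct, hψu, smul_zero]
  refine ⟨h0, ?_⟩
  have : tv u _ h0 = tv u φ h.1 * tv w ψ h'.1 * (tv u φ h.1)⁻¹ * (tv w ψ h'.1)⁻¹ := by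
    rw [eq_mul_inv_iff_mul_eq, eq_mul_inv_iff_mul_eq]
    refine gl_ext_vec fun x => ?_
    simp only [gl_mul_mulVec, tv_mulVec, dotProduct_add, dotProduct_smul, smul_dotProduct, smul_eq_mul, h.1, h'.1,
      hψu, mul_zero, add_zero, add_smul, smul_add, mul_add, smul_smul]
    rw [mul_comm (φ ⬝ᵥ w) (ψ ⬝ᵥ x)]
    abel
  rw [this]
  exact M.mul_mem (M.mul_mem (M.mul_mem h.2 h'.2) (M.inv_mem h.2)) (M.inv_mem h'.2)

/-- every transvection with centre `u` lies in `M` -/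
def FullC (M : Subgroup (GL ι F)) (u : ι → F) : Prop := ∀ φ : ι → F, φ ⬝ᵥ u = 0 → Has M u φ

theorem fullC_zero : FullC M (0 : ι → F) := fun φ _ => has_zero_left φ

theorem FullC.smul {u : ι → F} (h : FullC M u) (c : F) : FullC M (c • u) := by
  intro φ hφ
  rcases eq_or_ne c 0 with rfl | hc
  · rw [zero_smul]
    exact has_zero_left φ
  · refine (has_smul_iff u φ).2 (h _ ?_)
    rw [dotProduct_smul, smul_eq_mul] at hφ
    rw [smul_dotProduct, smul_eq_mul, hφ]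

theorem FullC.conj {u : ι → F} (h : FullC M u) {g : GL ι F} (hg : g ∈ M) :
    FullC M ((g : Matrix ι ι F) *ᵥ u) := by
  intro φ hφ
  have h1 := (h (φ ᵥ* (g : Matrix ι ι F)) (by rw [← dotProduct_mulVec, hφ])).conj hg
  rwa [vecMul_vecMul, Units.mul_inv, vecMul_one] at h1

theorem FullC.add {u w : ι → F} (h : FullC M u) (h' : FullC M w) : FullC M (u + w) := by
  by_cases hw : w ∈ Submodule.span F {u}
  · obtain ⟨c, rfl⟩ := Submodule.mem_span_singleton.1 hw
    have := h.smul (1 + c)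
    rwa [add_smul, one_smul] at this
  · obtain ⟨φ, hφw, hφu⟩ := exists_dual _ hw
    obtain ⟨hu, hmem⟩ := h φ (hφu u (Submodule.mem_span_singleton_self u))
    have := h'.conj hmem
    rwa [tv_mulVec, hφw, one_smul, add_comm] at this

/-- the full centres -/
def fullSub (M : Subgroup (GL ι F)) : Submodule F (ι → F) where
  carrier := {u | FullC M u}
  add_mem' := fun {a b} ha hb => FullC.add ha hb
  zero_mem' := fullC_zero
  smul_mem' := fun c u hu => FullC.smul hu c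

theorem fullSub_inv {g : GL ι F} (hg : g ∈ M) {u : ι → F} (hu : u ∈ fullSub M) :
    (g : Matrix ι ι F) *ᵥ u ∈ fullSub M := FullC.conj hu hg

theorem all_of_fullSub (h : fullSub M = ⊤) (u φ : ι → F) (hu : φ ⬝ᵥ u = 0) : tv u φ hu ∈ M :=
  ((show FullC M u from (h ▸ Submodule.mem_top : u ∈ fullSub M)) φ hu).2

/-- the functionals of the transvection subgroups at `u` -/
def axes (M : Subgroup (GL ι F)) (u : ι → F) : Submodule F (ι → F) where
  carrier := {φ | ∀ c : F, Has M u (c • φ)}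
  add_mem' := fun {a b} ha hb c => by rw [smul_add]; exact (ha c).add_right (hb c)
  zero_mem' := fun c => by rw [smul_zero]; exact has_zero_right u
  smul_mem' := fun d φ hφ c => by rw [smul_smul]; exact hφ (c * d)

theorem axes_orth {u φ : ι → F} (h : φ ∈ axes M u) : φ ⬝ᵥ u = 0 := by
  simpa using (h 1).1

theorem has_of_axes {u φ : ι → F} (h : φ ∈ axes M u) : Has M u φ := by simpa using h 1

theorem fullC_of_axes {u : ι → F} (h : ∀ φ : ι → F, φ ⬝ᵥ u = 0 → φ ∈ axes M u) : FullC M u :=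
  fun φ hφ => has_of_axes (h φ hφ)

theorem axes_conj {u φ : ι → F} (h : φ ∈ axes M u) {g : GL ι F} (hg : g ∈ M) :
    φ ᵥ* ((g⁻¹ : GL ι F) : Matrix ι ι F) ∈ axes M ((g : Matrix ι ι F) *ᵥ u) := fun c => by
  rw [← smul_vecMul]
  exact (h c).conj hg

theorem axes_smul {u φ : ι → F} (h : φ ∈ axes M u) (d : F) : φ ∈ axes M (d • u) := fun c => by
  rw [has_smul_iff, smul_smul]
  exact h (d * c)

/-- the vector of a functional given as a function -/
def fvec (L : (ι → F) → F) : ι → F := fun i => L (Pi.single i 1)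

theorem fvec_dot (L : (ι → F) →ₗ[F] F) (x : ι → F) : fvec L ⬝ᵥ x = L x := by
  conv_rhs => rw [pi_eq_sum_univ' x]
  simp [fvec, dotProduct, map_sum, mul_comm]

/-- transvection-invariant subgroups move vectors -/
theorem tv_mem_stab {W : Submodule F (ι → F)} {u φ : ι → F} (h : φ ⬝ᵥ u = 0)
    (hW : u ∈ W ∨ ∀ w ∈ W, φ ⬝ᵥ w = 0) : tv u φ h ∈ subspaceStabilizer W := by
  intro x
  show x ∈ W ↔ (tv u φ h : Matrix ι ι F) *ᵥ x ∈ W
  rw [tv_mulVec]
  rcases hW with hu | hφ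
  · exact (W.add_mem_iff_left (W.smul_mem _ hu)).symm
  · refine ⟨fun hx => by rw [hφ x hx, zero_smul, add_zero]; exact hx, fun hx => ?_⟩
    have h1 := hφ _ hx
    rw [dotProduct_add, dotProduct_smul, h, smul_zero, add_zero] at h1
    rwa [h1, zero_smul, add_zero] at hx

theorem mem_subspaceStabilizer_iff {W : Submodule F (ι → F)} {g : GL ι F} :
    g ∈ subspaceStabilizer W ↔ ∀ v, v ∈ W ↔ (g : Matrix ι ι F) *ᵥ v ∈ W := Iff.rfl

theorem exists_moved_of_not_stab [Finite F] {W : Submodule F (ι → F)} {g : GL ι F} (hg : g ∉ subspaceStabilizer W) :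
    ∃ w ∈ W, (g : Matrix ι ι F) *ᵥ w ∉ W := by
  by_contra hcon
  push Not at hcon
  have hfin : Function.Surjective (fun w : W => (⟨(g : Matrix ι ι F) *ᵥ w, hcon w w.2⟩ : W)) := by
    refine Finite.injective_iff_surjective.1 fun a b hab => Subtype.ext ?_
    have := congrArg (fun z : W => ((g⁻¹ : GL ι F) : Matrix ι ι F) *ᵥ (z : ι → F)) hab
    simpa only [gl_inv_mulVec] using this
  refine hg fun v => ⟨fun hv => hcon v hv, fun hv => ?_⟩
  obtain ⟨w, hw⟩ := hfin ⟨_, hv⟩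
  have h1 : (g : Matrix ι ι F) *ᵥ (w : ι → F) = (g : Matrix ι ι F) *ᵥ v := congrArg Subtype.val hw
  have := congrArg (fun z => ((g⁻¹ : GL ι F) : Matrix ι ι F) *ᵥ z) h1
  simp only [gl_inv_mulVec] at this
  exact this ▸ w.2

end CfsgLib.Perm.Trans
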