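import Mathlib
import Cfsg.Agent.Lib.Perm.Trans.Basic

/-!
# Tensor decompositions with a factor whose isometries permute an orthogonal frame
-/

set_option autoImplicit false
set_option linter.all false

namespace CfsgLib.Perm.Trans.TensorFrame

open scoped Matrix Kronecker
open Matrix Cfsg.Geo CfsgLib.Perm.Asch CfsgLib.Perm.Trans

variable {ι : Type} [Fintype ι] [DecidableEq ι] {F : Type*} [Field F]

/-- forms linear in the first and semilinear in the second argument -/
structure IsSesq {κ : Type} (σ : F → F) (f : (κ → F) → (κ → F) → F) : Prop where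
  add_left : ∀ x y v, f (x + y) v = f x v + f y v
  smul_left : ∀ (c : F) x v, f (c • x) v = c * f x v
  add_right : ∀ v x y, f v (x + y) = f v x + f v y
  smul_right : ∀ (c : F) v x, f v (c • x) = σ c * f v x

theorem sesq_of_bilinear {κ : Type} [Fintype κ] [DecidableEq κ] {f : (κ → F) → (κ → F) → F} (hf : IsBilinearForm f) :
    IsSesq id f :=
  ⟨hf.add_left, hf.smul_left, hf.add_right, fun c v x => hf.smul_right c v x⟩

theorem sesq_expand {κ : Type} [Fintype κ] [DecidableEq κ] {σ : F → F} {f : (κ → F) → (κ → F) → F} (hf : IsSesq σ f)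
    (x y : κ → F) : f x y = formOfGram σ (gramMatrix f) x y := by
  let L : (κ → F) → ((κ → F) →ₗ[F] F) := fun v =>
    { toFun := fun z => f z v, map_add' := fun a b => hf.add_left a b v, map_smul' := fun c a => hf.smul_left c a v }
  have hr : ∀ (v : κ → F) (s : Finset κ), f v (∑ j ∈ s, y j • (Pi.single j 1 : κ → F)) =
      ∑ j ∈ s, σ (y j) * f v (Pi.single j 1) := by
    intro v s
    induction s using Finset.induction_on with
    | empty =>
      have h := hf.add_right v 0 0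
      rw [add_zero] at h
      simpa using h
    | @insert a s ha ih => rw [Finset.sum_insert ha, Finset.sum_insert ha, hf.add_right, hf.smul_right, ih]
  have hl : f x y = ∑ i, x i * f (Pi.single i 1) y := by
    show L y x = _
    conv_lhs => rw [pi_eq_sum_univ' x]
    rw [map_sum]
    exact Finset.sum_congr rfl fun i _ => by rw [map_smul, smul_eq_mul]; rfl
  rw [hl, formOfGram]
  refine Finset.sum_congr rfl fun i _ => ?_
  conv_lhs => rw [pi_eq_sum_univ' y, hr, Finset.mul_sum]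
  exact Finset.sum_congr rfl fun j _ => by rw [gramMatrix]; ring

/-- the tensor of two coordinate vectors -/
def tvec {r s : ℕ} (e : ι ≃ Fin r × Fin s) (P : GL ι F) (x : Fin r → F) (y : Fin s → F) : ι → F :=
  (P : Matrix ι ι F) *ᵥ ((fun p => x p.1 * y p.2) ∘ e)

variable {r s : ℕ} {e : ι ≃ Fin r × Fin s} {P : GL ι F}

theorem tvec_add_left (x x' : Fin r → F) (y : Fin s → F) : tvec e P (x + x') y = tvec e P x y + tvec e P x' y := by
  rw [tvec, tvec, tvec, ← mulVec_add]
  congr 1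
  funext i
  simp [add_mul]

theorem tvec_add_right (x : Fin r → F) (y y' : Fin s → F) : tvec e P x (y + y') = tvec e P x y + tvec e P x y' := by
  rw [tvec, tvec, tvec, ← mulVec_add]
  congr 1
  funext i
  simp [mul_add]

theorem tvec_smul_left (c : F) (x : Fin r → F) (y : Fin s → F) : tvec e P (c • x) y = c • tvec e P x y := by
  rw [tvec, tvec, ← mulVec_smul]
  congr 1
  funext i
  simp [mul_assoc]

theorem tvec_smul_right (c : F) (x : Fin r → F) (y : Fin s → F) : tvec e P x (c • y) = c • tvec e P x y := by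
  rw [tvec, tvec, ← mulVec_smul]
  congr 1
  funext i
  simp [mul_left_comm]

theorem tvec_span (z : ι → F) : z ∈ Submodule.span F {w | ∃ x y, tvec e P x y = w} := by
  obtain ⟨w, hw⟩ : ∃ w, w = (((P⁻¹ : GL ι F) : Matrix ι ι F) *ᵥ z) ∘ e.symm := ⟨_, rfl⟩
  have hz : z = ∑ p : Fin r × Fin s, w p • tvec e P (Pi.single p.1 1) (Pi.single p.2 1) := by
    have h1 : ((P⁻¹ : GL ι F) : Matrix ι ι F) *ᵥ z =
        ∑ p : Fin r × Fin s, w p • ((fun q => (Pi.single p.1 1 : Fin r → F) q.1 * (Pi.single p.2 1 : Fin s → F) q.2) ∘ e) := by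
      funext i
      rw [Finset.sum_apply, Finset.sum_eq_single (e i)]
      · simp [hw]
      · intro p _ hp
        simp only [Pi.smul_apply, Function.comp_apply, smul_eq_mul, Pi.single_apply]
        rcases not_and_or.1 (fun h : (e i).1 = p.1 ∧ (e i).2 = p.2 => hp (Prod.ext h.1.symm h.2.symm)) with h | h <;> simp [h]
      · exact fun h => absurd (Finset.mem_univ _) h
    conv_lhs => rw [← gl_mulVec_inv P z, h1, Matrix.mulVec_sum]
    exact Finset.sum_congr rfl fun p _ => by rw [mulVec_smul]; rfl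
  rw [hz]
  exact Submodule.sum_mem _ fun p _ => Submodule.smul_mem _ _ (Submodule.subset_span ⟨_, _, rfl⟩)

theorem tvec_form {σ : F → F} (hσ : ∀ a b, σ (a * b) = σ a * σ b) {f : (ι → F) → (ι → F) → F}
    {f₁ : (Fin r → F) → (Fin r → F) → F} {f₂ : (Fin s → F) → (Fin s → F) → F} (h₁ : IsSesq σ f₁) (h₂ : IsSesq σ f₂)
    (hT : IsTensorFormStructure σ f f₁ f₂ e P) :
    ∃ c : F, c ≠ 0 ∧ ∀ x y x' y', f (tvec e P x y) (tvec e P x' y') = c * (f₁ x x' * f₂ y y') := by
  obtain ⟨c, hc, h⟩ := hT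
  refine ⟨c, hc, fun x y x' y' => ?_⟩
  rw [tvec, tvec, h, sesq_expand h₁, sesq_expand h₂]
  congr 1
  simp only [formOfGram]
  rw [Fintype.sum_prod_type, Finset.sum_mul_sum]
  refine Finset.sum_congr rfl fun i _ => Finset.sum_congr rfl fun k _ => ?_
  rw [Fintype.sum_prod_type, Finset.sum_mul_sum]
  refine Finset.sum_congr rfl fun j _ => Finset.sum_congr rfl fun l _ => ?_
  rw [Matrix.kroneckerMap_apply, hσ]
  ring

theorem kron_mulVec (A : Matrix (Fin r) (Fin r) F) (B : Matrix (Fin s) (Fin s) F) (x : Fin r → F) (y : Fin s → F) :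
    (A ⊗ₖ B) *ᵥ (fun p => x p.1 * y p.2) = fun p => (A *ᵥ x) p.1 * (B *ᵥ y) p.2 := by
  funext p
  simp only [Matrix.mulVec, dotProduct, Matrix.kroneckerMap_apply]
  rw [Fintype.sum_prod_type, Finset.sum_mul_sum]
  exact Finset.sum_congr rfl fun j _ => Finset.sum_congr rfl fun l _ => by ring

theorem mem_tensor {g : GL ι F} (hg : g ∈ tensorProductSubgroup r s e P) :
    ∃ (a : GL (Fin r) F) (b : GL (Fin s) F), ∀ x y, (g : Matrix ι ι F) *ᵥ tvec e P x y =
      tvec e P ((a : Matrix (Fin r) (Fin r) F) *ᵥ x) ((b : Matrix (Fin s) (Fin s) F) *ᵥ y) := by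
  obtain ⟨g₁, ⟨k, ⟨a, b, hk⟩, rfl⟩, rfl⟩ := hg
  refine ⟨a, b, fun x y => ?_⟩
  show ((P * glReindex e.symm k * P⁻¹ : GL ι F) : Matrix ι ι F) *ᵥ tvec e P x y = _
  rw [gl_mul_mulVec, gl_mul_mulVec, tvec, gl_inv_mulVec, tvec]
  congr 1
  rw [show ((glReindex e.symm k : GL ι F) : Matrix ι ι F) = (k : Matrix (Fin r × Fin s) (Fin r × Fin s) F).submatrix e e from rfl,
    Matrix.submatrix_mulVec_equiv]
  congr 1
  rw [show ((fun p : Fin r × Fin s => x p.1 * y p.2) ∘ ⇑e) ∘ ⇑e.symm = (fun p => x p.1 * y p.2) by ext p; simp, hk,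
    kron_mulVec]

/-! ### the decomposition attached to a frame -/

variable (f : (ι → F) → (ι → F) → F) (f₁ : (Fin r → F) → (Fin r → F) → F) (f₂ : (Fin s → F) → (Fin s → F) → F)
  (T : (Fin r → F) → (Fin s → F) → ι → F)

/-- the data of a tensor decomposition of a form -/
structure Ctx : Prop where
  fadd : ∀ x y v, f (x + y) v = f x v + f y v
  fsmul : ∀ (c : F) x v, f (c • x) v = c * f x v
  add₁ : ∀ x y v, f₁ (x + y) v = f₁ x v + f₁ y v
  smul₁ : ∀ (c : F) x v, f₁ (c • x) v = c * f₁ x v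
  nd₁ : IsNondegenerateForm f₁
  add₂ : ∀ x y v, f₂ (x + y) v = f₂ x v + f₂ y v
  smul₂ : ∀ (c : F) x v, f₂ (c • x) v = c * f₂ x v
  nd₂ : IsNondegenerateForm f₂
  Tadd₁ : ∀ x x' y, T (x + x') y = T x y + T x' y
  Tsmul₁ : ∀ (c : F) x y, T (c • x) y = c • T x y
  Tadd₂ : ∀ x y y', T x (y + y') = T x y + T x y'
  Tsmul₂ : ∀ (c : F) x y, T x (c • y) = c • T x y
  span : ∀ z, z ∈ Submodule.span F {w | ∃ x y, T x y = w}
  form : ∃ c : F, c ≠ 0 ∧ ∀ x y x' y', f (T x y) (T x' y') = c * (f₁ x x' * f₂ y y')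

variable {f f₁ f₂ T}

theorem ctx_tvec {σ : F → F} (hσ : ∀ a b, σ (a * b) = σ a * σ b) {f₁ : (Fin r → F) → (Fin r → F) → F}
    {f₂ : (Fin s → F) → (Fin s → F) → F} (hadd : ∀ x y v, f (x + y) v = f x v + f y v)
    (hsmul : ∀ (c : F) x v, f (c • x) v = c * f x v) (h₁ : IsSesq σ f₁) (n₁ : IsNondegenerateForm f₁)
    (h₂ : IsSesq σ f₂) (n₂ : IsNondegenerateForm f₂) (hT : IsTensorFormStructure σ f f₁ f₂ e P) :
    Ctx f f₁ f₂ (tvec e P) :=
  ⟨hadd, hsmul, h₁.add_left, h₁.smul_left, n₁, h₂.add_left, h₂.smul_left, n₂, tvec_add_left, tvec_smul_left,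
    tvec_add_right, tvec_smul_right, tvec_span, tvec_form hσ h₁ h₂ hT⟩

theorem Ctx.swap (C : Ctx f f₁ f₂ T) : Ctx f f₂ f₁ (fun y x => T x y) := by
  obtain ⟨c, hc, h⟩ := C.form
  refine ⟨C.fadd, C.fsmul, C.add₂, C.smul₂, C.nd₂, C.add₁, C.smul₁, C.nd₁, fun a b x => C.Tadd₂ x a b,
    fun k y x => C.Tsmul₂ k x y, fun y a b => C.Tadd₁ a b y, fun k y x => C.Tsmul₁ k x y, fun z => ?_,
    c, hc, fun a b a' b' => by rw [h, mul_comm (f₁ b b')]⟩
  exact Submodule.span_mono (fun w hw => by obtain ⟨x, y, h⟩ := hw; exact ⟨y, x, h⟩) (C.span z)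

/-- the linear map `x ↦ T x w` -/
def Ctx.lin (C : Ctx f f₁ f₂ T) (w : Fin s → F) : (Fin r → F) →ₗ[F] (ι → F) where
  toFun x := T x w
  map_add' a b := C.Tadd₁ a b w
  map_smul' c a := C.Tsmul₁ c a w

/-- the member at a frame vector -/
def Ctx.member (C : Ctx f f₁ f₂ T) (v : Fin s → Fin s → F) (j : Fin s) : Submodule F (ι → F) :=
  LinearMap.range (C.lin (v j))

theorem Ctx.mem_member (C : Ctx f f₁ f₂ T) {v : Fin s → Fin s → F} {j : Fin s} (x : Fin r → F) :
    T x (v j) ∈ C.member v j := ⟨x, rfl⟩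

theorem Ctx.zero_left (C : Ctx f f₁ f₂ T) (v : ι → F) : f 0 v = 0 := by simpa using C.fsmul 0 0 v

theorem Ctx.zero_left₁ (C : Ctx f f₁ f₂ T) (v : Fin r → F) : f₁ 0 v = 0 := by simpa using C.smul₁ 0 0 v

theorem Ctx.exists_pair₁ (C : Ctx f f₁ f₂ T) (hr : 0 < r) : ∃ x x', f₁ x x' ≠ 0 := by
  have h0 : (Pi.single (⟨0, hr⟩ : Fin r) (1 : F) : Fin r → F) ≠ 0 := fun h => by
    have := congrFun h ⟨0, hr⟩
    simp at this
  obtain ⟨x, hx⟩ := (C.nd₁ _ h0).1
  exact ⟨x, _, hx⟩

/-- the coefficient extracted by an orthogonal frame -/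
theorem Ctx.frame_coef (C : Ctx f f₁ f₂ T) {v : Fin s → Fin s → F} (horth : ∀ i j, i ≠ j → f₂ (v i) (v j) = 0)
    (a : Fin s → F) (k : Fin s) : f₂ (∑ i, a i • v i) (v k) = a k * f₂ (v k) (v k) := by
  let L : (Fin s → F) →ₗ[F] F :=
    { toFun := fun z => f₂ z (v k), map_add' := fun p q => C.add₂ p q _, map_smul' := fun c p => C.smul₂ c p _ }
  show L (∑ i, a i • v i) = _
  rw [map_sum, Finset.sum_eq_single k]
  · rw [map_smul]; rfl
  · intro i _ hi
    rw [map_smul, show L (v i) = f₂ (v i) (v k) from rfl, horth i k hi, smul_zero]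
  · exact fun h => absurd (Finset.mem_univ k) h

variable {v : Fin s → Fin s → F}

theorem Ctx.member_ok (C : Ctx f f₁ f₂ T) (hr : 0 < r) (hs : 2 ≤ s) (horth : ∀ i j, i ≠ j → f₂ (v i) (v j) = 0)
    (hval : ∀ i, f₂ (v i) (v i) ≠ 0) (hspan : ∀ y, y ∈ Submodule.span F (Set.range v)) :
    IsNondegenerateMDecomposition f r (C.member v) := by
  obtain ⟨c, hc, hform⟩ := C.form
  have hinj : ∀ j, Function.Injective (C.lin (v j)) := by
    intro j
    rw [← LinearMap.ker_eq_bot, LinearMap.ker_eq_bot']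
    intro x hx
    by_contra hne
    obtain ⟨x', hx'⟩ := (C.nd₁ x hne).2
    have h1 : f (T x (v j)) (T x' (v j)) = 0 := by
      rw [show T x (v j) = 0 from hx, C.zero_left]
    rw [hform] at h1
    exact mul_ne_zero hc (mul_ne_zero hx' (hval j)) h1
  have horth' : ∀ i j, i ≠ j → AreOrthogonalFor f (C.member v i) (C.member v j) := by
    rintro i j hij _ ⟨x, rfl⟩ _ ⟨x', rfl⟩
    show f (T x (v i)) (T x' (v j)) = 0
    rw [hform, horth i j hij, mul_zero, mul_zero]
  have hnd : ∀ i, IsNondegenerateOn f (C.member v i) := by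
    rintro i _ ⟨x, rfl⟩ hx0
    have hx : x ≠ 0 := fun h => hx0 (by rw [h, map_zero])
    obtain ⟨⟨a, ha⟩, ⟨b, hb⟩⟩ := C.nd₁ x hx
    refine ⟨⟨_, C.mem_member a, ?_⟩, ⟨_, C.mem_member b, ?_⟩⟩
    · show f (T a (v i)) (T x (v i)) ≠ 0
      rw [hform]; exact mul_ne_zero hc (mul_ne_zero ha (hval i))
    · show f (T x (v i)) (T b (v i)) ≠ 0
      rw [hform]; exact mul_ne_zero hc (mul_ne_zero hb (hval i))
  refine ⟨⟨hs, hr, fun i => ?_, ?_, ?_⟩, hnd, horth'⟩
  · rw [Ctx.member, LinearMap.finrank_range_of_inj (hinj i), Module.finrank_fintype_fun_eq_card, Fintype.card_fin]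
  · intro i
    rw [Submodule.disjoint_def]
    intro z hz hz'
    by_contra hne
    obtain ⟨w, hw, hzw⟩ := (hnd i z hz hne).2
    let L : (ι → F) →ₗ[F] F :=
      { toFun := fun y => f y w, map_add' := fun p q => C.fadd p q _, map_smul' := fun k p => C.fsmul k p _ }
    have hle : (⨆ (j : Fin s) (_ : j ≠ i), C.member v j) ≤ LinearMap.ker L :=
      iSup₂_le fun j hj y hy => LinearMap.mem_ker.2 (horth' j i hj y hy w hw)
    exact hzw (LinearMap.mem_ker.1 (hle hz'))
  · rw [eq_top_iff]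
    intro z _
    refine (Submodule.span_le.2 ?_ : Submodule.span F {w | ∃ x y, T x y = w} ≤ iSup (C.member v)) (C.span z)
    rintro _ ⟨x, y, rfl⟩
    obtain ⟨a, rfl⟩ := (Submodule.mem_span_range_iff_exists_fun F).1 (hspan y)
    let L : (Fin s → F) →ₗ[F] (ι → F) :=
      { toFun := T x, map_add' := C.Tadd₂ x, map_smul' := fun k q => C.Tsmul₂ k x q }
    show L (∑ i, a i • v i) ∈ _
    rw [map_sum]
    refine Submodule.sum_mem _ fun i _ => ?_
    rw [map_smul]
    exact Submodule.smul_mem _ _ (Submodule.mem_iSup_of_mem i (C.mem_member x))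

theorem Ctx.stab_of_frame [Fintype F] (C : Ctx f f₁ f₂ T) (hD : IsNondegenerateMDecomposition f r (C.member v))
    {g : GL ι F} {a : GL (Fin r) F} {b : GL (Fin s) F}
    (hg : ∀ x y, (g : Matrix ι ι F) *ᵥ T x y = T ((a : Matrix (Fin r) (Fin r) F) *ᵥ x) ((b : Matrix (Fin s) (Fin s) F) *ᵥ y))
    (hb : ∀ j, ∃ k, (b : Matrix (Fin s) (Fin s) F) *ᵥ v j ∈ Submodule.span F {v k}) :
    g ∈ decompositionStabilizer (C.member v) := by
  choose π hπ using hb
  have hinj : Function.Injective (Matrix.toLin' (g : Matrix ι ι F)) := fun p q h => by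
    have := congrArg (fun x => ((g⁻¹ : GL ι F) : Matrix ι ι F) *ᵥ x) h
    simpa only [Matrix.toLin'_apply, gl_inv_mulVec] using this
  have hmap : ∀ j, (C.member v j).map (Matrix.toLin' (g : Matrix ι ι F)) = C.member v (π j) := by
    intro j
    refine Submodule.eq_of_le_of_finrank_le ?_ (le_of_eq ?_)
    · rintro _ ⟨_, ⟨x, rfl⟩, rfl⟩
      obtain ⟨k, hk⟩ := Submodule.mem_span_singleton.1 (hπ j)
      rw [Matrix.toLin'_apply]
      show (g : Matrix ι ι F) *ᵥ T x (v j) ∈ _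
      rw [hg, ← hk, C.Tsmul₂]
      exact Submodule.smul_mem _ _ (C.mem_member _)
    · rw [hD.decomp.finrank_eq, ← (Submodule.equivMapOfInjective _ hinj _).finrank_eq, hD.decomp.finrank_eq]
  have hπi : Function.Injective π := by
    intro i j hij
    by_contra hne
    have h := Submodule.map_injective_of_injective hinj ((hmap i).trans ((congrArg _ hij).trans (hmap j).symm))
    have h1 := hD.decomp.indep.pairwiseDisjoint hne
    simp only [Function.onFun] at h1
    rw [h, disjoint_self] at h1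
    have h2 := hD.decomp.finrank_eq j
    rw [h1, finrank_bot] at h2
    exact hD.decomp.pos.ne h2
  exact ⟨Equiv.ofBijective π (Finite.injective_iff_bijective.1 hπi), hmap⟩

theorem Ctx.similitude (C : Ctx f f₁ f₂ T) (hr : 0 < r) (hs : 0 < s) {g : GL ι F} {a : GL (Fin r) F} {b : GL (Fin s) F}
    (hiso : ∀ u w, f ((g : Matrix ι ι F) *ᵥ u) ((g : Matrix ι ι F) *ᵥ w) = f u w)
    (hg : ∀ x y, (g : Matrix ι ι F) *ᵥ T x y = T ((a : Matrix (Fin r) (Fin r) F) *ᵥ x) ((b : Matrix (Fin s) (Fin s) F) *ᵥ y)) :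
    ∃ l : F, l ≠ 0 ∧ ∀ y y', f₂ ((b : Matrix (Fin s) (Fin s) F) *ᵥ y) ((b : Matrix (Fin s) (Fin s) F) *ᵥ y') = l * f₂ y y' := by
  obtain ⟨c, hc, hform⟩ := C.form
  obtain ⟨x, x', hx⟩ := C.exists_pair₁ hr
  obtain ⟨z, z', hz⟩ := C.swap.exists_pair₁ hs
  have key : ∀ y y', f₁ ((a : Matrix (Fin r) (Fin r) F) *ᵥ x) ((a : Matrix (Fin r) (Fin r) F) *ᵥ x') *
      f₂ ((b : Matrix (Fin s) (Fin s) F) *ᵥ y) ((b : Matrix (Fin s) (Fin s) F) *ᵥ y') = f₁ x x' * f₂ y y' := fun y y' => by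
    have := hiso (T x y) (T x' y')
    rw [hg, hg, hform, hform] at this
    exact mul_left_cancel₀ hc this
  have ha : f₁ ((a : Matrix (Fin r) (Fin r) F) *ᵥ x) ((a : Matrix (Fin r) (Fin r) F) *ᵥ x') ≠ 0 := fun h => by
    have := key z z'
    rw [h, zero_mul] at this
    exact mul_ne_zero hx hz this.symm
  refine ⟨_, div_ne_zero hx ha, fun y y' => ?_⟩
  rw [div_mul_eq_mul_div, eq_div_iff ha, mul_comm, key]

theorem Ctx.scalar_of_fix (C : Ctx f f₁ f₂ T) (hr : 0 < r) (horth : ∀ i j, i ≠ j → f₂ (v i) (v j) = 0)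
    (hval : ∀ i, f₂ (v i) (v i) ≠ 0) (hspan : ∀ y, y ∈ Submodule.span F (Set.range v))
    {g : GL ι F} {a : GL (Fin r) F} {b : GL (Fin s) F}
    (hg : ∀ x y, (g : Matrix ι ι F) *ᵥ T x y = T ((a : Matrix (Fin r) (Fin r) F) *ᵥ x) ((b : Matrix (Fin s) (Fin s) F) *ᵥ y))
    {i j : Fin s} (hfix : ∀ z ∈ C.member v j, (g : Matrix ι ι F) *ᵥ z = z)
    (hinv : ∀ z ∈ C.member v i, (g : Matrix ι ι F) *ᵥ z ∈ C.member v i) :
    ∃ l : F, ∀ z ∈ C.member v i, (g : Matrix ι ι F) *ᵥ z = l • z := by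
  obtain ⟨c, hc, hform⟩ := C.form
  obtain ⟨x₀, x₀', hx₀⟩ := C.exists_pair₁ hr
  obtain ⟨β, hβ⟩ : ∃ β, β = f₂ ((b : Matrix (Fin s) (Fin s) F) *ᵥ v j) (v j) := ⟨_, rfl⟩
  have key : ∀ x x', f₁ x x' * f₂ (v j) (v j) = f₁ ((a : Matrix (Fin r) (Fin r) F) *ᵥ x) x' * β := fun x x' => by
    have h := hform x (v j) x' (v j)
    conv_lhs at h => rw [← hfix _ (C.mem_member x)]
    rw [hg, hform, ← hβ] at h
    exact (mul_left_cancel₀ hc h).symm
  have hβ0 : β ≠ 0 := fun h => by
    have := key x₀ x₀'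
    rw [h, mul_zero] at this
    exact mul_ne_zero hx₀ (hval j) this
  obtain ⟨μ, hμ⟩ : ∃ μ, μ = f₂ (v j) (v j) / β := ⟨_, rfl⟩
  have ha : ∀ x, (a : Matrix (Fin r) (Fin r) F) *ᵥ x = μ • x := by
    intro x
    rw [← sub_eq_zero]
    by_contra hne
    obtain ⟨x', hx'⟩ := (C.nd₁ _ hne).2
    refine hx' ?_
    have hz := C.add₁ ((a : Matrix (Fin r) (Fin r) F) *ᵥ x - μ • x) (μ • x) x'
    rw [sub_add_cancel, C.smul₁, hμ, div_mul_eq_mul_div, mul_comm (f₂ (v j) (v j)), key, mul_div_cancel_right₀ _ hβ0] at hz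
    rw [hμ]
    linear_combination -hz
  obtain ⟨w, hw⟩ : ∃ w, w = μ • ((b : Matrix (Fin s) (Fin s) F) *ᵥ v i) := ⟨_, rfl⟩
  have hgi : ∀ x, (g : Matrix ι ι F) *ᵥ T x (v i) = T x w := fun x => by rw [hg, ha, C.Tsmul₁, ← C.Tsmul₂, hw]
  obtain ⟨α, hα⟩ := (Submodule.mem_span_range_iff_exists_fun F).1 (hspan w)
  have hz : ∀ k, k ≠ i → α k = 0 := by
    intro k hk
    obtain ⟨y, hy⟩ := hinv _ (C.mem_member x₀)
    have h1 : f (T x₀ w) (T x₀' (v k)) = 0 := by
      rw [← hgi, ← hy]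
      show f (T y (v i)) (T x₀' (v k)) = 0
      rw [hform, horth i k (Ne.symm hk), mul_zero, mul_zero]
    rw [hform, ← hα, C.frame_coef horth] at h1
    simp only [mul_eq_zero, hc, hx₀, hval k, false_or, or_false] at h1
    exact h1
  refine ⟨α i, ?_⟩
  rintro _ ⟨x, rfl⟩
  show (g : Matrix ι ι F) *ᵥ T x (v i) = α i • T x (v i)
  rw [hgi, ← C.Tsmul₂, ← hα, Finset.sum_eq_single i (fun k _ hk => by rw [hz k hk, zero_smul])
    (fun h => absurd (Finset.mem_univ i) h)]

/-! ### frames of three-dimensional forms over the field with three elements -/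

theorem three_cases' [Fintype F] (hq : Fintype.card F = 3) (x : F) : x = 0 ∨ x = 1 ∨ x = -1 := by
  rcases eq_or_ne x 0 with h | h
  · exact Or.inl h
  · have := FiniteField.pow_card_sub_one_eq_one x h
    rw [hq] at this
    have h' : (x - 1) * (x + 1) = 0 := by linear_combination this
    rcases mul_eq_zero.1 h' with h1 | h1
    · exact Or.inr (Or.inl (sub_eq_zero.1 h1))
    · exact Or.inr (Or.inr (eq_neg_of_add_eq_zero_left h1))

theorem exists_frame_three [Fintype F] (hq : Fintype.card F = 3) {g₂ : (Fin 3 → F) → (Fin 3 → F) → F}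
    (hg : IsSymmetricForm g₂) : ∃ (v : Fin 3 → Fin 3 → F) (γ : F), γ ≠ 0 ∧
      (∀ i j, g₂ (v i) (v j) = if i = j then γ else 0) ∧ (∀ y, y ∈ Submodule.span F (Set.range v)) ∧
      ∀ b : GL (Fin 3) F, ∀ l : F, l ≠ 0 →
        (∀ y y', g₂ ((b : Matrix (Fin 3) (Fin 3) F) *ᵥ y) ((b : Matrix (Fin 3) (Fin 3) F) *ᵥ y') = l * g₂ y y') →
        ∀ j, ∃ k, (b : Matrix (Fin 3) (Fin 3) F) *ᵥ v j ∈ Submodule.span F {v k} := by
  classical
  have h3 : (3 : F) = 0 := by
    have := FiniteField.cast_card_eq_zero F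
    rw [hq] at this
    exact_mod_cast this
  have h2 : (2 : F) ≠ 0 := fun h => one_ne_zero (show (1 : F) = 0 by linear_combination h3 - h)
  haveI : Invertible (2 : F) := invertibleOfNonzero h2
  let B : LinearMap.BilinForm F (Fin 3 → F) :=
    LinearMap.mk₂ F g₂ hg.bilinear.add_left hg.bilinear.smul_left hg.bilinear.add_right hg.bilinear.smul_right
  obtain ⟨w₀, hw₀⟩ := LinearMap.BilinForm.exists_orthogonal_basis (B := B) ⟨fun x y => hg.symm x y⟩
  let w := w₀.reindex (finCongr (Module.finrank_fin_fun F))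
  have hwo : ∀ i j, i ≠ j → g₂ (w i) (w j) = 0 := fun i j hij => by
    simp only [w, Module.Basis.reindex_apply]
    exact hw₀ fun h => hij ((finCongr (Module.finrank_fin_fun F)).symm.injective h)
  have hwd : ∀ i, g₂ (w i) (w i) ≠ 0 := by
    intro i h
    obtain ⟨z, hz⟩ := (hg.nondegenerate (w i) (w.ne_zero i)).2
    refine hz ?_
    show B (w i) z = 0
    rw [← w.sum_repr z, map_sum]
    refine Finset.sum_eq_zero fun j _ => ?_
    rw [map_smul, smul_eq_mul]
    rcases eq_or_ne i j with rfl | hij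
    · exact mul_eq_zero_of_right _ h
    · exact mul_eq_zero_of_right _ (hwo i j hij)
  -- make the three values equal
  obtain ⟨v, γ, hγ, hv⟩ : ∃ (v : Fin 3 → Fin 3 → F) (γ : F), γ ≠ 0 ∧ ∀ i j, g₂ (v i) (v j) = if i = j then γ else 0 := by
    have hpair : ∀ a b c : Fin 3, a ≠ b → a ≠ c → b ≠ c → g₂ (w a) (w a) = g₂ (w b) (w b) →
        g₂ (w c) (w c) = -g₂ (w a) (w a) →
        ∃ (v : Fin 3 → Fin 3 → F) (γ : F), γ ≠ 0 ∧ ∀ i j, g₂ (v i) (v j) = if i = j then γ else 0 := by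
      intro a b c hab hac hbc h1 h2'
      refine ⟨![w a + w b, w a - w b, w c], -g₂ (w a) (w a), neg_ne_zero.2 (hwd a), fun i j => ?_⟩
      have hnl : ∀ x y : Fin 3 → F, g₂ (-x) y = -g₂ x y := fun x y => by
        rw [← neg_one_smul F x, hg.bilinear.smul_left, neg_one_mul]
      have hnr : ∀ x y : Fin 3 → F, g₂ y (-x) = -g₂ y x := fun x y => by
        rw [← neg_one_smul F x, hg.bilinear.smul_right, neg_one_mul]
      fin_cases i <;> fin_cases j <;>
        simp [sub_eq_add_neg, hnl, hnr, hg.bilinear.add_left, hg.bilinear.add_right,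
          hwo a b hab, hwo b a hab.symm, hwo a c hac, hwo c a hac.symm, hwo b c hbc, hwo c b hbc.symm, ← h1, h2'] <;>
        linear_combination (g₂ (w a) (w a)) * h3
    have hall : g₂ (w 0) (w 0) = g₂ (w 1) (w 1) → g₂ (w 0) (w 0) = g₂ (w 2) (w 2) →
        ∃ (v : Fin 3 → Fin 3 → F) (γ : F), γ ≠ 0 ∧ ∀ i j, g₂ (v i) (v j) = if i = j then γ else 0 := fun e1 e2 =>
      ⟨w, g₂ (w 0) (w 0), hwd 0, fun i j => by
        rcases eq_or_ne i j with rfl | hij
        · rw [if_pos rfl]; fin_cases i <;> simp [← e1, ← e2]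
        · rw [if_neg hij]; exact hwo i j hij⟩
    have hopp : ∀ p q : F, (p = 1 ∧ q = -1) ∨ (p = -1 ∧ q = 1) → q = -p := fun p q h => by
      rcases h with ⟨rfl, rfl⟩ | ⟨rfl, rfl⟩
      · rfl
      · rw [neg_neg]
    rcases three_cases' hq (g₂ (w 0) (w 0)) with a0 | a0 | a0
    · exact absurd a0 (hwd 0)
    all_goals rcases three_cases' hq (g₂ (w 1) (w 1)) with a1 | a1 | a1
    all_goals first | exact absurd a1 (hwd 1) | skip
    all_goals rcases three_cases' hq (g₂ (w 2) (w 2)) with a2 | a2 | a2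
    all_goals first | exact absurd a2 (hwd 2) | skip
    all_goals first
      | exact hall (a0.trans a1.symm) (a0.trans a2.symm)
      | exact hpair 0 1 2 (by decide) (by decide) (by decide) (a0.trans a1.symm) (hopp _ _ (Or.inl ⟨a0, a2⟩))
      | exact hpair 0 1 2 (by decide) (by decide) (by decide) (a0.trans a1.symm) (hopp _ _ (Or.inr ⟨a0, a2⟩))
      | exact hpair 0 2 1 (by decide) (by decide) (by decide) (a0.trans a2.symm) (hopp _ _ (Or.inl ⟨a0, a1⟩))
      | exact hpair 0 2 1 (by decide) (by decide) (by decide) (a0.trans a2.symm) (hopp _ _ (Or.inr ⟨a0, a1⟩))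
      | exact hpair 1 2 0 (by decide) (by decide) (by decide) (a1.trans a2.symm) (hopp _ _ (Or.inl ⟨a1, a0⟩))
      | exact hpair 1 2 0 (by decide) (by decide) (by decide) (a1.trans a2.symm) (hopp _ _ (Or.inr ⟨a1, a0⟩))
  have hcoef : ∀ (α : Fin 3 → F) k, g₂ (∑ i, α i • v i) (v k) = α k * γ := fun α k => by
    show B (∑ i, α i • v i) (v k) = _
    rw [map_sum, LinearMap.sum_apply, Finset.sum_eq_single k]
    · rw [map_smul, LinearMap.smul_apply, show B (v k) (v k) = g₂ (v k) (v k) from rfl, hv, if_pos rfl, smul_eq_mul]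
    · intro i _ hi
      rw [map_smul, LinearMap.smul_apply, show B (v i) (v k) = g₂ (v i) (v k) from rfl, hv, if_neg hi, smul_zero]
    · exact fun h => absurd (Finset.mem_univ k) h
  have hind : LinearIndependent F v := Fintype.linearIndependent_iff.2 fun α hα i => by
    have h := hcoef α i
    rw [hα, show g₂ 0 (v i) = B 0 (v i) from rfl, map_zero, LinearMap.zero_apply] at h
    exact (mul_eq_zero.1 h.symm).resolve_right hγ
  have hspan : ∀ y, y ∈ Submodule.span F (Set.range v) := fun y => by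
    rw [hind.span_eq_top_of_card_eq_finrank (by simp)]
    exact Submodule.mem_top
  refine ⟨v, γ, hγ, hv, hspan, fun b l hl hb j => ?_⟩
  choose M hM using fun i => (Submodule.mem_span_range_iff_exists_fun F).1 (hspan ((b : Matrix (Fin 3) (Fin 3) F) *ᵥ v i))
  have hMM : ∀ i i', ∑ k, M i k * M i' k = l * if i = i' then 1 else 0 := by
    intro i i'
    have h := hb (v i) (v i')
    rw [hv, ← hM i, ← hM i', show g₂ (∑ k, M i k • v k) (∑ k, M i' k • v k) = B (∑ k, M i k • v k) (∑ k, M i' k • v k) from rfl,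
      map_sum (B _)] at h
    rw [Finset.sum_congr rfl fun k _ => show B (∑ k, M i k • v k) (M i' k • v k) = M i' k * (M i k * γ) by
      rw [map_smul, smul_eq_mul]; congr 1; exact hcoef (M i) k] at h
    refine mul_right_cancel₀ hγ ?_
    rw [Finset.sum_mul, Finset.sum_congr rfl fun k _ => show M i k * M i' k * γ = M i' k * (M i k * γ) by ring, h]
    split_ifs <;> ring
  have hl1 : l = 1 := by
    have hmul : Matrix.of M * (Matrix.of M).transpose = l • (1 : Matrix (Fin 3) (Fin 3) F) := by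
      ext i i'
      rw [Matrix.mul_apply, Matrix.smul_apply, Matrix.one_apply, smul_eq_mul]
      exact hMM i i'
    have hd := congrArg Matrix.det hmul
    rw [Matrix.det_mul, Matrix.det_transpose, Matrix.det_smul, Matrix.det_one, mul_one, Fintype.card_fin] at hd
    rcases three_cases' hq l with h | h | h
    · exact absurd h hl
    · exact h
    · exfalso
      subst h
      rcases three_cases' hq (Matrix.of M).det with h' | h' | h' <;> rw [h'] at hd <;>
        first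
          | exact one_ne_zero (show (1 : F) = 0 by linear_combination hd)
          | exact h2 (by linear_combination hd)
  have h1 := hMM j j
  rw [if_pos rfl, hl1, one_mul, Fin.sum_univ_three] at h1
  have hsq : ∀ x : F, x = 0 ∨ x * x = 1 := fun x => by
    rcases three_cases' hq x with h | h | h
    · exact Or.inl h
    · exact Or.inr (by rw [h, one_mul])
    · exact Or.inr (by rw [h]; ring)
  rw [← hM j, Fin.sum_univ_three]
  rcases hsq (M j 0) with a0 | a0 <;> rcases hsq (M j 1) with a1 | a1 <;> rcases hsq (M j 2) with a2 | a2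
  · exact ⟨0, by simp [a0, a1, a2]⟩
  · exact ⟨2, by simp [a0, a1, Submodule.smul_mem]⟩
  · exact ⟨1, by simp [a0, a2, Submodule.smul_mem]⟩
  · exfalso; rw [a0, a1, a2] at h1; exact one_ne_zero (show (1 : F) = 0 by linear_combination h1)
  · exact ⟨0, by simp [a1, a2, Submodule.smul_mem]⟩
  · exfalso; rw [a1, a0, a2] at h1; exact one_ne_zero (show (1 : F) = 0 by linear_combination h1)
  · exfalso; rw [a2, a0, a1] at h1; exact one_ne_zero (show (1 : F) = 0 by linear_combination h1)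
  · exfalso; rw [a0, a1, a2] at h1; exact one_ne_zero (show (1 : F) = 0 by linear_combination h3 - h1)

end CfsgLib.Perm.Trans.TensorFrame
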