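import Cfsg.Agent.Lib.Perm.Trans.QuadMax
import Cfsg.Agent.Lib.Perm.Asch.Forms.O

/-!
# The standard orthogonal form in odd dimension as a nondegenerate quadratic form
-/

set_option autoImplicit false
set_option linter.all false

namespace CfsgLib.Perm.Trans.Quad

open scoped Matrix
open Matrix Cfsg.Geo CfsgLib.Perm.Asch

theorem quadFormOdd_nd {F : Type*} [Field F] {m : ℕ} (h2 : (2 : F) ≠ 0) :
    IsNondegenerateQuadraticForm (Cfsg.quadFormOdd m F) := by
  refine ⟨fun c v => ?_, oPolar_bilinear, fun v hv => ?_⟩
  · simp only [Cfsg.quadFormOdd, Pi.smul_apply, smul_eq_mul, mul_add, Finset.mul_sum]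
    congr 1
    · ring
    · exact Finset.sum_congr rfl fun x _ => by ring
  · have key : ∃ x, QuadraticMap.polar (Cfsg.quadFormOdd m F) x v ≠ 0 := by
      by_contra hcon
      push Not at hcon
      refine hv (funext fun a => ?_)
      rcases a with a | i | i
      · have := hcon (Pi.single (Sum.inl ()) 1)
        rw [oPolar_apply] at this
        simp [Pi.single_apply, h2] at this
        exact this
      · have := hcon (Pi.single (Sum.inr (Sum.inr i)) 1)
        rw [oPolar_apply] at this
        simpa [Pi.single_apply] using this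
      · have := hcon (Pi.single (Sum.inr (Sum.inl i)) 1)
        rw [oPolar_apply] at this
        simpa [Pi.single_apply] using this
    obtain ⟨x, hx⟩ := key
    exact ⟨⟨x, hx⟩, x, by rwa [QuadraticMap.polar_comm]⟩

theorem quadFormPlus_nd {F : Type*} [Field F] {m : ℕ} : IsNondegenerateQuadraticForm (Cfsg.quadFormPlus m F) := by
  have hp : ∀ u v : Fin m ⊕ Fin m → F, QuadraticMap.polar (Cfsg.quadFormPlus m F) u v =
      ∑ i, (u (.inl i) * v (.inr i) + v (.inl i) * u (.inr i)) := fun u v => by
    simp only [QuadraticMap.polar, Cfsg.quadFormPlus, ← Finset.sum_sub_distrib, Pi.add_apply]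
    exact Finset.sum_congr rfl fun i _ => by ring
  refine ⟨fun c v => ?_, ?_, fun v hv => ?_⟩
  · simp only [Cfsg.quadFormPlus, Pi.smul_apply, smul_eq_mul, Finset.mul_sum]
    exact Finset.sum_congr rfl fun i _ => by ring
  · constructor <;> intros <;>
      simp only [hp, Pi.add_apply, Pi.smul_apply, smul_eq_mul, ← Finset.sum_add_distrib, Finset.mul_sum] <;>
      exact Finset.sum_congr rfl fun i _ => by ring
  · have key : ∃ x, QuadraticMap.polar (Cfsg.quadFormPlus m F) x v ≠ 0 := by
      by_contra hcon
      push Not at hcon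
      refine hv (funext fun a => ?_)
      rcases a with i | i
      · have := hcon (Pi.single (Sum.inr i) 1)
        rw [hp] at this
        simpa [Pi.single_apply] using this
      · have := hcon (Pi.single (Sum.inl i) 1)
        rw [hp] at this
        simpa [Pi.single_apply] using this
    obtain ⟨x, hx⟩ := key
    exact ⟨⟨x, hx⟩, x, by rwa [QuadraticMap.polar_comm]⟩

theorem quadFormMinus_nd {F : Type*} [Field F] [Fintype F] {m : ℕ} (a b : F)
    (hab : ∀ z₁ z₂ : F, z₁ ^ 2 + a * z₁ * z₂ + b * z₂ ^ 2 = 0 → z₁ = 0 ∧ z₂ = 0) :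
    IsNondegenerateQuadraticForm (Cfsg.quadFormMinus m F a b) := by
  have hp : ∀ u v : (Fin m ⊕ Fin m) ⊕ Fin 2 → F, QuadraticMap.polar (Cfsg.quadFormMinus m F a b) u v =
      (∑ i, (u (.inl (.inl i)) * v (.inl (.inr i)) + v (.inl (.inl i)) * u (.inl (.inr i)))) +
        (2 * (u (.inr 0) * v (.inr 0)) + a * (u (.inr 0) * v (.inr 1) + v (.inr 0) * u (.inr 1)) +
          2 * b * (u (.inr 1) * v (.inr 1))) := fun u v => by
    simp only [QuadraticMap.polar, Cfsg.quadFormMinus, Pi.add_apply, add_mul, mul_add, Finset.sum_add_distrib]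
    ring
  refine ⟨fun c v => ?_, ?_, fun v hv => ?_⟩
  · simp only [Cfsg.quadFormMinus, Pi.smul_apply, smul_eq_mul, mul_add, Finset.mul_sum]
    refine congrArg₂ (· + ·) (Finset.sum_congr rfl fun i _ => by ring) (by ring)
  · constructor <;> intros <;>
      simp only [hp, Pi.add_apply, Pi.smul_apply, smul_eq_mul, add_mul, mul_add, Finset.sum_add_distrib,
        Finset.mul_sum, mul_assoc, mul_left_comm] <;>
      ring
  · have key : ∃ x, QuadraticMap.polar (Cfsg.quadFormMinus m F a b) x v ≠ 0 := by
      by_contra hcon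
      push Not at hcon
      have h0 := hcon (Pi.single (Sum.inr 0) 1)
      have h1 := hcon (Pi.single (Sum.inr 1) 1)
      rw [hp] at h0 h1
      simp [Pi.single_apply] at h0 h1
      have hz : v (.inr 0) = 0 ∧ v (.inr 1) = 0 := by
        by_cases h2 : (2 : F) = 0
        · rw [h2] at h0 h1
          simp at h0 h1
          rcases eq_or_ne a 0 with ha | ha
          · exfalso
            haveI : CharP F 2 := CharTwo.of_one_ne_zero_of_two_eq_zero one_ne_zero h2
            obtain ⟨c, hc⟩ := FiniteField.isSquare_of_char_two (ringChar.eq F 2) b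
            refine one_ne_zero (hab c 1 ?_).2
            rw [ha, hc]
            linear_combination (c * c) * h2
          · exact ⟨h1.resolve_left ha, h0.resolve_left ha⟩
        · refine hab _ _ (mul_left_cancel₀ h2 ?_)
          linear_combination v (.inr 0) * h0 + v (.inr 1) * h1
      refine hv (funext fun x => ?_)
      rcases x with (i | i) | i
      · have := hcon (Pi.single (Sum.inl (Sum.inr i)) 1)
        rw [hp] at this
        simpa [Pi.single_apply] using this
      · have := hcon (Pi.single (Sum.inl (Sum.inl i)) 1)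
        rw [hp] at this
        simpa [Pi.single_apply] using this
      · fin_cases i
        · exact hz.1
        · exact hz.2
    obtain ⟨x, hx⟩ := key
    exact ⟨⟨x, hx⟩, x, by rwa [QuadraticMap.polar_comm]⟩

end CfsgLib.Perm.Trans.Quad
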