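import Mathlib

/-!
# Witt extension for quadratic forms with nondegenerate polar form
-/

set_option autoImplicit false
set_option linter.all false

namespace CfsgLib.Perm.Trans.Witt

variable {F V : Type*} [Field F] [AddCommGroup V] [Module F V]

local notation "pol" => QuadraticMap.polar

section

variable (Q : QuadraticForm F V)

theorem qadd (x y : V) : Q (x + y) = Q x + Q y + pol Q x y := by
  rw [QuadraticMap.polar]
  abel

theorem qsmul (c : F) (x : V) : Q (c • x) = c ^ 2 * Q x := by rw [QuadraticMap.map_smul, smul_eq_mul, sq]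

theorem psmul_left (c : F) (x y : V) : pol Q (c • x) y = c * pol Q x y := QuadraticMap.polar_smul_left Q c x y

theorem psmul_right (c : F) (x y : V) : pol Q x (c • y) = c * pol Q x y := QuadraticMap.polar_smul_right Q c x y

theorem pself (x : V) : pol Q x x = 2 * Q x := by
  rw [QuadraticMap.polar, show x + x = (2 : F) • x from (two_smul F x).symm, qsmul]
  ring

theorem pcomm (x y : V) : pol Q x y = pol Q y x := QuadraticMap.polar_comm Q x y

theorem qsub (x y : V) : Q (x - y) = Q x + Q y - pol Q x y := by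
  rw [sub_eq_add_neg, qadd, QuadraticMap.map_neg, QuadraticMap.polar_neg_right, sub_eq_add_neg]

/-- a linear automorphism from a rank two modification -/
theorem exists_equiv [FiniteDimensional F V] (T : V →ₗ[F] V) (hT : ∀ v, Q (T v) = Q v)
    (hQ : (QuadraticMap.polarBilin Q).Nondegenerate) :
    ∃ g : V ≃ₗ[F] V, (∀ v, Q (g v) = Q v) ∧ ∀ v, g v = T v := by
  have hinj : Function.Injective T := by
    refine (injective_iff_map_eq_zero T).2 fun v hv => hQ.1 v fun w => ?_
    show pol Q v w = 0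
    rw [QuadraticMap.polar, ← hT (v + w), ← hT v, ← hT w, map_add, hv, zero_add, QuadraticMap.map_zero, sub_zero,
      sub_self]
  exact ⟨LinearEquiv.ofInjectiveEndo T hinj, fun v => by rw [LinearEquiv.coe_ofInjectiveEndo]; exact hT v,
    fun v => by rw [LinearEquiv.coe_ofInjectiveEndo]⟩

end

variable {Q : QuadraticForm F V}

/-- a vector orthogonal to `W` pairing with `z` -/
theorem exists_perp_ne [FiniteDimensional F V] (hQ : (QuadraticMap.polarBilin Q).Nondegenerate) {W : Submodule F V}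
    {z : V} (hz : z ∉ W) : ∃ p, (∀ w ∈ W, pol Q p w = 0) ∧ pol Q z p = 1 := by
  obtain ⟨f, hfz, hfW⟩ := Submodule.exists_dual_map_eq_bot_of_notMem hz inferInstance
  refine ⟨(LinearMap.BilinForm.toDual _ hQ).symm ((f z)⁻¹ • f), fun w hw => ?_, ?_⟩
  · refine (LinearMap.BilinForm.apply_toDual_symm_apply (hB := hQ) ((f z)⁻¹ • f) w).trans ?_
    have h1 : f w = 0 := by
      have : f w ∈ W.map f := Submodule.mem_map_of_mem hw
      rwa [hfW, Submodule.mem_bot] at this
    simp [h1]
  · rw [pcomm]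
    refine (LinearMap.BilinForm.apply_toDual_symm_apply (hB := hQ) ((f z)⁻¹ • f) z).trans ?_
    simp [hfz]

/-- one step of the extension -/
theorem exists_step [FiniteDimensional F V] (hQ : (QuadraticMap.polarBilin Q).Nondegenerate) {W : Submodule F V}
    {x y : V} (hxW : x ∉ W) (hyW : y ∉ W) (hq : Q y = Q x) (hB : ∀ w ∈ W, pol Q y w = pol Q x w) :
    ∃ g : V ≃ₗ[F] V, (∀ v, Q (g v) = Q v) ∧ (∀ w ∈ W, g w = w) ∧ g x = y := by
  obtain ⟨d, hd⟩ : ∃ d, d = x - y := ⟨_, rfl⟩
  have hdW : ∀ w ∈ W, pol Q d w = 0 := fun w hw => by rw [hd, QuadraticMap.polar_sub_left, hB w hw, sub_self]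
  by_cases hQd : Q d = 0
  swap
  · -- reflection along `d`
    obtain ⟨T, hT⟩ : ∃ T, T = LinearMap.id - ((QuadraticMap.polarBilin Q) d).smulRight ((Q d)⁻¹ • d) := ⟨_, rfl⟩
    have happ : ∀ v, T v = v - ((Q d)⁻¹ * pol Q d v) • d := fun v => by
      rw [hT]
      show v - pol Q d v • (Q d)⁻¹ • d = _
      rw [smul_smul, mul_comm]
    obtain ⟨g, hg, hgT⟩ := exists_equiv Q T (fun v => by
      rw [happ, qsub, qsmul, psmul_right, pcomm Q v d]
      field_simp
      ring) hQ
    refine ⟨g, hg, fun w hw => by rw [hgT, happ, hdW w hw, mul_zero, zero_smul, sub_zero], ?_⟩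
    have h1 : pol Q d x = Q d := by
      rw [hd, QuadraticMap.polar_sub_left, pself, qsub, hq, pcomm Q y x]
      ring
    rw [hgT, happ, h1, inv_mul_cancel₀ hQd, one_smul, hd, sub_sub_cancel]
  have hdx : pol Q x d = 0 := by
    have h1 := qsub Q x y
    rw [← hd, hQd, hq] at h1
    rw [hd, QuadraticMap.polar_sub_right, pself]
    linear_combination -h1
  by_cases hx : x ∈ W ⊔ Submodule.span F {d}
  · -- rescale a hyperbolic pair
    obtain ⟨x', hx', z, hz, hxz⟩ := Submodule.mem_sup.1 hx
    obtain ⟨t, rfl⟩ := Submodule.mem_span_singleton.1 hz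
    have ht : t ≠ 0 := fun h => hxW (by rw [← hxz, h, zero_smul, add_zero]; exact hx')
    have hy : y = x' + (t - 1) • d := by
      rw [show y = x - d by rw [hd, sub_sub_cancel], ← hxz]
      module
    have ht1 : t - 1 ≠ 0 := fun h => hyW (by rw [hy, h, zero_smul, add_zero]; exact hx')
    have hdW' : d ∉ W := fun h => hxW (hxz ▸ W.add_mem hx' (W.smul_mem _ h))
    obtain ⟨p, hp, hdp⟩ := exists_perp_ne hQ hdW'
    obtain ⟨e, he⟩ : ∃ e, e = p - Q p • d := ⟨_, rfl⟩
    have heW : ∀ w ∈ W, pol Q e w = 0 := fun w hw => by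
      rw [he, QuadraticMap.polar_sub_left, psmul_left, hp w hw, hdW w hw]
      ring
    have hQe : Q e = 0 := by
      rw [he, qsub, qsmul, hQd, psmul_right, pcomm Q p d, hdp]
      ring
    have hde : pol Q d e = 1 := by
      rw [he, QuadraticMap.polar_sub_right, psmul_right, hdp, pself, hQd]
      ring
    obtain ⟨μ, hμ⟩ : ∃ μ, μ = (t - 1) / t := ⟨_, rfl⟩
    have hμ0 : μ ≠ 0 := hμ ▸ div_ne_zero ht1 ht
    obtain ⟨T, hT⟩ : ∃ T, T = LinearMap.id + ((QuadraticMap.polarBilin Q) e).smulRight ((μ - 1) • d) +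
        ((QuadraticMap.polarBilin Q) d).smulRight ((μ⁻¹ - 1) • e) := ⟨_, rfl⟩
    have happ : ∀ v, T v = v + ((μ - 1) * pol Q e v) • d + ((μ⁻¹ - 1) * pol Q d v) • e := fun v => by
      rw [hT]
      show v + pol Q e v • (μ - 1) • d + pol Q d v • (μ⁻¹ - 1) • e = _
      rw [smul_smul, smul_smul, mul_comm (pol Q e v), mul_comm (pol Q d v)]
    obtain ⟨g, hg, hgT⟩ := exists_equiv Q T (fun v => by
      rw [happ, qadd, qadd, qsmul, qsmul, hQd, hQe, QuadraticMap.polar_add_left, psmul_left, psmul_right,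
        psmul_right, psmul_right, hde, pcomm Q v d, pcomm Q v e]
      field_simp
      ring) hQ
    have hgW : ∀ w ∈ W, g w = w := fun w hw => by
      rw [hgT, happ, heW w hw, hdW w hw, mul_zero, mul_zero, zero_smul, zero_smul, add_zero, add_zero]
    refine ⟨g, hg, hgW, ?_⟩
    rw [← hxz, map_add, hgW x' hx', map_smul, hgT, happ, pself, hQd, pcomm Q e d, hde, hy, hμ]
    match_scalars <;> field_simp <;> ring
  · -- Eichler transformation along `d`
    obtain ⟨a, ha, hxa⟩ := exists_perp_ne hQ hx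
    have had : pol Q a d = 0 := ha d (Submodule.mem_sup_right (Submodule.mem_span_singleton_self d))
    obtain ⟨T, hT⟩ : ∃ T, T = LinearMap.id + ((QuadraticMap.polarBilin Q) d).smulRight (a - Q a • d) -
        ((QuadraticMap.polarBilin Q) a).smulRight d := ⟨_, rfl⟩
    have happ : ∀ v, T v = v + pol Q d v • (a - Q a • d) - pol Q a v • d := fun v => by
      rw [hT]
      rfl
    obtain ⟨g, hg, hgT⟩ := exists_equiv Q T (fun v => by
      rw [happ, qsub, qadd, qsmul, qsmul, qsub, qsmul, hQd, QuadraticMap.polar_add_left]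
      simp only [psmul_left, psmul_right, QuadraticMap.polar_sub_left, QuadraticMap.polar_sub_right, pself, hQd,
        had, pcomm Q v d, pcomm Q v a]
      ring) hQ
    refine ⟨g, hg, fun w hw => ?_, ?_⟩
    · rw [hgT, happ, hdW w hw, ha w (Submodule.mem_sup_left hw), zero_smul, zero_smul, add_zero, sub_zero]
    · rw [hgT, happ, pcomm Q d x, hdx, pcomm Q a x, hxa, zero_smul, add_zero, one_smul, hd, sub_sub_cancel]

/-- Witt's extension theorem -/
theorem witt_extension [FiniteDimensional F V] (hQ : (QuadraticMap.polarBilin Q).Nondegenerate) (X : Submodule F V)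
    (φ : X →ₗ[F] V) (hinj : Function.Injective φ) (hφ : ∀ x : X, Q (φ x) = Q (x : V)) :
    ∃ g : V ≃ₗ[F] V, (∀ v : V, Q (g v) = Q v) ∧ ∀ x : X, g (x : V) = φ x := by
  classical
  let b := Module.finBasis F X
  suffices h : ∀ s : Finset (Fin (Module.finrank F X)), ∃ g : V ≃ₗ[F] V, (∀ v : V, Q (g v) = Q v) ∧
      ∀ i ∈ s, g (b i : V) = φ (b i) by
    obtain ⟨g, hg, hgb⟩ := h Finset.univ
    exact ⟨g, hg, fun x => LinearMap.congr_fun (b.ext (f₁ := g.toLinearMap.comp X.subtype) (f₂ := φ)
      fun i => hgb i (Finset.mem_univ i)) x⟩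
  intro s
  induction s using Finset.induction with
  | empty => exact ⟨LinearEquiv.refl F V, fun v => rfl, fun i hi => absurd hi (Finset.notMem_empty i)⟩
  | insert i s his ih =>
    obtain ⟨g, hg, hgs⟩ := ih
    obtain ⟨S, hS⟩ : ∃ S, S = Submodule.span F (b '' (s : Set (Fin (Module.finrank F X)))) := ⟨_, rfl⟩
    have hgS : ∀ z ∈ S, g (z : V) = φ z := fun z hz => by
      have : Set.EqOn (g.toLinearMap.comp X.subtype) φ (b '' (s : Set _)) := by
        rintro _ ⟨j, hj, rfl⟩
        exact hgs j hj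
      exact LinearMap.eqOn_span this (hS ▸ hz)
    have hbi : b i ∉ S := hS ▸ b.linearIndependent.notMem_span_image (by simpa using his)
    have hpol : ∀ z w : X, pol Q (φ z) (φ w) = pol Q (z : V) (w : V) := fun z w => by
      rw [QuadraticMap.polar, QuadraticMap.polar, ← map_add, hφ, hφ, hφ]
      rfl
    obtain ⟨k, hk, hkW, hkx⟩ := exists_step (Q := Q) hQ (W := S.map φ) (x := g (b i : V)) (y := φ (b i))
      (by
        rintro ⟨z, hz, hze⟩
        rw [← hgS z hz] at hze
        exact hbi (Subtype.ext (g.injective hze) ▸ hz))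
      (by
        rintro ⟨z, hz, hze⟩
        exact hbi (hinj hze ▸ hz))
      (by rw [hφ, hg])
      (by
        rintro _ ⟨z, hz, rfl⟩
        rw [hpol]
        conv_rhs => rw [← hgS z hz]
        simp only [QuadraticMap.polar, ← map_add, hg])
    refine ⟨g.trans k, fun v => by rw [LinearEquiv.trans_apply, hk, hg], fun j hj => ?_⟩
    rw [LinearEquiv.trans_apply]
    rcases Finset.mem_insert.1 hj with rfl | hj
    · exact hkx
    · rw [hgs j hj]
      exact hkW _ ⟨b j, hS ▸ Submodule.subset_span ⟨j, hj, rfl⟩, rfl⟩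

end CfsgLib.Perm.Trans.Witt
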