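import Cfsg.Agent.Lib.Perm.Trans.QuadOmega

/-!
# Maximal subgroups of orthogonal groups: centres and totally singular subspaces
-/

set_option autoImplicit false
set_option linter.all false

namespace CfsgLib.Perm.Trans.Quad

open scoped Matrix
open Matrix Cfsg.Geo CfsgLib.Perm.Asch CfsgLib.Perm.Trans

variable {ι : Type} [Fintype ι] [DecidableEq ι] {F : Type*} [Field F] [Fintype F]
variable {Q : (ι → F) → F}

local notation "pol" => QuadraticMap.polar

/-- the singular vectors with all their Eichler transformations in `M` -/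
def eCentres (Q : (ι → F) → F) (M : Subgroup (GL ι F)) : Set (ι → F) :=
  {u | Q u = 0 ∧ ∀ a, pol Q u a = 0 → EIn Q M u a}

omit [Fintype F] in
theorem mem_stab_of_maps [Finite F] {W : Submodule F (ι → F)} {g : GL ι F}
    (h : ∀ x ∈ W, (g : Matrix ι ι F) *ᵥ x ∈ W) : g ∈ subspaceStabilizer W := by
  by_contra hn
  obtain ⟨w, hw, hgw⟩ := exists_moved_of_not_stab hn
  exact hgw (h w hw)

variable (hQ : IsNondegenerateQuadraticForm Q)
include hQ

theorem eCentres_smul {M : Subgroup (GL ι F)} {u : ι → F} (hu : u ∈ eCentres Q M) (c : F) :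
    c • u ∈ eCentres Q M := by
  refine ⟨by rw [qsmul hQ, hu.1, mul_zero], fun a ha => ?_⟩
  rcases eq_or_ne c 0 with rfl | hc
  · refine ⟨1, one_mem M, fun x => ?_⟩
    rw [Units.val_one, one_mulVec, zero_smul, pzero_right hQ]
    simp
  rw [psmul_left hQ, mul_eq_zero] at ha
  obtain ⟨g, hg, hgE⟩ := hu.2 (c • a) (by rw [psmul_right hQ, ha.resolve_left hc, mul_zero])
  exact ⟨g, hg, hgE.smul hQ⟩

omit hQ in
theorem eCentres_conj {M : Subgroup (GL ι F)} (hM : M ≤ Cfsg.isometryGroup F Q) {g : GL ι F} (hg : g ∈ M)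
    {u : ι → F} (hu : u ∈ eCentres Q M) : (g : Matrix ι ι F) *ᵥ u ∈ eCentres Q M := by
  refine ⟨by rw [mem_iso.1 (hM hg), hu.1], fun a ha => ?_⟩
  have h1 : pol Q u (((g⁻¹ : GL ι F) : Matrix ι ι F) *ᵥ a) = 0 := by
    rw [← iso_pol (hM hg) u, gl_mulVec_inv, ha]
  have h2 := (hu.2 _ h1).conj (hM hg) hg
  rwa [gl_mulVec_inv] at h2

/-- two centres in general position reach every vector not orthogonal to one of them -/
theorem eCentres_step {M : Subgroup (GL ι F)} (hM : M ≤ Cfsg.isometryGroup F Q) {e f x : ι → F}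
    (he : e ∈ eCentres Q M) (hf : f ∈ eCentres Q M) (hef : pol Q e f ≠ 0) (hx : Q x = 0) (hxf : pol Q x f ≠ 0) :
    x ∈ eCentres Q M := by
  obtain ⟨e', he'⟩ : ∃ e', e' = (pol Q e f)⁻¹ • e := ⟨_, rfl⟩
  obtain ⟨x', hx'⟩ : ∃ x', x' = (pol Q x f)⁻¹ • x := ⟨_, rfl⟩
  have he'C : e' ∈ eCentres Q M := he' ▸ eCentres_smul hQ he _
  have h1 : pol Q f e' = 1 := by rw [pcomm, he', psmul_left hQ, inv_mul_cancel₀ hef]
  have h2 : pol Q f x' = 1 := by rw [pcomm, hx', psmul_left hQ, inv_mul_cancel₀ hxf]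
  obtain ⟨a, g, -, hgE, ha, -, hge⟩ := exists_move_partner hQ hf.1 he'C.1 h1 (f' := x')
    (by rw [hx', qsmul hQ, hx, mul_zero]) h2
  obtain ⟨k, hk, hkE⟩ := hf.2 a (by
    rw [ha, psub_right hQ, psub_right hQ, psmul_right hQ, h2, h1, pself hQ, hf.1]
    ring)
  have h3 := eCentres_conj hM hk he'C
  rw [← hgE.unique hkE, hge, hx'] at h3
  have h4 := eCentres_smul hQ h3 (pol Q x f)
  rwa [smul_smul, mul_inv_cancel₀ hxf, one_smul] at h4

theorem eCentres_all {M : Subgroup (GL ι F)} (hM : M ≤ Cfsg.isometryGroup F Q) {e f : ι → F}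
    (he : e ∈ eCentres Q M) (hf : f ∈ eCentres Q M) (hef : pol Q e f ≠ 0) {x : ι → F} (hx : Q x = 0) :
    x ∈ eCentres Q M := by
  rcases eq_or_ne x 0 with rfl | hx0
  · have := eCentres_smul hQ he 0
    rwa [zero_smul] at this
  by_cases hxf : pol Q x f = 0
  swap
  · exact eCentres_step hQ hM he hf hef hx hxf
  have hf0 : f ≠ 0 := fun h => hef (by rw [h, pzero_right hQ])
  obtain ⟨z, hz, hfz, hzx⟩ := exists_common_nonorth hQ hf0 hx0 hf.1 (by rw [pcomm, hxf])
  exact eCentres_step hQ hM hf (eCentres_step hQ hM he hf hef hz (by rwa [pcomm])) hfz hx (by rwa [pcomm])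

theorem omega_le_of_eCentres (hn : 5 ≤ Fintype.card ι) {M : Subgroup (GL ι F)}
    (h : ∀ u, Q u = 0 → u ∈ eCentres Q M) : omegaGL Q ≤ M := by
  rw [omegaGL_eq hQ hn]
  refine (Subgroup.closure_le _).2 ?_
  rintro g ⟨-, u, a, hu, hua, hgE⟩
  obtain ⟨k, hk, hkE⟩ := (h u hu).2 a hua
  rw [hgE.unique hkE]
  exact hk

theorem isMaximalIn_of_pair (hn : 5 ≤ Fintype.card ι) {H : Subgroup (GL ι F)} (hproper : ¬ omegaGL Q ≤ H)
    (h : ∀ M : Subgroup (GL ι F), H ⊓ omegaGL Q ≤ M → M ≤ omegaGL Q → ¬ M ≤ H →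
      ∃ e ∈ eCentres Q M, ∃ f ∈ eCentres Q M, pol Q e f ≠ 0) :
    IsMaximalIn (omegaGL Q) (H ⊓ omegaGL Q) := by
  refine ⟨lt_of_le_of_ne inf_le_right fun e => hproper (e ▸ inf_le_left), fun M hHM hM => ?_⟩
  by_cases hle : M ≤ H
  · exact Or.inl (le_antisymm (le_inf hle hM) hHM)
  · obtain ⟨e, he, f, hf, hef⟩ := h M hHM hM hle
    exact Or.inr (le_antisymm hM (omega_le_of_eCentres hQ hn fun u hu =>
      eCentres_all hQ (hM.trans omegaGL_le_iso) he hf hef hu))

theorem finrank_qperp_add (W : Submodule F (ι → F)) :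
    Module.finrank F (qperp hQ W) + Module.finrank F W = Fintype.card ι := by
  let T : (ι → F) →ₗ[F] (W →ₗ[F] F) :=
    { toFun := fun v => (pfl hQ v).comp W.subtype
      map_add' := fun a b => LinearMap.ext fun x => padd_right hQ (x : ι → F) a b
      map_smul' := fun c a => LinearMap.ext fun x => psmul_right hQ c (x : ι → F) a }
  have hsurj : Function.Surjective T := by
    intro L
    obtain ⟨L', hL'⟩ := LinearMap.exists_extend L
    obtain ⟨p, hp⟩ := exists_prep hQ (fvec L')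
    refine ⟨p, LinearMap.ext fun x => ?_⟩
    show pol Q (x : ι → F) p = L x
    rw [hp, fvec_dot, ← hL']
    rfl
  have hker : qperp hQ W ≤ LinearMap.ker T := fun v hv => LinearMap.ext fun x => by
    show pol Q (x : ι → F) v = 0
    rw [pcomm]
    exact hv x x.2
  have h1 := LinearMap.finrank_range_add_finrank_ker T
  rw [LinearMap.range_eq_top.2 hsurj, finrank_top, Module.finrank_fintype_fun_eq_card] at h1
  have h2 : Module.finrank F (W →ₗ[F] F) = Module.finrank F W := Subspace.dual_finrank_eq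
  have h3 := Submodule.finrank_mono hker
  have h4 := finrank_qperp hQ W
  omega

omit [Fintype F] in
theorem pol_zero_of_singular {W : Submodule F (ι → F)} (hW : IsTotallySingularQuad Q W) {x y : ι → F} (hx : x ∈ W)
    (hy : y ∈ W) : pol Q x y = 0 := by
  rw [QuadraticMap.polar, hW _ (W.add_mem hx hy), hW x hx, hW y hy]
  ring

/-- a singular vector orthogonal to a totally singular subspace enlarges it -/
theorem singular_extend {W : Submodule F (ι → F)} (hW : IsTotallySingularQuad Q W) {z : ι → F}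
    (hz : z ∈ qperp hQ W) (hzW : z ∉ W) (hQz : Q z = 0) :
    IsTotallySingularQuad Q (W ⊔ Submodule.span F {z}) ∧
      Module.finrank F W + 1 ≤ Module.finrank F ↥(W ⊔ Submodule.span F {z}) ∧
      2 * Module.finrank F ↥(W ⊔ Submodule.span F {z}) ≤ Fintype.card ι := by
  have h1 : IsTotallySingularQuad Q (W ⊔ Submodule.span F {z}) := by
    intro v hv
    obtain ⟨w, hw, t, ht, rfl⟩ := Submodule.mem_sup.1 hv
    obtain ⟨c, rfl⟩ := Submodule.mem_span_singleton.1 ht
    rw [qadd hQ, qsmul hQ, hW w hw, hQz, psmul_right hQ, pcomm, hz w hw]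
    ring
  refine ⟨h1, Submodule.finrank_lt_finrank_of_lt (lt_of_le_of_ne le_sup_left fun h =>
    hzW (h.symm ▸ Submodule.mem_sup_right (Submodule.mem_span_singleton_self z))), ?_⟩
  have h2 := finrank_qperp_add hQ (W ⊔ Submodule.span F {z})
  have h3 := Submodule.finrank_mono
    (show W ⊔ Submodule.span F {z} ≤ qperp hQ (W ⊔ Submodule.span F {z}) from
      fun x hx y hy => pol_zero_of_singular hQ h1 hx hy)
  omega

/-- stabilisers of totally singular subspaces are maximal -/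
theorem singular_subspace_maximal (hn : 5 ≤ Fintype.card ι) {W : Submodule F (ι → F)} (hW0 : W ≠ ⊥)
    (hW : IsTotallySingularQuad Q W)
    (hgap : ∀ z ∈ qperp hQ W, z ∉ W → Q z = 0 → 2 * Module.finrank F W + 3 ≤ Fintype.card ι) :
    IsMaximalIn (omegaGL Q) (subspaceStabilizer W ⊓ omegaGL Q) := by
  refine isMaximalIn_of_pair hQ hn (fun hle => ?_) fun M hHM hM hMH => ?_
  · obtain ⟨w, hw, hw0⟩ := Submodule.exists_mem_ne_zero_of_ne_bot hW0
    obtain ⟨f, -, hf, hwf⟩ := exists_qpartner hQ (ndOn_top hQ) Submodule.mem_top hw0 (hW w hw)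
    obtain ⟨g, hg, hgw⟩ := exists_move hQ hn hw0 (w := f) (fun h => by
      rw [h, pzero_right hQ] at hwf
      exact zero_ne_one hwf) (hW w hw) hf
    have h1 : f ∈ W := hgw ▸ (mem_subspaceStabilizer_iff.1 (hle (eGroup_le_omega hQ hn hg)) w).1 hw
    rw [pol_zero_of_singular hQ hW hw h1] at hwf
    exact zero_ne_one hwf
  have hMiso : M ≤ Cfsg.isometryGroup F Q := hM.trans omegaGL_le_iso
  have hWC : ∀ u ∈ W, u ∈ eCentres Q M := by
    refine fun u hu => ⟨hW u hu, fun a ha => ?_⟩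
    obtain ⟨g, hg, hgE⟩ := ein_omega hQ hn (hW u hu) ha
    refine ⟨g, hHM ⟨mem_stab_of_maps fun x hx => ?_, hg⟩, hgE⟩
    rw [hgE, pol_zero_of_singular hQ hW hx hu, zero_smul, add_zero]
    exact W.sub_mem (W.sub_mem hx (W.smul_mem _ hu)) (W.smul_mem _ hu)
  obtain ⟨g, hgM, hg⟩ := SetLike.not_le_iff_exists.1 hMH
  obtain ⟨w₀, hw₀, hgw₀⟩ := exists_moved_of_not_stab hg
  obtain ⟨z, hz⟩ : ∃ z, z = (g : Matrix ι ι F) *ᵥ w₀ := ⟨_, rfl⟩
  have hzC : z ∈ eCentres Q M := hz ▸ eCentres_conj hMiso hgM (hWC w₀ hw₀)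
  by_cases hzp : z ∈ qperp hQ W
  swap
  · obtain ⟨w, hw, hzw⟩ : ∃ w ∈ W, pol Q z w ≠ 0 := by
      by_contra hcon
      push Not at hcon
      exact hzp hcon
    exact ⟨z, hzC, w, hWC w hw, hzw⟩
  have hzW : z ∉ W := hz ▸ hgw₀
  have hdim := hgap z hzp hzW hzC.1
  obtain ⟨y, hy, hzy⟩ := exists_qperp_ne hQ hzW
  obtain ⟨w, hwdef⟩ : ∃ w, w = y - Q y • z := ⟨_, rfl⟩
  have hwp : w ∈ qperp hQ W := hwdef ▸ (qperp hQ W).sub_mem hy ((qperp hQ W).smul_mem _ hzp)
  have hQw : Q w = 0 := by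
    rw [hwdef, qsub hQ, qsmul hQ, hzC.1, psmul_right hQ, pcomm, hzy]
    ring
  have hzw : pol Q z w = 1 := by
    rw [hwdef, psub_right hQ, psmul_right hQ, hzy, pself hQ, hzC.1]
    ring
  obtain ⟨R, hR⟩ : ∃ R, R = qperp hQ W ⊓ LinearMap.ker (pfl hQ z) ⊓ LinearMap.ker (pfl hQ w) := ⟨_, rfl⟩
  obtain ⟨b, hb, hQb⟩ : ∃ b ∈ R, Q b ≠ 0 := by
    have h1 := finrank_inf_pfl hQ (qperp hQ W) z
    have h2 := finrank_inf_pfl hQ (qperp hQ W ⊓ LinearMap.ker (pfl hQ z)) w
    have h3 := finrank_qperp_add hQ W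
    rw [← hR] at h2
    obtain ⟨x, hx, hxW⟩ : ∃ x ∈ R, x ∉ W := by
      by_contra hcon
      push Not at hcon
      have := Submodule.finrank_mono (show R ≤ W from hcon)
      omega
    obtain ⟨p, hp, hxp⟩ := exists_qperp_ne hQ hxW
    obtain ⟨p', hp'⟩ : ∃ p', p' = p - pol Q p w • z - pol Q p z • w := ⟨_, rfl⟩
    have hxR : x ∈ qperp hQ W ∧ pol Q x z = 0 ∧ pol Q x w = 0 := by
      rw [hR] at hx
      exact ⟨hx.1.1, hx.1.2, hx.2⟩
    have hp'R : p' ∈ R := by
      rw [hR]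
      refine ⟨⟨hp' ▸ (qperp hQ W).sub_mem ((qperp hQ W).sub_mem hp ((qperp hQ W).smul_mem _ hzp))
        ((qperp hQ W).smul_mem _ hwp), ?_⟩, ?_⟩
      · show pol Q p' z = 0
        rw [hp', psub_left hQ, psub_left hQ, psmul_left hQ, psmul_left hQ, pself hQ, hzC.1, pcomm w z, hzw]
        ring
      · show pol Q p' w = 0
        rw [hp', psub_left hQ, psub_left hQ, psmul_left hQ, psmul_left hQ, pself hQ w, hQw, hzw]
        ring
    have hxp' : pol Q x p' = 1 := by
      rw [hp', psub_right hQ, psub_right hQ, psmul_right hQ, psmul_right hQ, hxR.2.1, hxR.2.2, hxp]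
      ring
    by_contra hcon
    push Not at hcon
    have h4 := qadd hQ x p'
    rw [hcon _ (R.add_mem hx hp'R), hcon x hx, hcon p' hp'R, hxp'] at h4
    simp at h4
  rw [hR] at hb
  have hbz : pol Q b z = 0 := hb.1.2
  have hbw : pol Q b w = 0 := hb.2
  obtain ⟨k, hk, hkE⟩ := ein_omega hQ hn hQw (a := b) (by rw [pcomm, hbw])
  have hkM : k ∈ M := hHM ⟨mem_stab_of_maps fun x hx => by
    rw [hkE, pcomm x w, hwp x hx, pcomm x b, hb.1.1 x hx]
    simpa using hx, hk⟩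
  refine ⟨z, hzC, _, eCentres_conj hMiso hkM hzC, ?_⟩
  rw [hkE, hzw, pcomm z b, hbz]
  simp only [one_smul, zero_smul, sub_zero, mul_one, psub_right hQ, padd_right hQ, psmul_right hQ, pself hQ z, hzC.1,
    pcomm z b, hbz, hzw, mul_zero, add_zero, zero_sub]
  exact neg_ne_zero.2 hQb

end CfsgLib.Perm.Trans.Quad
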