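import Cfsg.Agent.Lib.Perm.Trans.QuadSubfPoint

/-!
# Orthogonal groups over a subfield: small rational involutions
-/

set_option autoImplicit false
set_option linter.all false

namespace CfsgLib.Perm.Trans.Quad

open scoped Matrix
open Matrix Cfsg.Geo CfsgLib.Perm.Asch CfsgLib.Perm.Trans
open CfsgLib.Perm.Trans.Subf (em lift em_add em_neg em_sub em_smul em_sum em_zero em_injective em_ne_zero exists_coords lift_em lift_mem ext_em)
open CfsgLib.Orth (disp disp_apply moved fixd wrk)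

attribute [local instance] subfieldFin

variable {ι : Type} [Fintype ι] [DecidableEq ι] {F : Type*} [Field F] [Fintype F]
variable {Q : (ι → F) → F} {F₀ : Subfield F} {P : GL ι F}

local notation "pol" => QuadraticMap.polar

/-- a map carrying rational vectors to rational vectors -/
def RatMap (F₀ : Subfield F) (P g : GL ι F) : Prop :=
  ∀ a : ι → F₀, ∃ b : ι → F₀, (g : Matrix ι ι F) *ᵥ em F₀ P a = em F₀ P b

omit [Fintype F] in
theorem RatMap.mem {g : GL ι F} (h : RatMap F₀ P g) : g ∈ subfieldSubgroup F₀ P :=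
  Subf.mem_subfieldSubgroup_of_image F₀ P one_ne_zero fun i => by
    obtain ⟨b, hb⟩ := h (Pi.single i 1)
    exact ⟨b, by rw [one_smul, hb]⟩

/-- an involution of the subfield group with small support is rational -/
theorem rational_of_invol {r : ℕ} (hr : r.Prime) (hcard : Fintype.card F = Nat.card F₀ ^ r) {i : GL ι F}
    (hi : i ∈ subfieldSubgroup F₀ P) (hi2 : i * i = 1)
    (hdim : (∀ p : F, p * p ∈ F₀ → p ∈ F₀) ∨ Fintype.card ι < 2 * Module.finrank F (fixd i)) :
    RatMap F₀ P i := by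
  classical
  rcases isEmpty_or_nonempty ι with he | ⟨⟨j⟩⟩
  · exact fun a => ⟨a, funext fun j => (IsEmpty.false j).elim⟩
  obtain ⟨c, hc⟩ := Subf.subfield_image F₀ P hi
  choose b hb using hc
  have hii : ∀ w, (i : Matrix ι ι F) *ᵥ ((i : Matrix ι ι F) *ᵥ w) = w := fun w => by
    rw [← gl_mul_mulVec, hi2, Units.val_one, one_mulVec]
  have hc2 : c * c ∈ F₀ := by
    obtain ⟨a, ha⟩ : ∃ a, a = (Pi.single j 1 : ι → F₀) := ⟨_, rfl⟩
    have h1 := hii (em F₀ P a)
    rw [hb, mulVec_smul, hb, smul_smul] at h1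
    have h2 := congrArg (Subf.extFun F₀ P a) h1
    rw [map_smul, Subf.extFun_em, Subf.extFun_em, ha, dotProduct_single, Pi.single_eq_same, mul_one, smul_eq_mul]
      at h2
    push_cast at h2
    rw [eq_inv_of_mul_eq_one_left h2]
    exact F₀.inv_mem (Pi.single j 1 ⬝ᵥ b (b (Pi.single j 1))).2
  suffices hcF : c ∈ F₀ from fun a => ⟨(⟨c, hcF⟩ : F₀) • b a, by rw [hb, em_smul]⟩
  rcases hdim with h | h
  · exact h c hc2
  by_contra hcF
  have hall : ∀ x : F, ∃ a b : F₀, x = (a : F) + (b : F) * c := Subf.eq_univ_of_closed hr hcard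
    (C := {x : F | ∃ a b : F₀, x = (a : F) + (b : F) * c})
    (fun x ⟨a, b, hx⟩ y ⟨a', b', hy⟩ => ⟨a + a', b + b', by rw [hx, hy]; push_cast; ring⟩)
    (fun x ⟨a, b, hx⟩ y ⟨a', b', hy⟩ => ⟨a * a' + b * b' * ⟨_, hc2⟩, a * b' + b * a', by
      rw [hx, hy]; push_cast; ring⟩)
    (fun a => ⟨a, 0, by push_cast; ring⟩) (s := c) ⟨0, 1, by push_cast; ring⟩ hcF
  have huniq : ∀ a b a' b' : F₀, (a : F) + (b : F) * c = (a' : F) + (b' : F) * c → a = a' ∧ b = b' := by
    intro a b a' b' hab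
    by_cases hbb : b = b'
    · exact ⟨Subtype.ext (by rw [hbb] at hab; linear_combination hab), hbb⟩
    refine absurd ?_ hcF
    rw [show c = ((a' : F) - (a : F)) / ((b : F) - (b' : F)) by
      rw [eq_div_iff (sub_ne_zero.2 fun h => hbb (Subtype.ext h))]; linear_combination hab]
    exact F₀.div_mem (F₀.sub_mem a'.2 a.2) (F₀.sub_mem b.2 b'.2)
  have hdec : ∀ v : ι → F, ∃ α β : ι → F₀, v = em F₀ P α + c • em F₀ P β := by
    intro v
    choose α β hαβ using fun k => hall ((((P⁻¹ : GL ι F) : Matrix ι ι F) *ᵥ v) k)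
    refine ⟨α, β, ?_⟩
    rw [Subf.em, Subf.em, ← mulVec_smul, ← mulVec_add]
    conv_lhs => rw [← gl_mulVec_inv P v]
    congr 1
    funext k
    rw [hαβ k]
    simp [mul_comm]
  choose α β hαβ using hdec
  have hinj : Function.Injective fun v : fixd i => α v := by
    intro v w hvw
    have hfix : ∀ u : fixd i, β u = b (α u) := by
      intro u
      have h1 : (i : Matrix ι ι F) *ᵥ (u : ι → F) = u := (sub_eq_zero.1 (LinearMap.mem_ker.1 u.2)).symm
      have e : em F₀ P (α u) + c • em F₀ P (β u) =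
          em F₀ P ((⟨c * c, hc2⟩ : F₀) • b (β u)) + c • em F₀ P (b (α u)) := by
        rw [← hαβ u]
        conv_lhs => rw [← h1, hαβ u, mulVec_add, mulVec_smul, hb, hb]
        rw [smul_smul, em_smul, add_comm]
      funext k
      have e' := congrArg (fun y => (((P⁻¹ : GL ι F) : Matrix ι ι F) *ᵥ y) k) e
      simp only [mulVec_add, mulVec_smul, Pi.add_apply, Pi.smul_apply, Subf.inv_em, smul_eq_mul] at e'
      exact (huniq (α u k) (β u k) (((⟨c * c, hc2⟩ : F₀) • b (β u)) k) (b (α u) k) (by linear_combination e')).2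
    refine Subtype.ext ?_
    rw [hαβ v, hαβ w, hfix v, hfix w, show α v = α w from hvw]
  have h1 := Nat.card_le_card_of_injective _ hinj
  rw [Module.natCard_eq_pow_finrank (K := F), Nat.card_fun, Nat.card_eq_fintype_card (α := ι),
    Nat.card_eq_fintype_card (α := F), hcard, ← pow_mul] at h1
  have h2 : 1 < Nat.card F₀ := Finite.one_lt_card
  have h3 := (Nat.pow_le_pow_iff_right h2).1 h1
  have h4 : 2 * Module.finrank F (fixd i) ≤ r * Module.finrank F (fixd i) := Nat.mul_le_mul_right _ hr.two_le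
  omega

/-- in odd dimension and odd characteristic, an involution of the subfield group is rational -/
theorem rational_of_invol_odd {r : ℕ} (hr : r.Prime) (hcard : Fintype.card F = Nat.card F₀ ^ r) {i : GL ι F}
    (hi : i ∈ subfieldSubgroup F₀ P) (hi2 : i * i = 1) (hodd : Odd (Fintype.card ι)) (h2 : (2 : F) ≠ 0) :
    RatMap F₀ P i := by
  classical
  obtain ⟨m, hm⟩ := hodd
  have hneg : ∀ v, ((-i : GL ι F) : Matrix ι ι F) *ᵥ v = -((i : Matrix ι ι F) *ᵥ v) := fun v => by
    rw [Units.val_neg, neg_mulVec]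
  by_cases h : Fintype.card ι < 2 * Module.finrank F (fixd i)
  · exact rational_of_invol hr hcard hi hi2 (Or.inr h)
  have hsum : Fintype.card ι ≤ Module.finrank F (fixd i) + Module.finrank F (fixd (-i : GL ι F)) := by
    have h1 := Submodule.finrank_sup_add_finrank_inf_eq (fixd i) (fixd (-i : GL ι F))
    have h3 : fixd i ⊔ fixd (-i : GL ι F) = ⊤ := eq_top_iff.2 fun v _ => by
      refine Submodule.mem_sup.2 ⟨(2 : F)⁻¹ • (v + (i : Matrix ι ι F) *ᵥ v), ?_,
        (2 : F)⁻¹ • (v - (i : Matrix ι ι F) *ᵥ v), ?_, ?_⟩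
      · refine LinearMap.mem_ker.2 ?_
        rw [disp_apply, mulVec_smul, mulVec_add, ← gl_mul_mulVec, hi2, Units.val_one, one_mulVec]
        module
      · refine LinearMap.mem_ker.2 ?_
        rw [disp_apply, hneg, mulVec_smul, mulVec_sub, ← gl_mul_mulVec, hi2, Units.val_one, one_mulVec]
        module
      · match_scalars <;> field_simp <;> ring
    rw [h3, finrank_top, Module.finrank_fintype_fun_eq_card] at h1
    omega
  have hmem : (-i : GL ι F) ∈ subfieldSubgroup F₀ P := by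
    have h1 : (-1 : GL ι F) ∈ subfieldSubgroup F₀ P :=
      Subf.mem_subfieldSubgroup_of_image F₀ P one_ne_zero fun j => ⟨-Pi.single j 1, by
        rw [one_smul, em_neg, Units.val_neg, Units.val_one, neg_mulVec, one_mulVec]⟩
    have := mul_mem h1 hi
    rwa [neg_one_mul] at this
  have hR := rational_of_invol hr hcard hmem (by rw [neg_mul_neg, hi2]) (Or.inr (by omega))
  intro a
  obtain ⟨b, hb⟩ := hR a
  exact ⟨-b, by rw [em_neg, ← hb, hneg, neg_neg]⟩

omit [Fintype F] in
/-- dimensions of the rational fixed and moved spaces -/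
theorem rat_dims {g : GL ι F} (hg : RatMap F₀ P g) :
    Module.finrank F₀ (ratPart F₀ P (fixd g)) + wrk g = Fintype.card ι ∧
      Module.finrank F₀ (ratPart F₀ P (moved g)) = wrk g := by
  choose p hp using hg
  let L : (ι → F₀) →ₗ[F₀] (ι → F₀) :=
    { toFun := fun a => a - p a
      map_add' := fun a b => by
        have : p (a + b) = p a + p b := em_injective F₀ P (by rw [← hp, em_add, mulVec_add, hp, hp, em_add])
        rw [this]; abel
      map_smul' := fun c a => by
        have : p (c • a) = c • p a := em_injective F₀ P (by rw [← hp, em_smul, mulVec_smul, hp, em_smul])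
        rw [this, RingHom.id_apply, smul_sub] }
  have hL : ∀ a, em F₀ P (L a) = disp g (em F₀ P a) := fun a => by
    show em F₀ P (a - p a) = _
    rw [em_sub, disp_apply, hp]
  have hker : LinearMap.ker L = ratPart F₀ P (fixd g) := by
    ext a
    rw [LinearMap.mem_ker]
    show L a = 0 ↔ em F₀ P a ∈ fixd g
    rw [LinearMap.mem_ker, ← hL]
    exact ⟨fun h => by rw [h, em_zero], fun h => em_injective F₀ P (h.trans (em_zero F₀ P).symm)⟩
  have hrange : LinearMap.range L ≤ ratPart F₀ P (moved g) := by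
    rintro _ ⟨a, rfl⟩
    exact ⟨_, (hL a).symm⟩
  have hspan : moved g ≤ Submodule.span F (em F₀ P '' ↑(LinearMap.range L)) := by
    rintro _ ⟨x, rfl⟩
    obtain ⟨c, rfl⟩ := exists_coords F₀ P x
    rw [map_sum]
    exact Submodule.sum_mem _ fun k _ => by
      rw [map_smul, ← hL]
      exact Submodule.smul_mem _ _ (Submodule.subset_span ⟨_, ⟨_, rfl⟩, rfl⟩)
  have h1 := Submodule.finrank_mono hspan
  rw [finrank_span_em] at h1
  have h2 : Module.finrank F₀ (ratPart F₀ P (moved g)) ≤ wrk g := finrank_ratPart_le (moved g)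
  have h3 := Submodule.finrank_mono hrange
  have h4 := LinearMap.finrank_range_add_finrank_ker L
  rw [hker, Module.finrank_fintype_fun_eq_card] at h4
  have h5 : wrk g = Module.finrank F (moved g) := rfl
  omega

omit [Fintype F] in
/-- the rank of the displacement is a class function -/
theorem wrk_conj (g x : GL ι F) : wrk (g * x * g⁻¹) = wrk x := by
  have key : ∀ g x : GL ι F, wrk (g * x * g⁻¹) ≤ wrk x := by
    intro g x
    refine le_trans (Submodule.finrank_mono (show moved (g * x * g⁻¹) ≤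
      (moved x).map (Matrix.mulVecLin (g : Matrix ι ι F)) from ?_)) (Submodule.finrank_map_le _ _)
    rintro _ ⟨v, rfl⟩
    refine ⟨disp x (((g⁻¹ : GL ι F) : Matrix ι ι F) *ᵥ v), ⟨_, rfl⟩, ?_⟩
    rw [Matrix.mulVecLin_apply, disp_apply, disp_apply, mulVec_sub, gl_mulVec_inv, gl_mul_mulVec, gl_mul_mulVec]
  refine le_antisymm (key g x) ?_
  have h1 := key g⁻¹ (g * x * g⁻¹)
  rwa [show g⁻¹ * (g * x * g⁻¹) * (g⁻¹)⁻¹ = x by group] at h1

variable (hQ : IsNondegenerateQuadraticForm Q)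
include hQ

omit [Fintype F] in
theorem fix_of_perp_moved {g : GL ι F} (hg : g ∈ Cfsg.isometryGroup F Q) {k : ι → F}
    (h : ∀ v ∈ moved g, pol Q k v = 0) : (g : Matrix ι ι F) *ᵥ k = k := by
  refine sub_eq_zero.1 (eq_zero_of_perp_top hQ fun y => ?_)
  obtain ⟨y', rfl⟩ : ∃ y', (g : Matrix ι ι F) *ᵥ y' = y :=
    ⟨((g⁻¹ : GL ι F) : Matrix ι ι F) *ᵥ y, gl_mulVec_inv g y⟩
  have h1 := h (disp g y') ⟨y', rfl⟩
  rw [disp_apply, psub_right hQ, sub_eq_zero] at h1
  rw [psub_left hQ, iso_pol hg, h1, sub_self]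

theorem wrk_even (hn : 5 ≤ Fintype.card ι) {g : GL ι F} (hg : g ∈ omegaGL Q) : Even (wrk g) := by
  obtain ⟨x, hx, rfl⟩ := hg
  exact ((CfsgLib.Orth.mem_omega_iff hQ (by omega) (Or.inr (by omega)) x).1 hx).2

variable (hrat : ∀ a : ι → F₀, Q (em F₀ P a) ∈ F₀)
include hrat

/-- a rational involution built from reflections, moving exactly the span of a rational subspace -/
def ReflInv (Q : (ι → F) → F) (F₀ : Subfield F) (P g : GL ι F) (A : Submodule F₀ (ι → F₀)) : Prop :=
  g ∈ Cfsg.isometryGroup F Q ∧ RatMap F₀ P g ∧ g * g = 1 ∧ moved g = Submodule.span F (em F₀ P '' ↑A)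

/-- adding a reflection -/
theorem ReflInv.step {g : GL ι F} {A : Submodule F₀ (ι → F₀)} (hgA : ReflInv Q F₀ P g A) {a : ι → F₀}
    (ha : qr hrat a ≠ 0) (hperp : ∀ b ∈ A, pol (qr hrat) a b = 0) (hnot : a ∉ A) :
    ∃ r, IsRefl Q (em F₀ P a) r ∧ r ∈ Cfsg.isometryGroup F Q ∧
      ReflInv Q F₀ P (g * r) (A ⊔ Submodule.span F₀ {a}) := by
  obtain ⟨hgi, hgR, hg2, hgM⟩ := hgA
  have hQa : Q (em F₀ P a) ≠ 0 := fun h => ha (Subtype.ext (by rw [qr_coe hrat]; exact h))
  obtain ⟨r, hr, hra⟩ := exists_refl hQ hQa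
  have haperp : ∀ v ∈ moved g, pol Q (em F₀ P a) v = 0 := by
    intro v hv
    rw [hgM] at hv
    induction hv using Submodule.span_induction with
    | mem x hx => obtain ⟨b, hb, rfl⟩ := hx; exact qr_perp hQ hrat (hperp b hb)
    | zero => exact pzero_right hQ _
    | add x y _ _ hx hy => rw [padd_right hQ, hx, hy, add_zero]
    | smul c x _ hx => rw [psmul_right hQ, hx, mul_zero]
  have hga : (g : Matrix ι ι F) *ᵥ em F₀ P a = em F₀ P a := fix_of_perp_moved hQ hgi haperp
  have hcomm : g * r = r * g := by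
    have h1 := hra.conj hgi
    rw [hga] at h1
    exact mul_inv_eq_iff_eq_mul.1 (h1.unique hra)
  refine ⟨r, hra, hr, mul_mem hgi hr, fun b => ?_, ?_, ?_⟩
  · obtain ⟨b', hb'⟩ := hgR (b - ((qr hrat a)⁻¹ * pol (qr hrat) b a) • a)
    refine ⟨b', ?_⟩
    rw [gl_mul_mulVec, hra, ← hb', em_sub, em_smul]
    push_cast
    rw [qr_coe hrat, qr_pol hrat]
  · rw [mul_assoc, ← mul_assoc r, ← hcomm, mul_assoc g, refl_mul_self hQ hQa hra, mul_one, hg2]
  · have hr0 : ∀ x, (r : Matrix ι ι F) *ᵥ x - x ∈ Submodule.span F {em F₀ P a} := fun x => by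
      rw [hra, sub_sub_cancel_left]
      exact Submodule.neg_mem _ (Submodule.smul_mem _ _ (Submodule.mem_span_singleton_self _))
    have hdisp : ∀ x, disp (g * r) x = disp g ((r : Matrix ι ι F) *ᵥ x) + (x - (r : Matrix ι ι F) *ᵥ x) := fun x => by
      rw [disp_apply, disp_apply, gl_mul_mulVec]; abel
    have hspan : Submodule.span F (em F₀ P '' ↑(A ⊔ Submodule.span F₀ {a})) =
        moved g ⊔ Submodule.span F {em F₀ P a} := by
      refine le_antisymm (Submodule.span_le.2 ?_) (sup_le ?_ ?_)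
      · rintro _ ⟨v, hv, rfl⟩
        obtain ⟨b, hb, c, hc, rfl⟩ := Submodule.mem_sup.1 hv
        obtain ⟨s, rfl⟩ := Submodule.mem_span_singleton.1 hc
        rw [em_add, em_smul]
        exact Submodule.add_mem_sup (hgM ▸ Submodule.subset_span ⟨b, hb, rfl⟩)
          (Submodule.smul_mem _ _ (Submodule.mem_span_singleton_self _))
      · rw [hgM]
        exact Submodule.span_mono (Set.image_mono (SetLike.coe_subset_coe.2 le_sup_left))
      · exact (Submodule.span_singleton_le_iff_mem _ _).2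
          (Submodule.subset_span ⟨a, Submodule.mem_sup_right (Submodule.mem_span_singleton_self a), rfl⟩)
    rw [hspan]
    refine le_antisymm ?_ ?_
    · rintro _ ⟨x, rfl⟩
      rw [hdisp]
      refine Submodule.add_mem_sup ⟨_, rfl⟩ ?_
      rw [← neg_sub]
      exact Submodule.neg_mem _ (hr0 x)
    -- a vector fixed by `g` and moved by `r`
    obtain ⟨φ, hφa, hφ⟩ := exists_dual _ hnot
    obtain ⟨w, hw⟩ := exists_prep (qr_nd hQ hrat) φ
    have hwA : ∀ v ∈ moved g, pol Q (em F₀ P w) v = 0 := by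
      intro v hv
      rw [hgM] at hv
      induction hv using Submodule.span_induction with
      | mem x hx =>
        obtain ⟨b, hb, rfl⟩ := hx
        refine qr_perp hQ hrat ?_
        rw [pcomm, hw, hφ b hb]
      | zero => exact pzero_right hQ _
      | add x y _ _ hx hy => rw [padd_right hQ, hx, hy, add_zero]
      | smul c x _ hx => rw [psmul_right hQ, hx, mul_zero]
    have hwa : pol Q (em F₀ P w) (em F₀ P a) = 1 := qr_one hQ hrat (by rw [pcomm, hw, hφa])
    have ha_mem : em F₀ P a ∈ moved (g * r) := by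
      have h1 : disp (g * r) (em F₀ P w) = ((Q (em F₀ P a))⁻¹) • em F₀ P a := by
        rw [disp_apply, gl_mul_mulVec, hra, hwa, mul_one, mulVec_sub, mulVec_smul, hga,
          fix_of_perp_moved hQ hgi hwA, sub_sub_cancel]
      exact (Submodule.smul_mem_iff _ (inv_ne_zero hQa)).1 (h1 ▸ ⟨_, rfl⟩)
    refine sup_le ?_ ((Submodule.span_singleton_le_iff_mem _ _).2 ha_mem)
    rintro _ ⟨x, rfl⟩
    have h1 := hdisp (((r⁻¹ : GL ι F) : Matrix ι ι F) *ᵥ x)
    rw [gl_mulVec_inv] at h1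
    rw [eq_sub_of_add_eq h1.symm]
    refine Submodule.sub_mem _ ⟨_, rfl⟩ ?_
    obtain ⟨s, hs⟩ := Submodule.mem_span_singleton.1 (hr0 (((r⁻¹ : GL ι F) : Matrix ι ι F) *ᵥ x))
    rw [gl_mulVec_inv] at hs
    rw [← neg_sub, ← hs]
    exact Submodule.neg_mem _ (Submodule.smul_mem _ _ ha_mem)

omit [Fintype F] in
theorem reflInv_one : ReflInv Q F₀ P 1 (⊥ : Submodule F₀ (ι → F₀)) := by
  refine ⟨one_mem _, fun a => ⟨a, by rw [Units.val_one, one_mulVec]⟩, one_mul 1, ?_⟩
  refine le_antisymm ?_ (Submodule.span_le.2 ?_)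
  · rintro _ ⟨x, rfl⟩
    rw [disp_apply, Units.val_one, one_mulVec, sub_self]
    exact Submodule.zero_mem _
  · rintro _ ⟨b, hb, rfl⟩
    rw [show b = 0 from (Submodule.mem_bot F₀).1 hb, em_zero]
    exact Submodule.zero_mem _

/-- a vector of given value, leaving a non-degenerate orthogonal -/
theorem chain_step {U : Submodule F₀ (ι → F₀)} (hU : NdOn (qr hrat) U) {c : F₀} (hc : c ≠ 0)
    (hd2 : 2 ≤ Module.finrank F₀ U) (hd3 : (2 : F₀) = 0 → 3 ≤ Module.finrank F₀ U) :
    ∃ a ∈ U, qr hrat a = c ∧ (∃ f ∈ U, pol (qr hrat) a f ≠ 0) ∧ ∃ U' ≤ U, NdOn (qr hrat) U' ∧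
      (∀ v ∈ U', pol (qr hrat) a v = 0) ∧ Module.finrank F₀ U ≤ Module.finrank F₀ U' + 2 ∧
      ((2 : F₀) ≠ 0 → Module.finrank F₀ U ≤ Module.finrank F₀ U' + 1) := by
  have hq := qr_nd hQ hrat
  by_cases h2 : (2 : F₀) = 0
  · obtain ⟨e, he, he0, hQe⟩ := exists_qsingular hq hU (hd3 h2)
    obtain ⟨f, hf, hQf, hef⟩ := exists_qpartner hq hU he he0 hQe
    refine ⟨e + c • f, U.add_mem he (U.smul_mem _ hf), ?_, ⟨f, hf, ?_⟩, pairPerp hq U e f, ?_,
      pair_nd hq he hf hQe hQf hef hU, fun v hv => ?_, pair_finrank hq he hf hQe hQf hef, fun h => absurd h2 h⟩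
    · rw [qadd hq, qsmul hq, hQe, hQf, psmul_right hq, hef]; ring
    · rw [padd_left hq, psmul_left hq, pself hq, hQf, hef, mul_zero, mul_zero, add_zero]
      exact one_ne_zero
    · exact fun v hv => ((mem_pairPerp hq).1 hv).1
    · obtain ⟨-, h1, h3⟩ := (mem_pairPerp hq).1 hv
      rw [padd_left hq, psmul_left hq, pcomm e v, h1, pcomm f v, h3, mul_zero, add_zero]
  · obtain ⟨a, ha, hQa⟩ := exists_value_two hq hU hd2 c
    have hQa0 : qr hrat a ≠ 0 := by rw [hQa]; exact hc
    refine ⟨a, ha, hQa, ⟨a, ha, by rw [pself hq]; exact mul_ne_zero h2 hQa0⟩, U ⊓ LinearMap.ker (pfl hq a),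
      inf_le_left, nd_inf_perp hq hU ha h2 hQa0, fun v hv => ?_, ?_, fun _ => finrank_inf_pfl hq U a⟩
    · rw [pcomm]; exact hv.2
    · have := finrank_inf_pfl hq U a
      omega

/-- products of `m` pairs of reflections with prescribed values -/
theorem exists_refl_inv (hn : 5 ≤ Fintype.card ι) {c c' : F₀} (hc : c ≠ 0) (hc' : c' ≠ 0)
    (hsq : IsSquare ((c' : F) / (c : F))) :
    ∀ (m : ℕ) (U : Submodule F₀ (ι → F₀)), NdOn (qr hrat) U → 2 * m + 1 ≤ Module.finrank F₀ U →
      ((2 : F₀) = 0 → 4 * m + 1 ≤ Module.finrank F₀ U) →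
      ∃ (g : GL ι F) (A : Submodule F₀ (ι → F₀)), ReflInv Q F₀ P g A ∧ A ≤ U ∧ g ∈ omegaGL Q ∧
        Module.finrank F₀ A = 2 * m ∧ (0 < m → ∃ a ∈ A, ∃ a' ∈ A, qr hrat a = c ∧ qr hrat a' = c' ∧
          pol (qr hrat) a a' = 0 ∧ ∀ s : F₀, a + s • a' ≠ 0) := by
  intro m
  induction m with
  | zero =>
    intro U _ _ _
    exact ⟨1, ⊥, reflInv_one hQ hrat, bot_le, one_mem _, finrank_bot _ _, fun h => absurd h (by omega)⟩
  | succ m ih =>
    intro U hU hd hd4
    obtain ⟨a, ha, hQa, ⟨fa, hfa, hafa⟩, U₁, hU₁, hU₁n, haU₁, hd1, hd1'⟩ :=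
      chain_step hQ hrat hU hc (by omega) (fun h => by have := hd4 h; omega)
    have hU₁d : 2 * m + 2 ≤ Module.finrank F₀ U₁ := by
      by_cases h2 : (2 : F₀) = 0
      · have := hd4 h2; omega
      · have := hd1' h2; omega
    obtain ⟨a', ha', hQa', ⟨fa', hfa', hafa'⟩, U₂, hU₂, hU₂n, haU₂, hd2, hd2'⟩ :=
      chain_step hQ hrat hU₁n hc' (by omega) (fun h => by have := hd4 h; omega)
    obtain ⟨g, A, hgA, hAU, hgΩ, hAd, -⟩ := ih U₂ hU₂n (by
      by_cases h2 : (2 : F₀) = 0
      · have := hd4 h2; omega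
      · have := hd1' h2; have := hd2' h2; omega) (fun h => by have := hd4 h; omega)
    have hq := qr_nd hQ hrat
    have hQa0 : qr hrat a ≠ 0 := by rw [hQa]; exact hc
    have hQa'0 : qr hrat a' ≠ 0 := by rw [hQa']; exact hc'
    have hAU₁ : A ≤ U₁ := hAU.trans hU₂
    -- first reflection
    have hnotA : a' ∉ A := fun h => by
      obtain ⟨y, hy, hay⟩ := (hU₂n a' (hAU h) (fun h0 => hQa'0 (by rw [h0]; exact qzero hq))).2
      exact hay (haU₂ y hy)
    obtain ⟨r', hra', hr', hg'⟩ := hgA.step hQ hrat hQa'0 (fun b hb => haU₂ b (hAU hb)) hnotA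
    have hsup : A ⊔ Submodule.span F₀ {a'} ≤ U₁ := sup_le hAU₁ ((Submodule.span_singleton_le_iff_mem _ _).2 ha')
    have hnot : a ∉ A ⊔ Submodule.span F₀ {a'} := fun h => by
      obtain ⟨y, hy, hay⟩ := (hU₁n a (hsup h) (fun h0 => hQa0 (by rw [h0]; exact qzero hq))).2
      exact hay (haU₁ y hy)
    obtain ⟨r, hra, hr, hg''⟩ := hg'.step hQ hrat hQa0 (fun b hb => haU₁ b (hsup hb)) hnot
    refine ⟨g * r' * r, A ⊔ Submodule.span F₀ {a'} ⊔ Submodule.span F₀ {a}, hg'',
      sup_le (hsup.trans hU₁) ((Submodule.span_singleton_le_iff_mem _ _).2 ha), ?_, ?_,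
      fun _ => ⟨a, Submodule.mem_sup_right (Submodule.mem_span_singleton_self a), a',
        Submodule.mem_sup_left (Submodule.mem_sup_right (Submodule.mem_span_singleton_self a')), hQa, hQa',
        haU₁ a' ha', fun s hs => hnot ?_⟩⟩
    · rw [mul_assoc]
      refine mul_mem hgΩ (refl_pair_omega' hQ hn ?_ ?_ ?_ hr' hr hra' hra)
      · rw [← qr_coe hrat, hQa']; exact fun h => hc' (Subtype.ext h)
      · rw [← qr_coe hrat, hQa]; exact fun h => hc (Subtype.ext h)
      · rw [← qr_coe hrat, ← qr_coe hrat, hQa, hQa']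
        rw [show (c : F) / (c' : F) = ((c' : F) / (c : F))⁻¹ from (inv_div _ _).symm]
        exact hsq.inv
    · have h1 : Module.finrank F₀ ↥(A ⊔ Submodule.span F₀ {a'}) = 2 * m + 1 := by
        have h2 := Submodule.finrank_sup_add_finrank_inf_eq A (Submodule.span F₀ {a'})
        have h3 : A ⊓ Submodule.span F₀ {a'} = ⊥ := by
          rw [eq_bot_iff]
          rintro v ⟨hv1, hv2⟩
          obtain ⟨s, rfl⟩ := Submodule.mem_span_singleton.1 hv2
          rcases eq_or_ne s 0 with rfl | hs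
          · simp
          · exact absurd ((Submodule.smul_mem_iff _ hs).1 hv1) hnotA
        rw [h3, finrank_bot, finrank_span_singleton (fun h => hnotA (by rw [h]; exact A.zero_mem)), hAd] at h2
        omega
      have h2 := Submodule.finrank_sup_add_finrank_inf_eq (A ⊔ Submodule.span F₀ {a'}) (Submodule.span F₀ {a})
      have h3 : (A ⊔ Submodule.span F₀ {a'}) ⊓ Submodule.span F₀ {a} = ⊥ := by
        rw [eq_bot_iff]
        rintro v ⟨hv1, hv2⟩
        obtain ⟨s, rfl⟩ := Submodule.mem_span_singleton.1 hv2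
        rcases eq_or_ne s 0 with rfl | hs
        · simp
        · exact absurd ((Submodule.smul_mem_iff _ hs).1 hv1) hnot
      rw [h3, finrank_bot, finrank_span_singleton (fun h => hnot (by rw [h]; exact Submodule.zero_mem _)), h1] at h2
      omega
    · rw [show a = -(s • a') from eq_neg_of_add_eq_zero_left hs]
      exact Submodule.neg_mem _ (Submodule.mem_sup_right (Submodule.smul_mem _ _ (Submodule.mem_span_singleton_self a')))

end CfsgLib.Perm.Trans.Quad
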