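import Cfsg.Agent.Lib.Perm.Trans.QuadOmega

/-!
# Siegel transformations: commutators, and generators of `Ω`
-/

set_option autoImplicit false
set_option linter.all false

namespace CfsgLib.Perm.Trans.Quad

open scoped Matrix commutatorElement
open Matrix Cfsg.Geo CfsgLib.Perm.Asch CfsgLib.Perm.Trans

variable {ι : Type} [Fintype ι] [DecidableEq ι] {F : Type*} [Field F] [Fintype F]
variable {Q : (ι → F) → F}

local notation "pol" => QuadraticMap.polar

omit [Fintype ι] [DecidableEq ι] [Fintype F] in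
/-- a bundled form is a nondegenerate quadratic form -/
theorem nd_of_bundled (Q : QuadraticForm F (ι → F)) (hQ : (QuadraticMap.polarBilin Q).Nondegenerate) :
    IsNondegenerateQuadraticForm (⇑Q : (ι → F) → F) := by
  refine ⟨fun c v => by rw [QuadraticMap.map_smul, smul_eq_mul, sq],
    ⟨fun x y v => QuadraticMap.polar_add_left Q x y v, fun c x v => QuadraticMap.polar_smul_left Q c x v,
      fun v x y => QuadraticMap.polar_add_right Q v x y, fun c v x => QuadraticMap.polar_smul_right Q c v x⟩,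
    fun v hv => ⟨?_, ?_⟩⟩
  · by_contra h
    push Not at h
    exact hv (hQ.2 v fun x => h x)
  · by_contra h
    push Not at h
    exact hv (hQ.1 v fun x => h x)

variable (hQ : IsNondegenerateQuadraticForm Q)
include hQ

omit [Fintype F] in
theorem siegel_apply (u v : ι → F) (c : F) (x : ι → F) :
    Cfsg.siegelMatrix Q u v c *ᵥ x = x + c • (pol Q x u • v - pol Q x v • u) := by
  have h : ∀ w, Cfsg.polarVec Q w = pv hQ w := fun w => funext fun i => pcomm w _
  rw [Cfsg.siegelMatrix, add_mulVec, one_mulVec, smul_mulVec, sub_mulVec, vecMulVec_mulVec, vecMulVec_mulVec,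
    op_smul_eq_smul, op_smul_eq_smul, h, h, pv_dot, pv_dot]

omit [Fintype F] in
theorem isE_of_siegel {u v : ι → F} (hv : Q v = 0) {c : F} {g : GL ι F}
    (hg : (g : Matrix ι ι F) = Cfsg.siegelMatrix Q u v c) : IsE Q u (c • v) g := fun x => by
  rw [hg, siegel_apply hQ, qsmul hQ, hv, psmul_right hQ]
  module

omit [Fintype F] in
theorem siegel_of_isE {u v : ι → F} (hv : Q v = 0) {c : F} {g : GL ι F} (hg : IsE Q u (c • v) g) :
    (g : Matrix ι ι F) = Cfsg.siegelMatrix Q u v c := Matrix.ext_iff_mulVec.2 fun x => by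
  rw [hg, siegel_apply hQ, qsmul hQ, hv, psmul_right hQ]
  module

/-- an isometry fixing `u` and negating `v` -/
theorem exists_negating (h2 : (2 : F) ≠ 0) {u v : ι → F} (huv : pol Q u v = 0) (hv : Q v = 0)
    (hvu : v ∉ Submodule.span F {u}) : ∃ d ∈ Cfsg.isometryGroup F Q,
      (d : Matrix ι ι F) *ᵥ u = u ∧ (d : Matrix ι ι F) *ᵥ v = -v := by
  obtain ⟨p, hp, hvp⟩ := exists_qperp_ne hQ hvu
  have hpu : pol Q p u = 0 := hp u (Submodule.mem_span_singleton_self u)
  obtain ⟨v', hv'⟩ : ∃ v', v' = p - Q p • v := ⟨_, rfl⟩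
  have huv' : pol Q u v' = 0 := by rw [hv', psub_right hQ, psmul_right hQ, pcomm, hpu, huv]; ring
  have hQv' : Q v' = 0 := by rw [hv', qsub hQ, qsmul hQ, hv, psmul_right hQ, pcomm, hvp]; ring
  have hvv' : pol Q v v' = 1 := by rw [hv', psub_right hQ, psmul_right hQ, hvp, pself hQ, hv]; ring
  have hp1 : Q (v + v') = 1 := by rw [qadd hQ, hv, hQv', hvv']; ring
  have hm1 : Q (v - v') = -1 := by rw [qsub hQ, hv, hQv', hvv']; ring
  obtain ⟨r, hr, hrp⟩ := exists_refl hQ (v := v + v') (by rw [hp1]; exact one_ne_zero)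
  obtain ⟨s, hs, hsm⟩ := exists_refl hQ (v := v - v') (by rw [hm1]; exact neg_ne_zero.2 one_ne_zero)
  refine ⟨r * s, mul_mem hr hs, ?_, ?_⟩
  · rw [gl_mul_mulVec, refl_fix hQ hsm (by rw [psub_right hQ, huv, huv', sub_zero]),
      refl_fix hQ hrp (by rw [padd_right hQ, huv, huv', add_zero])]
  · have h1 : (s : Matrix ι ι F) *ᵥ v = v' := by
      rw [hsm, hm1, psub_right hQ, pself hQ, hv, hvv', inv_neg, inv_one]
      module
    rw [gl_mul_mulVec, h1, hrp, hp1, padd_right hQ, pself hQ, hQv', pcomm v' v, hvv', inv_one]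
    module

/-- a Siegel transformation is a commutator -/
theorem siegel_mem_commutatorSet (h2 : (2 : F) ≠ 0) {u v : ι → F} (hu : Q u = 0) (hv : Q v = 0)
    (huv : pol Q u v = 0) {c : F} (g : Cfsg.isometryGroup F Q)
    (hg : ((g : GL ι F) : Matrix ι ι F) = Cfsg.siegelMatrix Q u v c) :
    g ∈ commutatorSet (Cfsg.isometryGroup F Q) := by
  have hE : IsE Q u (c • v) g.1 := isE_of_siegel hQ hv hg
  by_cases hvu : v ∈ Submodule.span F {u}
  · obtain ⟨t, rfl⟩ := Submodule.mem_span_singleton.1 hvu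
    rw [smul_smul] at hE
    rw [show g = 1 from Subtype.ext (hE.unique (IsE.one hQ hu _))]
    exact one_mem_commutatorSet _
  obtain ⟨d, hd, hdu, hdv⟩ := exists_negating hQ h2 huv hv hvu
  obtain ⟨b, hb⟩ : ∃ b, b = (-(c / 2)) • v := ⟨_, rfl⟩
  have hub : pol Q u b = 0 := by rw [hb, psmul_right hQ, huv, mul_zero]
  have hub' : pol Q u (-b) = 0 := by rw [pneg_right hQ, hub, neg_zero]
  obtain ⟨e, he, heE⟩ := exists_E hQ hu hub
  obtain ⟨e', he', he'E⟩ := exists_E hQ hu hub'
  have hinv : e⁻¹ = e' := by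
    refine mul_eq_one_iff_inv_eq.1 (gl_ext_vec fun x => ?_)
    have h1 := heE.mul hQ hu hub hub' he'E x
    rw [add_neg_cancel] at h1
    rw [h1, Units.val_one, one_mulVec, pzero_right hQ, qzero hQ]
    simp
  have h1 : IsE Q u (-b) (d * e * d⁻¹) := by
    have := heE.conj hd
    rwa [hdu, hb, mulVec_smul, hdv, smul_neg, ← hb] at this
  have h3 : IsE Q u (c • v) (d * e * d⁻¹ * e⁻¹) := by
    rw [hinv]
    convert h1.mul hQ hu hub' hub' he'E using 1
    rw [hb]
    match_scalars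
    field_simp
    ring
  refine mem_commutatorSet_iff.2 ⟨⟨d, hd⟩, ⟨e, he⟩, Subtype.ext ?_⟩
  exact h3.unique hE

/-- singular vectors span -/
theorem le_of_singular_mem {P S : Submodule F (ι → F)} (hP : NdOn Q P) (hd : 3 ≤ Module.finrank F P)
    (h : ∀ v ∈ P, Q v = 0 → v ∈ S) : P ≤ S := by
  obtain ⟨e, he, he0, hQe⟩ := exists_qsingular hQ hP hd
  obtain ⟨f, hf, hQf, hef⟩ := exists_qpartner hQ hP he he0 hQe
  intro x hx
  have h1 := pair_proj hQ he hf hQe hQf hef hx
  obtain ⟨y, hy⟩ : ∃ y, y = x - pol Q x f • e - pol Q x e • f := ⟨_, rfl⟩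
  rw [← hy] at h1
  obtain ⟨hyP, hye, hyf⟩ := (mem_pairPerp hQ).1 h1
  have h2 : y + f - Q y • e ∈ S := h _ (P.sub_mem (P.add_mem hyP hf) (P.smul_mem _ he)) (by
    rw [qsub hQ, qadd hQ, qsmul hQ, hQf, hQe, psmul_right hQ, padd_left hQ, hye, hyf, pcomm f e, hef]
    ring)
  have h3 : x = (y + f - Q y • e) + (Q y + pol Q x f) • e + (pol Q x e - 1) • f := by rw [hy]; module
  rw [h3]
  exact S.add_mem (S.add_mem h2 (S.smul_mem _ (h e he hQe))) (S.smul_mem _ (h f hf hQf))

/-- the Eichler transformations along singular vectors generate `Ω` -/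
theorem ein_of_singular (hn : 5 ≤ Fintype.card ι) {M : Subgroup (GL ι F)}
    (hM : ∀ u a, Q u = 0 → Q a = 0 → pol Q u a = 0 → EIn Q M u a) {u a : ι → F} (hu : Q u = 0)
    (hua : pol Q u a = 0) : EIn Q M u a := by
  rcases eq_or_ne u 0 with rfl | hu0
  · refine ⟨1, one_mem _, fun x => ?_⟩
    rw [Units.val_one, one_mulVec, pzero_right hQ]
    simp
  obtain ⟨u', -, hu', huu'⟩ := exists_qpartner hQ (ndOn_top hQ) Submodule.mem_top hu0 hu
  have hdim := pair_finrank hQ (P := ⊤) (e := u) (f := u') Submodule.mem_top Submodule.mem_top hu hu' huu'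
  rw [finrank_top, Module.finrank_fintype_fun_eq_card] at hdim
  have hnd := pair_nd hQ (P := ⊤) (e := u) (f := u') Submodule.mem_top Submodule.mem_top hu hu' huu' (ndOn_top hQ)
  let S : Submodule F (ι → F) :=
    { carrier := {p | pol Q u p = 0 ∧ ∀ s : F, EIn Q M u (s • p)}
      zero_mem' := ⟨pzero_right hQ u, fun s => by
        rw [smul_zero]
        have := EIn.smul_self hQ M hu 0
        rwa [zero_smul] at this⟩
      add_mem' := fun {p p'} hp hp' => ⟨by rw [padd_right hQ, hp.1, hp'.1, add_zero], fun s => by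
        rw [smul_add]
        exact EIn.add hQ hu (by rw [psmul_right hQ, hp.1, mul_zero]) (by rw [psmul_right hQ, hp'.1, mul_zero])
          (hp.2 s) (hp'.2 s)⟩
      smul_mem' := fun c p hp => ⟨by rw [psmul_right hQ, hp.1, mul_zero], fun s => by
        rw [smul_smul]; exact hp.2 _⟩ }
  have hle : pairPerp hQ ⊤ u u' ≤ S := le_of_singular_mem hQ hnd (by omega) fun v hv hQv => by
    obtain ⟨-, hvu, -⟩ := (mem_pairPerp hQ).1 hv
    exact ⟨by rw [pcomm, hvu], fun s => hM u _ hu (by rw [qsmul hQ, hQv, mul_zero])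
      (by rw [psmul_right hQ, pcomm, hvu, mul_zero])⟩
  have hp : a - pol Q a u' • u ∈ pairPerp hQ ⊤ u u' := by
    refine (mem_pairPerp hQ).2 ⟨Submodule.mem_top, ?_, ?_⟩
    · rw [psub_left hQ, psmul_left hQ, pcomm, hua, pself hQ, hu]
      ring
    · rw [psub_left hQ, psmul_left hQ, huu']
      ring
  have h1 := (hle hp).2 1
  rw [one_smul] at h1
  have h2 := EIn.add hQ hu (hle hp).1 (by rw [psmul_right hQ, pself hQ, hu, mul_zero, mul_zero]) h1
    (EIn.smul_self hQ M hu (pol Q a u'))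
  rwa [sub_add_cancel] at h2

theorem omega_eq_closure_siegel (h2 : (2 : F) ≠ 0) (hn : 5 ≤ Fintype.card ι) :
    Cfsg.Omega F Q = Subgroup.closure {g : Cfsg.isometryGroup F Q | ∃ (u v : ι → F) (c : F), Q u = 0 ∧ Q v = 0 ∧
      pol Q u v = 0 ∧ ((g : GL ι F) : Matrix ι ι F) = Cfsg.siegelMatrix Q u v c} := by
  refine le_antisymm (fun x hx => ?_) ((Subgroup.closure_le _).2 ?_)
  · obtain ⟨H, hH⟩ : ∃ H : Subgroup (Cfsg.isometryGroup F Q), H = Subgroup.closure
        {g : Cfsg.isometryGroup F Q | ∃ (u v : ι → F) (c : F), Q u = 0 ∧ Q v = 0 ∧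
          pol Q u v = 0 ∧ ((g : GL ι F) : Matrix ι ι F) = Cfsg.siegelMatrix Q u v c} := ⟨_, rfl⟩
    rw [← hH]
    have h1 : eGroup Q ≤ H.map (Cfsg.isometryGroup F Q).subtype := by
      refine (Subgroup.closure_le _).2 ?_
      rintro g ⟨-, u, a, hu, hua, hgE⟩
      obtain ⟨k, hk, hkE⟩ := ein_of_singular hQ hn (M := H.map (Cfsg.isometryGroup F Q).subtype)
        (fun u a hu ha hua => by
          obtain ⟨k, hk, hkE⟩ := exists_E hQ hu hua
          exact ⟨k, ⟨⟨k, hk⟩, hH ▸ Subgroup.subset_closure ⟨u, a, 1, hu, ha, hua,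
            siegel_of_isE hQ ha (by rwa [one_smul])⟩, rfl⟩, hkE⟩) hu hua
      rw [hgE.unique hkE]
      exact hk
    have h3 : (x : GL ι F) ∈ omegaGL Q := ⟨x, hx, rfl⟩
    rw [omegaGL_eq hQ hn] at h3
    obtain ⟨y, hy, hyx⟩ := h1 h3
    rwa [← (show y = x from Subtype.ext hyx)]
  · rintro g ⟨u, v, c, hu, hv, huv, hg⟩
    show g ∈ commutator (Cfsg.isometryGroup F Q)
    rw [commutator_eq_closure]
    exact Subgroup.subset_closure (siegel_mem_commutatorSet hQ h2 hu hv huv g hg)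

end CfsgLib.Perm.Trans.Quad
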