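import Cfsg.Agent.Lib.Perm.Trans.QuadMax
import Cfsg.Agent.Lib.Perm.Trans.QuadSiegel
import Cfsg.Agent.Lib.Perm.Trans.QuadWitt

/-!
# `Ω` and the stabiliser of a nondegenerate subspace generate the orthogonal group
-/

set_option autoImplicit false
set_option linter.all false

namespace CfsgLib.Perm.Trans.Quad

open scoped Matrix commutatorElement
open Matrix Cfsg.Geo CfsgLib.Perm.Asch CfsgLib.Perm.Trans

variable {ι : Type} [Fintype ι] [DecidableEq ι] {F : Type*} [Field F] [Fintype F]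

local notation "pol" => QuadraticMap.polar

/-- an isometry from a linear automorphism -/
theorem exists_iso_of_equiv {Q : (ι → F) → F} (g : (ι → F) ≃ₗ[F] (ι → F)) (hg : ∀ v, Q (g v) = Q v) :
    ∃ k ∈ Cfsg.isometryGroup F Q, ∀ v, (k : Matrix ι ι F) *ᵥ v = g v := by
  have h : ∀ e : (ι → F) ≃ₗ[F] (ι → F),
      LinearMap.toMatrix' e.toLinearMap * LinearMap.toMatrix' e.symm.toLinearMap = 1 := fun e => by
    rw [← LinearMap.toMatrix'_comp, LinearEquiv.comp_coe, LinearEquiv.symm_trans_self, LinearEquiv.refl_toLinearMap,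
      LinearMap.toMatrix'_id]
  have happ : ∀ v, LinearMap.toMatrix' g.toLinearMap *ᵥ v = g v := fun v => by
    rw [LinearMap.toMatrix'_mulVec]; rfl
  exact ⟨⟨_, _, h g, by simpa using h g.symm⟩, mem_iso.2 fun v => by
    show Q (LinearMap.toMatrix' g.toLinearMap *ᵥ v) = Q v
    rw [happ, hg], happ⟩

variable {Q : (ι → F) → F} (hQ : IsNondegenerateQuadraticForm Q)
include hQ

omit [Fintype F] in
theorem eq_zero_of_perp_top {x : ι → F} (h : ∀ y, pol Q x y = 0) : x = 0 := by
  by_contra hne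
  obtain ⟨y, hy⟩ := (hQ.nondegenerate x hne).2
  exact hy (h y)

omit [Fintype F] in
theorem qperp_decomp {W : Submodule F (ι → F)} (hW : NdOn Q W) (x : ι → F) : ∃ p ∈ W, x - p ∈ qperp hQ W := by
  have hinf : W ⊓ qperp hQ W = ⊥ := by
    rw [eq_bot_iff]
    rintro v ⟨hvP, hv'⟩
    by_contra hne
    obtain ⟨y, hy, hyv⟩ := (hW v hvP hne).2
    exact hyv (hv' y hy)
  have h1 := Submodule.finrank_sup_add_finrank_inf_eq W (qperp hQ W)
  rw [hinf, finrank_bot, add_zero] at h1
  have h2 := finrank_qperp hQ W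
  have hsup : W ⊔ qperp hQ W = ⊤ := Submodule.eq_top_of_finrank_eq (by
    refine le_antisymm (Submodule.finrank_le _) ?_
    rw [Module.finrank_fintype_fun_eq_card]
    omega)
  obtain ⟨p, hp, y, hy, hpy⟩ := Submodule.mem_sup.1 (hsup ▸ Submodule.mem_top : x ∈ W ⊔ qperp hQ W)
  exact ⟨p, hp, by rwa [← hpy, add_sub_cancel_left]⟩

omit [Fintype F] in
theorem qperp_nd {W : Submodule F (ι → F)} (hW : NdOn Q W) : NdOn Q (qperp hQ W) := by
  intro v hv hv0
  have key : ∃ y ∈ qperp hQ W, pol Q v y ≠ 0 := by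
    by_contra hcon
    push Not at hcon
    refine hv0 (eq_zero_of_perp_top hQ fun y => ?_)
    obtain ⟨p, hp, hyp⟩ := qperp_decomp hQ hW y
    have := hcon _ hyp
    rwa [psub_right hQ, hv p hp, sub_zero] at this
  obtain ⟨y, hy, hvy⟩ := key
  exact ⟨⟨y, hy, by rwa [pcomm]⟩, y, hy, hvy⟩

/-- nondegenerate planes take every value -/
theorem exists_value_two {P : Submodule F (ι → F)} (hP : NdOn Q P) (hd : 2 ≤ Module.finrank F P) (c : F) :
    ∃ x ∈ P, Q x = c := by
  rcases eq_or_lt_of_le hd with hd2 | hd3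
  swap
  · exact exists_qvalue hQ hP hd3 c
  obtain ⟨x, hx, hQx⟩ := exists_nonsingular hQ hP (fun h => by rw [h, finrank_bot] at hd2; omega)
  by_cases h2 : (2 : F) = 0
  · haveI : CharP F 2 := CharTwo.of_one_ne_zero_of_two_eq_zero one_ne_zero h2
    obtain ⟨t, ht⟩ := FiniteField.isSquare_of_char_two (ringChar.eq F 2) (c / Q x)
    refine ⟨t • x, P.smul_mem _ hx, ?_⟩
    rw [qsmul hQ, sq, ← ht, div_mul_cancel₀ _ hQx]
  obtain ⟨y, hy, hy0⟩ : ∃ y ∈ P ⊓ LinearMap.ker (pfl hQ x), y ≠ 0 := by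
    refine Submodule.exists_mem_ne_zero_of_ne_bot fun h => ?_
    have h1 := finrank_inf_pfl hQ P x
    rw [h, finrank_bot] at h1
    omega
  obtain ⟨hyP, hyx⟩ := hy
  have hyx' : pol Q y x = 0 := hyx
  have hQy : Q y ≠ 0 := by
    intro hQy
    obtain ⟨z, hz, hyz⟩ := (hP y hyP hy0).2
    obtain ⟨S, hS⟩ : ∃ S, S = Submodule.span F ({x, y} : Set (ι → F)) := ⟨_, rfl⟩
    have hli : LinearIndependent F ![x, y] := by
      refine LinearIndependent.pair_iff.2 fun s t hst => ?_
      have h1 : pol Q (s • x + t • y) x = 0 := by rw [hst, pzero_left hQ]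
      rw [padd_left hQ, psmul_left hQ, psmul_left hQ, hyx', pself hQ, mul_zero, add_zero] at h1
      have hs : s = 0 := by simpa [h2, hQx] using h1
      rw [hs, zero_smul, zero_add, smul_eq_zero] at hst
      exact ⟨hs, hst.resolve_right hy0⟩
    have h1 : S = P := by
      refine Submodule.eq_of_le_of_finrank_le (hS ▸ Submodule.span_le.2 ?_) ?_
      · rintro v (rfl | rfl)
        exacts [hx, hyP]
      · rw [← hd2, hS]
        have := finrank_span_eq_card hli
        rw [Fintype.card_fin, Matrix.range_cons, Matrix.range_cons, Matrix.range_empty, Set.union_empty] at this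
        rw [show ({x, y} : Set (ι → F)) = {x} ∪ {y} from Set.insert_eq x {y}, this]
    rw [← h1, hS, Submodule.mem_span_pair] at hz
    obtain ⟨s, t, rfl⟩ := hz
    refine hyz ?_
    rw [padd_right hQ, psmul_right hQ, psmul_right hQ, hyx', pself hQ, hQy]
    ring
  have hodd : Fintype.card F % 2 = 1 := by
    by_contra h
    have h2' : ringChar F = 2 := FiniteField.even_card_iff_char_two.2 (by omega)
    exact h2 (by rw [← Nat.cast_ofNat (R := F) (n := 2), ← h2']; exact ringChar.Nat.cast_ringChar)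
  obtain ⟨a, b, hab⟩ := FiniteField.exists_root_sum_quadratic
    (f := Polynomial.C (Q x) * Polynomial.X ^ 2 - Polynomial.C c) (g := Polynomial.C (Q y) * Polynomial.X ^ 2)
    (by rw [Polynomial.degree_sub_eq_left_of_degree_lt] <;> rw [Polynomial.degree_C_mul_X_pow 2 hQx]
        · rfl
        · exact lt_of_le_of_lt Polynomial.degree_C_le (by norm_num))
    (by rw [Polynomial.degree_C_mul_X_pow 2 hQy]; rfl) hodd
  simp only [Polynomial.eval_sub, Polynomial.eval_mul, Polynomial.eval_C, Polynomial.eval_pow, Polynomial.eval_X] at hab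
  refine ⟨a • x + b • y, P.add_mem (P.smul_mem _ hx) (P.smul_mem _ hyP), ?_⟩
  rw [qadd hQ, qsmul hQ, qsmul hQ, psmul_left hQ, psmul_right hQ, pcomm x y, hyx']
  linear_combination hab

/-- reflections generate, outside dimension four over two elements -/
theorem iso_le_refl_closure (hn : 3 ≤ Fintype.card ι) (h : Fintype.card F ≠ 2 ∨ Fintype.card ι ≠ 4) :
    Cfsg.isometryGroup F Q ≤ Subgroup.closure {g | g ∈ Cfsg.isometryGroup F Q ∧ ∃ v, Q v ≠ 0 ∧ IsRefl Q v g} := by
  obtain ⟨R, hR⟩ : ∃ R, R = Subgroup.closure {g | g ∈ Cfsg.isometryGroup F Q ∧ ∃ v, Q v ≠ 0 ∧ IsRefl Q v g} :=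
    ⟨_, rfl⟩
  rw [← hR]
  refine (iso_le_eRefl hQ).trans (sup_le ((Subgroup.closure_le _).2 ?_) hR.ge)
  rintro g ⟨-, u, a, hu, hua, hgE⟩
  suffices hE : EIn Q R u a by
    obtain ⟨k, hk, hkE⟩ := hE
    rw [hgE.unique hkE]
    exact hk
  rcases eq_or_ne u 0 with rfl | hu0
  · refine ⟨1, one_mem _, fun x => ?_⟩
    rw [Units.val_one, one_mulVec, pzero_right hQ]
    simp
  have hns : ∀ a, pol Q u a = 0 → Q a ≠ 0 → EIn Q R u a := by
    intro a hua hQa
    have hau : pol Q a u = 0 := by rw [pcomm, hua]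
    have hQb : Q (a + Q a • u) = Q a := by
      rw [qadd hQ, qsmul hQ, hu, psmul_right hQ, hau]
      ring
    obtain ⟨r, hr, hra⟩ := exists_refl hQ hQa
    obtain ⟨s, hs, hsb⟩ := exists_refl hQ (v := a + Q a • u) (by rwa [hQb])
    refine ⟨r * s, mul_mem (hR ▸ Subgroup.subset_closure ⟨hr, a, hQa, hra⟩)
      (hR ▸ Subgroup.subset_closure ⟨hs, _, by rwa [hQb], hsb⟩), fun x => ?_⟩
    rw [gl_mul_mulVec, hra, hsb, hQb]
    simp only [psub_left hQ, psmul_left hQ, padd_left hQ, padd_right hQ, psmul_right hQ, pself hQ a, hua]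
    match_scalars <;> field_simp <;> ring
  obtain ⟨u', -, hu', huu'⟩ := exists_qpartner hQ (ndOn_top hQ) Submodule.mem_top hu0 hu
  have hnd := pair_nd hQ (P := ⊤) (e := u) (f := u') Submodule.mem_top Submodule.mem_top hu hu' huu' (ndOn_top hQ)
  let S : Submodule F (ι → F) :=
    { carrier := {p | pol Q u p = 0 ∧ ∀ s : F, EIn Q R u (s • p)}
      zero_mem' := ⟨pzero_right hQ u, fun s => by
        rw [smul_zero]
        have := EIn.smul_self hQ R hu 0
        rwa [zero_smul] at this⟩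
      add_mem' := fun {p p'} hp hp' => ⟨by rw [padd_right hQ, hp.1, hp'.1, add_zero], fun s => by
        rw [smul_add]
        exact EIn.add hQ hu (by rw [psmul_right hQ, hp.1, mul_zero]) (by rw [psmul_right hQ, hp'.1, mul_zero])
          (hp.2 s) (hp'.2 s)⟩
      smul_mem' := fun c p hp => ⟨by rw [psmul_right hQ, hp.1, mul_zero], fun s => by
        rw [smul_smul]; exact hp.2 _⟩ }
  have hSns : ∀ v ∈ pairPerp hQ ⊤ u u', Q v ≠ 0 → v ∈ S := fun v hv hQv => by
    obtain ⟨-, hvu, -⟩ := (mem_pairPerp hQ).1 hv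
    refine ⟨by rw [pcomm, hvu], fun s => ?_⟩
    rcases eq_or_ne s 0 with rfl | hs
    · have := EIn.smul_self hQ R hu 0
      rw [zero_smul] at this
      rwa [zero_smul]
    exact hns _ (by rw [psmul_right hQ, pcomm, hvu, mul_zero])
      (by rw [qsmul hQ]; exact mul_ne_zero (pow_ne_zero 2 hs) hQv)
  have hle : pairPerp hQ ⊤ u u' ≤ S := by
    by_cases hd : 3 ≤ Module.finrank F (pairPerp hQ ⊤ u u')
    · exact le_of_nonsingular_mem hQ hnd hd hSns
    intro v hv
    by_cases hQv : Q v = 0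
    swap
    · exact hSns v hv hQv
    rcases eq_or_ne v 0 with rfl | hv0
    · exact S.zero_mem
    obtain ⟨v', hv', hQv', hvv'⟩ := exists_qpartner hQ hnd hv hv0 hQv
    obtain ⟨-, hvu, hvu'⟩ := (mem_pairPerp hQ).1 hv
    obtain ⟨α, hα0, hα1⟩ : ∃ α : F, α ≠ 0 ∧ α ≠ 1 := by
      classical
      by_contra hcon
      push Not at hcon
      have hcard : Fintype.card F ≤ 2 :=
        (Finset.card_le_card (show (Finset.univ : Finset F) ⊆ {0, 1} from fun a _ => by
          simp only [Finset.mem_insert, Finset.mem_singleton]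
          by_cases ha : a = 0
          · exact Or.inl ha
          · exact Or.inr (hcon a ha))).trans Finset.card_le_two
      have hcard' := Fintype.one_lt_card (α := F)
      have hne : Fintype.card ι ≠ 4 := h.resolve_left (by omega)
      have hts : IsTotallySingularQuad Q (Submodule.span F {u}) := fun w hw => by
        obtain ⟨t, rfl⟩ := Submodule.mem_span_singleton.1 hw
        rw [qsmul hQ, hu, mul_zero]
      have hvsp : v ∉ Submodule.span F {u} := fun hw => by
        obtain ⟨t, rfl⟩ := Submodule.mem_span_singleton.1 hw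
        rw [psmul_left hQ, huu', mul_one] at hvu'
        exact hv0 (by rw [hvu', zero_smul])
      obtain ⟨-, h1, h2⟩ := singular_extend hQ hts (z := v) ((mem_qperp_span hQ).2 fun w hw => by
        rw [Set.mem_singleton_iff.1 hw, hvu]) hvsp hQv
      rw [finrank_span_singleton hu0] at h1
      have hdim := pair_finrank hQ (P := ⊤) (e := u) (f := u') Submodule.mem_top Submodule.mem_top hu hu' huu'
      rw [finrank_top, Module.finrank_fintype_fun_eq_card] at hdim
      omega
    have h1 := hSns (α • v + v') (Submodule.add_mem _ (Submodule.smul_mem _ _ hv) hv') (by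
      rw [qadd hQ, qsmul hQ, hQv, hQv', psmul_left hQ, hvv']
      simpa using hα0)
    have h2 := hSns ((1 - α) • v - v') (Submodule.sub_mem _ (Submodule.smul_mem _ _ hv) hv') (by
      rw [qsub hQ, qsmul hQ, hQv, hQv', psmul_left hQ, hvv']
      simpa [sub_eq_zero] using hα1)
    have h3 := S.add_mem h1 h2
    rwa [show α • v + v' + ((1 - α) • v - v') = v by module] at h3
  have hp : a - pol Q a u' • u ∈ pairPerp hQ ⊤ u u' := by
    refine (mem_pairPerp hQ).2 ⟨Submodule.mem_top, ?_, ?_⟩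
    · rw [psub_left hQ, psmul_left hQ, pcomm, hua, pself hQ, hu]
      ring
    · rw [psub_left hQ, psmul_left hQ, huu']
      ring
  have h1 := (hle hp).2 1
  rw [one_smul] at h1
  have h2 := EIn.add hQ hu (hle hp).1 (by rw [psmul_right hQ, pself hQ, hu, mul_zero, mul_zero]) h1
    (EIn.smul_self hQ R hu (pol Q a u'))
  rwa [sub_add_cancel] at h2

omit hQ in
/-- `Ω` and the stabiliser of a nondegenerate subspace generate the orthogonal group -/
theorem stab_sup_omega (B : QuadraticForm F (ι → F)) (hB : (QuadraticMap.polarBilin B).Nondegenerate)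
    (hn : 3 ≤ Fintype.card ι) (h : Fintype.card F ≠ 2 ∨ Fintype.card ι ≠ 4) {W : Submodule F (ι → F)}
    (hW : NdOn (⇑B) W) :
    (subspaceStabilizer W).comap (Cfsg.isometryGroup F ⇑B).subtype ⊔ Cfsg.Omega F ⇑B = ⊤ := by
  have hQ := nd_of_bundled B hB
  obtain ⟨T, hT⟩ : ∃ T, T = (subspaceStabilizer W).comap (Cfsg.isometryGroup F ⇑B).subtype ⊔ Cfsg.Omega F ⇑B :=
    ⟨_, rfl⟩
  rw [← hT, eq_top_iff]
  rintro g -
  have hle : Cfsg.isometryGroup F ⇑B ≤ T.map (Cfsg.isometryGroup F ⇑B).subtype := by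
    refine (iso_le_refl_closure hQ hn h).trans ((Subgroup.closure_le _).2 ?_)
    rintro r ⟨hr, v, hv, hrv⟩
    obtain ⟨w, hwW, hQw⟩ : ∃ w, (w ∈ W ∨ w ∈ qperp hQ W) ∧ B w = B v := by
      by_cases hd : 2 ≤ Module.finrank F W
      · obtain ⟨w, hw, hQw⟩ := exists_value_two hQ hW hd (B v)
        exact ⟨w, Or.inl hw, hQw⟩
      · have := finrank_qperp hQ W
        obtain ⟨w, hw, hQw⟩ := exists_value_two hQ (qperp_nd hQ hW) (by omega) (B v)
        exact ⟨w, Or.inr hw, hQw⟩
    obtain ⟨s, hs, hsw⟩ := exists_refl hQ (v := w) (by rwa [hQw])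
    have hsW : s ∈ subspaceStabilizer W := mem_stab_of_maps fun x hx => by
      rcases hwW with hw | hw
      · rw [hsw]; exact W.sub_mem hx (W.smul_mem _ hw)
      · rw [refl_fix hQ hsw (by rw [pcomm]; exact hw x hx)]; exact hx
    have hv0 : v ≠ 0 := fun h => hv (by rw [h]; exact qzero hQ)
    have hw0 : w ≠ 0 := fun h => hv (by rw [← hQw, h]; exact qzero hQ)
    let φ : Submodule.span F {w} →ₗ[F] (ι → F) :=
      (LinearMap.toSpanSingleton F (ι → F) v).comp (LinearEquiv.toSpanNonzeroSingleton F (ι → F) w hw0).symm.toLinearMap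
    obtain ⟨t, ht⟩ : ∃ t : Submodule.span F {w}, (t : ι → F) = w := ⟨⟨w, Submodule.mem_span_singleton_self w⟩, rfl⟩
    have hφ : ∀ (c : F) (x : Submodule.span F {w}), (x : ι → F) = c • w → φ x = c • v := fun c x hx => by
      have : (LinearEquiv.toSpanNonzeroSingleton F (ι → F) w hw0).symm x = c := by
        rw [LinearEquiv.symm_apply_eq]
        exact Subtype.ext hx
      show LinearMap.toSpanSingleton F (ι → F) v ((LinearEquiv.toSpanNonzeroSingleton F (ι → F) w hw0).symm x) = _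
      rw [this]; rfl
    obtain ⟨g, hg, hgx⟩ := Witt.witt_extension hB (Submodule.span F {w}) φ (by
        refine (injective_iff_map_eq_zero φ).2 fun x hx => ?_
        obtain ⟨c, hc⟩ := Submodule.mem_span_singleton.1 x.2
        rw [hφ c x hc.symm, smul_eq_zero] at hx
        exact Subtype.ext (by rw [← hc, hx.resolve_right hv0, zero_smul]; rfl)) (fun x => by
        obtain ⟨c, hc⟩ := Submodule.mem_span_singleton.1 x.2
        rw [hφ c x hc.symm, ← hc, qsmul hQ, qsmul hQ, hQw])
    have hgw : g w = v := by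
      have := hgx t
      rwa [hφ 1 t (by rw [one_smul, ht]), one_smul, ht] at this
    obtain ⟨k, hk, hkg⟩ := exists_iso_of_equiv (Q := ⇑B) g hg
    have h1 := hsw.conj hk
    rw [hkg, hgw] at h1
    have h2 : r = k * s * k⁻¹ * s⁻¹ * s := by rw [hrv.unique h1]; group
    refine ⟨⟨r, hr⟩, ?_, rfl⟩
    show (⟨r, hr⟩ : Cfsg.isometryGroup F ⇑B) ∈ T
    rw [show (⟨r, hr⟩ : Cfsg.isometryGroup F ⇑B) =
        ⁅(⟨k, hk⟩ : Cfsg.isometryGroup F ⇑B), ⟨s, hs⟩⁆ * ⟨s, hs⟩ from Subtype.ext h2, hT]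
    exact mul_mem (Subgroup.mem_sup_right (Subgroup.commutator_mem_commutator (Subgroup.mem_top _) (Subgroup.mem_top _)))
      (Subgroup.mem_sup_left hsW)
  obtain ⟨y, hy, hyg⟩ := hle g.2
  rwa [← (show y = g from Subtype.ext hyg)]

end CfsgLib.Perm.Trans.Quad
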