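import Cfsg.Agent.Lib.Perm.Trans.Basic
import Cfsg.Agent.Lib.Classical.QuadNormal
import Cfsg.Prelude.Def_ClassicalGeometry

/-!
# Nondegenerate quadratic forms given as functions: orthogonals, hyperbolic pairs, Eichler maps, reflections
-/

set_option autoImplicit false
set_option linter.all false

namespace CfsgLib.Perm.Trans.Quad

open scoped Matrix
open Matrix Cfsg.Geo CfsgLib.Perm.Asch CfsgLib.Perm.Trans

variable {ι : Type} [Fintype ι] [DecidableEq ι] {F : Type*} [Field F]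
variable {Q : (ι → F) → F}

local notation "pol" => QuadraticMap.polar

/-- `g` is the Eichler transformation of `u` and `a` -/
def IsE (Q : (ι → F) → F) (u a : ι → F) (g : GL ι F) : Prop :=
  ∀ x, (g : Matrix ι ι F) *ᵥ x = x + pol Q x u • a - pol Q x a • u - (Q a * pol Q x u) • u

/-- `g` is the reflection along `v` -/
def IsRefl (Q : (ι → F) → F) (v : ι → F) (g : GL ι F) : Prop :=
  ∀ x, (g : Matrix ι ι F) *ᵥ x = x - ((Q v)⁻¹ * pol Q x v) • v

theorem mem_iso {g : GL ι F} : g ∈ Cfsg.isometryGroup F Q ↔ ∀ x, Q ((g : Matrix ι ι F) *ᵥ x) = Q x :=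
  ⟨fun h x => h x x, fun h u _ => h u⟩

theorem iso_pol {g : GL ι F} (hg : g ∈ Cfsg.isometryGroup F Q) (x y : ι → F) :
    pol Q ((g : Matrix ι ι F) *ᵥ x) ((g : Matrix ι ι F) *ᵥ y) = pol Q x y := by
  simp only [QuadraticMap.polar, ← mulVec_add, mem_iso.1 hg]

theorem pcomm (x y : ι → F) : pol Q x y = pol Q y x := QuadraticMap.polar_comm Q x y

/-- the orthogonal of a subspace -/
def qperp (hQ : IsNondegenerateQuadraticForm Q) (W : Submodule F (ι → F)) : Submodule F (ι → F) where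
  carrier := {x | ∀ w ∈ W, pol Q x w = 0}
  add_mem' := fun {a b} ha hb w hw => by rw [hQ.polar_bilinear.add_left, ha w hw, hb w hw, add_zero]
  zero_mem' := fun w _ => by
    have := hQ.polar_bilinear.smul_left 0 0 w
    simpa using this
  smul_mem' := fun c a ha w hw => by rw [hQ.polar_bilinear.smul_left, ha w hw, mul_zero]

/-- `Q` restricted to `P` has nondegenerate polar form -/
abbrev NdOn (Q : (ι → F) → F) (P : Submodule F (ι → F)) : Prop := IsNondegenerateOn (pol Q) P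

variable (hQ : IsNondegenerateQuadraticForm Q)
include hQ

theorem qadd (x y : ι → F) : Q (x + y) = Q x + Q y + pol Q x y := by
  rw [QuadraticMap.polar]
  abel

theorem padd_left (x y z : ι → F) : pol Q (x + y) z = pol Q x z + pol Q y z := hQ.polar_bilinear.add_left x y z

theorem padd_right (x y z : ι → F) : pol Q x (y + z) = pol Q x y + pol Q x z := hQ.polar_bilinear.add_right x y z

theorem psmul_left (c : F) (x z : ι → F) : pol Q (c • x) z = c * pol Q x z := hQ.polar_bilinear.smul_left c x z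

theorem psmul_right (c : F) (x z : ι → F) : pol Q x (c • z) = c * pol Q x z := hQ.polar_bilinear.smul_right c x z

theorem pzero_left (z : ι → F) : pol Q 0 z = 0 := by
  have := psmul_left hQ 0 0 z
  simpa using this

theorem pzero_right (z : ι → F) : pol Q z 0 = 0 := by rw [pcomm, pzero_left hQ]

theorem pneg_left (x z : ι → F) : pol Q (-x) z = -pol Q x z := by
  rw [← neg_one_smul F x, psmul_left hQ, neg_one_mul]

theorem pneg_right (x z : ι → F) : pol Q x (-z) = -pol Q x z := by rw [pcomm, pneg_left hQ, pcomm]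

theorem psub_left (x y z : ι → F) : pol Q (x - y) z = pol Q x z - pol Q y z := by
  rw [sub_eq_add_neg, padd_left hQ, pneg_left hQ, sub_eq_add_neg]

theorem psub_right (x y z : ι → F) : pol Q x (y - z) = pol Q x y - pol Q x z := by
  rw [sub_eq_add_neg, padd_right hQ, pneg_right hQ, sub_eq_add_neg]

theorem qzero : Q 0 = 0 := by
  have := hQ.smul 0 0
  simpa using this

theorem pself (x : ι → F) : pol Q x x = 2 * Q x := by
  rw [QuadraticMap.polar, show x + x = (2 : F) • x from (two_smul F x).symm, hQ.smul]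
  ring

theorem qneg (x : ι → F) : Q (-x) = Q x := by rw [← neg_one_smul F x, hQ.smul]; ring

theorem qsub (x y : ι → F) : Q (x - y) = Q x + Q y - pol Q x y := by
  rw [sub_eq_add_neg, qadd hQ, qneg hQ, pneg_right hQ, sub_eq_add_neg]

theorem qsmul (c : F) (x : ι → F) : Q (c • x) = c ^ 2 * Q x := hQ.smul c x

theorem mem_qperp_span {s : Set (ι → F)} {x : ι → F} :
    x ∈ qperp hQ (Submodule.span F s) ↔ ∀ w ∈ s, pol Q x w = 0 := by
  refine ⟨fun h w hw => h w (Submodule.subset_span hw), fun h w hw => ?_⟩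
  induction hw using Submodule.span_induction with
  | mem w hw => exact h w hw
  | zero => exact pzero_right hQ x
  | add a b _ _ ha hb => rw [padd_right hQ, ha, hb, add_zero]
  | smul c a _ ha => rw [psmul_right hQ, ha, mul_zero]

/-- `x ↦ pol Q x u` -/
def pfl (u : ι → F) : (ι → F) →ₗ[F] F where
  toFun x := pol Q x u
  map_add' x y := padd_left hQ x y u
  map_smul' c x := psmul_left hQ c x u

theorem finrank_inf_pfl (W : Submodule F (ι → F)) (u : ι → F) :
    Module.finrank F W ≤ Module.finrank F ↥(W ⊓ LinearMap.ker (pfl hQ u)) + 1 := by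
  have h1 := LinearMap.finrank_range_add_finrank_ker ((pfl hQ u).comp W.subtype)
  have h2 : Module.finrank F (LinearMap.range ((pfl hQ u).comp W.subtype)) ≤ 1 :=
    (Submodule.finrank_le _).trans (by rw [Module.finrank_self])
  have h3 : Module.finrank F (LinearMap.ker ((pfl hQ u).comp W.subtype)) =
      Module.finrank F ↥(W ⊓ LinearMap.ker (pfl hQ u)) := by
    rw [LinearMap.ker_comp, ← Submodule.map_comap_subtype]
    exact ((Submodule.equivMapOfInjective _ W.injective_subtype _).finrank_eq)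
  omega

/-- the vector of `x ↦ pol Q x u` -/
def pv : (ι → F) →ₗ[F] (ι → F) where
  toFun u := fvec (pfl hQ u)
  map_add' a b := funext fun i => padd_right hQ _ a b
  map_smul' c a := funext fun i => psmul_right hQ c _ a

theorem pv_dot (u x : ι → F) : pv hQ u ⬝ᵥ x = pol Q x u := fvec_dot (pfl hQ u) x

theorem pv_injective : Function.Injective (pv hQ) := by
  intro a b hab
  by_contra hne
  obtain ⟨x, hx⟩ := (hQ.nondegenerate _ (sub_ne_zero.2 hne)).1
  rw [psub_right hQ, ← pv_dot hQ, ← pv_dot hQ, hab, sub_self] at hx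
  exact hx rfl

theorem exists_prep (φ : ι → F) : ∃ p, ∀ x, pol Q x p = φ ⬝ᵥ x := by
  obtain ⟨p, rfl⟩ := LinearMap.surjective_of_injective (pv_injective hQ) φ
  exact ⟨p, fun x => (pv_dot hQ p x).symm⟩

/-- a vector orthogonal to `W` pairing with `z` -/
theorem exists_qperp_ne {W : Submodule F (ι → F)} {z : ι → F} (hz : z ∉ W) :
    ∃ p ∈ qperp hQ W, pol Q z p = 1 := by
  obtain ⟨φ, h1, h2⟩ := exists_dual W hz
  obtain ⟨p, hp⟩ := exists_prep hQ φ
  exact ⟨p, fun w hw => by rw [pcomm, hp, h2 w hw], by rw [hp, h1]⟩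

theorem finrank_qperp (W : Submodule F (ι → F)) :
    Fintype.card ι ≤ Module.finrank F (qperp hQ W) + Module.finrank F W := by
  let T : (ι → F) →ₗ[F] (W →ₗ[F] F) :=
    { toFun := fun v => (pfl hQ v).comp W.subtype
      map_add' := fun a b => LinearMap.ext fun x => padd_right hQ (x : ι → F) a b
      map_smul' := fun c a => LinearMap.ext fun x => psmul_right hQ c (x : ι → F) a }
  have hker : LinearMap.ker T ≤ qperp hQ W := fun v hv w hw => by
    rw [pcomm]
    exact LinearMap.congr_fun hv ⟨w, hw⟩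
  have h1 := LinearMap.finrank_range_add_finrank_ker T
  rw [Module.finrank_fintype_fun_eq_card] at h1
  have h2 : Module.finrank F (W →ₗ[F] F) = Module.finrank F W := Subspace.dual_finrank_eq
  have h3 := Submodule.finrank_mono hker
  have h4 := Submodule.finrank_le (LinearMap.range T)
  omega

theorem ndOn_top : NdOn Q ⊤ := fun v _ hv => by
  obtain ⟨⟨a, ha⟩, ⟨b, hb⟩⟩ := hQ.nondegenerate v hv
  exact ⟨⟨a, Submodule.mem_top, ha⟩, ⟨b, Submodule.mem_top, hb⟩⟩

/-- a singular partner inside a nondegenerate subspace -/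
theorem exists_qpartner {P : Submodule F (ι → F)} (hP : NdOn Q P) {u : ι → F} (hu : u ∈ P) (hu0 : u ≠ 0)
    (hQu : Q u = 0) : ∃ v ∈ P, Q v = 0 ∧ pol Q u v = 1 := by
  obtain ⟨x, hx, hxu⟩ := (hP u hu hu0).2
  obtain ⟨y, hy⟩ : ∃ y, y = (pol Q u x)⁻¹ • x := ⟨_, rfl⟩
  have h1 : pol Q u y = 1 := by rw [hy, psmul_right hQ, inv_mul_cancel₀ hxu]
  refine ⟨y - Q y • u, P.sub_mem (hy ▸ P.smul_mem _ hx) (P.smul_mem _ hu), ?_, ?_⟩
  · rw [qsub hQ, qsmul hQ, hQu, psmul_right hQ, pcomm, h1]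
    ring
  · rw [psub_right hQ, psmul_right hQ, h1, pself hQ, hQu]
    ring

/-- the part of `P` orthogonal to a hyperbolic pair -/
def pairPerp (P : Submodule F (ι → F)) (e f : ι → F) : Submodule F (ι → F) :=
  P ⊓ LinearMap.ker (pfl hQ e) ⊓ LinearMap.ker (pfl hQ f)

theorem mem_pairPerp {P : Submodule F (ι → F)} {e f x : ι → F} :
    x ∈ pairPerp hQ P e f ↔ x ∈ P ∧ pol Q x e = 0 ∧ pol Q x f = 0 := by
  simp only [pairPerp, Submodule.mem_inf, and_assoc]
  rfl

section Pair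

variable {P : Submodule F (ι → F)} {e f : ι → F} (he : e ∈ P) (hf : f ∈ P) (hQe : Q e = 0) (hQf : Q f = 0)
  (hef : pol Q e f = 1)
include he hf hQe hQf hef

theorem pair_proj {x : ι → F} (hx : x ∈ P) : x - pol Q x f • e - pol Q x e • f ∈ pairPerp hQ P e f := by
  refine (mem_pairPerp hQ).2 ⟨P.sub_mem (P.sub_mem hx (P.smul_mem _ he)) (P.smul_mem _ hf), ?_, ?_⟩
  · rw [psub_left hQ, psub_left hQ, psmul_left hQ, psmul_left hQ, pself hQ, hQe, pcomm f e, hef]
    ring
  · rw [psub_left hQ, psub_left hQ, psmul_left hQ, psmul_left hQ, pself hQ, hQf, hef]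
    ring

theorem pair_nd (hP : NdOn Q P) : NdOn Q (pairPerp hQ P e f) := by
  intro w hw hw0
  obtain ⟨hwP, hwe, hwf⟩ := (mem_pairPerp hQ).1 hw
  obtain ⟨x, hx, hxw⟩ := (hP w hwP hw0).1
  have h1 : pol Q (x - pol Q x f • e - pol Q x e • f) w = pol Q x w := by
    rw [psub_left hQ, psub_left hQ, psmul_left hQ, psmul_left hQ, pcomm e w, hwe, pcomm f w, hwf]
    ring
  exact ⟨⟨_, pair_proj hQ he hf hQe hQf hef hx, by rwa [h1]⟩,
    ⟨_, pair_proj hQ he hf hQe hQf hef hx, by rwa [pcomm, h1]⟩⟩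

theorem pair_finrank : Module.finrank F P ≤ Module.finrank F (pairPerp hQ P e f) + 2 := by
  have h1 := finrank_inf_pfl hQ P e
  have h2 := finrank_inf_pfl hQ (P ⊓ LinearMap.ker (pfl hQ e)) f
  rw [pairPerp]
  omega

theorem pair_lt : Module.finrank F (pairPerp hQ P e f) < Module.finrank F P := by
  refine Submodule.finrank_lt_finrank_of_lt (lt_of_le_of_ne (inf_le_left.trans inf_le_left) fun h => ?_)
  have h1 : pol Q e f = 0 := ((mem_pairPerp hQ).1 (h.symm ▸ he : e ∈ pairPerp hQ P e f)).2.2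
  rw [hef] at h1
  exact one_ne_zero h1

end Pair

theorem exists_qsingular [Fintype F] {P : Submodule F (ι → F)} (hP : NdOn Q P) (hd : 3 ≤ Module.finrank F P) :
    ∃ u ∈ P, u ≠ 0 ∧ Q u = 0 := by
  let Q' : QuadraticForm F P := QuadraticMap.ofPolar (fun x => Q (x : ι → F))
    (fun c x => by rw [Submodule.coe_smul, qsmul hQ, smul_eq_mul, sq])
    (fun x x' y => padd_left hQ _ _ _)
    (fun c x y => psmul_left hQ c _ _)
  have hnd : (QuadraticMap.polarBilin Q').Nondegenerate := by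
    refine ⟨fun x hx => ?_, fun y hy => ?_⟩ <;> by_contra hne
    · obtain ⟨z, hz, hzx⟩ := (hP x x.2 (fun h => hne (Subtype.ext h))).2
      exact hzx (hx ⟨z, hz⟩)
    · obtain ⟨z, hz, hzy⟩ := (hP y y.2 (fun h => hne (Subtype.ext h))).1
      exact hzy (hy ⟨z, hz⟩)
  obtain ⟨u, hu0, hu⟩ := CfsgLib.Classical.exists_singular Q' hnd hd
  exact ⟨u, u.2, fun h => hu0 (Subtype.ext h), hu⟩

theorem exists_nonsingular {P : Submodule F (ι → F)} (hP : NdOn Q P) (hne : P ≠ ⊥) : ∃ z ∈ P, Q z ≠ 0 := by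
  by_contra hcon
  push Not at hcon
  obtain ⟨a, ha, ha0⟩ := Submodule.exists_mem_ne_zero_of_ne_bot hne
  obtain ⟨b, hb, hab⟩ := (hP a ha ha0).2
  refine hab ?_
  rw [QuadraticMap.polar, hcon _ (P.add_mem ha hb), hcon a ha, hcon b hb]
  ring

/-- isotropic nondegenerate subspaces take every value -/
theorem exists_qvalue [Fintype F] {P : Submodule F (ι → F)} (hP : NdOn Q P) (hd : 3 ≤ Module.finrank F P) (c : F) :
    ∃ x ∈ P, Q x = c := by
  obtain ⟨u, hu, hu0, hQu⟩ := exists_qsingular hQ hP hd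
  obtain ⟨v, hv, hQv, huv⟩ := exists_qpartner hQ hP hu hu0 hQu
  refine ⟨u + c • v, P.add_mem hu (P.smul_mem _ hv), ?_⟩
  rw [qadd hQ, qsmul hQ, hQv, hQu, psmul_right hQ, huv]
  ring

/-- anisotropic vectors span -/
theorem le_of_nonsingular_mem [Fintype F] {P S : Submodule F (ι → F)} (hP : NdOn Q P) (hd : 3 ≤ Module.finrank F P)
    (h : ∀ v ∈ P, Q v ≠ 0 → v ∈ S) : P ≤ S := by
  intro a ha
  by_cases hQa : Q a = 0
  swap
  · exact h a ha hQa
  rcases eq_or_ne a 0 with rfl | ha0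
  · exact S.zero_mem
  obtain ⟨b, hb, hQb, hab⟩ := exists_qpartner hQ hP ha ha0 hQa
  have hfr := pair_finrank hQ ha hb hQa hQb hab
  obtain ⟨z, hz, hQz⟩ := exists_nonsingular hQ (pair_nd hQ ha hb hQa hQb hab hP) (fun h0 => by
    rw [h0, finrank_bot] at hfr
    omega)
  obtain ⟨hzP, hza, -⟩ := (mem_pairPerp hQ).1 hz
  have h1 := h (a + z) (P.add_mem ha hzP) (by rw [qadd hQ, hQa, pcomm, hza, zero_add, add_zero]; exact hQz)
  have h2 := S.sub_mem h1 (h z hzP hQz)
  rwa [add_sub_cancel_right] at h2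

/-! ### Eichler transformations and reflections -/

theorem exists_E {u a : ι → F} (hu : Q u = 0) (hua : pol Q u a = 0) :
    ∃ g ∈ Cfsg.isometryGroup F Q, IsE Q u a g := by
  obtain ⟨A, hA⟩ : ∃ A : Matrix ι ι F,
      A = 1 + vecMulVec a (pv hQ u) - vecMulVec u (pv hQ a + Q a • pv hQ u) := ⟨_, rfl⟩
  obtain ⟨A', hA'⟩ : ∃ A' : Matrix ι ι F,
      A' = 1 + vecMulVec (-a) (pv hQ u) - vecMulVec u (pv hQ (-a) + Q (-a) • pv hQ u) := ⟨_, rfl⟩
  have happ : ∀ x, A *ᵥ x = x + pol Q x u • a - pol Q x a • u - (Q a * pol Q x u) • u := fun x => by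
    rw [hA, sub_mulVec, add_mulVec, one_mulVec, vecMulVec_mulVec, vecMulVec_mulVec, op_smul_eq_smul,
      op_smul_eq_smul, pv_dot, add_dotProduct, smul_dotProduct, pv_dot, pv_dot, smul_eq_mul, add_smul]
    abel
  have happ' : ∀ x, A' *ᵥ x = x + pol Q x u • (-a) - pol Q x (-a) • u - (Q (-a) * pol Q x u) • u := fun x => by
    rw [hA', sub_mulVec, add_mulVec, one_mulVec, vecMulVec_mulVec, vecMulVec_mulVec, op_smul_eq_smul,
      op_smul_eq_smul, pv_dot, add_dotProduct, smul_dotProduct, pv_dot, pv_dot, smul_eq_mul, add_smul]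
    abel
  have hau : pol Q a u = 0 := by rw [pcomm, hua]
  have huu : pol Q u u = 0 := by rw [pself hQ, hu, mul_zero]
  have h1 : A * A' = 1 := Matrix.ext_iff_mulVec.2 fun x => by
    rw [← mulVec_mulVec, happ, happ', one_mulVec]
    simp only [psub_left hQ, padd_left hQ, psmul_left hQ, pneg_left hQ, pneg_right hQ, qneg hQ, hau, hua, huu,
      pself hQ a]
    module
  refine ⟨⟨A, A', h1, mul_eq_one_comm.1 h1⟩, mem_iso.2 fun x => ?_, happ⟩
  show Q (A *ᵥ x) = Q x
  rw [happ, qsub hQ, qsub hQ, qadd hQ, qsmul hQ, qsmul hQ, qsmul hQ, hu]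
  simp only [psub_left hQ, padd_left hQ, psmul_left hQ, psmul_right hQ, hau, hua, huu]
  ring

theorem exists_refl {v : ι → F} (hv : Q v ≠ 0) : ∃ g ∈ Cfsg.isometryGroup F Q, IsRefl Q v g := by
  obtain ⟨A, hA⟩ : ∃ A : Matrix ι ι F, A = 1 - vecMulVec v ((Q v)⁻¹ • pv hQ v) := ⟨_, rfl⟩
  have happ : ∀ x, A *ᵥ x = x - ((Q v)⁻¹ * pol Q x v) • v := fun x => by
    rw [hA, sub_mulVec, one_mulVec, vecMulVec_mulVec, op_smul_eq_smul, smul_dotProduct, pv_dot, smul_eq_mul]
  have h1 : A * A = 1 := Matrix.ext_iff_mulVec.2 fun x => by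
    rw [← mulVec_mulVec, happ, happ, one_mulVec]
    simp only [psub_left hQ, psmul_left hQ, pself hQ v]
    match_scalars <;> field_simp <;> ring
  refine ⟨⟨A, A, h1, h1⟩, mem_iso.2 fun x => ?_, happ⟩
  show Q (A *ᵥ x) = Q x
  rw [happ, qsub hQ, qsmul hQ, psmul_right hQ]
  field_simp
  ring

omit hQ in
theorem IsE.unique {u a : ι → F} {g h : GL ι F} (hg : IsE Q u a g) (hh : IsE Q u a h) : g = h :=
  gl_ext_vec fun x => by rw [hg, hh]

omit hQ in
theorem IsRefl.unique {v : ι → F} {g h : GL ι F} (hg : IsRefl Q v g) (hh : IsRefl Q v h) : g = h :=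
  gl_ext_vec fun x => by rw [hg, hh]

omit hQ in
theorem IsE.conj {u a : ι → F} {g k : GL ι F} (hg : IsE Q u a g) (hk : k ∈ Cfsg.isometryGroup F Q) :
    IsE Q ((k : Matrix ι ι F) *ᵥ u) ((k : Matrix ι ι F) *ᵥ a) (k * g * k⁻¹) := fun x => by
  have key : ∀ c, pol Q x ((k : Matrix ι ι F) *ᵥ c) = pol Q (((k⁻¹ : GL ι F) : Matrix ι ι F) *ᵥ x) c := fun c => by
    conv_lhs => rw [← gl_mulVec_inv k x]
    rw [iso_pol hk]
  rw [gl_mul_mulVec, gl_mul_mulVec, hg, mulVec_sub, mulVec_sub, mulVec_add, mulVec_smul, mulVec_smul, mulVec_smul,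
    gl_mulVec_inv, key, key, mem_iso.1 hk]

omit hQ in
theorem IsRefl.conj {v : ι → F} {g k : GL ι F} (hg : IsRefl Q v g) (hk : k ∈ Cfsg.isometryGroup F Q) :
    IsRefl Q ((k : Matrix ι ι F) *ᵥ v) (k * g * k⁻¹) := fun x => by
  have key : pol Q x ((k : Matrix ι ι F) *ᵥ v) = pol Q (((k⁻¹ : GL ι F) : Matrix ι ι F) *ᵥ x) v := by
    conv_lhs => rw [← gl_mulVec_inv k x]
    rw [iso_pol hk]
  rw [gl_mul_mulVec, gl_mul_mulVec, hg, mulVec_sub, mulVec_smul, gl_mulVec_inv, key, mem_iso.1 hk]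

theorem IsE.mul {u a b : ι → F} {g h : GL ι F} (hu : Q u = 0) (ha : pol Q u a = 0) (hb : pol Q u b = 0)
    (hg : IsE Q u a g) (hh : IsE Q u b h) : IsE Q u (a + b) (g * h) := fun x => by
  rw [gl_mul_mulVec, hh, hg]
  simp only [psub_left hQ, padd_left hQ, psmul_left hQ, padd_right hQ, pcomm b u, ha, hb, pcomm a u,
    pself hQ u, hu, qadd hQ, pcomm b a]
  module

theorem IsE.smul {u a : ι → F} {g : GL ι F} {c : F} (hg : IsE Q u (c • a) g) :
    IsE Q (c • u) a g := fun x => by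
  rw [hg, qsmul hQ, psmul_right hQ, psmul_right hQ]
  module

theorem IsRefl.smul {v : ι → F} {g : GL ι F} (hg : IsRefl Q v g) {c : F} (hc : c ≠ 0) : IsRefl Q (c • v) g :=
  fun x => by
  rw [hg, qsmul hQ, psmul_right hQ]
  match_scalars
  · field_simp
  · field_simp

theorem IsE.one {u : ι → F} (hu : Q u = 0) (s : F) : IsE Q u (s • u) 1 := fun x => by
  rw [Units.val_one, one_mulVec, qsmul hQ, psmul_right hQ, hu]
  module

end CfsgLib.Perm.Trans.Quad
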