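import Cfsg.Agent.Lib.Perm.Trans.QuadNondeg

/-!
# Maximality of nondegenerate subspace stabilisers: the cases of the classification
-/

set_option autoImplicit false
set_option linter.all false

namespace CfsgLib.Perm.Trans.Quad

open scoped Matrix
open Matrix Cfsg.Geo CfsgLib.Perm.Asch CfsgLib.Perm.Trans

variable {ι : Type} [Fintype ι] [DecidableEq ι] {F : Type*} [Field F] [Fintype F]
variable {Q : (ι → F) → F}

local notation "pol" => QuadraticMap.polar

variable (hQ : IsNondegenerateQuadraticForm Q)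
include hQ

omit [Fintype F] in
theorem isometric_of_maps {A B : Submodule F (ι → F)} {g : GL ι F} (hg : g ∈ Cfsg.isometryGroup F Q)
    (hAB : ∀ x ∈ A, (g : Matrix ι ι F) *ᵥ x ∈ B) (hd : Module.finrank F A = Module.finrank F B) :
    AreIsometricFor Q A B := by
  let f : A →ₗ[F] B := LinearMap.codRestrict B ((Matrix.mulVecLin (g : Matrix ι ι F)).comp A.subtype)
    fun x => hAB x x.2
  have hinj : Function.Injective f := fun x y h => by
    have h1 : (g : Matrix ι ι F) *ᵥ (x : ι → F) = (g : Matrix ι ι F) *ᵥ (y : ι → F) := congrArg Subtype.val h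
    have h2 := congrArg (fun z => ((g⁻¹ : GL ι F) : Matrix ι ι F) *ᵥ z) h1
    simp only [gl_inv_mulVec] at h2
    exact Subtype.ext h2
  exact ⟨LinearMap.linearEquivOfInjective f hinj hd, fun w => mem_iso.1 hg w⟩

/-- maximality, the two halves in either order -/
theorem nd_subspace_maximal' (hn : 9 ≤ Fintype.card ι) {W : Submodule F (ι → F)} (hW0 : W ≠ ⊥) (hW1 : W ≠ ⊤)
    (hW : NdOn Q W)
    (hno : 2 * Module.finrank F W = Fintype.card ι →
      ∀ g ∈ omegaGL Q, ¬ ∀ x ∈ qperp hQ W, (g : Matrix ι ι F) *ᵥ x ∈ W)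
    (hex : ∀ U, U = W ∨ U = qperp hQ W → Module.finrank F U = 2 → IsPlusTypeOn Q U → 4 ≤ Fintype.card F) :
    IsMaximalIn (omegaGL Q) (subspaceStabilizer W ⊓ omegaGL Q) := by
  have hsum := finrank_qperp_add hQ W
  have hPnd := qperp_nd hQ hW
  have hplus : ∀ U : Submodule F (ι → F), Module.finrank F U = 2 → (∃ e ∈ U, e ≠ 0 ∧ Q e = 0) →
      IsPlusTypeOn Q U := by
    rintro U hU ⟨e, he, he0, hQe⟩
    refine ⟨Submodule.span F {e}, (Submodule.span_singleton_le_iff_mem _ _).2 he, fun v hv => ?_,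
      by rw [finrank_span_singleton he0, hU]⟩
    obtain ⟨c, rfl⟩ := Submodule.mem_span_singleton.1 hv
    rw [qsmul hQ, hQe, mul_zero]
  have hdimle : ∀ {A B : Submodule F (ι → F)} {g : GL ι F}, (∀ x ∈ A, (g : Matrix ι ι F) *ᵥ x ∈ B) →
      Module.finrank F A ≤ Module.finrank F B := by
    intro A B g h
    refine LinearMap.finrank_le_finrank_of_injective
      (f := LinearMap.codRestrict B ((Matrix.mulVecLin (g : Matrix ι ι F)).comp A.subtype) fun x => h x x.2)
      fun x y hxy => ?_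
    have h1 : (g : Matrix ι ι F) *ᵥ (x : ι → F) = (g : Matrix ι ι F) *ᵥ (y : ι → F) := congrArg Subtype.val hxy
    have h2 := congrArg (fun z => ((g⁻¹ : GL ι F) : Matrix ι ι F) *ᵥ z) h1
    simp only [gl_inv_mulVec] at h2
    exact Subtype.ext h2
  rcases le_or_gt (Module.finrank F W) (Module.finrank F (qperp hQ W)) with hle | hlt
  · refine nd_subspace_maximal hQ (by omega) hW0 hW (by omega) (fun g hg h => ?_)
      fun h2 he => hex W (Or.inl rfl) h2 (hplus W h2 he)
    have := hdimle h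
    exact hno (by omega) g hg h
  · have hP0 : qperp hQ W ≠ ⊥ := fun h => hW1 (by
      rw [h, finrank_bot, zero_add] at hsum
      exact Submodule.eq_top_of_finrank_eq (by rw [Module.finrank_fintype_fun_eq_card]; omega))
    have hqq := qperp_qperp hQ hW
    have heq : subspaceStabilizer W ⊓ omegaGL Q = subspaceStabilizer (qperp hQ W) ⊓ omegaGL Q := by
      refine le_antisymm (fun g hg => ⟨stab_qperp hQ hW (omegaGL_le_iso hg.2) hg.1, hg.2⟩) fun g hg => ⟨?_, hg.2⟩
      have := stab_qperp hQ hPnd (omegaGL_le_iso hg.2) hg.1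
      rwa [hqq] at this
    rw [heq]
    refine nd_subspace_maximal hQ (by omega) hP0 hPnd (by rw [hqq]; omega) (fun g hg h => ?_)
      fun h2 he => hex _ (Or.inr rfl) h2 (hplus _ h2 he)
    rw [hqq] at h
    have := hdimle h
    omega

omit [Fintype F] in
theorem nd_inf_perp {P : Submodule F (ι → F)} (hP : NdOn Q P) {a : ι → F} (ha : a ∈ P) (h2 : (2 : F) ≠ 0)
    (hQa : Q a ≠ 0) : NdOn Q (P ⊓ LinearMap.ker (pfl hQ a)) := by
  rintro v ⟨hvP, hva⟩ hv0
  have hva' : pol Q v a = 0 := hva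
  obtain ⟨y, hy, hvy⟩ := (hP v hvP hv0).2
  obtain ⟨z, hz⟩ : ∃ z, z = y - (pol Q y a / (2 * Q a)) • a := ⟨_, rfl⟩
  have hzm : z ∈ P ⊓ LinearMap.ker (pfl hQ a) := by
    refine ⟨hz ▸ P.sub_mem hy (P.smul_mem _ ha), ?_⟩
    show pol Q z a = 0
    rw [hz, psub_left hQ, psmul_left hQ, pself hQ]
    field_simp
    ring
  have hvz : pol Q v z = pol Q v y := by
    rw [hz, psub_right hQ, psmul_right hQ, hva', mul_zero, sub_zero]
  exact ⟨⟨z, hzm, by rw [pcomm, hvz]; exact hvy⟩, z, hzm, by rw [hvz]; exact hvy⟩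

/-- in odd characteristic `x² + y²` takes every value -/
theorem exists_sq_add_sq (h2 : (2 : F) ≠ 0) (c : F) : ∃ x y : F, x ^ 2 + y ^ 2 = c := by
  have hodd : Fintype.card F % 2 = 1 := by
    by_contra h
    have h2' : ringChar F = 2 := FiniteField.even_card_iff_char_two.2 (by omega)
    exact h2 (by rw [← Nat.cast_ofNat (R := F) (n := 2), ← h2']; exact ringChar.Nat.cast_ringChar)
  obtain ⟨a, b, hab⟩ := FiniteField.exists_root_sum_quadratic
    (f := Polynomial.C (1 : F) * Polynomial.X ^ 2 - Polynomial.C c) (g := Polynomial.C (1 : F) * Polynomial.X ^ 2)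
    (by rw [Polynomial.degree_sub_eq_left_of_degree_lt] <;> rw [Polynomial.degree_C_mul_X_pow 2 one_ne_zero]
        · rfl
        · exact lt_of_le_of_lt Polynomial.degree_C_le (by norm_num))
    (by rw [Polynomial.degree_C_mul_X_pow 2 one_ne_zero]; rfl) hodd
  simp only [Polynomial.eval_sub, Polynomial.eval_mul, Polynomial.eval_C, Polynomial.eval_pow, Polynomial.eval_X] at hab
  exact ⟨a, b, by linear_combination hab⟩

omit [Fintype F] in
/-- the translates of orthogonal copies -/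
theorem pol_cross {P : Submodule F (ι → F)} {g : GL ι F}
    (hgP : ∀ x ∈ P, ∀ y ∈ P, pol Q ((g : Matrix ι ι F) *ᵥ x) y = 0) {x y : ι → F} (hx : x ∈ P) (hy : y ∈ P) :
    pol Q x ((g : Matrix ι ι F) *ᵥ y) = 0 := by rw [pcomm, hgP y hy x hx]

/-- two orthogonal isometric copies of an even-dimensional space form a space of plus type -/
theorem exists_singular_double {P : Submodule F (ι → F)} {g : GL ι F} (hg : g ∈ Cfsg.isometryGroup F Q)
    (h2 : (2 : F) ≠ 0) (hgP : ∀ x ∈ P, ∀ y ∈ P, pol Q ((g : Matrix ι ι F) *ᵥ x) y = 0) :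
    ∀ (m : ℕ) (P' : Submodule F (ι → F)), P' ≤ P → NdOn Q P' → Module.finrank F P' = 2 * m →
      ∃ U ≤ P' ⊔ P'.map (Matrix.mulVecLin (g : Matrix ι ι F)), IsTotallySingularQuad Q U ∧
        2 * m ≤ Module.finrank F U := by
  intro m
  induction m with
  | zero => exact fun P' _ _ _ => ⟨⊥, bot_le, fun v hv => by rw [(Submodule.mem_bot F).1 hv]; exact qzero hQ,
      Nat.zero_le _⟩
  | succ m ih =>
    intro P' hP' hnd hd
    have hdim' : ∀ (R : Submodule F (ι → F)) (a : ι → F), a ∈ R → Q a ≠ 0 →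
        Module.finrank F R = Module.finrank F ↥(R ⊓ LinearMap.ker (pfl hQ a)) + 1 := by
      intro R a ha hQa
      have h1 := finrank_inf_pfl hQ R a
      have h2' := Submodule.finrank_lt_finrank_of_lt (lt_of_le_of_ne (inf_le_left : R ⊓ LinearMap.ker (pfl hQ a) ≤ R)
        fun h => by
          have h3 : pol Q a a = 0 := (h.symm ▸ ha : a ∈ R ⊓ LinearMap.ker (pfl hQ a)).2
          rw [pself hQ] at h3
          exact mul_ne_zero h2 hQa h3)
      omega
    obtain ⟨a, ha, hQa⟩ := exists_nonsingular hQ hnd (fun h => by rw [h, finrank_bot] at hd; omega)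
    have hd1 := hdim' P' a ha hQa
    obtain ⟨P1, hP1⟩ : ∃ P1, P1 = P' ⊓ LinearMap.ker (pfl hQ a) := ⟨_, rfl⟩
    rw [← hP1] at hd1
    have hnd1 : NdOn Q P1 := hP1 ▸ nd_inf_perp hQ hnd ha h2 hQa
    obtain ⟨b, hb, hQb⟩ := exists_nonsingular hQ hnd1 (fun h => by rw [h, finrank_bot] at hd1; omega)
    have hd2 := hdim' P1 b hb hQb
    obtain ⟨P2, hP2⟩ : ∃ P2, P2 = P1 ⊓ LinearMap.ker (pfl hQ b) := ⟨_, rfl⟩
    rw [← hP2] at hd2
    have hnd2 : NdOn Q P2 := hP2 ▸ nd_inf_perp hQ hnd1 hb h2 hQb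
    have hP2m : ∀ p ∈ P2, p ∈ P' ∧ pol Q p a = 0 ∧ pol Q p b = 0 := fun p hp => by
      rw [hP2, hP1] at hp
      exact ⟨hp.1.1, hp.1.2, hp.2⟩
    have hP2le : P2 ≤ P' := fun p hp => (hP2m p hp).1
    have hbP : b ∈ P' := by rw [hP1] at hb; exact hb.1
    have hba : pol Q b a = 0 := by rw [hP1] at hb; exact hb.2
    obtain ⟨U, hU, hUs, hUd⟩ := ih P2 (hP2le.trans hP') hnd2 (by omega)
    obtain ⟨x, y, hxy⟩ := exists_sq_add_sq hQ h2 (-Q a / Q b)
    obtain ⟨ga, hga⟩ : ∃ ga, ga = (g : Matrix ι ι F) *ᵥ a := ⟨_, rfl⟩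
    obtain ⟨gb, hgb⟩ : ∃ gb, gb = (g : Matrix ι ι F) *ᵥ b := ⟨_, rfl⟩
    have e1 : pol Q ga a = 0 := hga ▸ hgP a (hP' ha) a (hP' ha)
    have e2 : pol Q gb a = 0 := hgb ▸ hgP b (hP' hbP) a (hP' ha)
    have e3 : pol Q ga b = 0 := hga ▸ hgP a (hP' ha) b (hP' hbP)
    have e4 : pol Q gb b = 0 := hgb ▸ hgP b (hP' hbP) b (hP' hbP)
    have e5 : pol Q gb ga = 0 := by rw [hga, hgb, iso_pol hg, hba]
    have q1 : Q ga = Q a := hga ▸ mem_iso.1 hg a
    have q2 : Q gb = Q b := hgb ▸ mem_iso.1 hg b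
    have hab' : Q b * (x ^ 2 + y ^ 2) = -Q a := by rw [hxy, mul_div_cancel₀ _ hQb]
    obtain ⟨u₁, hu₁⟩ : ∃ u, u = a + x • b + y • gb := ⟨_, rfl⟩
    obtain ⟨u₂, hu₂⟩ : ∃ u, u = ga + (-y) • b + x • gb := ⟨_, rfl⟩
    have hQ1 : Q u₁ = 0 := by
      rw [hu₁, qadd hQ, qadd hQ, qsmul hQ, qsmul hQ, q2, padd_left hQ, psmul_left hQ, psmul_right hQ, psmul_right hQ,
        psmul_right hQ, pcomm a b, hba, pcomm a gb, e2, pcomm b gb, e4]
      linear_combination hab'
    have hQ2 : Q u₂ = 0 := by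
      rw [hu₂, qadd hQ, qadd hQ, qsmul hQ, qsmul hQ, q1, q2, padd_left hQ, psmul_left hQ, psmul_right hQ,
        psmul_right hQ, psmul_right hQ, e3, pcomm ga gb, e5, pcomm b gb, e4]
      linear_combination hab'
    have h12 : pol Q u₁ u₂ = 0 := by
      rw [hu₁, hu₂]
      simp only [padd_left hQ, padd_right hQ, psmul_left hQ, psmul_right hQ, pself hQ b, pself hQ gb, q2, pcomm a b,
        hba, pcomm a ga, e1, pcomm a gb, e2, pcomm b ga, e3, pcomm b gb, e4, e5]
      ring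
    have hUperp : ∀ v ∈ U, pol Q v a = 0 ∧ pol Q v b = 0 ∧ pol Q v ga = 0 ∧ pol Q v gb = 0 := by
      intro v hv
      obtain ⟨p, hp, _, ⟨q, hq, rfl⟩, rfl⟩ := Submodule.mem_sup.1 (hU hv)
      obtain ⟨hpP, hpa, hpb⟩ := hP2m p hp
      obtain ⟨hqP, hqa, hqb⟩ := hP2m q hq
      rw [Matrix.mulVecLin_apply, hga, hgb]
      simp only [padd_left hQ, iso_pol hg]
      rw [hpa, hpb, pol_cross hQ hgP (hP' hpP) (hP' ha), pol_cross hQ hgP (hP' hpP) (hP' hbP),
        hgP q (hP' hqP) a (hP' ha), hgP q (hP' hqP) b (hP' hbP), hqa, hqb]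
      simp
    have hU1 : ∀ v ∈ U, pol Q v u₁ = 0 := fun v hv => by
      obtain ⟨f1, f2, f3, f4⟩ := hUperp v hv
      rw [hu₁, padd_right hQ, padd_right hQ, psmul_right hQ, psmul_right hQ, f1, f2, f4]
      ring
    have hU2 : ∀ v ∈ U, pol Q v u₂ = 0 := fun v hv => by
      obtain ⟨f1, f2, f3, f4⟩ := hUperp v hv
      rw [hu₂, padd_right hQ, padd_right hQ, psmul_right hQ, psmul_right hQ, f3, f2, f4]
      ring
    have hne1 : u₁ ∉ U := fun h => by
      have h3 := (hUperp _ h).1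
      rw [hu₁, padd_left hQ, padd_left hQ, psmul_left hQ, psmul_left hQ, pself hQ, hba, e2] at h3
      exact mul_ne_zero h2 hQa (by linear_combination h3)
    have hne2 : u₂ ∉ U ⊔ Submodule.span F {u₁} := fun h => by
      obtain ⟨v, hv, w, hw, hvw⟩ := Submodule.mem_sup.1 h
      obtain ⟨c, rfl⟩ := Submodule.mem_span_singleton.1 hw
      have h3 := congrArg (fun z => pol Q z ga) hvw
      simp only [padd_left hQ, psmul_left hQ, (hUperp v hv).2.2.1, hu₁, hu₂, pcomm a ga, e1, pcomm b ga, e3, e5,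
        pself hQ ga, q1] at h3
      exact mul_ne_zero h2 hQa (by linear_combination -h3)
    have hle : P2 ⊔ P2.map (Matrix.mulVecLin (g : Matrix ι ι F)) ≤
        P' ⊔ P'.map (Matrix.mulVecLin (g : Matrix ι ι F)) := sup_le_sup hP2le (Submodule.map_mono hP2le)
    have hgb' : gb ∈ P' ⊔ P'.map (Matrix.mulVecLin (g : Matrix ι ι F)) :=
      Submodule.mem_sup_right ⟨b, hbP, by rw [hgb]; rfl⟩
    have hu1' : u₁ ∈ P' ⊔ P'.map (Matrix.mulVecLin (g : Matrix ι ι F)) := by
      rw [hu₁]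
      exact Submodule.add_mem _ (Submodule.add_mem _ (Submodule.mem_sup_left ha)
        (Submodule.smul_mem _ _ (Submodule.mem_sup_left hbP))) (Submodule.smul_mem _ _ hgb')
    have hu2' : u₂ ∈ P' ⊔ P'.map (Matrix.mulVecLin (g : Matrix ι ι F)) := by
      rw [hu₂]
      exact Submodule.add_mem _ (Submodule.add_mem _ (Submodule.mem_sup_right ⟨a, ha, by rw [hga]; rfl⟩)
        (Submodule.smul_mem _ _ (Submodule.mem_sup_left hbP))) (Submodule.smul_mem _ _ hgb')
    refine ⟨U ⊔ Submodule.span F {u₁} ⊔ Submodule.span F {u₂}, sup_le (sup_le (hU.trans hle)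
      ((Submodule.span_singleton_le_iff_mem _ _).2 hu1')) ((Submodule.span_singleton_le_iff_mem _ _).2 hu2'), ?_, ?_⟩
    · intro v hv
      obtain ⟨w, hw, s, hs, rfl⟩ := Submodule.mem_sup.1 hv
      obtain ⟨v', hv', r, hr, rfl⟩ := Submodule.mem_sup.1 hw
      obtain ⟨c, rfl⟩ := Submodule.mem_span_singleton.1 hs
      obtain ⟨d, rfl⟩ := Submodule.mem_span_singleton.1 hr
      rw [qadd hQ, qadd hQ, qsmul hQ, qsmul hQ, padd_left hQ, psmul_left hQ, psmul_right hQ, psmul_right hQ,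
        psmul_right hQ, hUs v' hv', hQ1, hQ2, hU1 v' hv', hU2 v' hv', h12]
      ring
    · have h3 := Submodule.finrank_lt_finrank_of_lt (lt_of_le_of_ne (le_sup_left : U ≤ U ⊔ Submodule.span F {u₁})
        fun h => hne1 (h.symm ▸ Submodule.mem_sup_right (Submodule.mem_span_singleton_self u₁)))
      have h4 := Submodule.finrank_lt_finrank_of_lt (lt_of_le_of_ne
        (le_sup_left : U ⊔ Submodule.span F {u₁} ≤ U ⊔ Submodule.span F {u₁} ⊔ Submodule.span F {u₂})
        fun h => hne2 (h.symm ▸ Submodule.mem_sup_right (Submodule.mem_span_singleton_self u₂)))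
      omega

/-- isometric orthogonal halves of even dimension give plus type -/
theorem plus_of_isometric_halves {W : Submodule F (ι → F)} (hW : NdOn Q W)
    (hk : 2 * Module.finrank F W = Fintype.card ι) (hev : Even (Module.finrank F W)) {g : GL ι F}
    (hg : g ∈ Cfsg.isometryGroup F Q) (hgW : ∀ x ∈ qperp hQ W, (g : Matrix ι ι F) *ᵥ x ∈ W) : IsPlusTypeOn Q ⊤ := by
  have hsum := finrank_qperp_add hQ W
  have hgP : ∀ x ∈ qperp hQ W, ∀ y ∈ qperp hQ W, pol Q ((g : Matrix ι ι F) *ᵥ x) y = 0 :=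
    fun x hx y hy => by rw [pcomm]; exact hy _ (hgW x hx)
  obtain ⟨U, hUs, hUd⟩ : ∃ U : Submodule F (ι → F), IsTotallySingularQuad Q U ∧
      Module.finrank F W ≤ Module.finrank F U := by
    by_cases h2 : (2 : F) = 0
    · obtain ⟨T, hT⟩ : ∃ T, T = (LinearMap.id + Matrix.mulVecLin (g : Matrix ι ι F)).comp (qperp hQ W).subtype :=
        ⟨_, rfl⟩
      refine ⟨LinearMap.range T, ?_, ?_⟩
      · rintro v ⟨x, rfl⟩
        rw [hT]
        show Q ((x : ι → F) + (g : Matrix ι ι F) *ᵥ x) = 0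
        rw [qadd hQ, mem_iso.1 hg, pcomm, hgP x x.2 x x.2]
        linear_combination Q (x : ι → F) * h2
      · have hinj : Function.Injective T := by
          refine (injective_iff_map_eq_zero T).2 fun x hx => ?_
          rw [hT] at hx
          have hx' : (x : ι → F) + (g : Matrix ι ι F) *ᵥ x = 0 := hx
          refine Subtype.ext ?_
          by_contra hne
          obtain ⟨y, hy, hxy⟩ := (qperp_nd hQ hW _ x.2 hne).2
          refine hxy ?_
          have h1 := congrArg (fun z => pol Q z y) hx'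
          simp only [padd_left hQ, hgP x x.2 y hy, pzero_left hQ, add_zero] at h1
          exact h1
        rw [LinearMap.finrank_range_of_inj hinj]
        omega
    · obtain ⟨m, hm⟩ := hev
      obtain ⟨U, -, hUs, hUd⟩ := exists_singular_double hQ hg h2 hgP m (qperp hQ W) le_rfl (qperp_nd hQ hW) (by omega)
      exact ⟨U, hUs, by omega⟩
  refine ⟨U, le_top, hUs, ?_⟩
  have h2 := finrank_qperp_add hQ U
  have h3 := Submodule.finrank_mono
    (show U ≤ qperp hQ U from fun x hx y hy => pol_zero_of_singular hQ hUs hx hy)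
  rw [finrank_top, Module.finrank_fintype_fun_eq_card]
  omega

/-- pairs of nonisometric nondegenerate halves -/
theorem nd_pair_decomp_maximal (hn : 9 ≤ Fintype.card ι) {k : ℕ} (hk : 2 * k = Fintype.card ι) (hk3 : 3 ≤ k)
    {D : Fin 2 → Submodule F (ι → F)} (hD : IsNondegenerateMDecomposition (pol Q) k D)
    (hni : ¬ AreIsometricFor Q (D 0) (D 1)) : IsMaximalIn (omegaGL Q) (decompositionStabilizer D ⊓ omegaGL Q) := by
  have h01 : D 1 = qperp hQ (D 0) := by
    have hsum := finrank_qperp_add hQ (D 0)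
    refine Submodule.eq_of_le_of_finrank_le (fun x hx w hw => hD.orthogonal 1 0 (by decide) x hx w hw) ?_
    rw [hD.decomp.finrank_eq] at hsum ⊢
    omega
  have hsame : decompositionStabilizer D ⊓ omegaGL Q = subspaceStabilizer (D 0) ⊓ omegaGL Q := by
    refine le_antisymm ?_ ?_
    · rintro g ⟨⟨σ, hσ⟩, hg⟩
      refine ⟨mem_stab_of_maps fun x hx => ?_, hg⟩
      have h1 : (g : Matrix ι ι F) *ᵥ x ∈ D (σ 0) := hσ 0 ▸ ⟨x, hx, Matrix.toLin'_apply _ x⟩
      rcases (by decide : ∀ i : Fin 2, i = 0 ∨ i = 1) (σ 0) with h | h <;> rw [h] at h1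
      · exact h1
      · refine absurd (isometric_of_maps hQ (omegaGL_le_iso hg) (fun z hz => ?_)
          (by rw [hD.decomp.finrank_eq, hD.decomp.finrank_eq])) hni
        exact h ▸ hσ 0 ▸ ⟨z, hz, Matrix.toLin'_apply _ z⟩
    · rintro g ⟨hst, hg⟩
      refine ⟨⟨Equiv.refl _, fun i => ?_⟩, hg⟩
      have hst1 := stab_qperp hQ (hD.nondegenerate 0) (omegaGL_le_iso hg) hst
      rw [← h01] at hst1
      have hall : ∀ i : Fin 2, g ∈ subspaceStabilizer (D i) := fun i => by
        rcases (by decide : ∀ i : Fin 2, i = 0 ∨ i = 1) i with rfl | rfl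
        exacts [hst, hst1]
      rw [Equiv.refl_apply]
      refine le_antisymm ?_ fun y hy => ?_
      · rintro _ ⟨x, hx, rfl⟩
        rw [Matrix.toLin'_apply]
        exact (mem_subspaceStabilizer_iff.1 (hall i) x).1 hx
      · exact ⟨((g⁻¹ : GL ι F) : Matrix ι ι F) *ᵥ y, (mem_subspaceStabilizer_iff.1 (inv_mem (hall i)) y).1 hy,
          by rw [Matrix.toLin'_apply, gl_mulVec_inv]⟩
  rw [hsame]
  refine nd_subspace_maximal' hQ hn ?_ ?_ (hD.nondegenerate 0) ?_ ?_
  · intro h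
    have := hD.decomp.finrank_eq 0
    rw [h, finrank_bot] at this
    omega
  · intro h
    have := hD.decomp.finrank_eq 0
    rw [h, finrank_top, Module.finrank_fintype_fun_eq_card] at this
    omega
  · intro _ g hg h
    rw [← h01] at h
    obtain ⟨e, he⟩ := isometric_of_maps hQ (omegaGL_le_iso hg) h (by rw [hD.decomp.finrank_eq, hD.decomp.finrank_eq])
    refine hni ⟨e.symm, fun w => ?_⟩
    have := he (e.symm w)
    rw [LinearEquiv.apply_symm_apply] at this
    exact this.symm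
  · intro U hU h2 _
    exfalso
    rcases hU with rfl | rfl
    · rw [hD.decomp.finrank_eq] at h2; omega
    · rw [← h01, hD.decomp.finrank_eq] at h2; omega

end CfsgLib.Perm.Trans.Quad
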