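import Cfsg.Agent.Lib.Perm.Trans.QuadTransitive

/-!
# Stabilisers of nondegenerate subspaces are maximal in `Ω`
-/

set_option autoImplicit false
set_option linter.all false

namespace CfsgLib.Perm.Trans.Quad

open scoped Matrix commutatorElement
open Matrix Cfsg.Geo CfsgLib.Perm.Asch CfsgLib.Perm.Trans

variable {ι : Type} [Fintype ι] [DecidableEq ι] {F : Type*} [Field F] [Fintype F]
variable {Q : (ι → F) → F}

local notation "pol" => QuadraticMap.polar

variable (hQ : IsNondegenerateQuadraticForm Q)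
include hQ

omit [Fintype F] in
theorem exists_bundled :
    ∃ B : QuadraticForm F (ι → F), (⇑B : (ι → F) → F) = Q ∧ (QuadraticMap.polarBilin B).Nondegenerate := by
  refine ⟨QuadraticMap.ofPolar Q (fun c x => by rw [qsmul hQ, smul_eq_mul, sq]) (padd_left hQ)
    (fun c x y => psmul_left hQ c x y), rfl, ?_, ?_⟩
  · intro x hx
    exact eq_zero_of_perp_top hQ fun y => hx y
  · intro y hy
    exact eq_zero_of_perp_top hQ fun x => by rw [pcomm]; exact hy x

omit [Fintype F] in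
theorem qperp_qperp {W : Submodule F (ι → F)} (hW : NdOn Q W) : qperp hQ (qperp hQ W) = W := by
  refine le_antisymm (fun x hx => ?_) fun x hx p hp => by rw [pcomm]; exact hp x hx
  obtain ⟨p, hp, hxp⟩ := qperp_decomp hQ hW x
  have h0 : x - p = 0 := by
    by_contra hne
    obtain ⟨y, hy, hyv⟩ := (qperp_nd hQ hW _ hxp hne).2
    refine hyv ?_
    rw [psub_left hQ, hx y hy, pcomm p y, hy p hp, sub_zero]
  rw [sub_eq_zero.1 h0]
  exact hp

omit [Fintype F] in
theorem stab_qperp {W : Submodule F (ι → F)} (hW : NdOn Q W) {g : GL ι F} (hg : g ∈ Cfsg.isometryGroup F Q) [Finite F]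
    (h : g ∈ subspaceStabilizer W) : g ∈ subspaceStabilizer (qperp hQ W) := by
  refine mem_stab_of_maps fun x hx w hw => ?_
  have h1 : ((g⁻¹ : GL ι F) : Matrix ι ι F) *ᵥ w ∈ W := (mem_subspaceStabilizer_iff.1 (inv_mem h) w).1 hw
  conv_lhs => rw [← gl_mulVec_inv g w, iso_pol hg]
  exact hx _ h1

/-- subspaces of dimension at least three contain singular vectors -/
theorem exists_singular_mem (D : Submodule F (ι → F)) (hd : 3 ≤ Module.finrank F D) :
    ∃ v ∈ D, v ≠ 0 ∧ Q v = 0 := by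
  by_cases hnd : NdOn Q D
  · exact exists_qsingular hQ hnd hd
  obtain ⟨r, hr, hr0, hrad⟩ : ∃ r ∈ D, r ≠ 0 ∧ ∀ y ∈ D, pol Q r y = 0 := by
    by_contra hcon
    push Not at hcon
    exact hnd fun v hv hv0 => by
      obtain ⟨y, hy, hvy⟩ := hcon v hv hv0
      exact ⟨⟨y, hy, by rwa [pcomm]⟩, y, hy, hvy⟩
  by_cases hQr : Q r = 0
  · exact ⟨r, hr, hr0, hQr⟩
  have h2 : (2 : F) = 0 := by
    have := hrad r hr
    rw [pself hQ, mul_eq_zero] at this
    exact this.resolve_right hQr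
  obtain ⟨y, hy, hysp⟩ : ∃ y ∈ D, y ∉ Submodule.span F {r} := by
    by_contra hcon
    push Not at hcon
    have := Submodule.finrank_mono (show D ≤ Submodule.span F {r} from hcon)
    rw [finrank_span_singleton hr0] at this
    omega
  haveI : CharP F 2 := CharTwo.of_one_ne_zero_of_two_eq_zero one_ne_zero h2
  obtain ⟨t, ht⟩ := FiniteField.isSquare_of_char_two (ringChar.eq F 2) (Q y / Q r)
  refine ⟨y + t • r, D.add_mem hy (D.smul_mem _ hr), fun h => hysp ?_, ?_⟩
  · rw [eq_neg_of_add_eq_zero_left h]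
    exact Submodule.neg_mem _ (Submodule.smul_mem _ _ (Submodule.mem_span_singleton_self r))
  · rw [qadd hQ, qsmul hQ, psmul_right hQ, pcomm y r, hrad y hy, sq, ← ht, div_mul_cancel₀ _ hQr]
    linear_combination (Q y) * h2

/-- every isometry agrees with an element of `Ω` off a subspace taking every value -/
theorem exists_omega_agree_values (hn : 5 ≤ Fintype.card ι) {R : Submodule F (ι → F)}
    (hval : ∀ c : F, ∃ w ∈ R, Q w = c) {h : GL ι F} (hh : h ∈ Cfsg.isometryGroup F Q) :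
    ∃ s ∈ omegaGL Q, ∀ x ∈ qperp hQ R, (s : Matrix ι ι F) *ᵥ x = (h : Matrix ι ι F) *ᵥ x := by
  let Fx : Subgroup (Cfsg.isometryGroup F Q) :=
    { carrier := {t | ∀ x ∈ qperp hQ R, ((t : GL ι F) : Matrix ι ι F) *ᵥ x = x}
      one_mem' := fun x _ => by simp
      mul_mem' := fun {a b} ha hb x hx => by
        rw [Subgroup.coe_mul, gl_mul_mulVec, hb x hx, ha x hx]
      inv_mem' := fun {a} ha x hx => by
        conv_lhs => rw [← ha x hx, Subgroup.coe_inv, gl_inv_mulVec] }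
  obtain ⟨T, hT⟩ : ∃ T, T = Fx ⊔ Cfsg.Omega F Q := ⟨_, rfl⟩
  have hle : Cfsg.isometryGroup F Q ≤ T.map (Cfsg.isometryGroup F Q).subtype := by
    refine (iso_le_refl_closure hQ (by omega) (Or.inr (by omega))).trans ((Subgroup.closure_le _).2 ?_)
    rintro r ⟨hr, v, hv, hrv⟩
    obtain ⟨w, hw, hQw⟩ := hval (Q v)
    obtain ⟨s, hs, hsw⟩ := exists_refl hQ (v := w) (by rwa [hQw])
    obtain ⟨k, hk, hkw⟩ := exists_move_value hQ hn (v := w) (w := v) (by rwa [hQw]) hQw
    have hki := eGroup_le_iso hk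
    have h1 := hsw.conj hki
    rw [hkw] at h1
    have h2 : r = k * s * k⁻¹ * s⁻¹ * s := by rw [hrv.unique h1]; group
    refine ⟨⟨r, hr⟩, ?_, rfl⟩
    show (⟨r, hr⟩ : Cfsg.isometryGroup F Q) ∈ T
    rw [show (⟨r, hr⟩ : Cfsg.isometryGroup F Q) =
        ⁅(⟨k, hki⟩ : Cfsg.isometryGroup F Q), ⟨s, hs⟩⁆ * ⟨s, hs⟩ from Subtype.ext h2, hT]
    exact mul_mem (Subgroup.mem_sup_right (Subgroup.commutator_mem_commutator (Subgroup.mem_top _) (Subgroup.mem_top _)))
      (Subgroup.mem_sup_left fun x hx => refl_fix hQ hsw (hx w hw))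
  obtain ⟨y, hy, hyh⟩ := hle (inv_mem hh)
  rw [hT] at hy
  obtain ⟨t, ht, w, hw, htw⟩ := Subgroup.mem_sup_of_normal_right.1 hy
  refine ⟨(w⁻¹ : Cfsg.isometryGroup F Q).1, ⟨w⁻¹, inv_mem hw, rfl⟩, fun x hx => ?_⟩
  have h1 : h = (w⁻¹ : Cfsg.isometryGroup F Q).1 * (t⁻¹ : Cfsg.isometryGroup F Q).1 := by
    rw [← Subgroup.coe_mul, ← _root_.mul_inv_rev, htw, Subgroup.coe_inv]
    rw [show ((y : Cfsg.isometryGroup F Q) : GL ι F) = h⁻¹ from hyh, inv_inv]
  rw [h1, gl_mul_mulVec, (inv_mem ht : t⁻¹ ∈ Fx) x hx]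

/-- every isometry agrees with an element of `Ω` off a plane -/
theorem exists_omega_agree (hn : 5 ≤ Fintype.card ι) {R : Submodule F (ι → F)} (hR : NdOn Q R)
    (hd : 2 ≤ Module.finrank F R) {h : GL ι F} (hh : h ∈ Cfsg.isometryGroup F Q) :
    ∃ s ∈ omegaGL Q, ∀ x ∈ qperp hQ R, (s : Matrix ι ι F) *ᵥ x = (h : Matrix ι ι F) *ᵥ x :=
  exists_omega_agree_values hQ hn (fun c => exists_value_two hQ hR hd c) hh

/-- a subspace closed under equal values is everything -/
theorem closed_value_eq {W : Submodule F (ι → F)} (hW : NdOn Q W) {S : Submodule F (ι → F)} (hSW : S ≤ W)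
    (hS0 : S ≠ ⊥) (hinv : ∀ w ∈ S, w ≠ 0 → ∀ y ∈ W, y ≠ 0 → Q y = Q w → y ∈ S)
    (hirr : Module.finrank F W = 2 → (∃ e ∈ W, e ≠ 0 ∧ Q e = 0) → 4 ≤ Fintype.card F) : W ≤ S := by
  classical
  obtain ⟨w, hw, hQw⟩ : ∃ w ∈ S, Q w ≠ 0 := by
    obtain ⟨s, hs, hs0⟩ := Submodule.exists_mem_ne_zero_of_ne_bot hS0
    by_cases hQs : Q s = 0
    swap
    · exact ⟨s, hs, hQs⟩
    obtain ⟨f, hf, hQf, hsf⟩ := exists_qpartner hQ hW (hSW hs) hs0 hQs
    have hf0 : f ≠ 0 := fun h => by rw [h, pzero_right hQ] at hsf; exact zero_ne_one hsf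
    refine ⟨s + f, S.add_mem hs (hinv s hs hs0 f hf hf0 (hQf.trans hQs.symm)), ?_⟩
    rw [qadd hQ, hQs, hQf, hsf]
    simp
  have hw0 : w ≠ 0 := fun h => hQw (by rw [h]; exact qzero hQ)
  obtain ⟨c, hc⟩ : ∃ c, c = Q w := ⟨_, rfl⟩
  have hc0 : c ≠ 0 := hc ▸ hQw
  have hval : ∀ y ∈ W, Q y = c → y ∈ S := fun y hy hyc =>
    hinv w hw hw0 y hy (fun h => hc0 (by rw [← hyc, h, qzero hQ])) (hyc.trans hc)
  by_cases h3 : 3 ≤ Module.finrank F W
  · obtain ⟨e, he, he0, hQe⟩ := exists_qsingular hQ hW h3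
    obtain ⟨f, hf, hQf, hef⟩ := exists_qpartner hQ hW he he0 hQe
    have hnd := pair_nd hQ he hf hQe hQf hef hW
    have hdim := pair_finrank hQ he hf hQe hQf hef
    have key : ∀ e f, e ∈ W → f ∈ W → Q e = 0 → Q f = 0 → pol Q e f = 1 → ∀ x ∈ W, pol Q x e = 0 →
        pol Q x f = 0 → x - Q x • f ∈ S := by
      intro e f he hf hQe hQf hef x hx hxe hxf
      have h1 := hval (x + e + (c - Q x) • f) (W.add_mem (W.add_mem hx he) (W.smul_mem _ hf)) (by
        rw [qadd hQ, qadd hQ, qsmul hQ, hQe, hQf, psmul_right hQ, padd_left hQ, hxe, hxf, hef]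
        ring)
      have h2 := hval (e + c • f) (W.add_mem he (W.smul_mem _ hf)) (by
        rw [qadd hQ, qsmul hQ, hQe, hQf, psmul_right hQ, hef]
        ring)
      have h3 := S.sub_mem h1 h2
      rwa [show x + e + (c - Q x) • f - (e + c • f) = x - Q x • f by module] at h3
    obtain ⟨x, hx, hx0⟩ : ∃ x ∈ pairPerp hQ W e f, x ≠ 0 := by
      refine Submodule.exists_mem_ne_zero_of_ne_bot fun h => ?_
      rw [h, finrank_bot] at hdim
      omega
    obtain ⟨y, hy, hxy⟩ := (hnd x hx hx0).2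
    obtain ⟨hxW, hxe, hxf⟩ := (mem_pairPerp hQ).1 hx
    obtain ⟨hyW, hye, hyf⟩ := (mem_pairPerp hQ).1 hy
    have hend : ∀ e f, e ∈ W → f ∈ W → Q e = 0 → Q f = 0 → pol Q e f = 1 → pol Q x e = 0 → pol Q x f = 0 →
        pol Q y e = 0 → pol Q y f = 0 → f ∈ S := by
      intro e f he hf hQe hQf hef hxe hxf hye hyf
      have h1 := key e f he hf hQe hQf hef x hxW hxe hxf
      have h2 := key e f he hf hQe hQf hef y hyW hye hyf
      have h3 := key e f he hf hQe hQf hef (x + y) (W.add_mem hxW hyW) (by rw [padd_left hQ, hxe, hye, add_zero])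
        (by rw [padd_left hQ, hxf, hyf, add_zero])
      have h4 := S.sub_mem (S.add_mem h1 h2) h3
      rw [show x - Q x • f + (y - Q y • f) - (x + y - Q (x + y) • f) = (Q (x + y) - Q x - Q y) • f by module] at h4
      exact (S.smul_mem_iff hxy).1 h4
    have hfS := hend e f he hf hQe hQf hef hxe hxf hye hyf
    have heS := hend f e hf he hQf hQe (by rw [pcomm]; exact hef) hxf hxe hyf hye
    intro z hz
    have h1 := pair_proj hQ he hf hQe hQf hef hz
    obtain ⟨hpW, hpe, hpf⟩ := (mem_pairPerp hQ).1 h1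
    obtain ⟨p, hp⟩ : ∃ p, p = z - pol Q z f • e - pol Q z e • f := ⟨_, rfl⟩
    rw [← hp] at hpW hpe hpf
    have h2 := key e f he hf hQe hQf hef p hpW hpe hpf
    have h3 : z = p - Q p • f + (Q p + pol Q z e) • f + pol Q z f • e := by rw [hp]; module
    rw [h3]
    exact S.add_mem (S.add_mem h2 (S.smul_mem _ hfS)) (S.smul_mem _ heS)
  by_cases h2 : Module.finrank F W = 2
  swap
  · -- a line
    have hle : Submodule.span F {w} ≤ W := (Submodule.span_singleton_le_iff_mem _ _).2 (hSW hw)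
    rw [← Submodule.eq_of_le_of_finrank_le hle (by rw [finrank_span_singleton hw0]; omega)]
    exact (Submodule.span_singleton_le_iff_mem _ _).2 hw
  -- a plane: find a second vector of the same value
  obtain ⟨y, hy, hyc, hysp⟩ : ∃ y ∈ W, Q y = c ∧ y ∉ Submodule.span F {w} := by
    by_cases hiso : ∃ e ∈ W, e ≠ 0 ∧ Q e = 0
    · obtain ⟨e, he, he0, hQe⟩ := hiso
      obtain ⟨f, hf, hQf, hef⟩ := exists_qpartner hQ hW he he0 hQe
      have hq := hirr h2 ⟨e, he, he0, hQe⟩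
      obtain ⟨t, ht0, ht⟩ : ∃ t : F, t ≠ 0 ∧ t * pol Q w e ≠ c * (t⁻¹ * pol Q w f) := by
        by_contra hcon
        push Not at hcon
        obtain ⟨a, ha⟩ : ∃ a, a = pol Q w e := ⟨_, rfl⟩
        have hroot : ∀ t : F, t ≠ 0 → t * t * a = c * pol Q w f := fun t ht => by
          rw [ha, mul_assoc, hcon t ht]
          field_simp
        have h1 := hroot 1 one_ne_zero
        rcases eq_or_ne a 0 with ha0 | ha0
        · rw [ha0, mul_zero, eq_comm, mul_eq_zero] at h1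
          have hwf := h1.resolve_left hc0
          have hwe : pol Q w e = 0 := ha.symm.trans ha0
          have hp := pair_proj hQ he hf hQe hQf hef (hSW hw)
          rw [hwe, hwf, zero_smul, zero_smul, sub_zero, sub_zero] at hp
          have hdim := pair_lt hQ he hf hQe hQf hef
          have hne : pairPerp hQ W e f ≠ ⊥ := fun h => hw0 (by rw [h] at hp; exact hp)
          have hb : (pairPerp hQ W e f) = ⊥ := by
            rw [← Submodule.finrank_eq_zero]
            by_contra hpos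
            obtain ⟨p, hp', hp0⟩ := Submodule.exists_mem_ne_zero_of_ne_bot hne
            obtain ⟨hpW, hpe, hpf⟩ := (mem_pairPerp hQ).1 hp'
            have hli : LinearIndependent F ![e, f, p] := by
              rw [Fintype.linearIndependent_iff]
              intro g hg
              simp [Fin.sum_univ_three] at hg
              have h1 := congrArg (fun x => pol Q x f) hg
              have h2 := congrArg (fun x => pol Q x e) hg
              simp only [padd_left hQ, psmul_left hQ, hef, pcomm f e, pself hQ, hQe, hQf, hpe, hpf, pzero_left hQ,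
                mul_zero, mul_one, add_zero, zero_add] at h1 h2
              rw [h1, h2, zero_smul, zero_smul, zero_add, zero_add, smul_eq_zero] at hg
              intro i
              fin_cases i
              exacts [h1, h2, hg.resolve_right hp0]
            have h3' := Submodule.finrank_mono (show Submodule.span F (Set.range ![e, f, p]) ≤ W from
              Submodule.span_le.2 (by rintro _ ⟨i, rfl⟩; fin_cases i; exacts [he, hf, hpW]))
            rw [finrank_span_eq_card hli, Fintype.card_fin] at h3'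
            omega
          exact hne hb
        · have hsub : (Finset.univ : Finset F) ⊆ {0, 1, -1} := fun x _ => by
            simp only [Finset.mem_insert, Finset.mem_singleton]
            by_cases hx : x = 0
            · exact Or.inl hx
            · exact Or.inr (mul_self_eq_one_iff.1 (mul_right_cancel₀ ha0 ((hroot x hx).trans
                (h1.symm.trans (by ring)))))
          have := (Finset.card_le_card hsub).trans Finset.card_le_three
          rw [Finset.card_univ] at this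
          omega
      refine ⟨t • e + (c * t⁻¹) • f, W.add_mem (W.smul_mem _ he) (W.smul_mem _ hf), ?_, fun h => ?_⟩
      · rw [qadd hQ, qsmul hQ, qsmul hQ, hQe, hQf, psmul_left hQ, psmul_right hQ, hef]
        field_simp
        ring
      · obtain ⟨a, ha⟩ := Submodule.mem_span_singleton.1 h
        have h1 := congrArg (fun x => pol Q x e) ha
        have h2' := congrArg (fun x => pol Q x f) ha
        simp only [padd_left hQ, psmul_left hQ, hef, pcomm f e, pself hQ, hQe, hQf, mul_zero, mul_one, add_zero,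
          zero_add] at h1 h2'
        refine ht (mul_left_cancel₀ (a := a) (fun ha0 => ht0 ?_) ?_)
        · rw [← h2', ha0, zero_mul]
        · linear_combination t * h1 - c * t⁻¹ * h2'
    · push Not at hiso
      obtain ⟨v, hv, hvsp, hvw⟩ : ∃ v ∈ W, v ∉ Submodule.span F {w} ∧ pol Q v w ≠ 0 := by
        obtain ⟨a, ha, hwa⟩ := (hW w (hSW hw) hw0).1
        by_cases hasp : a ∈ Submodule.span F {w}
        swap
        · exact ⟨a, ha, hasp, hwa⟩
        obtain ⟨b, hb, hbsp⟩ : ∃ b ∈ W, b ∉ Submodule.span F {w} := by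
          by_contra hcon
          push Not at hcon
          have := Submodule.finrank_mono (show W ≤ Submodule.span F {w} from hcon)
          rw [finrank_span_singleton hw0] at this
          omega
        by_cases hbw : pol Q b w = 0
        swap
        · exact ⟨b, hb, hbsp, hbw⟩
        exact ⟨a + b, W.add_mem ha hb, fun h => hbsp (((Submodule.span F {w}).add_mem_iff_right hasp).1 h),
          by rw [padd_left hQ, hbw, add_zero]; exact hwa⟩
      have hQv : Q v ≠ 0 := hiso v hv fun h => hvsp (h ▸ Submodule.zero_mem _)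
      refine ⟨w - ((Q v)⁻¹ * pol Q w v) • v, W.sub_mem (hSW hw) (W.smul_mem _ hv), ?_, fun h => ?_⟩
      · rw [qsub hQ, qsmul hQ, psmul_right hQ, ← hc]
        field_simp
        ring
      · have h1 := (Submodule.sub_mem_iff_right _ (Submodule.mem_span_singleton_self w)).1 h
        exact hvsp ((Submodule.smul_mem_iff _ (mul_ne_zero (inv_ne_zero hQv) (by rw [pcomm]; exact hvw))).1 h1)
  have hlt : Submodule.span F {w} < W ⊓ S := lt_of_le_of_ne
    ((Submodule.span_singleton_le_iff_mem _ _).2 ⟨hSW hw, hw⟩) fun h => hysp (h.symm ▸ ⟨hy, hval y hy hyc⟩)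
  have h4 := Submodule.finrank_lt_finrank_of_lt hlt
  rw [finrank_span_singleton hw0] at h4
  rw [← Submodule.eq_of_le_of_finrank_le (inf_le_left : W ⊓ S ≤ W) (by omega)]
  exact inf_le_right

/-- one mixed Eichler transformation gives a pair of centres -/
theorem nd_pair_of_mixed (hn : 5 ≤ Fintype.card ι) {W : Submodule F (ι → F)} (hW : NdOn Q W)
    (hP4 : 4 ≤ Module.finrank F (qperp hQ W))
    (hirr : Module.finrank F W = 2 → (∃ e ∈ W, e ≠ 0 ∧ Q e = 0) → 4 ≤ Fintype.card F) {M : Subgroup (GL ι F)}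
    (hHM : subspaceStabilizer W ⊓ omegaGL Q ≤ M) (hM : M ≤ Cfsg.isometryGroup F Q) {u : ι → F}
    (hu : u ∈ qperp hQ W) (hu0 : u ≠ 0) (hQu : Q u = 0) {a : ι → F} (hua : pol Q u a = 0) (haP : a ∉ qperp hQ W)
    (hE : EIn Q M u a) : ∃ e ∈ eCentres Q M, ∃ f ∈ eCentres Q M, pol Q e f ≠ 0 := by
  have hPnd := qperp_nd hQ hW
  obtain ⟨u', hu', hQu', huu'⟩ := exists_qpartner hQ hPnd hu hu0 hQu
  obtain ⟨R, hR⟩ : ∃ R, R = pairPerp hQ (qperp hQ W) u u' := ⟨_, rfl⟩
  have hRnd : NdOn Q R := hR ▸ pair_nd hQ hu hu' hQu hQu' huu' hPnd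
  have hRd : 2 ≤ Module.finrank F R := by
    have := pair_finrank hQ hu hu' hQu hQu' huu'
    rw [← hR] at this
    omega
  have hWR : ∀ x ∈ W, x ∈ qperp hQ R := fun x hx r hr => by
    rw [hR] at hr
    rw [pcomm]
    exact ((mem_pairPerp hQ).1 hr).1 x hx
  have huR : u ∈ qperp hQ R := fun r hr => by
    rw [hR] at hr
    rw [pcomm]
    exact ((mem_pairPerp hQ).1 hr).2.1
  -- elements of `M` acting like a given isometry on `W` and `u`
  have hlift : ∀ h ∈ Cfsg.isometryGroup F Q, (∀ x ∈ W, (h : Matrix ι ι F) *ᵥ x ∈ W) →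
      ∃ s ∈ M, ((s : Matrix ι ι F) *ᵥ u = (h : Matrix ι ι F) *ᵥ u) ∧
        ∀ x ∈ W, (s : Matrix ι ι F) *ᵥ x = (h : Matrix ι ι F) *ᵥ x := fun h hh hhW => by
    obtain ⟨s, hs, hsh⟩ := exists_omega_agree hQ hn hRnd hRd hh
    exact ⟨s, hHM ⟨mem_stab_of_maps fun x hx => by rw [hsh x (hWR x hx)]; exact hhW x hx, hs⟩,
      hsh u huR, fun x hx => hsh x (hWR x hx)⟩
  have hPE : ∀ p ∈ qperp hQ W, pol Q u p = 0 → EIn Q M u p := fun p hp hup => by
    obtain ⟨g, hg, hgE⟩ := ein_omega hQ hn hQu hup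
    refine ⟨g, hHM ⟨mem_stab_of_maps fun x hx => ?_, hg⟩, hgE⟩
    rw [hgE, pcomm x u, hu x hx, pcomm x p, hp x hx]
    simpa using hx
  -- scaling
  have hscale : ∀ w ∈ W, EIn Q M u w → ∀ c : F, EIn Q M u (c • w) := by
    intro w hw hEw c
    rcases eq_or_ne c 0 with rfl | hc
    · have := EIn.smul_self hQ M hQu 0
      rw [zero_smul] at this
      rwa [zero_smul]
    have h1 : Q (u - u') ≠ 0 := by rw [qsub hQ, hQu, hQu', huu']; simp
    have h2 : Q (u' - c • u) ≠ 0 := by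
      rw [qsub hQ, qsmul hQ, hQu, hQu', psmul_right hQ, pcomm u' u, huu']
      simpa using hc
    obtain ⟨r₁, hr₁, hr₁E⟩ := exists_refl hQ h1
    obtain ⟨r₂, hr₂, hr₂E⟩ := exists_refl hQ h2
    have hfix : ∀ x ∈ W, ((r₂ * r₁ : GL ι F) : Matrix ι ι F) *ᵥ x = x := fun x hx => by
      have e1 : pol Q x u = 0 := by rw [pcomm]; exact hu x hx
      have e2 : pol Q x u' = 0 := by rw [pcomm]; exact hu' x hx
      rw [gl_mul_mulVec, refl_fix hQ hr₁E (by rw [psub_right hQ, e1, e2, sub_zero]),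
        refl_fix hQ hr₂E (by rw [psub_right hQ, psmul_right hQ, e1, e2, mul_zero, sub_zero])]
    obtain ⟨s, hs, hsu, hsW⟩ := hlift _ (mul_mem hr₂ hr₁) fun x hx => by rw [hfix x hx]; exact hx
    have hsu' : (s : Matrix ι ι F) *ᵥ u = c • u := by
      rw [hsu, gl_mul_mulVec, refl_moves hQ (hQu.trans hQu'.symm) h1 hr₁E,
        refl_moves hQ (by rw [qsmul hQ, hQu, hQu', mul_zero]) h2 hr₂E]
    obtain ⟨g, hg, hgE⟩ := EIn.conj hEw (hM hs) hs
    rw [hsu', hsW w hw, hfix w hw] at hgE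
    obtain ⟨k, -, hkE⟩ := exists_E hQ hQu (a := c • w) (by rw [psmul_right hQ, hu w hw, mul_zero])
    exact ⟨k, (hgE.unique (hkE.smul hQ)) ▸ hg, hkE⟩
  let S : Submodule F (ι → F) :=
    { carrier := {w | w ∈ W ∧ ∀ c : F, EIn Q M u (c • w)}
      zero_mem' := ⟨W.zero_mem, fun c => by
        rw [smul_zero]
        have := EIn.smul_self hQ M hQu 0
        rwa [zero_smul] at this⟩
      add_mem' := fun {p p'} hp hp' => ⟨W.add_mem hp.1 hp'.1, fun c => by
        rw [smul_add]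
        exact EIn.add hQ hQu (by rw [psmul_right hQ, hu p hp.1, mul_zero])
          (by rw [psmul_right hQ, hu p' hp'.1, mul_zero]) (hp.2 c) (hp'.2 c)⟩
      smul_mem' := fun c p hp => ⟨W.smul_mem c hp.1, fun d => by rw [smul_smul]; exact hp.2 _⟩ }
  obtain ⟨w, hw, haw⟩ := qperp_decomp hQ hW a
  have hwS : w ∈ S := by
    refine ⟨hw, hscale w hw ?_⟩
    have h1 : pol Q u (-(a - w)) = 0 := by rw [pneg_right hQ, psub_right hQ, hua, hu w hw, sub_zero, neg_zero]
    have h2 := EIn.add hQ hQu hua h1 hE (hPE _ ((qperp hQ W).neg_mem haw) h1)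
    rwa [show a + -(a - w) = w by abel] at h2
  have hw0 : w ≠ 0 := fun h => haP (by rwa [h, sub_zero] at haw)
  obtain ⟨B, hBQ, hB⟩ := exists_bundled hQ
  subst hBQ
  have hWS : W ≤ S := by
    refine closed_value_eq hQ hW (fun x hx => hx.1) (fun h => hw0 ((Submodule.eq_bot_iff S).1 h w hwS))
      (fun x hx hx0 y hy hy0 hyx => ?_) hirr
    have hnP : ∀ z ∈ W, z ≠ 0 → z ∉ qperp hQ W := fun z hz hz0 h => by
      obtain ⟨t, ht, hzt⟩ := (hW z hz hz0).2
      exact hzt (h t ht)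
    obtain ⟨g, hgi, hgP, hgx⟩ := Witt.exists_step (Q := B) hB (W := qperp hQ W) (hnP x hx.1 hx0) (hnP y hy hy0) hyx
      (fun p hp => by rw [pcomm y p, hp y hy, pcomm x p, hp x hx.1])
    obtain ⟨k, hk, hkg⟩ := exists_iso_of_equiv (Q := ⇑B) g hgi
    obtain ⟨s, hs, hsu, hsW⟩ := hlift k hk fun z hz => by
      rw [← qperp_qperp hQ hW]
      intro p hp
      conv_lhs => rw [← hgP p hp, ← hkg, iso_pol hk, pcomm]
      exact hp z hz
    refine ⟨hy, hscale y hy ?_⟩
    have h1 := EIn.conj (hx.2 1) (hM hs) hs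
    rw [one_smul, hsu, hkg, hgP u hu, hsW x hx.1, hkg, hgx] at h1
    exact h1
  have huC : u ∈ eCentres (⇑B) M := by
    refine ⟨hQu, fun b hub => ?_⟩
    obtain ⟨v, hv, hbv⟩ := qperp_decomp hQ hW b
    have h1 := (hWS hv).2 1
    rw [one_smul] at h1
    have h2 := EIn.add hQ hQu (hu v hv) (by rw [psub_right hQ, hub, hu v hv, sub_zero]) h1
      (hPE _ hbv (by rw [psub_right hQ, hub, hu v hv, sub_zero]))
    rwa [add_sub_cancel] at h2
  have h1 : B (u - u') ≠ 0 := by rw [qsub hQ, hQu, hQu', huu']; simp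
  obtain ⟨r, hr, hrE⟩ := exists_refl hQ h1
  obtain ⟨s, hs, hsu, -⟩ := hlift r hr fun x hx => by
    rw [refl_fix hQ hrE (by rw [psub_right hQ, pcomm x u, hu x hx, pcomm x u', hu' x hx, sub_zero])]
    exact hx
  refine ⟨u, huC, _, eCentres_conj hM hs huC, ?_⟩
  rw [hsu, refl_moves hQ (hQu.trans hQu'.symm) h1 hrE, huu']
  exact one_ne_zero

/-- stabilisers of nondegenerate subspaces are maximal -/
theorem nd_subspace_maximal (hn : 5 ≤ Fintype.card ι) {W : Submodule F (ι → F)} (hW0 : W ≠ ⊥) (hW : NdOn Q W)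
    (hP5 : 5 ≤ Module.finrank F (qperp hQ W))
    (hswap : ∀ g ∈ omegaGL Q, ¬ ∀ x ∈ qperp hQ W, (g : Matrix ι ι F) *ᵥ x ∈ W)
    (hirr : Module.finrank F W = 2 → (∃ e ∈ W, e ≠ 0 ∧ Q e = 0) → 4 ≤ Fintype.card F) :
    IsMaximalIn (omegaGL Q) (subspaceStabilizer W ⊓ omegaGL Q) := by
  have hPnd := qperp_nd hQ hW
  refine isMaximalIn_of_pair hQ hn (fun hle => ?_) fun M hHM hM hMH => ?_
  · obtain ⟨w, hw, hw0⟩ := Submodule.exists_mem_ne_zero_of_ne_bot hW0
    obtain ⟨u, hu, hu0, hQu⟩ := exists_qsingular hQ hPnd (by omega)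
    obtain ⟨w', hw', hww'⟩ := (hW w hw hw0).2
    obtain ⟨g, hg, hgE⟩ := ein_omega hQ hn hQu (hu w hw)
    have h1 : (g : Matrix ι ι F) *ᵥ w' ∈ W := (mem_subspaceStabilizer_iff.1 (hle hg) w').1 hw'
    rw [hgE, pcomm w' u, hu w' hw', zero_smul, add_zero, mul_zero, zero_smul, sub_zero, W.sub_mem_iff_right hw',
      W.smul_mem_iff (by rwa [pcomm])] at h1
    obtain ⟨t, ht, hut⟩ := (hW u h1 hu0).2
    exact hut (hu t ht)
  have hMi : M ≤ Cfsg.isometryGroup F Q := hM.trans omegaGL_le_iso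
  -- a singular vector common to the orthogonal and one of its translates
  suffices hcommon : ∃ g ∈ M, g ∉ subspaceStabilizer W ∧
      ∃ u₀ ∈ qperp hQ W, u₀ ≠ 0 ∧ Q u₀ = 0 ∧ (g : Matrix ι ι F) *ᵥ u₀ ∈ qperp hQ W by
    obtain ⟨g, hg, hgW, u₀, hu₀, hu₀0, hQu₀, hgu₀⟩ := hcommon
    have hmove : ∃ x ∈ qperp hQ W, (g : Matrix ι ι F) *ᵥ x ∉ qperp hQ W := by
      by_contra hcon
      push Not at hcon
      refine hgW ?_
      have := stab_qperp hQ hPnd (hMi hg) (mem_stab_of_maps hcon)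
      rwa [qperp_qperp hQ hW] at this
    obtain ⟨u₁, hu₁, hu₁0, hQu₁, hgu₁, p, hp, hup, hgp⟩ : ∃ u₁ ∈ qperp hQ W, u₁ ≠ 0 ∧ Q u₁ = 0 ∧
        (g : Matrix ι ι F) *ᵥ u₁ ∈ qperp hQ W ∧ ∃ p ∈ qperp hQ W, pol Q u₁ p = 0 ∧
          (g : Matrix ι ι F) *ᵥ p ∉ qperp hQ W := by
      by_contra hcon
      push Not at hcon
      obtain ⟨u', hu', hQu', huu'⟩ := exists_qpartner hQ hPnd hu₀ hu₀0 hQu₀
      have hd := pair_finrank hQ hu₀ hu' hQu₀ hQu' huu'
      obtain ⟨v, hv, hv0, hQv⟩ := exists_qsingular hQ (pair_nd hQ hu₀ hu' hQu₀ hQu' huu' hPnd) (by omega)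
      obtain ⟨hvP, hvu, hvu'⟩ := (mem_pairPerp hQ).1 hv
      have h1 := hcon u₀ hu₀ hu₀0 hQu₀ hgu₀
      have hgv : (g : Matrix ι ι F) *ᵥ v ∈ qperp hQ W := h1 v hvP (by rw [pcomm, hvu])
      have hgu' : (g : Matrix ι ι F) *ᵥ u' ∈ qperp hQ W := hcon v hvP hv0 hQv hgv u' hu' hvu'
      obtain ⟨x, hx, hgx⟩ := hmove
      have h2 := h1 (x - pol Q u₀ x • u') ((qperp hQ W).sub_mem hx ((qperp hQ W).smul_mem _ hu'))
        (by rw [psub_right hQ, psmul_right hQ, huu', mul_one, sub_self])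
      rw [mulVec_sub, mulVec_smul] at h2
      exact hgx (((qperp hQ W).sub_mem_iff_left ((qperp hQ W).smul_mem _ hgu')).1 h2)
    refine nd_pair_of_mixed hQ hn hW (by omega) hirr hHM hMi hgu₁ (fun h => hu₁0 (gl_mulVec_eq_zero.1 h))
      ((mem_iso.1 (hMi hg) u₁).trans hQu₁) (a := (g : Matrix ι ι F) *ᵥ p) (by rw [iso_pol (hMi hg), hup]) hgp ?_
    obtain ⟨e, he, heE⟩ := ein_omega hQ hn hQu₁ hup
    exact EIn.conj ⟨e, hHM ⟨mem_stab_of_maps fun x hx => by
      rw [heE, pcomm x u₁, hu₁ x hx, pcomm x p, hp x hx]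
      simpa using hx, he⟩, heE⟩ (hMi hg) hg
  obtain ⟨g, hg, hgW⟩ := SetLike.not_le_iff_exists.1 hMH
  by_cases hD : ∃ u₀ ∈ qperp hQ W, u₀ ≠ 0 ∧ Q u₀ = 0 ∧ (g : Matrix ι ι F) *ᵥ u₀ ∈ qperp hQ W
  · exact ⟨g, hg, hgW, hD⟩
  push Not at hD
  obtain ⟨u, hu, hQu, hgu⟩ : ∃ u ∈ qperp hQ W, Q u = 0 ∧ (g : Matrix ι ι F) *ᵥ u ∉ W := by
    by_contra hcon
    push Not at hcon
    exact hswap g (hM hg) fun x hx => (le_of_singular_mem hQ (S := W.comap (Matrix.mulVecLin (g : Matrix ι ι F)))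
      hPnd (by omega) (fun v hv hQv => hcon v hv hQv)) hx
  have hu0 : u ≠ 0 := fun h => hgu (by rw [h, mulVec_zero]; exact W.zero_mem)
  obtain ⟨u', hu', hQu', huu'⟩ := exists_qpartner hQ hPnd hu hu0 hQu
  have hd := pair_finrank hQ hu hu' hQu hQu' huu'
  obtain ⟨p, hp, hp0, hQp⟩ := exists_qsingular hQ (pair_nd hQ hu hu' hQu hQu' huu' hPnd) (by omega)
  obtain ⟨hpP, hpu, hpu'⟩ := (mem_pairPerp hQ).1 hp
  have hup : pol Q u p = 0 := by rw [pcomm, hpu]
  obtain ⟨e, he, heE⟩ := ein_omega hQ hn hQu hup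
  have heM : e ∈ M := hHM ⟨mem_stab_of_maps fun x hx => by
    rw [heE, pcomm x u, hu x hx, pcomm x p, hpP x hx]
    simpa using hx, he⟩
  have hk : IsE Q ((g : Matrix ι ι F) *ᵥ u) ((g : Matrix ι ι F) *ᵥ p) (g * e * g⁻¹) := heE.conj (hMi hg)
  have happ : ∀ x, ((g * e * g⁻¹ : GL ι F) : Matrix ι ι F) *ᵥ x =
      x + pol Q x ((g : Matrix ι ι F) *ᵥ u) • (g : Matrix ι ι F) *ᵥ p -
        pol Q x ((g : Matrix ι ι F) *ᵥ p) • (g : Matrix ι ι F) *ᵥ u := fun x => by
    rw [hk, mem_iso.1 (hMi hg), hQp, zero_mul, zero_smul, sub_zero]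
  refine ⟨g * e * g⁻¹, mul_mem (mul_mem hg heM) (inv_mem hg), fun hstab => hgu ?_, ?_⟩
  · rw [← qperp_qperp hQ hW]
    intro x hx
    have h1 : ((g * e * g⁻¹ : GL ι F) : Matrix ι ι F) *ᵥ x ∈ qperp hQ W :=
      (mem_subspaceStabilizer_iff.1 (stab_qperp hQ hW (mul_mem (mul_mem (hMi hg) (hMi heM)) (inv_mem (hMi hg))) hstab) x).1 hx
    rw [happ, add_sub_assoc, (qperp hQ W).add_mem_iff_right hx] at h1
    obtain ⟨q, hq⟩ : ∃ q, q = pol Q x ((g : Matrix ι ι F) *ᵥ u) • p - pol Q x ((g : Matrix ι ι F) *ᵥ p) • u :=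
      ⟨_, rfl⟩
    have hq0 : q = 0 := by
      by_contra hne
      refine hD q (hq ▸ (qperp hQ W).sub_mem ((qperp hQ W).smul_mem _ hpP) ((qperp hQ W).smul_mem _ hu)) hne ?_ ?_
      · rw [hq, qsub hQ, qsmul hQ, qsmul hQ, hQp, hQu, psmul_left hQ, psmul_right hQ, hpu]
        ring
      · rwa [hq, mulVec_sub, mulVec_smul, mulVec_smul]
    rw [pcomm]
    by_contra hne
    have h2 : p ∈ Submodule.span F {u} := by
      refine (Submodule.smul_mem_iff _ hne).1 ?_
      rw [← sub_add_cancel (pol Q x ((g : Matrix ι ι F) *ᵥ u) • p) (pol Q x ((g : Matrix ι ι F) *ᵥ p) • u), ← hq,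
        hq0, zero_add]
      exact Submodule.smul_mem _ _ (Submodule.mem_span_singleton_self u)
    obtain ⟨c, rfl⟩ := Submodule.mem_span_singleton.1 h2
    rw [psmul_left hQ, huu', mul_one] at hpu'
    exact hp0 (by rw [hpu', zero_smul])
  · -- a singular vector of the orthogonal fixed by the new element
    obtain ⟨D, hDdef⟩ : ∃ D, D = qperp hQ W ⊓ LinearMap.ker (pfl hQ ((g : Matrix ι ι F) *ᵥ u)) ⊓
        LinearMap.ker (pfl hQ ((g : Matrix ι ι F) *ᵥ p)) := ⟨_, rfl⟩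
    have hD3 : 3 ≤ Module.finrank F D := by
      have h1 := finrank_inf_pfl hQ (qperp hQ W) ((g : Matrix ι ι F) *ᵥ u)
      have h2 := finrank_inf_pfl hQ (qperp hQ W ⊓ LinearMap.ker (pfl hQ ((g : Matrix ι ι F) *ᵥ u)))
        ((g : Matrix ι ι F) *ᵥ p)
      rw [hDdef]
      omega
    obtain ⟨v, hv, hv0, hQv⟩ := exists_singular_mem hQ D hD3
    rw [hDdef] at hv
    refine ⟨v, hv.1.1, hv0, hQv, ?_⟩
    rw [happ, show pol Q v ((g : Matrix ι ι F) *ᵥ u) = 0 from hv.1.2,
      show pol Q v ((g : Matrix ι ι F) *ᵥ p) = 0 from hv.2]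
    simpa using hv.1.1

end CfsgLib.Perm.Trans.Quad
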