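import Cfsg.Agent.Lib.Perm.Trans.QuadNondeg

/-!
# Stabilisers of pairs of complementary totally singular subspaces are maximal in `Ω`
-/

set_option autoImplicit false
set_option linter.all false

namespace CfsgLib.Perm.Trans.Quad

open scoped Matrix commutatorElement
open Matrix Cfsg.Geo CfsgLib.Perm.Asch CfsgLib.Perm.Trans

variable {ι : Type} [Fintype ι] [DecidableEq ι] {F : Type*} [Field F] [Fintype F]
variable {Q : (ι → F) → F}

local notation "pol" => QuadraticMap.polar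

/-- two complementary totally singular subspaces of dimension at least five -/
structure QPair (Q : (ι → F) → F) (X Y : Submodule F (ι → F)) : Prop where
  singX : IsTotallySingularQuad Q X
  singY : IsTotallySingularQuad Q Y
  sup : X ⊔ Y = ⊤
  inf : X ⊓ Y = ⊥
  dimX : 5 ≤ Module.finrank F X
  dimY : 5 ≤ Module.finrank F Y

variable {X Y : Submodule F (ι → F)}

omit [DecidableEq ι] [Fintype ι] [Fintype F] in
theorem QPair.symm (P : QPair Q X Y) : QPair Q Y X :=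
  ⟨P.singY, P.singX, by rw [sup_comm, P.sup], by rw [inf_comm, P.inf], P.dimY, P.dimX⟩

omit [DecidableEq ι] [Fintype ι] [Fintype F] in
theorem QPair.split (P : QPair Q X Y) (v : ι → F) : ∃ x ∈ X, ∃ y ∈ Y, v = x + y := by
  obtain ⟨x, hx, y, hy, h⟩ := Submodule.mem_sup.1 (P.sup.symm ▸ Submodule.mem_top : v ∈ X ⊔ Y)
  exact ⟨x, hx, y, hy, h.symm⟩

omit [DecidableEq ι] [Fintype ι] [Fintype F] in
theorem QPair.eq_zero (P : QPair Q X Y) {v : ι → F} (hx : v ∈ X) (hy : v ∈ Y) : v = 0 :=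
  (Submodule.mem_bot F).1 (P.inf ▸ ⟨hx, hy⟩)

variable (hQ : IsNondegenerateQuadraticForm Q) (P : QPair Q X Y)
include hQ

theorem refl_pair_omega (hn : 5 ≤ Fintype.card ι) {a b : ι → F} (ha : Q a ≠ 0) (hab : Q a = Q b) {r s : GL ι F}
    (hr : r ∈ Cfsg.isometryGroup F Q) (hs : s ∈ Cfsg.isometryGroup F Q) (hra : IsRefl Q a r) (hsb : IsRefl Q b s) :
    r * s ∈ omegaGL Q := by
  obtain ⟨k, hk, hkw⟩ := exists_move_value hQ hn (v := b) (w := a) (hab ▸ ha) hab.symm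
  have h1 := hsb.conj (eGroup_le_iso hk)
  rw [hkw] at h1
  have hss : s⁻¹ = s := by
    refine mul_eq_one_iff_inv_eq.1 (gl_ext_vec fun x => ?_)
    have hQb : Q b ≠ 0 := hab ▸ ha
    rw [gl_mul_mulVec, hsb, hsb, Units.val_one, one_mulVec]
    simp only [psub_left hQ, psmul_left hQ, pself hQ b]
    match_scalars <;> field_simp <;> ring
  rw [show r * s = k * s * k⁻¹ * s⁻¹ by rw [hra.unique h1, hss]]
  exact mem_omegaGL_comm (eGroup_le_iso hk) hs

omit [Fintype F] in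
include P in
theorem pair_nonorth {x : ι → F} (hx : x ∈ X) (hx0 : x ≠ 0) : ∃ y ∈ Y, pol Q x y ≠ 0 := by
  obtain ⟨v, hv⟩ := (hQ.nondegenerate x hx0).2
  obtain ⟨a, ha, b, hb, rfl⟩ := P.split v
  rw [padd_right hQ, pol_zero_of_singular hQ P.singX hx ha, zero_add] at hv
  exact ⟨b, hb, hv⟩

omit [Fintype F] in
include P in
theorem pair_sep {x u : ι → F} (hx : x ∈ X) (hu : u ∈ X) (h : u ∉ Submodule.span F ({x} : Set (ι → F))) :
    ∃ y ∈ Y, pol Q u y = 1 ∧ pol Q x y = 0 := by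
  obtain ⟨p, hp, hup⟩ := exists_qperp_ne hQ h
  obtain ⟨a, ha, b, hb, rfl⟩ := P.split p
  refine ⟨b, hb, ?_, ?_⟩
  · rwa [padd_right hQ, pol_zero_of_singular hQ P.singX hu ha, zero_add] at hup
  · have h1 := hp x (Submodule.mem_span_singleton_self x)
    rwa [padd_left hQ, pol_zero_of_singular hQ P.singX ha hx, zero_add, pcomm] at h1

variable {M : Subgroup (GL ι F)} (hM : M ≤ Cfsg.isometryGroup F Q)
variable (hXY : ∀ a ∈ X, ∀ b ∈ Y, pol Q a b = 0 → EIn Q M a b)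
include P hM hXY

/-- a mixed transformation gives a centre -/
theorem pair_mixed {x c₁ c₂ : ι → F} (hx : x ∈ X) (hc₁ : c₁ ∈ X) (hc₂ : c₂ ∈ Y) (hxc : pol Q x (c₁ + c₂) = 0)
    (hc : c₁ ∉ Submodule.span F {x}) (hE : EIn Q M x (c₁ + c₂)) : x ∈ eCentres Q M := by
  have hQx := P.singX x hx
  have hxX : ∀ z ∈ X, pol Q x z = 0 := fun z hz => pol_zero_of_singular hQ P.singX hx hz
  have hxc₂ : pol Q x c₂ = 0 := by rwa [padd_right hQ, hxX c₁ hc₁, zero_add] at hxc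
  have hE1 : EIn Q M x c₁ := by
    have h := EIn.add hQ hQx hxc (by rw [pneg_right hQ, hxc₂, neg_zero]) hE
      (hXY x hx (-c₂) (Y.neg_mem hc₂) (by rw [pneg_right hQ, hxc₂, neg_zero]))
    rwa [add_neg_cancel_right] at h
  have hneg : ∀ z ∈ X, EIn Q M x z → EIn Q M x (-z) := by
    intro z hz hEz
    obtain ⟨g, hg, hgE⟩ := hEz
    obtain ⟨k, -, hkE⟩ := exists_E hQ hQx (a := -z) (by rw [pneg_right hQ, hxX z hz, neg_zero])
    refine ⟨g⁻¹, inv_mem hg, ?_⟩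
    have h1 : g * k = 1 := gl_ext_vec fun w => by
      have h := hgE.mul hQ hQx (hxX z hz) (by rw [pneg_right hQ, hxX z hz, neg_zero]) hkE w
      rw [add_neg_cancel] at h
      rw [h, Units.val_one, one_mulVec, pzero_right hQ, qzero hQ]
      simp
    rwa [mul_eq_one_iff_inv_eq.1 h1]
  have key : ∀ c ∈ X, EIn Q M x c → ∀ y ∈ Y, pol Q c y = 1 → pol Q x y = 0 →
      ∀ z ∈ X, pol Q z y = 0 → EIn Q M x z := by
    intro c hc hEc y hy hcy hxy z hz hzy
    obtain ⟨g, hg, hgE⟩ := hXY (-z) (X.neg_mem hz) y hy (by rw [pneg_left hQ, hzy, neg_zero])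
    have h1 := EIn.conj (k := g) hEc (hM hg) hg
    have hgx : (g : Matrix ι ι F) *ᵥ x = x := by
      rw [hgE, pneg_right hQ, hxX z hz, hxy, P.singY y hy]
      simp
    have hgc : (g : Matrix ι ι F) *ᵥ c = c + z := by
      rw [hgE, pneg_right hQ, pol_zero_of_singular hQ P.singX hc hz, hcy, P.singY y hy]
      simp
    rw [hgx, hgc] at h1
    have h2 := EIn.add hQ hQx (by rw [padd_right hQ, hxX c hc, hxX z hz, add_zero])
      (by rw [pneg_right hQ, hxX c hc, neg_zero]) h1 (hneg c hc hEc)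
    rwa [add_comm c z, add_neg_cancel_right] at h2
  obtain ⟨y, hy, hc₁y, hxy⟩ := pair_sep hQ P hx hc₁ hc
  obtain ⟨z₀, hz₀, hz₀x⟩ : ∃ z₀ ∈ X ⊓ LinearMap.ker (pfl hQ y), z₀ ∉ Submodule.span F {x} := by
    by_contra hcon
    push Not at hcon
    have h1 := finrank_inf_pfl hQ X y
    have h2 := Submodule.finrank_mono (show X ⊓ LinearMap.ker (pfl hQ y) ≤ Submodule.span F {x} from hcon)
    have h3 := P.dimX
    by_cases hx0 : x = 0
    · subst hx0
      rw [Submodule.span_singleton_eq_bot.2 rfl, finrank_bot] at h2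
      omega
    rw [finrank_span_singleton hx0] at h2
    omega
  have hz₀y : pol Q z₀ y = 0 := hz₀.2
  have hEz₀ : EIn Q M x z₀ := key c₁ hc₁ hE1 y hy hc₁y hxy z₀ hz₀.1 hz₀y
  obtain ⟨y', hy', hz₀y', hxy'⟩ := pair_sep hQ P hx hz₀.1 hz₀x
  have hallX : ∀ z ∈ X, EIn Q M x z := by
    intro z hz
    have h1 := key c₁ hc₁ hE1 y hy hc₁y hxy (pol Q z y' • z₀) (X.smul_mem _ hz₀.1)
      (by rw [psmul_left hQ, hz₀y, mul_zero])
    have h2 := key z₀ hz₀.1 hEz₀ y' hy' hz₀y' hxy' (z - pol Q z y' • z₀) (X.sub_mem hz (X.smul_mem _ hz₀.1))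
      (by rw [psub_left hQ, psmul_left hQ, hz₀y', mul_one, sub_self])
    have h3 := EIn.add hQ hQx (by rw [psub_right hQ, psmul_right hQ, hxX z hz, hxX z₀ hz₀.1]; ring)
      (by rw [psmul_right hQ, hxX z₀ hz₀.1, mul_zero]) h2 h1
    rwa [sub_add_cancel] at h3
  refine ⟨hQx, fun b hxb => ?_⟩
  obtain ⟨b₁, hb₁, b₂, hb₂, rfl⟩ := P.split b
  have hxb₂ : pol Q x b₂ = 0 := by rwa [padd_right hQ, hxX b₁ hb₁, zero_add] at hxb
  exact EIn.add hQ hQx (hxX b₁ hb₁) hxb₂ (hallX b₁ hb₁) (hXY x hx b₂ hb₂ hxb₂)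

/-- an element fixing a large part of `X` gives a centre or stabilises `Y` -/
theorem pair_side {k : GL ι F} (hk : k ∈ M) {A : Submodule F (ι → F)} (hAX : A ≤ X)
    (hA : 3 ≤ Module.finrank F A) (hfix : ∀ x ∈ A, (k : Matrix ι ι F) *ᵥ x = x)
    (hno : ∀ a ∈ X, a ≠ 0 → a ∉ eCentres Q M) : ∀ y ∈ Y, (k : Matrix ι ι F) *ᵥ y ∈ Y := by
  intro y hy
  obtain ⟨c₁, hc₁, c₂, hc₂, hc⟩ := P.split ((k : Matrix ι ι F) *ᵥ y)
  obtain ⟨A', hA'⟩ : ∃ A', A' = A ⊓ LinearMap.ker (pfl hQ y) := ⟨_, rfl⟩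
  have hcase : ∀ x ∈ A', x ≠ 0 → c₁ ∈ Submodule.span F {x} := by
    intro x hx hx0
    rw [hA'] at hx
    have hxy : pol Q x y = 0 := hx.2
    by_contra hdep
    have h1 := EIn.conj (k := k) (hXY x (hAX hx.1) y hy hxy) (hM hk) hk
    rw [hfix x hx.1, hc] at h1
    refine hno x (hAX hx.1) hx0 (pair_mixed hQ P hM hXY (hAX hx.1) hc₁ hc₂ ?_ hdep h1)
    rw [← hc]
    conv_lhs => rw [← hfix x hx.1]
    rw [iso_pol (hM hk), hxy]
  have hd := finrank_inf_pfl hQ A y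
  rw [← hA'] at hd
  obtain ⟨x₁, hx₁, hx₁0⟩ := Submodule.exists_mem_ne_zero_of_ne_bot (p := A')
    (fun h => by rw [h, finrank_bot] at hd; omega)
  obtain ⟨x₂, hx₂, hind⟩ : ∃ x₂ ∈ A', x₂ ∉ Submodule.span F {x₁} := by
    by_contra hcon
    push Not at hcon
    have h4 := Submodule.finrank_mono (show A' ≤ Submodule.span F {x₁} from hcon)
    rw [finrank_span_singleton hx₁0] at h4
    omega
  obtain ⟨s₁, hs₁⟩ := Submodule.mem_span_singleton.1 (hcase x₁ hx₁ hx₁0)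
  obtain ⟨s₂, hs₂⟩ := Submodule.mem_span_singleton.1 (hcase x₂ hx₂ fun h => hind (h ▸ zero_mem _))
  have hc0 : c₁ = 0 := by
    rcases eq_or_ne s₂ 0 with h | h
    · rw [← hs₂, h, zero_smul]
    · refine absurd ((Submodule.smul_mem_iff _ h).1 ?_) hind
      rw [hs₂, ← hs₁]
      exact Submodule.smul_mem _ _ (Submodule.mem_span_singleton_self x₁)
  rw [hc, hc0, zero_add]
  exact hc₂

/-- the transformations move the vectors of `X` -/
theorem pair_transitive {x x' : ι → F} (hx : x ∈ X) (hx' : x' ∈ X) (hx0 : x ≠ 0)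
    (hxc : x ∈ eCentres Q M) : x' ∈ eCentres Q M := by
  by_cases hdep : x' ∈ Submodule.span F ({x} : Set (ι → F))
  · obtain ⟨s, rfl⟩ := Submodule.mem_span_singleton.1 hdep
    exact eCentres_smul hQ hxc s
  have hind : x ∉ Submodule.span F ({x - x'} : Set (ι → F)) := fun hm => by
    obtain ⟨s, hs⟩ := Submodule.mem_span_singleton.1 hm
    rcases eq_or_ne s 0 with rfl | hs0
    · exact hx0 (by rw [← hs, zero_smul])
    · refine hdep (Submodule.mem_span_singleton.2 ⟨1 - s⁻¹, ?_⟩)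
      rw [sub_smul, one_smul]
      nth_rewrite 2 [← hs]
      rw [smul_smul, inv_mul_cancel₀ hs0, one_smul, sub_sub_cancel]
  obtain ⟨b, hb, hxb, hab⟩ := pair_sep hQ P (X.sub_mem hx hx') hx hind
  obtain ⟨g, hg, hgE⟩ := hXY _ (X.sub_mem hx hx') b hb hab
  have h1 := eCentres_conj hM hg hxc
  have hgx : (g : Matrix ι ι F) *ᵥ x = x' := by
    rw [hgE, pol_zero_of_singular hQ P.singX hx (X.sub_mem hx hx'), hxb]
    simp
  rwa [hgx] at h1

omit hM hXY P in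
/-- an isometry exchanging two paired subspaces of even dimension, inside `Ω` -/
theorem exists_pair_swap (hn : 5 ≤ Fintype.card ι) (hX : IsTotallySingularQuad Q X) (hY : IsTotallySingularQuad Q Y) :
    ∀ (m : ℕ) (X' Y' : Submodule F (ι → F)), X' ≤ X → Y' ≤ Y →
      (∀ x ∈ X', x ≠ 0 → ∃ y ∈ Y', pol Q x y ≠ 0) → Module.finrank F X' = 2 * m → Module.finrank F Y' = 2 * m →
      ∃ w ∈ omegaGL Q, (∀ z, (∀ x ∈ X', pol Q z x = 0) → (∀ y ∈ Y', pol Q z y = 0) → (w : Matrix ι ι F) *ᵥ z = z) ∧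
        (∀ x ∈ X', (w : Matrix ι ι F) *ᵥ x ∈ Y') ∧ ∀ y ∈ Y', (w : Matrix ι ι F) *ᵥ y ∈ X' := by
  intro m
  induction m with
  | zero =>
    intro X' Y' _ _ _ hdx hdy
    rw [Submodule.finrank_eq_zero.1 hdx, Submodule.finrank_eq_zero.1 hdy]
    exact ⟨1, one_mem _, fun z _ _ => by simp, fun x hx => by simpa using hx, fun x hx => by simpa using hx⟩
  | succ m ih =>
    intro X' Y' hX' hY' hpair hdx hdy
    have hdown : ∀ (X' Y' : Submodule F (ι → F)), X' ≤ X → Y' ≤ Y → (∀ x ∈ X', x ≠ 0 → ∃ y ∈ Y', pol Q x y ≠ 0) →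
        0 < Module.finrank F X' → ∃ e ∈ X', ∃ f ∈ Y', pol Q e f = 1 ∧
          (∀ x ∈ X' ⊓ LinearMap.ker (pfl hQ f), x ≠ 0 → ∃ y ∈ Y' ⊓ LinearMap.ker (pfl hQ e), pol Q x y ≠ 0) ∧
            Module.finrank F ↥(X' ⊓ LinearMap.ker (pfl hQ f)) + 1 = Module.finrank F X' ∧
              Module.finrank F ↥(Y' ⊓ LinearMap.ker (pfl hQ e)) + 1 = Module.finrank F Y' := by
      intro X' Y' hX' hY' hpair hpos
      obtain ⟨e, he, he0⟩ := Submodule.exists_mem_ne_zero_of_ne_bot (p := X')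
        (fun h => by rw [h, finrank_bot] at hpos; omega)
      obtain ⟨f₀, hf₀, hef₀⟩ := hpair e he he0
      obtain ⟨f, hfdef⟩ : ∃ f, f = (pol Q e f₀)⁻¹ • f₀ := ⟨_, rfl⟩
      have hf : f ∈ Y' := hfdef ▸ Y'.smul_mem _ hf₀
      have hef : pol Q e f = 1 := by rw [hfdef, psmul_right hQ, inv_mul_cancel₀ hef₀]
      refine ⟨e, he, f, hf, hef, ?_, ?_, ?_⟩
      · rintro x ⟨hxX, hxf⟩ hx0
        obtain ⟨y, hy, hxy⟩ := hpair x hxX hx0
        have hxf' : pol Q x f = 0 := hxf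
        refine ⟨y - pol Q e y • f, ⟨Y'.sub_mem hy (Y'.smul_mem _ hf), ?_⟩, ?_⟩
        · show pol Q (y - pol Q e y • f) e = 0
          rw [psub_left hQ, psmul_left hQ, pcomm f e, hef, pcomm y e, mul_one, sub_self]
        · rw [psub_right hQ, psmul_right hQ, hxf', mul_zero, sub_zero]
          exact hxy
      · have h1 := finrank_inf_pfl hQ X' f
        have h2 := Submodule.finrank_lt_finrank_of_lt (lt_of_le_of_ne
          (inf_le_left : X' ⊓ LinearMap.ker (pfl hQ f) ≤ X') fun h => by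
            have h3 : pol Q e f = 0 := (h.symm ▸ he : e ∈ X' ⊓ LinearMap.ker (pfl hQ f)).2
            exact one_ne_zero (hef.symm.trans h3))
        omega
      · have h1 := finrank_inf_pfl hQ Y' e
        have h2 := Submodule.finrank_lt_finrank_of_lt (lt_of_le_of_ne
          (inf_le_left : Y' ⊓ LinearMap.ker (pfl hQ e) ≤ Y') fun h => by
            have h3 : pol Q f e = 0 := (h.symm ▸ hf : f ∈ Y' ⊓ LinearMap.ker (pfl hQ e)).2
            exact one_ne_zero (hef.symm.trans ((pcomm e f).trans h3)))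
        omega
    obtain ⟨e₁, he₁, f₁, hf₁, h₁, hp₁, hdx₁, hdy₁⟩ := hdown X' Y' hX' hY' hpair (by omega)
    obtain ⟨e₂, he₂, f₂, hf₂, h₂, hp₂, hdx₂, hdy₂⟩ := hdown _ _ (inf_le_left.trans hX') (inf_le_left.trans hY') hp₁
      (by omega)
    obtain ⟨w', hw', hwfix, hwX, hwY⟩ := ih _ _ (inf_le_left.trans (inf_le_left.trans hX'))
      (inf_le_left.trans (inf_le_left.trans hY')) hp₂ (by omega) (by omega)
    have hXX : ∀ a ∈ X', ∀ b ∈ X', pol Q a b = 0 := fun a ha b hb => pol_zero_of_singular hQ hX (hX' ha) (hX' hb)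
    have hYY : ∀ a ∈ Y', ∀ b ∈ Y', pol Q a b = 0 := fun a ha b hb => pol_zero_of_singular hQ hY (hY' ha) (hY' hb)
    have a1 : pol Q e₂ f₁ = 0 := he₂.2
    have a2 : pol Q f₂ e₁ = 0 := hf₂.2
    have hv : ∀ {e f : ι → F}, e ∈ X' → f ∈ Y' → pol Q e f = 1 → Q (e - f) = -1 := fun {e f} he hf h => by
      rw [qsub hQ, hX e (hX' he), hY f (hY' hf), h]; ring
    have v1 := hv he₁ hf₁ h₁
    have v2 := hv he₂.1 hf₂.1 h₂
    obtain ⟨r₁, hr₁, hr₁E⟩ := exists_refl hQ (v := e₁ - f₁) (by rw [v1]; simp)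
    obtain ⟨r₂, hr₂, hr₂E⟩ := exists_refl hQ (v := e₂ - f₂) (by rw [v2]; simp)
    obtain ⟨r, hr⟩ : ∃ r, r = r₁ * r₂ := ⟨_, rfl⟩
    have hrΩ : r ∈ omegaGL Q :=
      hr ▸ refl_pair_omega hQ hn (by rw [v1]; simp) (v1.trans v2.symm) hr₁ hr₂ hr₁E hr₂E
    have happ : ∀ z, (r : Matrix ι ι F) *ᵥ z =
        z + (pol Q z e₁ - pol Q z f₁) • (e₁ - f₁) + (pol Q z e₂ - pol Q z f₂) • (e₂ - f₂) := fun z => by
      rw [hr, gl_mul_mulVec, hr₁E, hr₂E, v1, v2]
      simp only [psub_left hQ, psub_right hQ, psmul_left hQ, hXX e₂ he₂.1 e₁ he₁, hYY f₂ hf₂.1 f₁ hf₁, a1, a2,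
        inv_neg, inv_one]
      module
    have hre₁ : (r : Matrix ι ι F) *ᵥ e₁ = f₁ := by
      rw [happ, hXX e₁ he₁ e₁ he₁, h₁, hXX e₁ he₁ e₂ he₂.1, pcomm e₁ f₂, a2]
      module
    have hre₂ : (r : Matrix ι ι F) *ᵥ e₂ = f₂ := by
      rw [happ, hXX e₂ he₂.1 e₁ he₁, a1, hXX e₂ he₂.1 e₂ he₂.1, h₂]
      module
    have hrf₁ : (r : Matrix ι ι F) *ᵥ f₁ = e₁ := by
      rw [happ, pcomm f₁ e₁, h₁, hYY f₁ hf₁ f₁ hf₁, pcomm f₁ e₂, a1, hYY f₁ hf₁ f₂ hf₂.1]
      module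
    have hrf₂ : (r : Matrix ι ι F) *ᵥ f₂ = e₂ := by
      rw [happ, a2, hYY f₂ hf₂.1 f₁ hf₁, pcomm f₂ e₂, h₂, hYY f₂ hf₂.1 f₂ hf₂.1]
      module
    have hrX : ∀ x ∈ (X' ⊓ LinearMap.ker (pfl hQ f₁)) ⊓ LinearMap.ker (pfl hQ f₂),
        (r : Matrix ι ι F) *ᵥ x = x := fun x hx => by
      rw [happ, hXX x hx.1.1 e₁ he₁, show pol Q x f₁ = 0 from hx.1.2, hXX x hx.1.1 e₂ he₂.1,
        show pol Q x f₂ = 0 from hx.2]
      module
    have hrY : ∀ y ∈ (Y' ⊓ LinearMap.ker (pfl hQ e₁)) ⊓ LinearMap.ker (pfl hQ e₂),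
        (r : Matrix ι ι F) *ᵥ y = y := fun y hy => by
      rw [happ, show pol Q y e₁ = 0 from hy.1.2, hYY y hy.1.1 f₁ hf₁, show pol Q y e₂ = 0 from hy.2,
        hYY y hy.1.1 f₂ hf₂.1]
      module
    refine ⟨r * w', mul_mem hrΩ hw', fun z hzX hzY => ?_, fun x hx => ?_, fun y hy => ?_⟩
    · rw [gl_mul_mulVec, hwfix z (fun x hx => hzX x hx.1.1) (fun y hy => hzY y hy.1.1), happ, hzX e₁ he₁,
        hzY f₁ hf₁, hzX e₂ he₂.1, hzY f₂ hf₂.1]
      module
    · obtain ⟨x', hx'⟩ : ∃ x', x' = x - pol Q x f₁ • e₁ - pol Q x f₂ • e₂ := ⟨_, rfl⟩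
      have hm : x' ∈ (X' ⊓ LinearMap.ker (pfl hQ f₁)) ⊓ LinearMap.ker (pfl hQ f₂) := by
        refine ⟨⟨hx' ▸ X'.sub_mem (X'.sub_mem hx (X'.smul_mem _ he₁)) (X'.smul_mem _ he₂.1), ?_⟩, ?_⟩
        · show pol Q x' f₁ = 0
          rw [hx', psub_left hQ, psub_left hQ, psmul_left hQ, psmul_left hQ, h₁, a1]; ring
        · show pol Q x' f₂ = 0
          rw [hx', psub_left hQ, psub_left hQ, psmul_left hQ, psmul_left hQ, h₂, pcomm e₁ f₂, a2]; ring
      have hwe₁ := hwfix e₁ (fun a ha => hXX e₁ he₁ a ha.1.1) (fun b hb => by rw [pcomm]; exact hb.1.2)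
      have hwe₂ := hwfix e₂ (fun a ha => hXX e₂ he₂.1 a ha.1.1) (fun b hb => by rw [pcomm]; exact hb.2)
      have hwx := hwX x' hm
      rw [show x = x' + pol Q x f₁ • e₁ + pol Q x f₂ • e₂ by rw [hx']; module, gl_mul_mulVec]
      simp only [mulVec_add, mulVec_smul, hwe₁, hwe₂, hre₁, hre₂, hrY _ hwx]
      exact Y'.add_mem (Y'.add_mem hwx.1.1 (Y'.smul_mem _ hf₁)) (Y'.smul_mem _ hf₂.1)
    · obtain ⟨y', hy'⟩ : ∃ y', y' = y - pol Q y e₁ • f₁ - pol Q y e₂ • f₂ := ⟨_, rfl⟩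
      have hm : y' ∈ (Y' ⊓ LinearMap.ker (pfl hQ e₁)) ⊓ LinearMap.ker (pfl hQ e₂) := by
        refine ⟨⟨hy' ▸ Y'.sub_mem (Y'.sub_mem hy (Y'.smul_mem _ hf₁)) (Y'.smul_mem _ hf₂.1), ?_⟩, ?_⟩
        · show pol Q y' e₁ = 0
          rw [hy', psub_left hQ, psub_left hQ, psmul_left hQ, psmul_left hQ, pcomm f₁ e₁, h₁, a2]; ring
        · show pol Q y' e₂ = 0
          rw [hy', psub_left hQ, psub_left hQ, psmul_left hQ, psmul_left hQ, pcomm f₂ e₂, h₂, pcomm f₁ e₂, a1]; ring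
      have hwf₁ := hwfix f₁ (fun a ha => by rw [pcomm]; exact ha.1.2) (fun b hb => hYY f₁ hf₁ b hb.1.1)
      have hwf₂ := hwfix f₂ (fun a ha => by rw [pcomm]; exact ha.2) (fun b hb => hYY f₂ hf₂.1 b hb.1.1)
      have hwy := hwY y' hm
      rw [show y = y' + pol Q y e₁ • f₁ + pol Q y e₂ • f₂ by rw [hy']; module, gl_mul_mulVec]
      simp only [mulVec_add, mulVec_smul, hwf₁, hwf₂, hrf₁, hrf₂, hrX _ hwy]
      exact X'.add_mem (X'.add_mem hwy.1.1 (X'.smul_mem _ he₁)) (X'.smul_mem _ he₂.1)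

omit hM hXY in
/-- stabilisers of pairs of complementary totally singular subspaces are maximal -/
theorem qpair_maximal (hn : 5 ≤ Fintype.card ι) (hev : Even (Module.finrank F X))
    (hsame : Module.finrank F X = Module.finrank F Y) {H : Subgroup (GL ι F)}
    (hH : ∀ g, g ∈ H ↔ ((∀ x ∈ X, (g : Matrix ι ι F) *ᵥ x ∈ X) ∧ ∀ y ∈ Y, (g : Matrix ι ι F) *ᵥ y ∈ Y) ∨
      ((∀ x ∈ X, (g : Matrix ι ι F) *ᵥ x ∈ Y) ∧ ∀ y ∈ Y, (g : Matrix ι ι F) *ᵥ y ∈ X)) :
    IsMaximalIn (omegaGL Q) (H ⊓ omegaGL Q) := by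
  have hdX := P.dimX
  have hdY := P.dimY
  refine isMaximalIn_of_pair hQ hn (fun hle => ?_) fun M hHM hM hMH => ?_
  · obtain ⟨x, hx, hx0⟩ := Submodule.exists_mem_ne_zero_of_ne_bot (p := X) (fun h => by
      rw [h, finrank_bot] at hdX; omega)
    obtain ⟨z, hz, hzx⟩ : ∃ z ∈ X, z ∉ Submodule.span F {x} := by
      by_contra hcon
      push Not at hcon
      have := Submodule.finrank_mono (show X ≤ Submodule.span F {x} from hcon)
      rw [finrank_span_singleton hx0] at this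
      omega
    obtain ⟨y, hy, hzy, hxy⟩ := pair_sep hQ P hx hz hzx
    obtain ⟨g, hg, hgE⟩ := ein_omega hQ hn (P.singX x hx) (pol_zero_of_singular hQ P.singX hx hz)
    have hgy : (g : Matrix ι ι F) *ᵥ y = y - x := by
      rw [hgE, pcomm y x, hxy, pcomm y z, hzy]
      simp
    have hgx : (g : Matrix ι ι F) *ᵥ x = x := by
      rw [hgE, pol_zero_of_singular hQ P.singX hx hx, pol_zero_of_singular hQ P.singX hx hz]
      simp
    rcases (hH g).1 (hle hg) with ⟨-, h⟩ | ⟨h, -⟩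
    · have h1 := h y hy
      rw [hgy, Y.sub_mem_iff_right hy] at h1
      exact hx0 (P.eq_zero hx h1)
    · have h1 := h x hx
      rw [hgx] at h1
      exact hx0 (P.eq_zero hx h1)
  have hMi : M ≤ Cfsg.isometryGroup F Q := hM.trans omegaGL_le_iso
  have hgen : ∀ (A B : Submodule F (ι → F)), QPair Q A B →
      (∀ g : GL ι F, (∀ x ∈ A, (g : Matrix ι ι F) *ᵥ x ∈ A) → (∀ y ∈ B, (g : Matrix ι ι F) *ᵥ y ∈ B) → g ∈ H) →
      ∀ a ∈ A, ∀ b ∈ B, pol Q a b = 0 → EIn Q M a b := by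
    intro A B PAB hmem a ha b hb hab
    obtain ⟨g, hg, hgE⟩ := ein_omega hQ hn (PAB.singX a ha) hab
    refine ⟨g, hHM ⟨hmem g (fun x hx => ?_) (fun y hy => ?_), hg⟩, hgE⟩
    · rw [hgE, pol_zero_of_singular hQ PAB.singX hx ha, zero_smul, add_zero, mul_zero, zero_smul, sub_zero]
      exact A.sub_mem hx (A.smul_mem _ ha)
    · rw [hgE, pol_zero_of_singular hQ PAB.singY hy hb, PAB.singY b hb, zero_mul, zero_smul, sub_zero, sub_zero]
      exact B.add_mem hy (B.smul_mem _ hb)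
  have hXY := hgen X Y P fun g h1 h2 => (hH g).2 (Or.inl ⟨h1, h2⟩)
  have hYX := hgen Y X P.symm fun g h1 h2 => (hH g).2 (Or.inl ⟨h2, h1⟩)
  obtain ⟨j, hj⟩ := hev
  obtain ⟨w, hw, -, hwX, hwY⟩ := exists_pair_swap hQ hn P.singX P.singY j X Y le_rfl le_rfl
    (fun x hx hx0 => pair_nonorth hQ P hx hx0) (by omega) (by omega)
  have hwM : w ∈ M := hHM ⟨(hH w).2 (Or.inr ⟨hwX, hwY⟩), hw⟩
  -- one centre in either subspace
  obtain ⟨a, ha, ha0, hac⟩ : ∃ a ∈ X, a ≠ 0 ∧ a ∈ eCentres Q M := by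
    by_contra hcon
    push Not at hcon
    have hconY : ∀ a ∈ Y, a ≠ 0 → a ∉ eCentres Q M := fun a ha ha0 hc =>
      hcon _ (hwY a ha) (fun h => ha0 (gl_mulVec_eq_zero.1 h)) (eCentres_conj hMi hwM hc)
    obtain ⟨g, hg, hgH⟩ := SetLike.not_le_iff_exists.1 hMH
    -- conjugate transformations split
    have hsplit : ∀ x ∈ X, ∀ y ∈ Y, pol Q x y = 0 → ∀ A B : Submodule F (ι → F), QPair Q A B →
        (∀ a ∈ B, ∀ b ∈ A, pol Q a b = 0 → EIn Q M a b) → (∀ a ∈ B, a ≠ 0 → a ∉ eCentres Q M) →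
        ∃ s t : F, (s ≠ 0 ∨ t ≠ 0) ∧ s • (g : Matrix ι ι F) *ᵥ x + t • (g : Matrix ι ι F) *ᵥ y ∈ A := by
      intro x hx y hy hxy A B PAB hBA hnoB
      obtain ⟨k, hk, hkE⟩ := EIn.conj (k := g) (hXY x hx y hy hxy) (hMi hg) hg
      obtain ⟨a, hadef⟩ : ∃ a, a = (g : Matrix ι ι F) *ᵥ x := ⟨_, rfl⟩
      obtain ⟨b, hbdef⟩ : ∃ b, b = (g : Matrix ι ι F) *ᵥ y := ⟨_, rfl⟩
      rw [← hadef, ← hbdef] at hkE ⊢
      have hQb : Q b = 0 := by rw [hbdef, mem_iso.1 (hMi hg), P.singY y hy]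
      have happ : ∀ z, (k : Matrix ι ι F) *ᵥ z = z + pol Q z a • b - pol Q z b • a := fun z => by
        rw [hkE, hQb, zero_mul, zero_smul, sub_zero]
      obtain ⟨C, hC⟩ : ∃ C, C = B ⊓ LinearMap.ker (pfl hQ a) ⊓ LinearMap.ker (pfl hQ b) := ⟨_, rfl⟩
      have hC3 : 3 ≤ Module.finrank F C := by
        have h1 := finrank_inf_pfl hQ B a
        have h2 := finrank_inf_pfl hQ (B ⊓ LinearMap.ker (pfl hQ a)) b
        have h3 := PAB.dimY
        rw [hC]
        omega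
      have hside := pair_side hQ PAB.symm hMi hBA hk (A := C) (hC ▸ inf_le_left.trans inf_le_left) hC3
        (fun z hz => by
          rw [hC] at hz
          rw [happ, show pol Q z a = 0 from hz.1.2, show pol Q z b = 0 from hz.2]
          simp) hnoB
      obtain ⟨a₁, ha₁, a₂, ha₂, hsa⟩ := PAB.split a
      obtain ⟨b₁, hb₁, b₂, hb₂, hsb⟩ := PAB.split b
      by_cases ha0 : a₂ = 0
      · exact ⟨1, 0, Or.inl one_ne_zero, by rw [one_smul, zero_smul, add_zero, hsa, ha0, add_zero]; exact ha₁⟩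
      obtain ⟨z, hz, hza⟩ := pair_nonorth hQ PAB.symm ha₂ ha0
      refine ⟨-pol Q z b, pol Q z a, Or.inr ?_, ?_⟩
      · rw [hsa, padd_right hQ, pol_zero_of_singular hQ PAB.singX hz ha₁, zero_add, pcomm]
        exact hza
      · have h1 := A.sub_mem (hside z hz) hz
        rw [happ, show z + pol Q z a • b - pol Q z b • a - z = -pol Q z b • a + pol Q z a • b by module] at h1
        exact h1
    have hin : ∀ x ∈ X, (g : Matrix ι ι F) *ᵥ x ∈ X ∨ (g : Matrix ι ι F) *ᵥ x ∈ Y := by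
      intro x hx
      by_contra hn'
      push Not at hn'
      obtain ⟨p, hp, q, hq, hpq⟩ := P.split ((g : Matrix ι ι F) *ᵥ x)
      have hY' : ∀ y ∈ Y ⊓ LinearMap.ker (pfl hQ x),
          (g : Matrix ι ι F) *ᵥ y ∈ Submodule.span F ({p, q} : Set (ι → F)) := by
        intro y hy
        have hxy : pol Q x y = 0 := by rw [pcomm]; exact hy.2
        obtain ⟨s, t, hst, hA⟩ := hsplit x hx y hy.1 hxy X Y P hYX hconY
        obtain ⟨s', t', hst', hB⟩ := hsplit x hx y hy.1 hxy Y X P.symm hXY hcon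
        have ht : t ≠ 0 := fun ht => by
          rw [ht, zero_smul, add_zero] at hA
          exact hn'.1 ((X.smul_mem_iff (hst.resolve_right fun h => h ht)).1 hA)
        have ht' : t' ≠ 0 := fun ht' => by
          rw [ht', zero_smul, add_zero] at hB
          exact hn'.2 ((Y.smul_mem_iff (hst'.resolve_right fun h => h ht')).1 hB)
        obtain ⟨c, hc⟩ : ∃ c, c = (g : Matrix ι ι F) *ᵥ y + (s / t) • (g : Matrix ι ι F) *ᵥ x := ⟨_, rfl⟩
        have hcX : c ∈ X := by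
          have := X.smul_mem t⁻¹ hA
          rwa [smul_add, smul_smul, smul_smul, inv_mul_cancel₀ ht, one_smul, ← div_eq_inv_mul, add_comm, ← hc] at this
        obtain ⟨c', hc'⟩ : ∃ c', c' = (g : Matrix ι ι F) *ᵥ y + (s' / t') • (g : Matrix ι ι F) *ᵥ x := ⟨_, rfl⟩
        have hcY : c' ∈ Y := by
          have := Y.smul_mem t'⁻¹ hB
          rwa [smul_add, smul_smul, smul_smul, inv_mul_cancel₀ ht', one_smul, ← div_eq_inv_mul, add_comm, ← hc'] at this
        -- `c - c'` is a multiple of `p + q`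
        have h1 : c - (s / t - s' / t') • p = 0 := P.eq_zero (X.sub_mem hcX (X.smul_mem _ hp)) (by
          have h2 : c - (s / t - s' / t') • p = c' + (s / t - s' / t') • q := by
            rw [hc, hc', hpq]; module
          rw [h2]
          exact Y.add_mem hcY (Y.smul_mem _ hq))
        rw [sub_eq_zero] at h1
        refine Submodule.mem_span_pair.2 ⟨-s' / t', -s / t, ?_⟩
        have h4 : (g : Matrix ι ι F) *ᵥ y = c - (s / t) • (p + q) := by rw [hc, hpq]; module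
        rw [h4, h1]
        match_scalars <;> ring
      have h1 := finrank_inf_pfl hQ Y x
      have hinj : Function.Injective (Matrix.mulVecLin (g : Matrix ι ι F)) := fun u v huv => by
        have := congrArg (fun x => ((g⁻¹ : GL ι F) : Matrix ι ι F) *ᵥ x) huv
        simpa [gl_inv_mulVec] using this
      have h2 := Submodule.finrank_mono (show (Y ⊓ LinearMap.ker (pfl hQ x)).map (Matrix.mulVecLin (g : Matrix ι ι F)) ≤
          Submodule.span F ({p, q} : Set (ι → F)) by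
        rintro _ ⟨y, hy, rfl⟩
        exact hY' y hy)
      rw [← (Submodule.equivMapOfInjective _ hinj _).finrank_eq] at h2
      have h3 : Module.finrank F (Submodule.span F ({p, q} : Set (ι → F))) ≤ 2 := by
        classical
        rw [← show (↑({p, q} : Finset (ι → F)) : Set (ι → F)) = {p, q} by simp]
        exact (finrank_span_finset_le_card _).trans Finset.card_le_two
      omega
    have hunion : ∀ (A : Submodule F (ι → F)),
        (∀ s ∈ A, (g : Matrix ι ι F) *ᵥ s ∈ X ∨ (g : Matrix ι ι F) *ᵥ s ∈ Y) →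
        (∀ s ∈ A, (g : Matrix ι ι F) *ᵥ s ∈ X) ∨ ∀ s ∈ A, (g : Matrix ι ι F) *ᵥ s ∈ Y := by
      intro A hA
      by_contra hcon'
      push Not at hcon'
      obtain ⟨⟨s, hs, hsX⟩, t, ht, htY⟩ := hcon'
      rcases hA (s + t) (A.add_mem hs ht) with h | h <;> rw [mulVec_add] at h
      · exact hsX ((X.add_mem_iff_left ((hA t ht).resolve_right htY)).1 h)
      · exact htY ((Y.add_mem_iff_right ((hA s hs).resolve_left hsX)).1 h)
    obtain ⟨g', hg', hg'H, hg'X⟩ : ∃ g' ∈ M, g' ∉ H ∧ ∀ x ∈ X, (g' : Matrix ι ι F) *ᵥ x ∈ X := by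
      rcases hunion X hin with h | h
      · exact ⟨g, hg, hgH, h⟩
      · refine ⟨w * g, mul_mem hwM hg, fun hh => hgH ?_, fun x hx => by rw [gl_mul_mulVec]; exact hwY _ (h x hx)⟩
        have := mul_mem (inv_mem ((hH w).2 (Or.inr ⟨hwX, hwY⟩))) hh
        rwa [inv_mul_cancel_left] at this
    refine hg'H ((hH g').2 (Or.inl ⟨hg'X, fun y hy => ?_⟩))
    obtain ⟨c₁, hc₁, c₂, hc₂, hc⟩ := P.split ((g' : Matrix ι ι F) *ᵥ y)
    by_contra hny
    have hc0 : c₁ ≠ 0 := fun h => hny (by rw [hc, h, zero_add]; exact hc₂)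
    have hinj : Function.Injective (Matrix.mulVecLin (g' : Matrix ι ι F)) := fun u v huv => by
      have := congrArg (fun x => ((g'⁻¹ : GL ι F) : Matrix ι ι F) *ᵥ x) huv
      simpa [gl_inv_mulVec] using this
    obtain ⟨x, hx, hxs⟩ : ∃ x ∈ X ⊓ LinearMap.ker (pfl hQ y),
        (g' : Matrix ι ι F) *ᵥ x ∉ Submodule.span F {c₁} := by
      by_contra hcon'
      push Not at hcon'
      have h1 := finrank_inf_pfl hQ X y
      have h2 := Submodule.finrank_mono (show (X ⊓ LinearMap.ker (pfl hQ y)).map (Matrix.mulVecLin (g' : Matrix ι ι F)) ≤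
          Submodule.span F {c₁} by
        rintro _ ⟨x, hx, rfl⟩
        exact hcon' x hx)
      rw [← (Submodule.equivMapOfInjective _ hinj _).finrank_eq, finrank_span_singleton hc0] at h2
      omega
    have hxy : pol Q x y = 0 := hx.2
    have hgx : (g' : Matrix ι ι F) *ᵥ x ∈ X := hg'X x hx.1
    have h1 := EIn.conj (k := g') (hXY x hx.1 y hy hxy) (hMi hg') hg'
    rw [hc] at h1
    refine hcon _ hgx (fun h => hxs (by rw [h]; exact zero_mem _))
      (pair_mixed hQ P hMi hXY hgx hc₁ hc₂ (by rw [← hc, iso_pol (hMi hg'), hxy]) (fun hmem => ?_) h1)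
    obtain ⟨s, hs⟩ := Submodule.mem_span_singleton.1 hmem
    have hs0 : s ≠ 0 := fun h => hc0 (by rw [← hs, h, zero_smul])
    exact hxs (Submodule.mem_span_singleton.2 ⟨s⁻¹, by rw [← hs, smul_smul, inv_mul_cancel₀ hs0, one_smul]⟩)
  obtain ⟨y, hy, hay⟩ := pair_nonorth hQ P ha ha0
  have hw0 : (w : Matrix ι ι F) *ᵥ a ≠ 0 := fun h => ha0 (gl_mulVec_eq_zero.1 h)
  have hyc : y ∈ eCentres Q M :=
    pair_transitive hQ P.symm hMi hYX (hwX a ha) hy hw0 (eCentres_conj hMi hwM hac)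
  exact ⟨a, hac, y, hyc, hay⟩

end CfsgLib.Perm.Trans.Quad
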