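import Cfsg.Agent.Lib.Perm.Trans.QuadNondegCases
import Cfsg.Agent.Lib.Perm.Trans.QuadPair

/-!
# Vectors of a given value inside a nondegenerate subspace
-/

set_option autoImplicit false
set_option linter.all false

namespace CfsgLib.Perm.Trans.Quad

open scoped Matrix
open Matrix Cfsg.Geo CfsgLib.Perm.Asch CfsgLib.Perm.Trans

variable {ι : Type} [Fintype ι] [DecidableEq ι] {F : Type*} [Field F] [Fintype F]
variable {Q : (ι → F) → F}

local notation "pol" => QuadraticMap.polar

variable (hQ : IsNondegenerateQuadraticForm Q) {P : Submodule F (ι → F)}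
include hQ

theorem nd_two_le (h2 : (2 : F) = 0) (hP : NdOn Q P) (hne : P ≠ ⊥) : 2 ≤ Module.finrank F P := by
  by_contra hcon
  obtain ⟨r, hr, hr0⟩ := Submodule.exists_mem_ne_zero_of_ne_bot hne
  have hle : Submodule.span F {r} ≤ P := (Submodule.span_singleton_le_iff_mem _ _).2 hr
  have heq := Submodule.eq_of_le_of_finrank_le hle (by rw [finrank_span_singleton hr0]; omega)
  obtain ⟨y, hy, hry⟩ := (hP r hr hr0).2
  rw [← heq] at hy
  obtain ⟨c, rfl⟩ := Submodule.mem_span_singleton.1 hy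
  exact hry (by rw [psmul_right hQ, pself hQ, h2, zero_mul, mul_zero])

/-- in characteristic two a vector sits in a nondegenerate plane with a large orthogonal -/
theorem char2_perp (h2 : (2 : F) = 0) (hP : NdOn Q P) (hd : 3 ≤ Module.finrank F P) {x : ι → F} (hx : x ∈ P)
    (hx0 : x ≠ 0) :
    ∃ p ∈ P, pol Q x p = 1 ∧ ∀ a : F, ∃ w ∈ P, Q w = a ∧ pol Q w x = 0 ∧ pol Q w p = 0 := by
  obtain ⟨p₀, hp₀, hxp₀⟩ := (hP x hx hx0).2
  obtain ⟨p, hpdef⟩ : ∃ p, p = (pol Q x p₀)⁻¹ • p₀ := ⟨_, rfl⟩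
  have hp : p ∈ P := hpdef ▸ P.smul_mem _ hp₀
  have hxp : pol Q x p = 1 := by rw [hpdef, psmul_right hQ, inv_mul_cancel₀ hxp₀]
  obtain ⟨R, hR⟩ : ∃ R, R = P ⊓ LinearMap.ker (pfl hQ x) ⊓ LinearMap.ker (pfl hQ p) := ⟨_, rfl⟩
  have hRnd : NdOn Q R := by
    rw [hR]
    rintro v ⟨⟨hvP, hvx⟩, hvp⟩ hv0
    have hvx' : pol Q v x = 0 := hvx
    have hvp' : pol Q v p = 0 := hvp
    obtain ⟨y, hy, hvy⟩ := (hP v hvP hv0).2
    obtain ⟨z, hz⟩ : ∃ z, z = y - pol Q y p • x - pol Q y x • p := ⟨_, rfl⟩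
    have hzm : z ∈ P ⊓ LinearMap.ker (pfl hQ x) ⊓ LinearMap.ker (pfl hQ p) := by
      refine ⟨⟨hz ▸ P.sub_mem (P.sub_mem hy (P.smul_mem _ hx)) (P.smul_mem _ hp), ?_⟩, ?_⟩
      · show pol Q z x = 0
        rw [hz, psub_left hQ, psub_left hQ, psmul_left hQ, psmul_left hQ, pself hQ, h2, pcomm p x, hxp]
        ring
      · show pol Q z p = 0
        rw [hz, psub_left hQ, psub_left hQ, psmul_left hQ, psmul_left hQ, pself hQ, h2, hxp]
        ring
    have hvz : pol Q v z = pol Q v y := by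
      rw [hz, psub_right hQ, psub_right hQ, psmul_right hQ, psmul_right hQ, hvx', hvp']
      ring
    exact ⟨⟨z, hzm, by rw [pcomm, hvz]; exact hvy⟩, z, hzm, by rw [hvz]; exact hvy⟩
  have h1 := finrank_inf_pfl hQ P x
  have h3 := finrank_inf_pfl hQ (P ⊓ LinearMap.ker (pfl hQ x)) p
  rw [← hR] at h3
  have h4 := nd_two_le hQ h2 hRnd (fun h => by rw [h, finrank_bot] at h3; omega)
  refine ⟨p, hp, hxp, fun a => ?_⟩
  obtain ⟨w, hw, hQw⟩ := exists_value_two hQ hRnd h4 a
  rw [hR] at hw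
  exact ⟨w, hw.1.1, hQw, hw.1.2, hw.2⟩

/-- the orthogonal of a nonsingular vector takes every value -/
theorem exists_value_perp (hP : NdOn Q P) (hd : 3 ≤ Module.finrank F P) {x : ι → F} (hx : x ∈ P) (hQx : Q x ≠ 0)
    (a : F) : ∃ w ∈ P, Q w = a ∧ pol Q w x = 0 := by
  have hx0 : x ≠ 0 := fun h => hQx (by rw [h]; exact qzero hQ)
  by_cases h2 : (2 : F) = 0
  · obtain ⟨p, -, -, hw⟩ := char2_perp hQ h2 hP hd hx hx0
    obtain ⟨w, hw1, hw2, hw3, -⟩ := hw a
    exact ⟨w, hw1, hw2, hw3⟩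
  · have h1 := finrank_inf_pfl hQ P x
    obtain ⟨w, hw, hQw⟩ := exists_value_two hQ (nd_inf_perp hQ hP hx h2 hQx) (by omega) a
    exact ⟨w, hw.1, hQw, hw.2⟩

/-- a vector of prescribed value and prescribed product with a given one -/
theorem exists_prescribed (hP : NdOn Q P) (hd : 3 ≤ Module.finrank F P) {x : ι → F} (hx : x ∈ P) (hx0 : x ≠ 0)
    (a b : F) (h : Q x ≠ 0 ∨ b ≠ 0) : ∃ y ∈ P, Q y = a ∧ pol Q x y = b := by
  by_cases hQx : Q x = 0
  · have hb := h.resolve_left (fun h' => h' hQx)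
    obtain ⟨f, hf, hQf, hxf⟩ := exists_qpartner hQ hP hx hx0 hQx
    refine ⟨b • f + (a / b) • x, P.add_mem (P.smul_mem _ hf) (P.smul_mem _ hx), ?_, ?_⟩
    · rw [qadd hQ, qsmul hQ, qsmul hQ, hQf, hQx, psmul_left hQ, psmul_right hQ, pcomm f x, hxf]
      field_simp
      ring
    · rw [padd_right hQ, psmul_right hQ, psmul_right hQ, hxf, pself hQ, hQx]
      ring
  by_cases h2 : (2 : F) = 0
  · obtain ⟨p, hp, hxp, hw⟩ := char2_perp hQ h2 hP hd hx hx0
    obtain ⟨w, hwP, hQw, hwx, hwp⟩ := hw (a - b ^ 2 * Q p)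
    refine ⟨b • p + w, P.add_mem (P.smul_mem _ hp) hwP, ?_, ?_⟩
    · rw [qadd hQ, qsmul hQ, hQw, psmul_left hQ, pcomm p w, hwp]
      ring
    · rw [padd_right hQ, psmul_right hQ, hxp, pcomm x w, hwx]
      ring
  · obtain ⟨t, ht⟩ : ∃ t, t = b / (2 * Q x) := ⟨_, rfl⟩
    obtain ⟨w, hwP, hQw, hwx⟩ := exists_value_perp hQ hP hd hx hQx (a - t ^ 2 * Q x)
    refine ⟨t • x + w, P.add_mem (P.smul_mem _ hx) hwP, ?_, ?_⟩
    · rw [qadd hQ, qsmul hQ, hQw, psmul_left hQ, pcomm x w, hwx]
      ring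
    · rw [padd_right hQ, psmul_right hQ, pself hQ, pcomm x w, hwx, ht]
      field_simp
      ring

/-- vectors of one nonzero value span -/
theorem le_of_value_mem (hP : NdOn Q P) (hd : 3 ≤ Module.finrank F P) {S : Submodule F (ι → F)} (c : F)
    (h : ∀ v ∈ P, Q v = c → v ∈ S) : P ≤ S :=
  le_of_nonsingular_mem hQ hP hd fun x hx hQx => by
    have hx0 : x ≠ 0 := fun h => hQx (by rw [h]; exact qzero hQ)
    obtain ⟨w, hw, hQw, hxw⟩ := exists_prescribed hQ hP hd hx hx0 c (-Q x) (Or.inl hQx)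
    have h1 := S.sub_mem (h (x + w) (P.add_mem hx hw) (by rw [qadd hQ, hQw, hxw]; ring)) (h w hw hQw)
    rwa [add_sub_cancel_right] at h1

/-- orthogonal vectors of one value have a common neighbour of that value -/
theorem exists_connect (hP : NdOn Q P) (hd : 3 ≤ Module.finrank F P)
    (h3 : Fintype.card F = 3 → 4 ≤ Module.finrank F P)
    (h2s : Fintype.card F = 2 → Module.finrank F P = 4 → ¬ IsPlusTypeOn Q P) {c : F} (hc : c ≠ 0) {v w : ι → F}
    (hv : v ∈ P) (hw : w ∈ P) (hQv : Q v = c) (hQw : Q w = c) (hvw : pol Q v w = 0)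
    (hsp : w ∉ Submodule.span F {v}) : ∃ y ∈ P, Q y = c ∧ pol Q y v ≠ 0 ∧ pol Q y w ≠ 0 := by
  classical
  by_cases h2 : (2 : F) = 0
  swap
  · have h2c : 2 * c ≠ 0 := mul_ne_zero h2 hc
    have hR0 := nd_inf_perp hQ hP hv h2 (by rw [hQv]; exact hc)
    have hwR : w ∈ P ⊓ LinearMap.ker (pfl hQ v) := ⟨hw, show pol Q w v = 0 by rw [pcomm]; exact hvw⟩
    obtain ⟨R, hR⟩ : ∃ R, R = P ⊓ LinearMap.ker (pfl hQ v) ⊓ LinearMap.ker (pfl hQ w) := ⟨_, rfl⟩
    have hRnd : NdOn Q R := hR ▸ nd_inf_perp hQ hR0 hwR h2 (by rw [hQw]; exact hc)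
    have hRd1 := finrank_inf_pfl hQ P v
    have hRd2 := finrank_inf_pfl hQ (P ⊓ LinearMap.ker (pfl hQ v)) w
    rw [← hR] at hRd2
    have hRm : ∀ z ∈ R, z ∈ P ∧ pol Q z v = 0 ∧ pol Q z w = 0 := fun z hz => by
      rw [hR] at hz
      exact ⟨hz.1.1, hz.1.2, hz.2⟩
    by_cases h4 : 4 ≤ Module.finrank F P
    · obtain ⟨z, hz, hQz⟩ := exists_value_two hQ hRnd (by omega) (-c)
      obtain ⟨hzP, hzv, hzw⟩ := hRm z hz
      refine ⟨v + w + z, P.add_mem (P.add_mem hv hw) hzP, ?_, ?_, ?_⟩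
      · rw [qadd hQ, qadd hQ, hQv, hQw, hQz, hvw, padd_left hQ, pcomm v z, hzv, pcomm w z, hzw]
        ring
      · rw [padd_left hQ, padd_left hQ, pself hQ, hQv, pcomm w v, hvw, hzv, add_zero, add_zero]
        exact h2c
      · rw [padd_left hQ, padd_left hQ, pself hQ, hQw, hvw, hzw, zero_add, add_zero]
        exact h2c
    obtain ⟨z, hz, hQz⟩ := exists_nonsingular hQ hRnd (fun h => by rw [h, finrank_bot] at hRd2; omega)
    obtain ⟨hzP, hzv, hzw⟩ := hRm z hz
    obtain ⟨d, hd'⟩ : ∃ d, d = Q z := ⟨_, rfl⟩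
    rw [← hd'] at hQz
    obtain ⟨b, hb0, hb1, hb2⟩ : ∃ b : F, b ≠ 0 ∧ c * (b ^ 2 + 1) + d ≠ 0 ∧ c * (b ^ 2 - 1) + d ≠ 0 := by
      by_cases h1 : 2 * c + d = 0
      · have hdc : d = -(2 * c) := by linear_combination h1
        obtain ⟨b, hb0, hb1, hb3⟩ : ∃ b : F, b ≠ 0 ∧ b ^ 2 - 1 ≠ 0 ∧ b ^ 2 - 3 ≠ 0 := by
          by_cases h3' : (3 : F) = 0
          · by_contra hcon
            push Not at hcon
            have hsub : (Finset.univ : Finset F) ⊆ {0, 1, -1} := fun b _ => by
              simp only [Finset.mem_insert, Finset.mem_singleton]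
              by_cases hb : b = 0
              · exact Or.inl hb
              by_cases hb1 : b ^ 2 - 1 = 0
              · exact Or.inr (mul_self_eq_one_iff.1 (by linear_combination hb1))
              have := hcon b hb hb1
              exact absurd (sq_eq_zero_iff.1 (by linear_combination this + h3')) hb
            have h5 := (Finset.card_le_card hsub).trans Finset.card_le_three
            rw [Finset.card_univ] at h5
            have h7 : Fintype.card F ≠ 2 := fun h7 => h2 (by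
              have h8 : ((2 : ℕ) : F) = 0 := by rw [← h7]; exact FiniteField.cast_card_eq_zero F
              simpa using h8)
            have h6 := Fintype.one_lt_card (α := F)
            exact h4 (h3 (by omega))
          · exact ⟨2, h2, fun h => h3' (by linear_combination h), fun h => one_ne_zero (α := F) (by linear_combination h)⟩
        refine ⟨b, hb0, fun h => mul_ne_zero hc hb1 ?_, fun h => mul_ne_zero hc hb3 ?_⟩
        · rw [hdc] at h; linear_combination h
        · rw [hdc] at h; linear_combination h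
      · exact ⟨1, one_ne_zero, fun h => h1 (by linear_combination h), fun h => hQz (by linear_combination h)⟩
    obtain ⟨μ, hμ⟩ : ∃ μ, μ = -(2 * c) / (c * (b ^ 2 + 1) + d) := ⟨_, rfl⟩
    have hμ' : μ * (c * (b ^ 2 + 1) + d) = -(2 * c) := by rw [hμ, div_mul_cancel₀ _ hb1]
    have hμ0 : μ ≠ 0 := hμ ▸ div_ne_zero (neg_ne_zero.2 h2c) hb1
    refine ⟨(1 + μ) • v + (μ * b) • w + μ • z,
      P.add_mem (P.add_mem (P.smul_mem _ hv) (P.smul_mem _ hw)) (P.smul_mem _ hzP), ?_, ?_, ?_⟩
    · rw [qadd hQ, qadd hQ, qsmul hQ, qsmul hQ, qsmul hQ, hQv, hQw, ← hd', padd_left hQ, psmul_left hQ, psmul_left hQ,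
        psmul_left hQ, psmul_right hQ, psmul_right hQ, psmul_right hQ, hvw, pcomm v z, hzv, pcomm w z, hzw]
      linear_combination μ * hμ'
    · simp only [padd_left hQ, psmul_left hQ, pself hQ, hQv, pcomm w v, hvw, hzv, mul_zero, add_zero]
      refine mul_ne_zero (fun h => hb2 ?_) h2c
      linear_combination (c * (b ^ 2 + 1) + d) * h - hμ'
    · simp only [padd_left hQ, psmul_left hQ, pself hQ, hQw, hvw, hzw, mul_zero, add_zero, zero_add]
      exact mul_ne_zero (mul_ne_zero hμ0 hb0) h2c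
  -- characteristic two
  obtain ⟨r, hr⟩ : ∃ r, r = v + w := ⟨_, rfl⟩
  have hrP : r ∈ P := hr ▸ P.add_mem hv hw
  have hr0 : r ≠ 0 := fun h => hsp (Submodule.mem_span_singleton.2 ⟨-1, by
    rw [neg_one_smul]; exact neg_eq_of_add_eq_zero_right (hr.symm.trans h)⟩)
  have hQr : Q r = 0 := by rw [hr, qadd hQ, hQv, hQw, hvw]; linear_combination c * h2
  have hvr : pol Q v r = 0 := by rw [hr, padd_right hQ, pself hQ, hvw, h2]; ring
  have hwr : w = r - v := by rw [hr, add_sub_cancel_left]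
  obtain ⟨f, hf, hQf, hrf⟩ := exists_qpartner hQ hP hrP hr0 hQr
  have hP'nd := pair_nd hQ hrP hf hQr hQf hrf hP
  have hP'd := pair_finrank hQ hrP hf hQr hQf hrf
  obtain ⟨φ, hφ⟩ : ∃ φ, φ = pol Q v f := ⟨_, rfl⟩
  obtain ⟨v', hv'⟩ : ∃ v', v' = v - φ • r := ⟨_, rfl⟩
  have hv'P : v' ∈ pairPerp hQ P r f := by
    have h := pair_proj hQ hrP hf hQr hQf hrf hv
    rwa [← hφ, hvr, zero_smul, sub_zero, ← hv'] at h
  have hQv' : Q v' = c := by rw [hv', qsub hQ, qsmul hQ, hQr, hQv, psmul_right hQ, hvr]; ring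
  have hv'0 : v' ≠ 0 := fun h => hc (by rw [← hQv', h, qzero hQ])
  have hzv : ∀ z ∈ pairPerp hQ P r f, pol Q z v = pol Q z v' := fun z hz => by
    rw [hv', psub_right hQ, psmul_right hQ, ((mem_pairPerp hQ).1 hz).2.1, mul_zero, sub_zero]
  by_cases hq : Fintype.card F = 2
  swap
  · obtain ⟨φ', hφ0, hφ1⟩ : ∃ φ' : F, φ' ≠ 0 ∧ φ' ≠ 1 := by
      by_contra hcon
      push Not at hcon
      have h5 : Fintype.card F ≤ 2 :=
        (Finset.card_le_card (show (Finset.univ : Finset F) ⊆ {0, 1} from fun a _ => by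
          simp only [Finset.mem_insert, Finset.mem_singleton]
          by_cases ha : a = 0
          · exact Or.inl ha
          · exact Or.inr (hcon a ha))).trans Finset.card_le_two
      have h6 := Fintype.one_lt_card (α := F)
      omega
    obtain ⟨z₀, hz₀, hvz₀⟩ := (hP'nd v' hv'P hv'0).1
    obtain ⟨z, hz⟩ : ∃ z, z = ((φ' - φ) / pol Q z₀ v') • z₀ := ⟨_, rfl⟩
    have hzm : z ∈ pairPerp hQ P r f := hz ▸ Submodule.smul_mem _ _ hz₀
    obtain ⟨hzP, hzr, hzf⟩ := (mem_pairPerp hQ).1 hzm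
    have hzv' : pol Q z v = φ' - φ := by rw [hzv z hzm, hz, psmul_left hQ, div_mul_cancel₀ _ hvz₀]
    obtain ⟨f', hf'⟩ : ∃ f', f' = f + z - Q z • r := ⟨_, rfl⟩
    have hrf' : pol Q r f' = 1 := by
      rw [hf', psub_right hQ, padd_right hQ, psmul_right hQ, pself hQ, hQr, hrf, pcomm r z, hzr]
      ring
    have hQf' : Q f' = 0 := by
      rw [hf', qsub hQ, qadd hQ, qsmul hQ, hQf, hQr, pcomm f z, hzf, psmul_right hQ, padd_left hQ, pcomm f r, hrf, hzr]
      ring
    have hf'v : pol Q f' v = φ' := by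
      rw [hf', psub_left hQ, padd_left hQ, psmul_left hQ, hzv', pcomm f v, ← hφ, pcomm r v, hvr]
      ring
    refine ⟨v + φ' • r + f', P.add_mem (P.add_mem hv (P.smul_mem _ hrP))
      (hf' ▸ P.sub_mem (P.add_mem hf hzP) (P.smul_mem _ hrP)), ?_, ?_, ?_⟩
    · rw [qadd hQ, qadd hQ, qsmul hQ, hQv, hQr, hQf', psmul_right hQ, hvr, padd_left hQ, psmul_left hQ, hrf',
        pcomm v f', hf'v]
      linear_combination φ' * h2
    · rw [padd_left hQ, padd_left hQ, psmul_left hQ, pself hQ, h2, pcomm r v, hvr, hf'v, zero_mul, mul_zero, zero_add,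
        zero_add]
      exact hφ0
    · simp only [hwr, padd_left hQ, psmul_left hQ, psub_right hQ, hvr, pself hQ, hQr, h2, pcomm r v, hvr, pcomm f' r,
        hrf', hf'v, zero_mul, mul_zero, sub_zero, zero_add, zero_sub, neg_zero, add_zero]
      exact sub_ne_zero.2 (Ne.symm hφ1)
  · have hc1 : ∀ a : F, a = 0 ∨ a = 1 := fun a => by
      by_contra hcon
      push Not at hcon
      have h5 : 3 ≤ (Finset.univ : Finset F).card := by
        refine le_trans (le_of_eq ?_) (Finset.card_le_card (Finset.subset_univ ({0, 1, a} : Finset F)))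
        rw [Finset.card_insert_of_notMem (by simp [hcon.1.symm]), Finset.card_pair hcon.2.symm]
      rw [Finset.card_univ] at h5
      omega
    obtain ⟨y, hy, hQy, hvy⟩ : ∃ y ∈ pairPerp hQ P r f, Q y = c ∧ pol Q v' y = 1 := by
      by_cases hd' : 3 ≤ Module.finrank F (pairPerp hQ P r f)
      · exact exists_prescribed hQ hP'nd hd' hv'P hv'0 c 1 (Or.inr one_ne_zero)
      obtain ⟨z₀, hz₀, hz₀v⟩ := (hP'nd v' hv'P hv'0).2
      have hz1 : pol Q v' z₀ = 1 := (hc1 _).resolve_left hz₀v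
      rcases hc1 (Q z₀) with h0 | h1
      · exfalso
        have hne := nd_two_le hQ h2 hP'nd (fun h => hv'0 (by rw [h] at hv'P; exact hv'P))
        obtain ⟨hzP, hzr, hzf⟩ := (mem_pairPerp hQ).1 hz₀
        have hlt := pair_lt hQ hrP hf hQr hQf hrf
        have hd4 : Module.finrank F P = 4 := by
          have h8 : Module.finrank F P ≠ 3 := fun h8 => by
            have : Module.finrank F (pairPerp hQ P r f) ≤ 1 := by
              have hli : LinearIndependent F ![r, f] := by
                refine LinearIndependent.pair_iff.2 fun s t hst => ?_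
                have e1 := congrArg (fun x => pol Q x f) hst
                have e2 := congrArg (fun x => pol Q x r) hst
                simp only [padd_left hQ, psmul_left hQ, hrf, pself hQ, hQf, hQr, pcomm f r, pzero_left hQ, mul_zero,
                  mul_one, add_zero, zero_add] at e1 e2
                exact ⟨e1, e2⟩
              have hle : Submodule.span F (Set.range ![r, f]) ≤ P := Submodule.span_le.2 (by
                rintro _ ⟨i, rfl⟩; fin_cases i; exacts [hrP, hf])
              have hdis : pairPerp hQ P r f ⊓ Submodule.span F (Set.range ![r, f]) = ⊥ := by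
                rw [eq_bot_iff]
                rintro x ⟨hx1, hx2⟩
                obtain ⟨-, hxr, hxf⟩ := (mem_pairPerp hQ).1 hx1
                rw [Matrix.range_cons, Matrix.range_cons, Matrix.range_empty, Set.union_empty, Set.singleton_union,
                  SetLike.mem_coe, Submodule.mem_span_pair] at hx2
                obtain ⟨s, t, rfl⟩ := hx2
                simp only [padd_left hQ, psmul_left hQ, hrf, pself hQ, hQf, hQr, pcomm f r, mul_zero,
                  mul_one, add_zero, zero_add] at hxr hxf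
                simp [hxr, hxf]
              have h9 := Submodule.finrank_sup_add_finrank_inf_eq (pairPerp hQ P r f)
                (Submodule.span F (Set.range ![r, f]))
              rw [hdis, finrank_bot, finrank_span_eq_card hli, Fintype.card_fin] at h9
              have h10 := Submodule.finrank_mono (show pairPerp hQ P r f ⊔ Submodule.span F (Set.range ![r, f]) ≤ P from
                sup_le (fun x hx => ((mem_pairPerp hQ).1 hx).1) hle)
              omega
            omega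
          omega
        refine h2s hq hd4 ⟨Submodule.span F {r} ⊔ Submodule.span F {z₀}, sup_le
          ((Submodule.span_singleton_le_iff_mem _ _).2 hrP) ((Submodule.span_singleton_le_iff_mem _ _).2 hzP),
          fun x hx => ?_, ?_⟩
        · obtain ⟨a, ha, b, hb, rfl⟩ := Submodule.mem_sup.1 hx
          obtain ⟨s, rfl⟩ := Submodule.mem_span_singleton.1 ha
          obtain ⟨t, rfl⟩ := Submodule.mem_span_singleton.1 hb
          rw [qadd hQ, qsmul hQ, qsmul hQ, hQr, h0, psmul_left hQ, psmul_right hQ, pcomm r z₀, hzr]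
          ring
        · have hz00 : z₀ ≠ 0 := fun h => hz₀v (by rw [h]; exact pzero_right hQ _)
          have hinf : Submodule.span F {r} ⊓ Submodule.span F {z₀} = ⊥ := by
            rw [eq_bot_iff]
            rintro x ⟨hx1, hx2⟩
            obtain ⟨s, rfl⟩ := Submodule.mem_span_singleton.1 hx1
            obtain ⟨t, ht⟩ := Submodule.mem_span_singleton.1 hx2
            have h9 := congrArg (fun x => pol Q x f) ht
            simp only [psmul_left hQ, hzf, hrf, mul_zero, mul_one] at h9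
            simp [← h9]
          have h1 := Submodule.finrank_sup_add_finrank_inf_eq (Submodule.span F {r}) (Submodule.span F {z₀})
          rw [hinf, finrank_bot, finrank_span_singleton hr0, finrank_span_singleton hz00] at h1
          omega
      · exact ⟨z₀, hz₀, h1.trans ((hc1 c).resolve_left hc).symm, hz1⟩
    obtain ⟨hyP, hyr, -⟩ := (mem_pairPerp hQ).1 hy
    have hyv : pol Q y v = 1 := by rw [hzv y hy, pcomm]; exact hvy
    refine ⟨y, hyP, hQy, by rw [hyv]; exact one_ne_zero, ?_⟩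
    rw [hwr, psub_right hQ, hyr, hyv, zero_sub]
    exact neg_ne_zero.2 one_ne_zero

end CfsgLib.Perm.Trans.Quad
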