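import Mathlib
import Cfsg.Agent.Lib.Perm.Trans.QuadPair
import Cfsg.Agent.Lib.Perm.Trans.QuadNondegCases

/-!
# Decomposition stabilisers in `Ω` preserving a finer configuration of vectors
-/

set_option autoImplicit false
set_option linter.all false

namespace CfsgLib.Perm.Trans.Quad

open scoped Matrix
open Matrix Cfsg.Geo CfsgLib.Perm.Asch CfsgLib.Perm.Trans

variable {ι : Type} [Fintype ι] [DecidableEq ι] {F : Type*} [Field F] [Fintype F]
variable {Q : (ι → F) → F}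

local notation "pol" => QuadraticMap.polar

theorem stabilizing_of_maps {S : Set (ι → F)} {g : GL ι F} (h : ∀ x ∈ S, (g : Matrix ι ι F) *ᵥ x ∈ S) :
    g ∈ Cfsg.stabilizing (Cfsg.glToMat ι F) S := by
  intro v
  refine ⟨h v, fun hv => ?_⟩
  obtain ⟨⟨x, hx⟩, hxv⟩ := (Finite.injective_iff_surjective (f := fun x : S => (⟨_, h x x.2⟩ : S))).1
    (fun a b hab => Subtype.ext (by
      have := congrArg (fun z : S => ((g⁻¹ : GL ι F) : Matrix ι ι F) *ᵥ (z : ι → F)) hab
      simpa only [gl_inv_mulVec] using this)) ⟨_, hv⟩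
  have h1 : (g : Matrix ι ι F) *ᵥ x = (g : Matrix ι ι F) *ᵥ v := congrArg Subtype.val hxv
  have := congrArg (fun z => ((g⁻¹ : GL ι F) : Matrix ι ι F) *ᵥ z) h1
  simp only [gl_inv_mulVec] at this
  exact this ▸ hx

theorem closure_maps {S : Set (ι → F)} {g : GL ι F} (h : ∀ x ∈ S, (g : Matrix ι ι F) *ᵥ x ∈ AddSubgroup.closure S)
    {x : ι → F} (hx : x ∈ AddSubgroup.closure S) : (g : Matrix ι ι F) *ᵥ x ∈ AddSubgroup.closure S := by
  induction hx using AddSubgroup.closure_induction with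
  | mem y hy => exact h y hy
  | zero => rw [mulVec_zero]; exact zero_mem _
  | add a b _ _ ha hb => rw [mulVec_add]; exact add_mem ha hb
  | neg a _ ha => rw [mulVec_neg]; exact neg_mem ha

variable (hQ : IsNondegenerateQuadraticForm Q)
include hQ

theorem frame_coords {P : Submodule F (ι → F)} {r : ℕ} (hr : Module.finrank F P = r) (b d : Fin r → ι → F)
    (hb : ∀ i, b i ∈ P) (hbd : ∀ i j, pol Q (b i) (d j) = if i = j then 1 else 0) {x : ι → F} (hx : x ∈ P) :
    x = ∑ j, pol Q x (d j) • b j := by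
  classical
  have hlin : ∀ c : Fin r → F, ∀ j, pol Q (∑ i, c i • b i) (d j) = c j := by
    intro c j
    show pfl hQ (d j) (∑ i, c i • b i) = c j
    rw [map_sum, Finset.sum_eq_single j]
    · rw [map_smul, show pfl hQ (d j) (b j) = pol Q (b j) (d j) from rfl, hbd, if_pos rfl, smul_eq_mul, mul_one]
    · intro i _ hij
      rw [map_smul, show pfl hQ (d j) (b i) = pol Q (b i) (d j) from rfl, hbd, if_neg hij, smul_zero]
    · exact fun h => absurd (Finset.mem_univ j) h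
  have hind : LinearIndependent F b := Fintype.linearIndependent_iff.2 fun c hc i => by
    rw [← hlin c i, hc, pzero_left hQ]
  have hspan : Submodule.span F (Set.range b) = P := by
    refine Submodule.eq_of_le_of_finrank_le (Submodule.span_le.2 (Set.range_subset_iff.2 hb)) ?_
    rw [hr, finrank_span_eq_card hind, Fintype.card_fin]
  obtain ⟨c, rfl⟩ := (Submodule.mem_span_range_iff_exists_fun F).1 (hspan ▸ hx)
  exact Finset.sum_congr rfl fun j _ => by rw [hlin]

variable {t k : ℕ} {D : Fin t → Submodule F (ι → F)} (hD : IsOrthogonalMDecomposition Q k D)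
include hD

theorem member_count : t * k = Fintype.card ι := by
  classical
  have hI : DirectSum.IsInternal D :=
    (DirectSum.isInternal_submodule_iff_iSupIndep_and_iSup_eq_top D).2 ⟨hD.decomp.decomp.indep, hD.decomp.decomp.iSup_eq_top⟩
  have := Module.finrank_eq_card_basis
    (hI.collectedBasis fun i => Module.finBasisOfFinrankEq F (D i) (hD.decomp.decomp.finrank_eq i))
  rw [Module.finrank_fintype_fun_eq_card] at this
  simp at this
  omega

theorem member_disjoint {i j : Fin t} (hij : i ≠ j) {x : ι → F} (hx : x ∈ D i) (hy : x ∈ D j) : x = 0 :=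
  (Submodule.mem_bot F).1 ((disjoint_iff.1 (hD.decomp.decomp.indep.pairwiseDisjoint hij)) ▸ Submodule.mem_inf.2 ⟨hx, hy⟩)

theorem member_orth {i j : Fin t} (hij : i ≠ j) {x y : ι → F} (hx : x ∈ D i) (hy : y ∈ D j) : pol Q x y = 0 :=
  hD.decomp.orthogonal i j hij x hx y hy

theorem transport_line (i : Fin t) (V : Set F) {a : ι → F} (ha : a ∈ D i)
    (hS : ∀ x ∈ D i, Q x ∈ V → x ∈ Submodule.span F {a} ∨ pol Q x a = 0) (j : Fin t) :
    ∃ b ∈ D j, Q b = Q a ∧ ∀ x ∈ D j, Q x ∈ V → x ∈ Submodule.span F {b} ∨ pol Q x b = 0 := by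
  obtain ⟨e, he⟩ := hD.isometric i j
  refine ⟨e ⟨a, ha⟩, (e ⟨a, ha⟩).2, he _, fun x hx hxV => ?_⟩
  obtain ⟨y, hy⟩ := e.surjective ⟨x, hx⟩
  have hxy : x = ((e y : D j) : ι → F) := by rw [hy]
  subst hxy
  rw [he] at hxV
  refine (hS y y.2 hxV).imp (fun h => ?_) fun h => ?_
  · obtain ⟨c, hc⟩ := Submodule.mem_span_singleton.1 h
    refine Submodule.mem_span_singleton.2 ⟨c, ?_⟩
    have h1 : y = c • (⟨a, ha⟩ : D i) := Subtype.ext hc.symm
    rw [h1, map_smul, Submodule.coe_smul]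
  · rw [QuadraticMap.polar, ← Submodule.coe_add, ← map_add, he, he, he, Submodule.coe_add]
    exact h

theorem stab_le_stabilizing (V : Set F) :
    decompositionStabilizer D ⊓ omegaGL Q ≤
      Cfsg.stabilizing (Cfsg.glToMat ι F) {x | ∃ i, x ∈ D i ∧ Q x ∈ V} ⊓ omegaGL Q := by
  refine le_inf (fun g hg => stabilizing_of_maps ?_) inf_le_right
  rintro x ⟨i, hi, hx⟩
  obtain ⟨σ, hσ⟩ := hg.1
  exact ⟨σ i, hσ i ▸ ⟨x, hi, Matrix.toLin'_apply _ x⟩, by rwa [mem_iso.1 (omegaGL_le_iso hg.2)]⟩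

/-- some element of `Ω` moves a vector of a member out of all members -/
theorem exists_move_out (hn : 5 ≤ Fintype.card ι) (hk : k + 3 ≤ Fintype.card ι) {i : Fin t} {a : ι → F} (ha : a ∈ D i)
    (hQa : Q a ≠ 0) : ∃ g ∈ omegaGL Q, ∀ j, (g : Matrix ι ι F) *ᵥ a ∉ D j := by
  obtain ⟨u, hu, hu0, hQu⟩ := exists_qsingular hQ (qperp_nd hQ (hD.decomp.nondegenerate i)) (by
    have := finrank_qperp hQ (D i)
    have := hD.decomp.decomp.finrank_eq i
    omega)
  obtain ⟨g, hg, hga⟩ := exists_move_value hQ hn (v := a) (w := a + u) hQa (by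
    rw [qadd hQ, hQu, pcomm, hu a ha, add_zero, add_zero])
  refine ⟨g, eGroup_le_omega hQ hn hg, fun j hj => ?_⟩
  rw [hga] at hj
  rcases eq_or_ne j i with rfl | hji
  · have h1 := (D j).sub_mem hj ha
    rw [add_sub_cancel_left] at h1
    obtain ⟨⟨z, hz, hzu⟩, -⟩ := hD.decomp.nondegenerate j u h1 hu0
    exact hzu (by rw [pcomm]; exact hu z hz)
  · have h1 := member_orth hQ hD hji hj ha
    rw [padd_left hQ, hu a ha, add_zero, pself hQ] at h1
    obtain ⟨⟨z, hz, hza⟩, -⟩ := hD.decomp.nondegenerate i a ha fun h => hQa (by rw [h, qzero hQ])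
    have h2 := member_orth hQ hD hji hj hz
    rw [padd_left hQ, hu z hz, add_zero] at h2
    exact hza (by rw [pcomm]; exact h2)

/-- lines: odd characteristic -/
theorem lines_not_maximal (hn : 10 ≤ Fintype.card ι) (h2 : (2 : F) ≠ 0) (hk2 : 2 ≤ k) (hk3 : k ≤ 3) (V : Set F)
    (a : Fin t → ι → F) (ha : ∀ i, a i ∈ D i) {c : F} (hac : ∀ i, Q (a i) = c) (hc0 : c ≠ 0) (hcV : c ∈ V)
    (hS : ∀ i, ∀ x ∈ D i, Q x ∈ V → x ∈ Submodule.span F {a i} ∨ pol Q x (a i) = 0) :
    ∃ K : Subgroup (GL ι F), decompositionStabilizer D ⊓ omegaGL Q < K ∧ K < omegaGL Q := by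
  classical
  have ht : 4 ≤ t := by
    have h1 := member_count hQ hD
    by_contra hlt
    have h3 : t * k ≤ 3 * 3 := Nat.mul_le_mul (by omega) hk3
    omega
  obtain ⟨S, hSdef⟩ : ∃ S : Set (ι → F), S = {x | ∃ i, x ∈ D i ∧ Q x ∈ V} := ⟨_, rfl⟩
  let i0 : Fin t := ⟨0, by omega⟩
  let i1 : Fin t := ⟨1, by omega⟩
  let i2 : Fin t := ⟨2, by omega⟩
  let i3 : Fin t := ⟨3, by omega⟩
  have hd : ∀ i j : Fin t, i ≠ j → Q (a i - a j) ≠ 0 := fun i j hij => by
    rw [qsub hQ, hac, hac, member_orth hQ hD hij (ha i) (ha j), sub_zero, ← two_mul]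
    exact mul_ne_zero h2 hc0
  have h01 : i0 ≠ i1 := by simp [i0, i1]
  have h23 : i2 ≠ i3 := by simp [i2, i3]
  obtain ⟨r, hr, hrd⟩ := exists_refl hQ (hd i0 i1 h01)
  obtain ⟨s, hs, hsd⟩ := exists_refl hQ (hd i2 i3 h23)
  have hΩ : r * s ∈ omegaGL Q := refl_pair_omega hQ (by omega) (hd i0 i1 h01) (by
    rw [qsub hQ, qsub hQ, hac, hac, hac, hac, member_orth hQ hD h01 (ha _) (ha _), member_orth hQ hD h23 (ha _) (ha _)])
    hr hs hrd hsd
  have hmove : ∀ {i j : Fin t} {g : GL ι F}, i ≠ j → IsRefl Q (a i - a j) g → ∀ x ∈ S, (g : Matrix ι ι F) *ᵥ x ∈ S ∧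
      ((g : Matrix ι ι F) *ᵥ a i = a j ∧ (g : Matrix ι ι F) *ᵥ a j = a i) := by
    intro i j g hij hg x hx
    have hm1 : (g : Matrix ι ι F) *ᵥ a i = a j := refl_moves hQ ((hac i).trans (hac j).symm) (hd i j hij) hg
    have hm2 : (g : Matrix ι ι F) *ᵥ a j = a i := by
      have hg' : IsRefl Q (a j - a i) g := by
        have := hg.smul hQ (c := -1) (neg_ne_zero.2 one_ne_zero)
        rwa [neg_one_smul, neg_sub] at this
      exact refl_moves hQ ((hac j).trans (hac i).symm) (hd j i hij.symm) hg'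
    refine ⟨?_, hm1, hm2⟩
    rw [hSdef] at hx ⊢
    obtain ⟨l, hl, hlV⟩ := hx
    have hzero : pol Q x (a i) = 0 → pol Q x (a j) = 0 → (g : Matrix ι ι F) *ᵥ x = x := fun e1 e2 =>
      refl_fix hQ hg (by rw [psub_right hQ, e1, e2, sub_zero])
    rcases eq_or_ne l i with rfl | hli
    · rcases hS l x hl hlV with h | h
      · obtain ⟨d, rfl⟩ := Submodule.mem_span_singleton.1 h
        refine ⟨j, ?_, ?_⟩
        · rw [mulVec_smul, hm1]; exact (D j).smul_mem _ (ha j)
        · rw [mulVec_smul, hm1, qsmul hQ, hac]; rwa [qsmul hQ, hac] at hlV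
      · rw [hzero h (member_orth hQ hD hij hl (ha j))]
        exact ⟨l, hl, hlV⟩
    rcases eq_or_ne l j with rfl | hlj
    · rcases hS l x hl hlV with h | h
      · obtain ⟨d, rfl⟩ := Submodule.mem_span_singleton.1 h
        refine ⟨i, ?_, ?_⟩
        · rw [mulVec_smul, hm2]; exact (D i).smul_mem _ (ha i)
        · rw [mulVec_smul, hm2, qsmul hQ, hac]; rwa [qsmul hQ, hac] at hlV
      · rw [hzero (member_orth hQ hD hij.symm hl (ha i)) h]
        exact ⟨l, hl, hlV⟩
    rw [hzero (member_orth hQ hD hli hl (ha i)) (member_orth hQ hD hlj hl (ha j))]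
    exact ⟨l, hl, hlV⟩
  have hgS : r * s ∈ Cfsg.stabilizing (Cfsg.glToMat ι F) S := stabilizing_of_maps fun x hx => by
    rw [gl_mul_mulVec]
    exact (hmove h01 hrd _ (hmove h23 hsd x hx).1).1
  have hle : decompositionStabilizer D ⊓ omegaGL Q ≤ Cfsg.stabilizing (Cfsg.glToMat ι F) S ⊓ omegaGL Q :=
    hSdef ▸ stab_le_stabilizing hQ hD V
  refine ⟨_, lt_of_le_of_ne hle fun heq => ?_, lt_of_le_of_ne inf_le_right fun heq => ?_⟩
  · have hmem : r * s ∈ Cfsg.stabilizing (Cfsg.glToMat ι F) S ⊓ omegaGL Q := ⟨hgS, hΩ⟩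
    rw [← heq] at hmem
    obtain ⟨σ, hσ⟩ := hmem.1
    obtain ⟨y, ⟨hy, hya⟩, hy0⟩ := Submodule.exists_mem_ne_zero_of_ne_bot (p := D i0 ⊓ LinearMap.ker (pfl hQ (a i0)))
      fun h => by
        have h1 := finrank_inf_pfl hQ (D i0) (a i0)
        rw [h, finrank_bot, hD.decomp.decomp.finrank_eq i0] at h1
        omega
    have hfix : ((r * s : GL ι F) : Matrix ι ι F) *ᵥ y = y := by
      rw [gl_mul_mulVec, refl_fix hQ hsd (by rw [psub_right hQ, member_orth hQ hD (by simp [i0, i2]) hy (ha i2),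
        member_orth hQ hD (by simp [i0, i3]) hy (ha i3), sub_zero]), refl_fix hQ hrd (by
          rw [psub_right hQ, show pol Q y (a i0) = 0 from hya, member_orth hQ hD h01 hy (ha i1), sub_zero])]
    have hmv : ((r * s : GL ι F) : Matrix ι ι F) *ᵥ a i0 = a i1 := by
      rw [gl_mul_mulVec, refl_fix hQ hsd (by rw [psub_right hQ, member_orth hQ hD (by simp [i0, i2]) (ha i0) (ha i2),
        member_orth hQ hD (by simp [i0, i3]) (ha i0) (ha i3), sub_zero]), refl_moves hQ ((hac i0).trans (hac i1).symm)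
        (hd i0 i1 h01) hrd]
    have e1 : y ∈ D (σ i0) := hσ i0 ▸ ⟨y, hy, (Matrix.toLin'_apply _ y).trans hfix⟩
    have e2 : a i1 ∈ D (σ i0) := hσ i0 ▸ ⟨a i0, ha i0, (Matrix.toLin'_apply _ _).trans hmv⟩
    rcases eq_or_ne (σ i0) i0 with h | h
    · exact hc0 (by rw [← hac i1, member_disjoint hQ hD h01 (h ▸ e2) (ha i1), qzero hQ])
    · exact hy0 (member_disjoint hQ hD h.symm hy e1)
  · obtain ⟨g, hg, hgout⟩ := exists_move_out hQ hD (by omega) (by omega) (ha i0) (by rw [hac]; exact hc0)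
    rw [← heq] at hg
    have h1 := (hg.1 (a i0)).1 (by rw [hSdef]; exact ⟨i0, ha i0, by rw [hac]; exact hcV⟩)
    rw [hSdef] at h1
    obtain ⟨j, hj, -⟩ := h1
    exact hgout j hj

/-- planes inside members: characteristic two -/
theorem planes_not_maximal (hn : 10 ≤ Fintype.card ι) (h2 : (2 : F) = 0) (hk : k = 4) (x y : Fin t → ι → F)
    (hx : ∀ i, x i ∈ D i) (hy : ∀ i, y i ∈ D i) (hQx : ∀ i, Q (x i) = 1) (hQy : ∀ i, Q (y i) = 1)
    (hxy : ∀ i, pol Q (x i) (y i) = 1)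
    (hS : ∀ i, ∀ z ∈ D i, Q z = 1 → z ∈ Submodule.span F {x i, y i} ∨ (pol Q z (x i) = 0 ∧ pol Q z (y i) = 0)) :
    ∃ K : Subgroup (GL ι F), decompositionStabilizer D ⊓ omegaGL Q < K ∧ K < omegaGL Q := by
  classical
  have ht : 2 ≤ t := by
    have h1 := member_count hQ hD
    rw [hk] at h1
    omega
  obtain ⟨S, hSdef⟩ : ∃ S : Set (ι → F), S = {z | ∃ i, z ∈ D i ∧ Q z ∈ ({1} : Set F)} := ⟨_, rfl⟩
  let i0 : Fin t := ⟨0, by omega⟩
  let i1 : Fin t := ⟨1, by omega⟩
  have h01 : i0 ≠ i1 := by simp [i0, i1]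
  have hz2 : ∀ z : ι → F, z + z = 0 := fun z => by rw [← two_smul F z, h2, zero_smul]
  have hzn : ∀ z : ι → F, -z = z := fun z => neg_eq_of_add_eq_zero_left (hz2 z)
  have hself : ∀ z, pol Q z z = 0 := fun z => by rw [pself hQ, h2, zero_mul]
  have hQu : Q (x i0 + x i1) = 0 := by
    rw [qadd hQ, hQx, hQx, member_orth hQ hD h01 (hx _) (hx _), add_zero, one_add_one_eq_two, h2]
  have hQv : Q (y i0 + y i1) = 0 := by
    rw [qadd hQ, hQy, hQy, member_orth hQ hD h01 (hy _) (hy _), add_zero, one_add_one_eq_two, h2]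
  obtain ⟨g, hgΩ, hg⟩ := ein_omega hQ (by omega) (a := y i0 + y i1) hQu (by
    rw [padd_left hQ, padd_right hQ, padd_right hQ, hxy, hxy, member_orth hQ hD h01 (hx _) (hy _),
      member_orth hQ hD h01.symm (hx _) (hy _), add_zero, zero_add, one_add_one_eq_two, h2])
  have hgz : ∀ z, (g : Matrix ι ι F) *ᵥ z = z + pol Q z (x i0 + x i1) • (y i0 + y i1) + pol Q z (y i0 + y i1) • (x i0 + x i1) :=
    fun z => by rw [hg, hQv, zero_mul, zero_smul, sub_zero, sub_eq_add_neg, hzn]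
  have hgS : g ∈ Cfsg.stabilizing (Cfsg.glToMat ι F) S := stabilizing_of_maps fun z hz => by
    rw [hSdef] at hz ⊢
    obtain ⟨l, hl, hlQ⟩ := hz
    suffices h : ∃ j, (g : Matrix ι ι F) *ᵥ z ∈ D j by
      obtain ⟨j, hj⟩ := h
      exact ⟨j, hj, by rwa [mem_iso.1 (omegaGL_le_iso hgΩ)]⟩
    rw [hgz, padd_right hQ, padd_right hQ]
    rcases eq_or_ne l i0 with rfl | hl0
    · rw [member_orth hQ hD h01 hl (hx i1), member_orth hQ hD h01 hl (hy i1), add_zero, add_zero]
      rcases hS _ z hl hlQ with h | ⟨h, h'⟩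
      · obtain ⟨α, β, rfl⟩ := Submodule.mem_span_pair.1 h
        refine ⟨i1, ?_⟩
        rw [padd_left hQ, padd_left hQ, psmul_left hQ, psmul_left hQ, psmul_left hQ, psmul_left hQ, hself, hself,
          hxy, pcomm (y i0) (x i0), hxy, mul_zero, mul_zero, mul_one, mul_one, zero_add, add_zero, smul_add, smul_add]
        have : α • x i0 + β • y i0 + (β • y i0 + β • y i1) + (α • x i0 + α • x i1) = β • y i1 + α • x i1 := by
          rw [show α • x i0 + β • y i0 + (β • y i0 + β • y i1) + (α • x i0 + α • x i1) =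
            (α • x i0 + α • x i0) + (β • y i0 + β • y i0) + (β • y i1 + α • x i1) by abel, hz2, hz2, zero_add, zero_add]
        rw [this]
        exact (D i1).add_mem ((D i1).smul_mem _ (hy i1)) ((D i1).smul_mem _ (hx i1))
      · exact ⟨i0, by rw [h, h', zero_smul, zero_smul, add_zero, add_zero]; exact hl⟩
    rcases eq_or_ne l i1 with rfl | hl1
    · rw [member_orth hQ hD h01.symm hl (hx i0), member_orth hQ hD h01.symm hl (hy i0), zero_add, zero_add]
      rcases hS _ z hl hlQ with h | ⟨h, h'⟩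
      · obtain ⟨α, β, rfl⟩ := Submodule.mem_span_pair.1 h
        refine ⟨i0, ?_⟩
        rw [padd_left hQ, padd_left hQ, psmul_left hQ, psmul_left hQ, psmul_left hQ, psmul_left hQ, hself, hself,
          hxy, pcomm (y i1) (x i1), hxy, mul_zero, mul_zero, mul_one, mul_one, zero_add, add_zero, smul_add, smul_add]
        have : α • x i1 + β • y i1 + (β • y i0 + β • y i1) + (α • x i0 + α • x i1) = β • y i0 + α • x i0 := by
          rw [show α • x i1 + β • y i1 + (β • y i0 + β • y i1) + (α • x i0 + α • x i1) =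
            (α • x i1 + α • x i1) + (β • y i1 + β • y i1) + (β • y i0 + α • x i0) by abel, hz2, hz2, zero_add, zero_add]
        rw [this]
        exact (D i0).add_mem ((D i0).smul_mem _ (hy i0)) ((D i0).smul_mem _ (hx i0))
      · exact ⟨i1, by rw [h, h', zero_smul, zero_smul, add_zero, add_zero]; exact hl⟩
    refine ⟨l, ?_⟩
    rw [member_orth hQ hD hl0 hl (hx i0), member_orth hQ hD hl1 hl (hx i1), member_orth hQ hD hl0 hl (hy i0),
      member_orth hQ hD hl1 hl (hy i1), add_zero, zero_smul, zero_smul, add_zero, add_zero]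
    exact hl
  have hle : decompositionStabilizer D ⊓ omegaGL Q ≤ Cfsg.stabilizing (Cfsg.glToMat ι F) S ⊓ omegaGL Q :=
    hSdef ▸ stab_le_stabilizing hQ hD _
  refine ⟨_, lt_of_le_of_ne hle fun heq => ?_, lt_of_le_of_ne inf_le_right fun heq => ?_⟩
  · have hmem : g ∈ Cfsg.stabilizing (Cfsg.glToMat ι F) S ⊓ omegaGL Q := ⟨hgS, hgΩ⟩
    rw [← heq] at hmem
    obtain ⟨σ, hσ⟩ := hmem.1
    obtain ⟨z, ⟨⟨hz, hzx⟩, hzy⟩, hz0⟩ := Submodule.exists_mem_ne_zero_of_ne_bot
      (p := D i0 ⊓ LinearMap.ker (pfl hQ (x i0)) ⊓ LinearMap.ker (pfl hQ (y i0))) fun h => by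
        have h1 := finrank_inf_pfl hQ (D i0) (x i0)
        have h3 := finrank_inf_pfl hQ (D i0 ⊓ LinearMap.ker (pfl hQ (x i0))) (y i0)
        rw [h, finrank_bot] at h3
        rw [hD.decomp.decomp.finrank_eq i0] at h1
        omega
    have hfix : (g : Matrix ι ι F) *ᵥ z = z := by
      rw [hgz, padd_right hQ, padd_right hQ, show pol Q z (x i0) = 0 from hzx, show pol Q z (y i0) = 0 from hzy,
        member_orth hQ hD h01 hz (hx i1), member_orth hQ hD h01 hz (hy i1), add_zero, zero_smul, zero_smul, add_zero, add_zero]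
    have hmv : (g : Matrix ι ι F) *ᵥ x i0 = x i1 := by
      rw [hgz, padd_right hQ, padd_right hQ, hself, hxy, member_orth hQ hD h01 (hx i0) (hx i1),
        member_orth hQ hD h01 (hx i0) (hy i1), add_zero, zero_smul, add_zero, add_zero, one_smul, ← add_assoc, hz2,
        zero_add]
    have e1 : z ∈ D (σ i0) := hσ i0 ▸ ⟨z, hz, (Matrix.toLin'_apply _ z).trans hfix⟩
    have e2 : x i1 ∈ D (σ i0) := hσ i0 ▸ ⟨x i0, hx i0, (Matrix.toLin'_apply _ _).trans hmv⟩
    rcases eq_or_ne (σ i0) i0 with h | h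
    · exact one_ne_zero (by rw [← hQx i1, member_disjoint hQ hD h01 (h ▸ e2) (hx i1), qzero hQ])
    · exact hz0 (member_disjoint hQ hD h.symm hz e1)
  · obtain ⟨w, hw, hwout⟩ := exists_move_out hQ hD (by omega) (by omega) (hx i0) (by rw [hQx]; exact one_ne_zero)
    rw [← heq] at hw
    have h1 := (hw.1 (x i0)).1 (by rw [hSdef]; exact ⟨i0, hx i0, hQx i0⟩)
    rw [hSdef] at h1
    obtain ⟨j, hj, -⟩ := h1
    exact hwout j hj

/-- the additive group of the nonsingular vectors: characteristic two -/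
theorem lattice_not_maximal (hn : 10 ≤ Fintype.card ι) (h2 : (2 : F) = 0) (hk : k = 2) (V₀ : AddSubgroup F)
    (hV₀ : ∀ v ∈ V₀, v = 0 ∨ v = 1) {c : F} (hc : c ∉ V₀) (a e : Fin t → ι → F) (ha : ∀ i, a i ∈ D i)
    (he : ∀ i, e i ∈ D i) (hQa : ∀ i, Q (a i) = 1) (hQe : ∀ i, Q (e i) = 0) (hea : ∀ i, pol Q (e i) (a i) = 1)
    (hV : ∀ i, ∀ x ∈ D i, ∀ y ∈ D i, Q x = 1 → Q y = 1 → pol Q x y ∈ V₀) :
    ∃ K : Subgroup (GL ι F), decompositionStabilizer D ⊓ omegaGL Q < K ∧ K < omegaGL Q := by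
  classical
  have ht : 4 ≤ t := by
    have h1 := member_count hQ hD
    rw [hk] at h1
    omega
  obtain ⟨S, hSdef⟩ : ∃ S : Set (ι → F), S = {x | ∃ i, x ∈ D i ∧ Q x ∈ ({1} : Set F)} := ⟨_, rfl⟩
  obtain ⟨L, hL⟩ : ∃ L, L = AddSubgroup.closure S := ⟨_, rfl⟩
  have hpS : ∀ x ∈ S, ∀ y ∈ S, pol Q x y ∈ V₀ := by
    intro x hx y hy
    rw [hSdef] at hx hy
    obtain ⟨i, hi, hix⟩ := hx
    obtain ⟨j, hj, hjy⟩ := hy
    rcases eq_or_ne i j with rfl | hij
    · exact hV i x hi y hj hix hjy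
    · rw [member_orth hQ hD hij hi hj]; exact zero_mem _
  have hpS' : ∀ x ∈ L, ∀ y ∈ S, pol Q x y ∈ V₀ := by
    intro x hx y hy
    rw [hL] at hx
    induction hx using AddSubgroup.closure_induction with
    | mem z hz => exact hpS z hz y hy
    | zero => rw [pzero_left hQ]; exact zero_mem _
    | add p q _ _ hp hq => rw [padd_left hQ]; exact add_mem hp hq
    | neg p _ hp => rw [pneg_left hQ]; exact neg_mem hp
  have haS : ∀ i, a i ∈ S := fun i => by rw [hSdef]; exact ⟨i, ha i, hQa i⟩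
  have haL : ∀ i, a i ∈ L := fun i => hL ▸ AddSubgroup.subset_closure (haS i)
  let i0 : Fin t := ⟨0, by omega⟩
  let i1 : Fin t := ⟨1, by omega⟩
  let i2 : Fin t := ⟨2, by omega⟩
  let i3 : Fin t := ⟨3, by omega⟩
  have h01 : i0 ≠ i1 := by simp [i0, i1]
  have h23 : i2 ≠ i3 := by simp [i2, i3]
  have hQu : Q (a i0 + a i1) = 0 := by
    rw [qadd hQ, hQa, hQa, member_orth hQ hD h01 (ha _) (ha _), add_zero, one_add_one_eq_two, h2]
  have hQv : Q (a i2 + a i3) = 0 := by
    rw [qadd hQ, hQa, hQa, member_orth hQ hD h23 (ha _) (ha _), add_zero, one_add_one_eq_two, h2]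
  obtain ⟨g, hgΩ, hg⟩ := ein_omega hQ (by omega) (a := a i2 + a i3) hQu (by
    rw [padd_left hQ, padd_right hQ, padd_right hQ, member_orth hQ hD (by simp [i0, i2]) (ha i0) (ha i2),
      member_orth hQ hD (by simp [i0, i3]) (ha i0) (ha i3), member_orth hQ hD (by simp [i1, i2]) (ha i1) (ha i2),
      member_orth hQ hD (by simp [i1, i3]) (ha i1) (ha i3)]
    ring)
  have hgL : g ∈ Cfsg.stabilizing (Cfsg.glToMat ι F) (L : Set (ι → F)) := stabilizing_of_maps fun x hx => by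
    have hsm : ∀ w ∈ L, ∀ v ∈ V₀, v • w ∈ L := fun w hw v hv => by
      rcases hV₀ v hv with rfl | rfl
      · rw [zero_smul]; exact zero_mem _
      · rw [one_smul]; exact hw
    show (g : Matrix ι ι F) *ᵥ x ∈ L
    rw [hg, hQv, zero_mul, zero_smul, sub_zero, padd_right hQ, padd_right hQ]
    exact sub_mem (add_mem hx (hsm _ (add_mem (haL _) (haL _)) _ (add_mem (hpS' x hx _ (haS _)) (hpS' x hx _ (haS _)))))
      (hsm _ (add_mem (haL _) (haL _)) _ (add_mem (hpS' x hx _ (haS _)) (hpS' x hx _ (haS _))))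
  have hle : decompositionStabilizer D ⊓ omegaGL Q ≤ Cfsg.stabilizing (Cfsg.glToMat ι F) (L : Set (ι → F)) ⊓ omegaGL Q := by
    intro h hh
    refine ⟨stabilizing_of_maps fun x hx => ?_, hh.2⟩
    have h1 := (stab_le_stabilizing hQ hD {1} hh).1
    rw [← hSdef] at h1
    show _ ∈ L
    rw [hL]
    exact closure_maps (fun y hy => AddSubgroup.subset_closure ((h1 y).1 hy)) (hL ▸ hx)
  refine ⟨_, lt_of_le_of_ne hle fun heq => ?_, lt_of_le_of_ne inf_le_right fun heq => ?_⟩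
  · have hmem : g ∈ Cfsg.stabilizing (Cfsg.glToMat ι F) (L : Set (ι → F)) ⊓ omegaGL Q := ⟨hgL, hgΩ⟩
    rw [← heq] at hmem
    obtain ⟨σ, hσ⟩ := hmem.1
    have hmv : (g : Matrix ι ι F) *ᵥ e i0 = e i0 + (a i2 + a i3) := by
      rw [hg, hQv, padd_right hQ, padd_right hQ, hea, member_orth hQ hD h01 (he i0) (ha i1),
        member_orth hQ hD (by simp [i0, i2]) (he i0) (ha i2), member_orth hQ hD (by simp [i0, i3]) (he i0) (ha i3)]
      simp
    have e1 : e i0 + (a i2 + a i3) ∈ D (σ i0) := hσ i0 ▸ ⟨e i0, he i0, (Matrix.toLin'_apply _ _).trans hmv⟩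
    rcases eq_or_ne (σ i0) i2 with h | h
    · have h1 := member_orth hQ hD (by simp [i0, i2] : i2 ≠ i0) (h ▸ e1) (ha i0)
      rw [padd_left hQ, padd_left hQ, hea, member_orth hQ hD (by simp [i0, i2] : i2 ≠ i0) (ha i2) (ha i0),
        member_orth hQ hD (by simp [i0, i3] : i3 ≠ i0) (ha i3) (ha i0), add_zero, add_zero] at h1
      exact one_ne_zero h1
    · have h1 := member_orth hQ hD h e1 (he i2)
      rw [padd_left hQ, padd_left hQ, member_orth hQ hD (by simp [i0, i2]) (he i0) (he i2), pcomm (a i2), hea,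
        member_orth hQ hD h23.symm (ha i3) (he i2), zero_add, add_zero] at h1
      exact one_ne_zero h1
  · obtain ⟨w, hw⟩ : ∃ w, w = a i0 + c • e i1 := ⟨_, rfl⟩
    obtain ⟨h, hh, hha⟩ := exists_move_value hQ (by omega) (v := a i0) (w := w) (by rw [hQa]; exact one_ne_zero) (by
      rw [hw, qadd hQ, qsmul hQ, hQe, psmul_right hQ, member_orth hQ hD h01 (ha i0) (he i1)]
      ring)
    have hm := eGroup_le_omega hQ (by omega) hh
    rw [← heq] at hm
    have h1 : (h : Matrix ι ι F) *ᵥ a i0 ∈ L := (hm.1 (a i0)).1 (haL i0)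
    have h3 := hpS' _ h1 _ (haS i1)
    rw [hha, hw, padd_left hQ, psmul_left hQ, member_orth hQ hD h01 (ha i0) (ha i1), hea, zero_add, mul_one] at h3
    exact hc h3

end CfsgLib.Perm.Trans.Quad
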