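import Mathlib
import Cfsg.Agent.Lib.Perm.Trans.QuadMax
import Cfsg.Agent.Lib.Orth.MaxSing

/-!
# Stabilisers lying in the stabiliser of a maximal totally singular subspace
-/

set_option autoImplicit false
set_option linter.all false

namespace CfsgLib.Perm.Trans.Quad

open scoped Matrix
open Matrix Cfsg.Geo CfsgLib.Perm.Asch CfsgLib.Perm.Trans

variable {ι : Type} [Fintype ι] [DecidableEq ι] {F : Type*} [Field F] [Fintype F]
variable {Q : (ι → F) → F}

local notation "pol" => QuadraticMap.polar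

variable (hQ : IsNondegenerateQuadraticForm Q)
include hQ

theorem ts_finrank_le {W : Submodule F (ι → F)} (hW : IsTotallySingularQuad Q W) :
    2 * Module.finrank F W ≤ Fintype.card ι := by
  have h1 := Submodule.finrank_mono (show W ≤ qperp hQ W from fun x hx y hy => pol_zero_of_singular hQ hW hx hy)
  have h2 := CfsgLib.Orth.finrank_qperp_le hQ W
  omega

theorem max_singular_stab_lt (hn : 5 ≤ Fintype.card ι) {U : Submodule F (ι → F)} {k : ℕ}
    (hk : 2 * k = Fintype.card ι) (hU : IsTotallySingularQuad Q U) (hUd : Module.finrank F U = k) :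
    subspaceStabilizer U ⊓ omegaGL Q < omegaGL Q := by
  refine (singular_subspace_maximal hQ hn (fun h => ?_) hU fun z hz hzU hQz => ?_).1
  · rw [h, finrank_bot] at hUd
    omega
  · exfalso
    obtain ⟨hT, h1, h2⟩ := singular_extend hQ hU hz hzU hQz
    have h3 := ts_finrank_le hQ hT
    omega

/-- an element of `Ω` keeps the family of a maximal totally singular subspace -/
theorem omega_keeps_family (hn : 5 ≤ Fintype.card ι) {U : Submodule F (ι → F)} {k : ℕ}
    (hk : 2 * k = Fintype.card ι) (hU : IsTotallySingularQuad Q U) (hUd : Module.finrank F U = k)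
    {g : GL ι F} (hg : g ∈ omegaGL Q) :
    Even (k - Module.finrank F ↥(U ⊓ U.map (Matrix.mulVecLin (g : Matrix ι ι F)))) := by
  obtain ⟨x, hx, rfl⟩ := hg
  have hex : Fintype.card F ≠ 2 ∨ Fintype.card ι ≠ 4 := Or.inr (by omega)
  exact (CfsgLib.Orth.even_wrk_iff hQ hex (m := k) (by omega) hUd hU x.2).2
    ((CfsgLib.Orth.mem_omega_iff hQ (by omega) hex x).1 hx).2

theorem singular_pair_not_maximal (hn : 5 ≤ Fintype.card ι) {k : ℕ} (hk : 2 * k = Fintype.card ι) (hko : Odd k)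
    (D : Fin 2 → Submodule F (ι → F)) (hD : IsMDecomposition k D) (hts : ∀ i, IsTotallySingularQuad Q (D i)) :
    ∃ K : Subgroup (GL ι F), decompositionStabilizer D ⊓ omegaGL Q < K ∧ K < omegaGL Q := by
  classical
  have hdisj : ∀ x, x ∈ D 0 → x ∈ D 1 → x = 0 := fun x hx hy =>
    (Submodule.mem_bot F).1 ((disjoint_iff.1 (hD.indep.pairwiseDisjoint (by decide : (0 : Fin 2) ≠ 1))) ▸
      Submodule.mem_inf.2 ⟨hx, hy⟩)
  have hlin : ∀ (g : GL ι F), Matrix.toLin' (g : Matrix ι ι F) = Matrix.mulVecLin (g : Matrix ι ι F) := fun g => rfl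
  have hfix : ∀ g ∈ decompositionStabilizer D ⊓ omegaGL Q, ∀ σ : Equiv.Perm (Fin 2),
      (∀ i, (D i).map (Matrix.toLin' (g : Matrix ι ι F)) = D (σ i)) → σ 0 = 0 := by
    intro g hg σ hσ
    by_contra h
    have h1 : σ 0 = 1 := (Fin.eq_one_of_ne_zero (σ 0) h)
    have h2 := omega_keeps_family hQ hn hk (hts 0) (hD.finrank_eq 0) hg.2
    rw [← hlin, hσ 0, h1, show D 0 ⊓ D 1 = ⊥ from
      (Submodule.eq_bot_iff _).2 fun x hx => hdisj x hx.1 hx.2, finrank_bot, Nat.sub_zero] at h2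
    exact Nat.not_even_iff_odd.2 hko h2
  have hle : decompositionStabilizer D ⊓ omegaGL Q ≤ subspaceStabilizer (D 0) ⊓ omegaGL Q := by
    intro g hg
    refine ⟨mem_stab_of_maps fun x hx => ?_, hg.2⟩
    obtain ⟨σ, hσ⟩ := hg.1
    have h := hσ 0
    rw [hfix g hg σ hσ] at h
    exact h ▸ ⟨x, hx, Matrix.toLin'_apply _ x⟩
  refine ⟨_, lt_of_le_of_ne hle fun heq => ?_, max_singular_stab_lt hQ hn hk (hts 0) (hD.finrank_eq 0)⟩
  obtain ⟨u, hu, hu0⟩ := Submodule.exists_mem_ne_zero_of_ne_bot (p := D 0) fun h => by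
    have := hD.finrank_eq 0
    rw [h, finrank_bot] at this
    omega
  obtain ⟨a, ha, hau⟩ : ∃ a ∈ D 0, a ∉ Submodule.span F {u} := SetLike.not_le_iff_exists.1 fun h => by
    have := Submodule.finrank_mono h
    rw [finrank_span_singleton hu0, hD.finrank_eq 0] at this
    omega
  obtain ⟨g, hgΩ, hg⟩ := ein_omega hQ hn (a := a) (hts 0 u hu) (pol_zero_of_singular hQ (hts 0) hu ha)
  have hgU : g ∈ subspaceStabilizer (D 0) := mem_stab_of_maps fun x hx => by
    rw [hg, pol_zero_of_singular hQ (hts 0) hx hu, pol_zero_of_singular hQ (hts 0) hx ha]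
    simpa using hx
  have hmem : g ∈ subspaceStabilizer (D 0) ⊓ omegaGL Q := ⟨hgU, hgΩ⟩
  rw [← heq] at hmem
  obtain ⟨y, hy, hyu⟩ : ∃ y ∈ D 1, pol Q y u ≠ 0 := by
    by_contra hcon
    push Not at hcon
    obtain ⟨z, hz⟩ := (hQ.nondegenerate u hu0).1
    have htop : z ∈ D 0 ⊔ D 1 := by
      have hle' : iSup D ≤ D 0 ⊔ D 1 := iSup_le fun i => by
        fin_cases i
        exacts [le_sup_left, le_sup_right]
      exact hle' (hD.iSup_eq_top ▸ Submodule.mem_top)
    obtain ⟨p, hp, q, hq, rfl⟩ := Submodule.mem_sup.1 htop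
    exact hz (by rw [padd_left hQ, pol_zero_of_singular hQ (hts 0) hp hu, hcon q hq, add_zero])
  obtain ⟨σ, hσ⟩ := hmem.1
  have h0 := hfix g hmem σ hσ
  have h1 : σ 1 = 1 := Fin.eq_one_of_ne_zero _ (fun h => by
    have := σ.injective (h.trans h0.symm); exact absurd this (by decide))
  have hgy : (g : Matrix ι ι F) *ᵥ y ∈ D 1 := h1 ▸ hσ 1 ▸ ⟨y, hy, Matrix.toLin'_apply _ y⟩
  rw [hg] at hgy
  have hd : pol Q y u • a - pol Q y a • u - (Q a * pol Q y u) • u ∈ D 0 :=
    (D 0).sub_mem ((D 0).sub_mem ((D 0).smul_mem _ ha) ((D 0).smul_mem _ hu)) ((D 0).smul_mem _ hu)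
  have hd' := hdisj _ hd (by
    have h4 := (D 1).sub_mem hgy hy
    convert h4 using 1
    abel)
  refine hau (Submodule.mem_span_singleton.2 ⟨(pol Q y u)⁻¹ * (pol Q y a + Q a * pol Q y u), ?_⟩)
  rw [sub_sub, sub_eq_zero, ← add_smul] at hd'
  rw [← smul_smul, ← hd', smul_smul, inv_mul_cancel₀ hyu, one_smul]

theorem submaximal_singular_not_maximal (hn : 5 ≤ Fintype.card ι) {k : ℕ} (hk : 2 * k = Fintype.card ι)
    (hplus : IsPlusTypeOn Q ⊤) {W : Submodule F (ι → F)} (hW : IsTotallySingularQuad Q W)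
    (hdim : Module.finrank F W + 1 = k) :
    ∃ K : Subgroup (GL ι F), subspaceStabilizer W ⊓ omegaGL Q < K ∧ K < omegaGL Q := by
  classical
  obtain ⟨U₁, -, hU₁, hU₁d⟩ := hplus
  rw [finrank_top, Module.finrank_fintype_fun_eq_card, ← hk] at hU₁d
  obtain ⟨U, hUdef⟩ : ∃ U, U = (U₁ ⊓ qperp hQ W) ⊔ W := ⟨_, rfl⟩
  have hU : IsTotallySingularQuad Q U := by
    intro x hx
    rw [hUdef] at hx
    obtain ⟨a, ha, b, hb, rfl⟩ := Submodule.mem_sup.1 hx
    rw [qadd hQ, hU₁ a ha.1, hW b hb, ha.2 b hb, add_zero, add_zero]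
  have hUd : Module.finrank F U = k := by
    have h1 : qperp hQ (U₁ ⊔ W) ≤ U₁ ⊓ qperp hQ W := by
      refine le_inf ?_ fun x hx y hy => hx y (Submodule.mem_sup_right hy)
      have hUU : qperp hQ U₁ = U₁ := (Submodule.eq_of_le_of_finrank_le
        (fun a ha b hb => pol_zero_of_singular hQ hU₁ ha hb : U₁ ≤ qperp hQ U₁) (by
          have := CfsgLib.Orth.finrank_qperp_le hQ U₁
          omega)).symm
      calc qperp hQ (U₁ ⊔ W) ≤ qperp hQ U₁ := fun a ha b hb => ha b (Submodule.mem_sup_left hb)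
        _ = U₁ := hUU
    have h2 := Submodule.finrank_mono h1
    have h3 := finrank_qperp hQ (U₁ ⊔ W)
    have h4 := Submodule.finrank_sup_add_finrank_inf_eq U₁ W
    have h5 := Submodule.finrank_sup_add_finrank_inf_eq (U₁ ⊓ qperp hQ W) W
    have h6 := Submodule.finrank_mono (show U₁ ⊓ qperp hQ W ⊓ W ≤ U₁ ⊓ W from inf_le_inf_right W inf_le_left)
    have h7 := ts_finrank_le hQ hU
    rw [← hUdef] at h5
    omega
  have hWU : W ≤ U := hUdef ▸ le_sup_right
  have hle : subspaceStabilizer W ⊓ omegaGL Q ≤ subspaceStabilizer U ⊓ omegaGL Q := by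
    intro g hg
    refine ⟨?_, hg.2⟩
    have h1 := omega_keeps_family hQ hn hk hU hUd hg.2
    obtain ⟨V, hV⟩ : ∃ V, V = U.map (Matrix.mulVecLin (g : Matrix ι ι F)) := ⟨_, rfl⟩
    rw [← hV] at h1
    have hWV : W ≤ U ⊓ V := le_inf hWU fun x hx => by
      rw [hV]
      have hx' : ((g⁻¹ : GL ι F) : Matrix ι ι F) *ᵥ x ∈ W := (((subspaceStabilizer W).inv_mem hg.1) x).1 hx
      exact ⟨_, hWU hx', by rw [Matrix.mulVecLin_apply, gl_mulVec_inv]⟩
    have h2 := Submodule.finrank_mono hWV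
    have h3 : Module.finrank F ↥(U ⊓ V) ≤ Module.finrank F U := Submodule.finrank_mono inf_le_left
    have h4 : Module.finrank F ↥(U ⊓ V) = k := by
      obtain ⟨c, hc⟩ := h1
      omega
    refine mem_stab_of_maps fun x hx => ?_
    have h5 : U ⊓ V = V := Submodule.eq_of_le_of_finrank_le inf_le_right (by
      rw [h4, hV, CfsgLib.Orth.map_gl_finrank, hUd])
    have h6 : (g : Matrix ι ι F) *ᵥ x ∈ U ⊓ V := h5.symm ▸ hV ▸ ⟨x, hx, Matrix.mulVecLin_apply _ x⟩
    exact h6.1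
  refine ⟨_, lt_of_le_of_ne hle fun heq => ?_, max_singular_stab_lt hQ hn hk hU hUd⟩
  obtain ⟨u, hu, huW⟩ : ∃ u ∈ U, u ∉ W := SetLike.not_le_iff_exists.1 fun h => by
    have := Submodule.finrank_mono h
    omega
  obtain ⟨w, hw, hw0⟩ := Submodule.exists_mem_ne_zero_of_ne_bot (p := W) fun h => by
    rw [h, finrank_bot] at hdim
    omega
  obtain ⟨a, ha, hwa⟩ := exists_qperp_ne hQ (W := Submodule.span F {u}) (z := w) fun h => by
    obtain ⟨c, rfl⟩ := Submodule.mem_span_singleton.1 h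
    rcases eq_or_ne c 0 with rfl | hc
    · exact hw0 (zero_smul F u)
    · exact huW ((W.smul_mem_iff hc).1 hw)
  have hua : pol Q u a = 0 := by rw [pcomm]; exact ha u (Submodule.mem_span_singleton_self u)
  obtain ⟨g, hgΩ, hg⟩ := ein_omega hQ hn (a := a) (hU u hu) hua
  have hgmem : g ∈ subspaceStabilizer U ⊓ omegaGL Q := by
    refine ⟨mem_stab_of_maps fun x hx => ?_, hgΩ⟩
    rw [hg, pol_zero_of_singular hQ hU hx hu, zero_smul, mul_zero, zero_smul, add_zero, sub_zero]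
    exact U.sub_mem hx (U.smul_mem _ hu)
  rw [← heq] at hgmem
  have h1 := (hgmem.1 w).1 hw
  change (g : Matrix ι ι F) *ᵥ w ∈ W at h1
  rw [hg, pol_zero_of_singular hQ hU (hWU hw) hu, zero_smul, mul_zero, zero_smul, add_zero, sub_zero, hwa, one_smul] at h1
  exact huW (by simpa using W.sub_mem hw h1)

end CfsgLib.Perm.Trans.Quad
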