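import Cfsg.Agent.Lib.Perm.Trans.Subf

/-!
# Maps preserving the rational lines
-/

set_option autoImplicit false
set_option linter.all false

namespace CfsgLib.Perm.Trans.Subf

open scoped Matrix
open Matrix Cfsg.Geo CfsgLib.Perm.Asch CfsgLib.Perm.Trans

variable {ι : Type} [Fintype ι] [DecidableEq ι] {F : Type*} [Field F]
variable (F₀ : Subfield F) (P : GL ι F)

theorem inv_em (a : ι → F₀) (i : ι) : (((P⁻¹ : GL ι F) : Matrix ι ι F) *ᵥ em F₀ P a) i = (a i : F) := by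
  rw [em, gl_inv_mulVec]

/-- the scalar extension of a functional on the rational vectors -/
def extFun (φ : ι → F₀) : (ι → F) →ₗ[F] F where
  toFun x := ∑ i, (φ i : F) * (((P⁻¹ : GL ι F) : Matrix ι ι F) *ᵥ x) i
  map_add' x y := by simp [mulVec_add, mul_add, Finset.sum_add_distrib]
  map_smul' c x := by simp [mulVec_smul, Finset.mul_sum, mul_left_comm]

theorem extFun_em (φ a : ι → F₀) : extFun F₀ P φ (em F₀ P a) = ((φ ⬝ᵥ a : F₀) : F) := by
  show ∑ i, (φ i : F) * (((P⁻¹ : GL ι F) : Matrix ι ι F) *ᵥ em F₀ P a) i = _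
  simp only [inv_em, dotProduct]
  push_cast
  rfl

/-- the coefficient of a rational vector in a multiple of a rational vector -/
theorem coeff_ratio {a b : ι → F₀} (hab : a ∉ Submodule.span F₀ ({b} : Set (ι → F₀))) {p q t : F} {d : ι → F₀}
    (h : p • em F₀ P a + q • em F₀ P b = t • em F₀ P d) : ∃ s : F₀, p = t * (s : F) := by
  obtain ⟨φ, hφa, hφ⟩ := exists_dual _ hab
  refine ⟨φ ⬝ᵥ d, ?_⟩
  have h1 := congrArg (extFun F₀ P φ) h
  simp only [map_add, map_smul, extFun_em, hφa, hφ b (Submodule.mem_span_singleton_self b), smul_eq_mul] at h1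
  push_cast at h1
  linear_combination h1

/-- a map sending each rational vector to a multiple of a rational vector is in the subfield group -/
theorem mem_subfieldSubgroup_of_lines {g : GL ι F}
    (h : ∀ a : ι → F₀, ∃ (t : F) (b : ι → F₀), (g : Matrix ι ι F) *ᵥ em F₀ P a = t • em F₀ P b) :
    g ∈ subfieldSubgroup F₀ P := by
  rcases isEmpty_or_nonempty ι with he | ⟨⟨i₀⟩⟩
  · exact mem_subfieldSubgroup_of_image F₀ P one_ne_zero fun i => (IsEmpty.false i).elim
  choose t b htb using h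
  obtain ⟨e, he⟩ : ∃ e : ι → (ι → F₀), e = fun i => Pi.single i 1 := ⟨_, rfl⟩
  have hei : ∀ i, e i ≠ 0 := fun i hc => one_ne_zero (α := F₀) (by simpa [he] using congrFun hc i)
  have hne : ∀ a, a ≠ 0 → t a ≠ 0 ∧ b a ≠ 0 := fun a ha => by
    refine ⟨fun hc => ?_, fun hc => ?_⟩ <;>
      refine em_ne_zero F₀ P ha ((gl_mulVec_eq_zero (g := g)).1 ?_) <;> rw [htb, hc]
    · rw [zero_smul]
    · rw [em_zero, smul_zero]
  refine mem_subfieldSubgroup_of_image F₀ P (hne _ (hei i₀)).1 (c := t (e i₀)) fun i => ?_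
  rcases eq_or_ne i i₀ with rfl | hii
  · exact ⟨b (e i), by have := htb (e i); rw [he] at this ⊢; exact this⟩
  obtain ⟨ti, hti⟩ : ∃ x, x = t (e i) := ⟨_, rfl⟩
  obtain ⟨t₀, ht₀⟩ : ∃ x, x = t (e i₀) := ⟨_, rfl⟩
  have hti0 : ti ≠ 0 := hti ▸ (hne _ (hei i)).1
  have ht00 : t₀ ≠ 0 := ht₀ ▸ (hne _ (hei i₀)).1
  have hindep : b (e i) ∉ Submodule.span F₀ ({b (e i₀)} : Set (ι → F₀)) := by
    intro hm
    obtain ⟨s, hs⟩ := Submodule.mem_span_singleton.1 hm
    have h1 : (g : Matrix ι ι F) *ᵥ (em F₀ P (e i) - (ti * (s : F) / t₀) • em F₀ P (e i₀)) = 0 := by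
      rw [mulVec_sub, mulVec_smul, htb, htb, ← hti, ← ht₀, ← hs, em_smul, smul_smul, smul_smul,
        div_mul_cancel₀ _ ht00, sub_self]
    rw [gl_mulVec_eq_zero, sub_eq_zero] at h1
    have h2 := congrArg (fun x => (((P⁻¹ : GL ι F) : Matrix ι ι F) *ᵥ x) i) h1
    simp only [mulVec_smul, Pi.smul_apply, inv_em, he, Pi.single_eq_same, Pi.single_eq_of_ne hii, smul_eq_mul] at h2
    push_cast at h2
    rw [mul_zero] at h2
    exact one_ne_zero h2
  have hindep' : b (e i₀) ∉ Submodule.span F₀ ({b (e i)} : Set (ι → F₀)) := by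
    intro hm
    obtain ⟨s, hs⟩ := Submodule.mem_span_singleton.1 hm
    have hs0 : s ≠ 0 := fun hc => (hne _ (hei i₀)).2 (by rw [← hs, hc, zero_smul])
    exact hindep (Submodule.mem_span_singleton.2 ⟨s⁻¹, by rw [← hs, smul_smul, inv_mul_cancel₀ hs0, one_smul]⟩)
  have h1 : ti • em F₀ P (b (e i)) + t₀ • em F₀ P (b (e i₀)) = t (e i + e i₀) • em F₀ P (b (e i + e i₀)) := by
    rw [← htb, em_add, mulVec_add, htb, htb, ← hti, ← ht₀]
  obtain ⟨p, hp⟩ := coeff_ratio F₀ P hindep h1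
  obtain ⟨q, hq⟩ := coeff_ratio F₀ P hindep' (by rw [add_comm]; exact h1)
  have hq0 : (q : F) ≠ 0 := fun hc => ht00 (by rw [hq, hc, mul_zero])
  refine ⟨(p / q) • b (e i), ?_⟩
  have h3 := htb (e i)
  rw [he] at h3
  rw [h3, em_smul, smul_smul, ← ht₀, hq]
  have h4 : t (Pi.single i 1) = ti := by rw [hti, he]
  have h5 : b (Pi.single i 1) = b (e i) := by rw [he]
  rw [h4, h5, hp]
  congr 1
  push_cast
  field_simp

end CfsgLib.Perm.Trans.Subf
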