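import Cfsg.Agent.Lib.Perm.Trans.QuadPlaneClass
import Cfsg.Agent.Lib.Perm.Trans.QuadSiegel
import Cfsg.Agent.Lib.Perm.Trans.SubfLines

/-!
# Orthogonal groups over a subfield: basics and the case of a large root group
-/

set_option autoImplicit false
set_option linter.all false

namespace CfsgLib.Perm.Trans.Quad

open scoped Matrix
open Matrix Cfsg.Geo CfsgLib.Perm.Asch CfsgLib.Perm.Trans
open CfsgLib.Perm.Trans.Subf (em lift em_add em_neg em_sub em_smul em_sum em_zero em_injective em_ne_zero exists_coords lift_em lift_mem ext_em)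

variable {ι : Type} [Fintype ι] [DecidableEq ι] {F : Type*} [Field F] [Fintype F]

/-- the subfield as a finite type -/
@[reducible] noncomputable def subfieldFin (K : Subfield F) : Fintype K := Fintype.ofFinite K

attribute [local instance] subfieldFin
variable {Q : (ι → F) → F} {F₀ : Subfield F} {P : GL ι F}

local notation "pol" => QuadraticMap.polar

/-- the form on the rational vectors -/
def qr (hrat : ∀ a : ι → F₀, Q (em F₀ P a) ∈ F₀) : (ι → F₀) → F₀ := fun a => ⟨Q (em F₀ P a), hrat a⟩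

variable (hQ : IsNondegenerateQuadraticForm Q) (hrat : ∀ a : ι → F₀, Q (em F₀ P a) ∈ F₀)
include hQ hrat

omit [Fintype F] hQ in
theorem qr_coe (a : ι → F₀) : ((qr hrat a : F₀) : F) = Q (em F₀ P a) := rfl

omit [Fintype F] hQ in
theorem qr_pol (a b : ι → F₀) :
    ((pol (qr hrat) a b : F₀) : F) = pol Q (em F₀ P a) (em F₀ P b) := by
  simp only [QuadraticMap.polar, qr, em_add]
  rfl

omit [Fintype F] hrat in
/-- a vector orthogonal to the rational vectors is zero -/
theorem eq_zero_of_rat_perp {x : ι → F} (h : ∀ b : ι → F₀, pol Q x (em F₀ P b) = 0) : x = 0 := by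
  refine eq_zero_of_perp_top hQ fun y => ?_
  obtain ⟨c, rfl⟩ := exists_coords F₀ P y
  induction (Finset.univ : Finset ι) using Finset.induction_on with
  | empty => rw [Finset.sum_empty]; exact pzero_right hQ x
  | @insert i s hi ih => rw [Finset.sum_insert hi, padd_right hQ, psmul_right hQ, h, ih, mul_zero, add_zero]

omit [Fintype F] in
theorem qr_nd : IsNondegenerateQuadraticForm (qr hrat) where
  smul c v := Subtype.ext (by
    show Q (em F₀ P (c • v)) = _
    rw [em_smul, qsmul hQ]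
    push_cast
    rfl)
  polar_bilinear :=
    { add_left := fun a b v => Subtype.ext (by
        push_cast
        simp only [qr_pol hrat, em_add, padd_left hQ])
      smul_left := fun c a v => Subtype.ext (by
        push_cast
        simp only [qr_pol hrat, em_smul, psmul_left hQ])
      add_right := fun a b v => Subtype.ext (by
        push_cast
        simp only [qr_pol hrat, em_add, padd_right hQ])
      smul_right := fun c a v => Subtype.ext (by
        push_cast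
        simp only [qr_pol hrat, em_smul, psmul_right hQ]) }
  nondegenerate := fun v hv => by
    obtain ⟨b, hb⟩ : ∃ b, pol Q (em F₀ P v) (em F₀ P b) ≠ 0 := by
      by_contra hcon
      push Not at hcon
      exact em_ne_zero F₀ P hv (eq_zero_of_rat_perp hQ hcon)
    have h1 : pol (qr hrat) v b ≠ 0 := fun h => hb (by rw [← qr_pol hrat, h]; rfl)
    exact ⟨⟨b, by rw [pcomm]; exact h1⟩, b, h1⟩

omit [Fintype F] in
theorem qr_zero {a : ι → F₀} (h : qr hrat a = 0) : Q (em F₀ P a) = 0 := by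
  rw [← qr_coe hrat, h]; rfl

omit [Fintype F] in
theorem qr_perp {a b : ι → F₀} (h : pol (qr hrat) a b = 0) : pol Q (em F₀ P a) (em F₀ P b) = 0 := by
  rw [← qr_pol hrat, h]; rfl

omit [Fintype F] in
theorem qr_one {a b : ι → F₀} (h : pol (qr hrat) a b = 1) : pol Q (em F₀ P a) (em F₀ P b) = 1 := by
  rw [← qr_pol hrat, h]; rfl

section Rat

variable (hn : 5 ≤ Fintype.card ι)
include hn

/-- rational Eichler transformations are lifts -/
theorem lift_isE {u a : ι → F₀} (hu : qr hrat u = 0) (hua : pol (qr hrat) u a = 0) {g : GL ι F₀}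
    (hg : IsE (qr hrat) u a g) :
    IsE Q (em F₀ P u) (em F₀ P a) (lift F₀ P g) ∧ lift F₀ P g ∈ subfieldSubgroup F₀ P ⊓ omegaGL Q := by
  obtain ⟨f, hf, hfE⟩ := ein_omega hQ hn (qr_zero hQ hrat hu) (qr_perp hQ hrat hua)
  have heq : lift F₀ P g = f := ext_em F₀ P fun x => by
    rw [lift_em, hg, hfE]
    simp only [em_sub, em_add, em_smul, Subfield.coe_mul, qr_pol hrat, qr_coe hrat]
  exact ⟨heq ▸ hfE, lift_mem F₀ P g, heq ▸ hf⟩

/-- rational root elements lie in the subfield subgroup -/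
theorem rat_E {u a : ι → F₀} (hu : qr hrat u = 0) (hua : pol (qr hrat) u a = 0) :
    EIn Q (subfieldSubgroup F₀ P ⊓ omegaGL Q) (em F₀ P u) (em F₀ P a) := by
  obtain ⟨g, -, hg⟩ := exists_E (qr_nd hQ hrat) hu hua
  obtain ⟨h1, h2⟩ := lift_isE hQ hrat hn hu hua hg
  exact ⟨_, h2, h1⟩

/-- rational singular vectors are conjugate under the subfield subgroup -/
theorem rat_move {z z' : ι → F₀} (hz0 : z ≠ 0) (hz'0 : z' ≠ 0) (hz : qr hrat z = 0) (hz' : qr hrat z' = 0) :
    ∃ s ∈ subfieldSubgroup F₀ P ⊓ omegaGL Q, (s : Matrix ι ι F) *ᵥ em F₀ P z = em F₀ P z' := by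
  obtain ⟨g, hg, hgz⟩ := exists_move (qr_nd hQ hrat) hn hz0 hz'0 hz hz'
  refine ⟨lift F₀ P g, ?_, by rw [lift_em, hgz]⟩
  have hle : eGroup (qr hrat) ≤ (subfieldSubgroup F₀ P ⊓ omegaGL Q).comap (lift F₀ P) :=
    (Subgroup.closure_le _).2 fun x ⟨_, u, a, hu, hua, hxE⟩ => (lift_isE hQ hrat hn hu hua hxE).2
  exact hle hg

end Rat

/-- the root groups at rational points are rational -/
def QTight (hrat : ∀ a : ι → F₀, Q (em F₀ P a) ∈ F₀) (M : Subgroup (GL ι F)) : Prop :=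
  ∀ z : ι → F₀, z ≠ 0 → qr hrat z = 0 → ∀ a : ι → F, pol Q (em F₀ P z) a = 0 → EIn Q M (em F₀ P z) a →
    ∃ (α : ι → F₀) (s : F), a = em F₀ P α + s • em F₀ P z

variable {M : Subgroup (GL ι F)} (hn : 7 ≤ Fintype.card ι) (hM : M ≤ Cfsg.isometryGroup F Q)
  (hHM : subfieldSubgroup F₀ P ⊓ omegaGL Q ≤ M)
include hn hM hHM

/-- a root element yields a multiple of a rational root element -/
theorem root_step {z : ι → F₀} (hz : qr hrat z = 0) {R : Submodule F₀ (ι → F₀)} (hR : NdOn (qr hrat) R)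
    (hRd : 5 ≤ Module.finrank F₀ R) (hRz : ∀ v ∈ R, pol (qr hrat) z v = 0) {y y' : ι → F₀} (hy : y ∈ R)
    (hy' : y' ∈ R) (hQy : qr hrat y = 0) (hQy' : qr hrat y' = 0) (hyy' : pol (qr hrat) y y' = 1) {x : ι → F₀}
    (hx : x ∈ pairPerp (qr_nd hQ hrat) R y y') (hQx : qr hrat x = 0) {a : ι → F}
    (hza : pol Q (em F₀ P z) a = 0) (ha : EIn Q M (em F₀ P z) a) :
    EIn Q M (em F₀ P z) (pol Q a (em F₀ P x) • em F₀ P y) := by
  have hq := qr_nd hQ hrat
  rcases eq_or_ne x 0 with rfl | hx0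
  · rw [em_zero, pzero_right hQ, zero_smul]
    exact ein_zero hQ M (qr_zero hQ hrat hz)
  have hR' := pair_nd hq hy hy' hQy hQy' hyy' hR
  have hd' := pair_finrank hq hy hy' hQy hQy' hyy'
  obtain ⟨x', hx', hQx', hxx'⟩ := exists_qpartner hq hR' hx hx0 hQx
  have hd'' := pair_finrank hq hx hx' hQx hQx' hxx'
  -- two rational vectors off the singular lines, pairing to one
  obtain ⟨c, hc, c₂, hc₂, hcc⟩ : ∃ c ∈ pairPerp hq (pairPerp hq R y y') x x',
      ∃ c₂ ∈ pairPerp hq (pairPerp hq R y y') x x', pol (qr hrat) c c₂ = 1 := by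
    obtain ⟨c, hc, hc0⟩ := Submodule.exists_mem_ne_zero_of_ne_bot (p := pairPerp hq (pairPerp hq R y y') x x')
      fun h => by rw [h, finrank_bot] at hd''; omega
    obtain ⟨c₂, hc₂, hcc⟩ := (pair_nd hq hx hx' hQx hQx' hxx' hR' c hc hc0).2
    exact ⟨c, hc, (pol (qr hrat) c c₂)⁻¹ • c₂, Submodule.smul_mem _ _ hc₂,
      by rw [psmul_right hq, inv_mul_cancel₀ hcc]⟩
  obtain ⟨hcR', hcx, -⟩ := (mem_pairPerp hq).1 hc
  obtain ⟨hc₂R', hc₂x, -⟩ := (mem_pairPerp hq).1 hc₂
  obtain ⟨hcR, hcy, -⟩ := (mem_pairPerp hq).1 hcR'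
  obtain ⟨hc₂R, hc₂y, -⟩ := (mem_pairPerp hq).1 hc₂R'
  obtain ⟨hxR, hxy, -⟩ := (mem_pairPerp hq).1 hx
  have hMH : ∀ {u b : ι → F₀}, qr hrat u = 0 → pol (qr hrat) u b = 0 → pol (qr hrat) z u = 0 →
      pol (qr hrat) z b = 0 → ∀ {v : ι → F}, pol Q (em F₀ P z) v = 0 → EIn Q M (em F₀ P z) v →
      EIn Q M (em F₀ P z) (pol Q v (em F₀ P u) • em F₀ P b -
        (pol Q v (em F₀ P b) + Q (em F₀ P b) * pol Q v (em F₀ P u)) • em F₀ P u) := by
    intro u b hu hub hzu hzb v hzv hv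
    obtain ⟨h, hh, hhE⟩ := rat_E hQ hrat (by omega) hu hub
    have hhz : (h : Matrix ι ι F) *ᵥ em F₀ P z = em F₀ P z := by
      rw [hhE, qr_perp hQ hrat hzu, qr_perp hQ hrat hzb]
      simp
    have h1 := EIn.conj hv (hM (hHM hh)) (hHM hh)
    rw [hhz, hhE] at h1
    have h2 := EIn.add hQ (qr_zero hQ hrat hz) (by
      rw [psub_right hQ, psub_right hQ, padd_right hQ, psmul_right hQ, psmul_right hQ, psmul_right hQ, hzv,
        qr_perp hQ hrat hzb, qr_perp hQ hrat hzu]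
      ring) (by rw [pneg_right hQ, hzv, neg_zero]) h1 (EIn.neg hQ (qr_zero hQ hrat hz) hzv hv)
    convert h2 using 1
    module
  have h1 := hMH hQx (by rw [pcomm]; exact hcx) (hRz x hxR) (hRz c hcR) hza ha
  obtain ⟨β, hβ⟩ : ∃ β, β = pol Q a (em F₀ P c) + Q (em F₀ P c) * pol Q a (em F₀ P x) := ⟨_, rfl⟩
  rw [← hβ] at h1
  have hzw : pol Q (em F₀ P z) (pol Q a (em F₀ P x) • em F₀ P c - β • em F₀ P x) = 0 := by
    rw [psub_right hQ, psmul_right hQ, psmul_right hQ, qr_perp hQ hrat (hRz c hcR), qr_perp hQ hrat (hRz x hxR)]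
    ring
  have h2 := hMH hQy (show pol (qr hrat) y c₂ = 0 by rw [pcomm]; exact hc₂y) (hRz y hy) (hRz c₂ hc₂R) hzw h1
  have h3 := EIn.neg hQ (qr_zero hQ hrat hz) (by
    rw [psub_right hQ, psmul_right hQ, psmul_right hQ, qr_perp hQ hrat (hRz c₂ hc₂R), qr_perp hQ hrat (hRz y hy)]
    ring) h2
  convert h3 using 1
  simp only [psub_left hQ, psmul_left hQ, qr_one hQ hrat hcc, pcomm (em F₀ P x) (em F₀ P c₂),
    qr_perp hQ hrat hc₂x, qr_perp hQ hrat hcy, qr_perp hQ hrat hxy]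
  module

/-- a root group with an irrational parameter spreads to every rational root -/
theorem exists_big_parameter (hT : ¬ QTight hrat M) :
    ∃ μ : F, μ ∉ F₀ ∧ ∀ z w : ι → F₀, qr hrat z = 0 → qr hrat w = 0 → pol (qr hrat) z w = 0 →
      EIn Q M (em F₀ P z) (μ • em F₀ P w) := by
  have hq := qr_nd hQ hrat
  simp only [QTight, not_forall] at hT
  obtain ⟨z, hz0, hz, a, hza, ha, hbad⟩ := hT
  obtain ⟨f, -, hQf, hzf⟩ := exists_qpartner hq (ndOn_top hq) Submodule.mem_top hz0 hz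
  obtain ⟨R, hR⟩ : ∃ R, R = pairPerp hq ⊤ z f := ⟨_, rfl⟩
  have hRnd : NdOn (qr hrat) R := hR ▸ pair_nd hq Submodule.mem_top Submodule.mem_top hz hQf hzf (ndOn_top hq)
  have hRd := pair_finrank hq (P := ⊤) Submodule.mem_top Submodule.mem_top hz hQf hzf
  rw [← hR, finrank_top, Module.finrank_fintype_fun_eq_card] at hRd
  have hRz : ∀ v ∈ R, pol (qr hrat) z v = 0 := fun v hv => by
    rw [hR] at hv
    rw [pcomm]
    exact ((mem_pairPerp hq).1 hv).2.1
  have hRf : ∀ v ∈ R, pol (qr hrat) v f = 0 := fun v hv => by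
    rw [hR] at hv
    exact ((mem_pairPerp hq).1 hv).2.2
  -- an irrational pairing
  obtain ⟨x, hx, hx0, hQx, hax⟩ : ∃ x ∈ R, x ≠ 0 ∧ qr hrat x = 0 ∧ pol Q a (em F₀ P x) ∉ F₀ := by
    by_contra hcon
    push Not at hcon
    let S : Submodule F₀ (ι → F₀) :=
      { carrier := {b | pol Q a (em F₀ P b) ∈ F₀}
        zero_mem' := by show pol Q a (em F₀ P 0) ∈ F₀; rw [em_zero, pzero_right hQ]; exact F₀.zero_mem
        add_mem' := fun {b b'} hb hb' => by
          show pol Q a (em F₀ P (b + b')) ∈ F₀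
          rw [em_add, padd_right hQ]; exact F₀.add_mem hb hb'
        smul_mem' := fun c b hb => by
          show pol Q a (em F₀ P (c • b)) ∈ F₀
          rw [em_smul, psmul_right hQ]; exact F₀.mul_mem c.2 hb }
    have hle : R ≤ S := le_of_singular_mem hq hRnd (by omega) fun b hb hQb => by
      rcases eq_or_ne b 0 with rfl | hb0
      · exact S.zero_mem
      · exact hcon b hb hb0 hQb
    obtain ⟨a', ha'⟩ : ∃ a', a' = a - pol Q a (em F₀ P f) • em F₀ P z := ⟨_, rfl⟩
    have haz : pol Q a' (em F₀ P z) = 0 := by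
      rw [ha', psub_left hQ, psmul_left hQ, pself hQ, qr_zero hQ hrat hz, pcomm a, hza]; ring
    have haf : pol Q a' (em F₀ P f) = 0 := by
      rw [ha', psub_left hQ, psmul_left hQ, qr_one hQ hrat hzf]; ring
    have hall : ∀ b, pol Q a' (em F₀ P b) ∈ F₀ := by
      intro b
      obtain ⟨p, hp⟩ : ∃ p, p = b - pol (qr hrat) b f • z - pol (qr hrat) b z • f := ⟨_, rfl⟩
      have hpR : p ∈ R := hp ▸ hR ▸ pair_proj hq Submodule.mem_top Submodule.mem_top hz hQf hzf Submodule.mem_top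
      have hb : b = p + pol (qr hrat) b f • z + pol (qr hrat) b z • f := by rw [hp]; abel
      rw [hb, em_add, em_add, em_smul, em_smul, padd_right hQ, padd_right hQ, psmul_right hQ, psmul_right hQ, haz,
        haf, mul_zero, mul_zero, add_zero, add_zero, ha', psub_left hQ, psmul_left hQ, qr_perp hQ hrat (hRz p hpR),
        mul_zero, sub_zero]
      exact hle hpR
    obtain ⟨α, hα⟩ := exists_prep hq (fun i => (⟨_, hall (Pi.single i 1)⟩ : F₀))
    have hαi : ∀ i, pol Q (em F₀ P α) (em F₀ P (Pi.single i 1)) = pol Q a' (em F₀ P (Pi.single i 1)) := fun i => by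
      rw [pcomm, ← qr_pol hrat, hα, dotProduct_single, mul_one]
    refine hbad ⟨α, pol Q a (em F₀ P f), ?_⟩
    have hsub : a' - em F₀ P α = 0 := eq_zero_of_perp_top hQ fun y => by
      obtain ⟨c, rfl⟩ := exists_coords F₀ P y
      induction (Finset.univ : Finset ι) using Finset.induction_on with
      | empty => rw [Finset.sum_empty]; exact pzero_right hQ _
      | @insert i s hi ih =>
        rw [Finset.sum_insert hi, padd_right hQ, psmul_right hQ, psub_left hQ, hαi, sub_self, ih, mul_zero, add_zero]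
    rw [← sub_eq_zero.1 hsub, ha']
    abel
  obtain ⟨μ, hμ⟩ : ∃ μ, μ = pol Q a (em F₀ P x) := ⟨_, rfl⟩
  rw [← hμ] at hax
  obtain ⟨x', hx', hQx', hxx'⟩ := exists_qpartner hq hRnd hx hx0 hQx
  have hR0 := pair_nd hq hx hx' hQx hQx' hxx' hRnd
  have hR0d := pair_finrank hq hx hx' hQx hQx' hxx'
  obtain ⟨y₀, hy₀, hy₀0, hQy₀⟩ := exists_qsingular hq hR0 (by omega)
  obtain ⟨y₀', hy₀', hQy₀', hyy₀⟩ := exists_qpartner hq hR0 hy₀ hy₀0 hQy₀
  obtain ⟨hy₀R, hy₀x, -⟩ := (mem_pairPerp hq).1 hy₀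
  obtain ⟨hy₀'R, hy₀'x, -⟩ := (mem_pairPerp hq).1 hy₀'
  have hstep := fun {y y' : ι → F₀} (hy : y ∈ R) (hy' : y' ∈ R) (hQy : qr hrat y = 0) (hQy' : qr hrat y' = 0)
    (hyy' : pol (qr hrat) y y' = 1) {x : ι → F₀} (hx : x ∈ pairPerp hq R y y') (hQx : qr hrat x = 0) {a : ι → F}
    (hza : pol Q (em F₀ P z) a = 0) (ha : EIn Q M (em F₀ P z) a) =>
    root_step hQ hrat hn hM hHM hz hRnd (by omega) hRz hy hy' hQy hQy' hyy' hx hQx hza ha
  have hbase : EIn Q M (em F₀ P z) (μ • em F₀ P y₀) := hμ ▸ hstep hy₀R hy₀'R hQy₀ hQy₀' hyy₀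
    ((mem_pairPerp hq).2 ⟨hx, by rw [pcomm]; exact hy₀x, by rw [pcomm]; exact hy₀'x⟩) hQx hza ha
  -- all singular vectors of `R`
  have hRall : ∀ y ∈ R, y ≠ 0 → qr hrat y = 0 → EIn Q M (em F₀ P z) (μ • em F₀ P y) := by
    intro y hy hy0 hQy
    obtain ⟨y', hy', hQy', hyy'⟩ := exists_qpartner hq hRnd hy hy0 hQy
    have hR' := pair_nd hq hy hy' hQy hQy' hyy' hRnd
    have hR'd := pair_finrank hq hy hy' hQy hQy' hyy'
    have hgo : ∀ {w : ι → F₀}, pol (qr hrat) z w = 0 → EIn Q M (em F₀ P z) (μ • em F₀ P w) →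
        ∀ {v}, v ∈ pairPerp hq R y y' → qr hrat v = 0 → pol (qr hrat) w v = 1 →
        EIn Q M (em F₀ P z) (μ • em F₀ P y) := by
      intro w hzw hw v hv hQv hwv
      have h1 := hstep hy hy' hQy hQy' hyy' hv hQv (by rw [psmul_right hQ, qr_perp hQ hrat hzw, mul_zero]) hw
      rwa [psmul_left hQ, qr_one hQ hrat hwv, mul_one] at h1
    by_cases hsee : ∃ v ∈ pairPerp hq R y y', qr hrat v = 0 ∧ pol (qr hrat) y₀ v ≠ 0
    · obtain ⟨v, hv, hQv, hyv⟩ := hsee
      exact hgo (hRz y₀ hy₀R) hbase (v := (pol (qr hrat) y₀ v)⁻¹ • v) (Submodule.smul_mem _ _ hv)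
        (by rw [qsmul hq, hQv, mul_zero]) (by rw [psmul_right hq, inv_mul_cancel₀ hyv])
    push Not at hsee
    have hperp : ∀ v ∈ pairPerp hq R y y', pol (qr hrat) y₀ v = 0 := by
      intro v hv
      have h1 : pairPerp hq R y y' ≤ LinearMap.ker (pfl hq y₀) := le_of_singular_mem hq hR' (by omega)
        fun b hb hQb => show pol (qr hrat) b y₀ = 0 by rw [pcomm]; exact hsee b hb hQb
      rw [pcomm]
      exact h1 hv
    obtain ⟨y₂, hy₂, hy₂0, hQy₂⟩ := exists_qsingular hq hR' (by omega)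
    obtain ⟨y₂', hy₂', hQy₂', hyy₂⟩ := exists_qpartner hq hR' hy₂ hy₂0 hQy₂
    obtain ⟨hy₂R, -, -⟩ := (mem_pairPerp hq).1 hy₂
    obtain ⟨hy₂'R, -, -⟩ := (mem_pairPerp hq).1 hy₂'
    have hmem : y₀ ∈ pairPerp hq R y₂ y₂' := (mem_pairPerp hq).2 ⟨hy₀R, hperp y₂ hy₂, hperp y₂' hy₂'⟩
    obtain ⟨v, hv, hQv, hyv⟩ := exists_qpartner hq (pair_nd hq hy₂R hy₂'R hQy₂ hQy₂' hyy₂ hRnd) hmem hy₀0 hQy₀
    have h1 := hstep hy₂R hy₂'R hQy₂ hQy₂' hyy₂ hv hQv
      (by rw [psmul_right hQ, qr_perp hQ hrat (hRz y₀ hy₀R), mul_zero]) hbase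
    rw [psmul_left hQ, qr_one hQ hrat hyv, mul_one] at h1
    exact hgo (hRz y₂ hy₂R) h1 hy₂' hQy₂' hyy₂
  refine ⟨μ, hax, fun z' w hz' hw hz'w => ?_⟩
  rcases eq_or_ne z' 0 with rfl | hz'0
  · refine ⟨1, one_mem _, fun v => ?_⟩
    simp [em_zero, pzero_right hQ]
  obtain ⟨s, hs, hsz⟩ := rat_move hQ hrat (by omega) hz0 hz'0 hz hz'
  obtain ⟨c, hc⟩ := Subf.subfield_image F₀ P hs.1
  -- the pull back of `w`
  obtain ⟨bz, hbz⟩ := hc z
  have hcF : c ∈ F₀ := by
    rw [hsz] at hbz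
    obtain ⟨φ, hφ, -⟩ := exists_dual (⊥ : Submodule F₀ (ι → F₀)) (fun hm => hz'0 ((Submodule.mem_bot F₀).1 hm))
    have h1 := congrArg (Subf.extFun F₀ P φ) hbz
    rw [map_smul, Subf.extFun_em, Subf.extFun_em, hφ, smul_eq_mul] at h1
    push_cast at h1
    rw [eq_inv_of_mul_eq_one_left h1.symm]
    exact F₀.inv_mem (φ ⬝ᵥ bz).2
  obtain ⟨w₀, hw₀⟩ : ∃ w₀ : ι → F₀, (s : Matrix ι ι F) *ᵥ em F₀ P w₀ = em F₀ P w := by
    choose b hb using hc
    have hp : ∀ v, (s : Matrix ι ι F) *ᵥ em F₀ P v = em F₀ P ((⟨c, hcF⟩ : F₀) • b v) := fun v => by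
      rw [hb, em_smul]
    have hinj : Function.Injective fun v => (⟨c, hcF⟩ : F₀) • b v := fun v v' hvv => by
      have := congrArg (fun y => ((s⁻¹ : GL ι F) : Matrix ι ι F) *ᵥ y)
        ((hp v).trans ((congrArg (em F₀ P) hvv).trans (hp v').symm))
      simp only [gl_inv_mulVec] at this
      exact em_injective F₀ P this
    obtain ⟨w₀, hw₀⟩ := (Finite.injective_iff_surjective.1 hinj) w
    exact ⟨w₀, by rw [hp]; exact congrArg (em F₀ P) hw₀⟩
  have hsi := hM (hHM hs)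
  have hQw₀ : qr hrat w₀ = 0 := Subtype.ext (by
    rw [qr_coe hrat, ← mem_iso.1 hsi, hw₀, qr_zero hQ hrat hw]; rfl)
  have hzw₀ : pol (qr hrat) z w₀ = 0 := Subtype.ext (by
    rw [qr_pol hrat, ← iso_pol hsi, hw₀, hsz, qr_perp hQ hrat hz'w]; rfl)
  obtain ⟨p, hp⟩ : ∃ p, p = w₀ - pol (qr hrat) w₀ f • z := ⟨_, rfl⟩
  have hpR : p ∈ R := by
    rw [hR]
    refine (mem_pairPerp hq).2 ⟨Submodule.mem_top, ?_, ?_⟩
    · rw [hp, psub_left hq, psmul_left hq, pself hq, hz, pcomm w₀ z, hzw₀]; ring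
    · rw [hp, psub_left hq, psmul_left hq, hzf]; ring
  have hQp : qr hrat p = 0 := by
    rw [hp, qsub hq, qsmul hq, hQw₀, hz, psmul_right hq, pcomm w₀ z, hzw₀]; ring
  have hEp : EIn Q M (em F₀ P z) (μ • em F₀ P p) := by
    rcases eq_or_ne p 0 with h0 | h0
    · rw [h0, em_zero, smul_zero]; exact ein_zero hQ M (qr_zero hQ hrat hz)
    · exact hRall p hpR h0 hQp
  have hzz := qr_zero hQ hrat hz
  have hzp : pol Q (em F₀ P z) (μ • em F₀ P p) = 0 := by
    rw [psmul_right hQ, qr_perp hQ hrat (hRz p hpR), mul_zero]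
  have hw₀E : EIn Q M (em F₀ P z) (μ • em F₀ P w₀) := by
    have h1 := EIn.add hQ hzz hzp (by rw [psmul_right hQ, pself hQ, hzz]; ring) hEp
      (EIn.smul_self hQ M hzz (μ * ((pol (qr hrat) w₀ f : F₀) : F)))
    convert h1 using 1
    rw [hp, em_sub, em_smul]
    module
  have h1 := EIn.conj hw₀E hsi (hHM hs)
  rwa [mulVec_smul, hsz, hw₀] at h1

/-- a large root group gives all of `Ω` -/
theorem omega_le_of_not_tight {r : ℕ} (hr : r.Prime) (hcard : Fintype.card F = Nat.card F₀ ^ r)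
    (hT : ¬ QTight hrat M) : omegaGL Q ≤ M := by
  have hq := qr_nd hQ hrat
  obtain ⟨μ, hμ, hall⟩ := exists_big_parameter hQ hrat hn hM hHM hT
  let C : Set F := {l | ∀ z w : ι → F₀, qr hrat z = 0 → qr hrat w = 0 → pol (qr hrat) z w = 0 →
    EIn Q M (em F₀ P z) (l • em F₀ P w)}
  have hCall : ∀ l, l ∈ C := by
    refine Subf.eq_univ_of_closed hr hcard (C := C) (fun a ha b hb z w hz hw hzw => ?_)
      (fun a ha b hb z w hz hw hzw => ?_) (fun a z w hz hw hzw => ?_) (s := μ) hall hμ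
    · rw [add_smul]
      exact EIn.add hQ (qr_zero hQ hrat hz) (by rw [psmul_right hQ, qr_perp hQ hrat hzw, mul_zero])
        (by rw [psmul_right hQ, qr_perp hQ hrat hzw, mul_zero]) (ha z w hz hw hzw) (hb z w hz hw hzw)
    · have hzz := qr_zero hQ hrat hz
      rcases eq_or_ne z 0 with rfl | hz0
      · refine ⟨1, one_mem _, fun v => ?_⟩
        simp [em_zero, pzero_right hQ]
      -- a hyperbolic pair orthogonal to both
      obtain ⟨K, hK⟩ : ∃ K, K = (⊤ : Submodule F₀ (ι → F₀)) ⊓ LinearMap.ker (pfl hq z) ⊓ LinearMap.ker (pfl hq w) :=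
        ⟨_, rfl⟩
      have hKd1 := finrank_inf_pfl hq (⊤ : Submodule F₀ (ι → F₀)) z
      have hKd2 := finrank_inf_pfl hq ((⊤ : Submodule F₀ (ι → F₀)) ⊓ LinearMap.ker (pfl hq z)) w
      rw [← hK] at hKd2
      rw [finrank_top, Module.finrank_fintype_fun_eq_card] at hKd1
      obtain ⟨u, hu, hQu, f₂, hf₂, hQf₂, huf⟩ : ∃ u ∈ K, qr hrat u = 0 ∧ ∃ f ∈ K, qr hrat f = 0 ∧
          pol (qr hrat) u f = 1 := by
        obtain ⟨u, hu, hQu, v, hv, huv⟩ : ∃ u ∈ K, qr hrat u = 0 ∧ ∃ v ∈ K, pol (qr hrat) u v ≠ 0 := by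
          by_contra hcon
          push Not at hcon
          obtain ⟨T, hT⟩ := Submodule.exists_isCompl (K ⊓ qperp hq K)
          have h1 := Submodule.finrank_sup_add_finrank_inf_eq (K ⊓ qperp hq K) (K ⊓ T)
          have h2 : K ≤ (K ⊓ qperp hq K) ⊔ (K ⊓ T) := by
            rw [inf_comm K T, ← sup_inf_assoc_of_le _ (inf_le_left : K ⊓ qperp hq K ≤ K), hT.sup_eq_top, top_inf_eq]
          have h3 := Submodule.finrank_mono h2
          have h4 := Submodule.finrank_mono (inf_le_right : K ⊓ qperp hq K ≤ qperp hq K)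
          have h5 := finrank_qperp_add hq K
          obtain ⟨u, hu, hu0, hQu⟩ := exists_singular_mem hq (K ⊓ T) (by omega)
          refine hu0 ((Submodule.mem_bot F₀).1 (hT.disjoint.le_bot ⟨⟨hu.1, ?_⟩, hu.2⟩))
          exact fun v hv => hcon u hu.1 hQu v hv
        refine ⟨u, hu, hQu, _, K.sub_mem (K.smul_mem (pol (qr hrat) u v)⁻¹ hv)
          (K.smul_mem ((pol (qr hrat) u v)⁻¹ ^ 2 * qr hrat v) hu), ?_, ?_⟩
        · rw [qsub hq, qsmul hq, qsmul hq, hQu, psmul_left hq, psmul_right hq, pcomm v u]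
          field_simp
          ring
        · rw [psub_right hq, psmul_right hq, psmul_right hq, pself hq, hQu]
          field_simp
          ring
      rw [hK] at hu hf₂
      have huz : pol (qr hrat) u z = 0 := hu.1.2
      have huw : pol (qr hrat) u w = 0 := hu.2
      have hfz : pol (qr hrat) f₂ z = 0 := hf₂.1.2
      have hfw : pol (qr hrat) f₂ w = 0 := hf₂.2
      obtain ⟨k, hk, hkE⟩ := hb f₂ w hQf₂ hw hfw
      have hkz : (k : Matrix ι ι F) *ᵥ em F₀ P z = em F₀ P z := by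
        rw [hkE, qr_perp hQ hrat (show pol (qr hrat) z f₂ = 0 by rw [pcomm]; exact hfz), psmul_right hQ,
          qr_perp hQ hrat hzw]
        simp
      have hku : (k : Matrix ι ι F) *ᵥ (a • em F₀ P u) = a • em F₀ P u + (a * b) • em F₀ P w := by
        rw [hkE, psmul_left hQ, psmul_left hQ, qr_one hQ hrat huf, psmul_right hQ, qr_perp hQ hrat huw, qsmul hQ,
          qr_zero hQ hrat hw]
        module
      have hzu : pol (qr hrat) z u = 0 := by rw [pcomm]; exact huz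
      have h0 := ha z u hz hQu hzu
      have h1 := EIn.conj h0 (hM hk) hk
      rw [hkz, hku] at h1
      have h2 := EIn.add hQ hzz (by
        rw [padd_right hQ, psmul_right hQ, psmul_right hQ, qr_perp hQ hrat hzu, qr_perp hQ hrat hzw]; ring)
        (by rw [pneg_right hQ, psmul_right hQ, qr_perp hQ hrat hzu]; ring) h1
        (EIn.neg hQ hzz (by rw [psmul_right hQ, qr_perp hQ hrat hzu, mul_zero]) h0)
      convert h2 using 1
      abel
    · obtain ⟨g, hg, hgE⟩ := rat_E hQ hrat (by omega) hz (show pol (qr hrat) z (a • w) = 0 by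
        rw [psmul_right hq, hzw, mul_zero])
      rw [em_smul] at hgE
      exact ⟨g, hHM hg, hgE⟩
  -- every rational singular vector is a centre
  have hcentre : ∀ z, z ≠ 0 → qr hrat z = 0 → em F₀ P z ∈ eCentres Q M := by
    intro z hz0 hz
    have hzz := qr_zero hQ hrat hz
    obtain ⟨f, -, hQf, hzf⟩ := exists_qpartner hq (ndOn_top hq) Submodule.mem_top hz0 hz
    have hRd := pair_finrank hq (P := ⊤) Submodule.mem_top Submodule.mem_top hz hQf hzf
    rw [finrank_top, Module.finrank_fintype_fun_eq_card] at hRd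
    let S : Submodule F₀ (ι → F₀) :=
      { carrier := {b | pol (qr hrat) z b = 0 ∧ ∀ l : F, EIn Q M (em F₀ P z) (l • em F₀ P b)}
        zero_mem' := ⟨pzero_right hq z, fun l => by rw [em_zero, smul_zero]; exact ein_zero hQ M hzz⟩
        add_mem' := fun {b b'} hb hb' => ⟨by rw [padd_right hq, hb.1, hb'.1, add_zero], fun l => by
          rw [em_add, smul_add]
          exact EIn.add hQ hzz (by rw [psmul_right hQ, qr_perp hQ hrat hb.1, mul_zero])
            (by rw [psmul_right hQ, qr_perp hQ hrat hb'.1, mul_zero]) (hb.2 l) (hb'.2 l)⟩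
        smul_mem' := fun c b hb => ⟨by rw [psmul_right hq, hb.1, mul_zero], fun l => by
          rw [em_smul, smul_smul]; exact hb.2 _⟩ }
    have hle : pairPerp hq ⊤ z f ≤ S := le_of_singular_mem hq
      (pair_nd hq Submodule.mem_top Submodule.mem_top hz hQf hzf (ndOn_top hq)) (by omega) fun b hb hQb => by
        have hzb : pol (qr hrat) z b = 0 := by rw [pcomm]; exact ((mem_pairPerp hq).1 hb).2.1
        exact ⟨hzb, fun l => hCall l z b hz hQb hzb⟩
    have hzS : z ∈ S := ⟨by rw [pself hq, hz, mul_zero], fun l => EIn.smul_self hQ M hzz l⟩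
    refine ⟨hzz, fun a hza => ?_⟩
    obtain ⟨c, rfl⟩ := exists_coords F₀ P a
    obtain ⟨e, he⟩ : ∃ e : ι → ι → F₀, e = fun i => Pi.single i 1 - pol (qr hrat) (Pi.single i 1) z • f := ⟨_, rfl⟩
    have heS : ∀ i, e i ∈ S := fun i => by
      have h1 := S.add_mem (hle (pair_proj hq Submodule.mem_top Submodule.mem_top hz hQf hzf
        (x := Pi.single i 1) Submodule.mem_top)) (S.smul_mem (pol (qr hrat) (Pi.single i 1) f) hzS)
      rw [he]
      convert h1 using 1
      abel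
    have hsum : ∀ s : Finset ι,
        ∑ i ∈ s, c i • em F₀ P (Pi.single i 1) = (∑ i ∈ s, c i • em F₀ P (e i)) +
          pol Q (em F₀ P z) (∑ i ∈ s, c i • em F₀ P (Pi.single i 1)) • em F₀ P f := by
      intro s
      induction s using Finset.induction_on with
      | empty => rw [Finset.sum_empty, Finset.sum_empty, pzero_right hQ, zero_smul, add_zero]
      | @insert i s hi ih =>
        rw [Finset.sum_insert hi, Finset.sum_insert hi]
        conv_lhs => rw [ih]
        rw [padd_right hQ, psmul_right hQ, he, em_sub, em_smul, qr_pol hrat,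
          pcomm (em F₀ P (Pi.single i 1)) (em F₀ P z)]
        module
    rw [hsum, hza, zero_smul, add_zero]
    clear hza hsum
    suffices h : ∀ s : Finset ι, pol Q (em F₀ P z) (∑ i ∈ s, c i • em F₀ P (e i)) = 0 ∧
        EIn Q M (em F₀ P z) (∑ i ∈ s, c i • em F₀ P (e i)) from (h _).2
    intro s
    induction s using Finset.induction_on with
    | empty => rw [Finset.sum_empty]; exact ⟨pzero_right hQ _, ein_zero hQ M hzz⟩
    | @insert i s hi ih =>
      have h1 : pol Q (em F₀ P z) (c i • em F₀ P (e i)) = 0 := by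
        rw [psmul_right hQ, qr_perp hQ hrat (heS i).1, mul_zero]
      rw [Finset.sum_insert hi]
      exact ⟨by rw [padd_right hQ, h1, ih.1, add_zero], EIn.add hQ hzz h1 ih.1 ((heS i).2 (c i)) ih.2⟩
  obtain ⟨z, -, hz0, hz⟩ := exists_qsingular hq (ndOn_top hq)
    (by rw [finrank_top, Module.finrank_fintype_fun_eq_card]; omega)
  obtain ⟨f, -, hQf, hzf⟩ := exists_qpartner hq (ndOn_top hq) Submodule.mem_top hz0 hz
  have hf0 : f ≠ 0 := fun h => by rw [h, pzero_right hq] at hzf; exact zero_ne_one hzf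
  exact omega_le_of_eCentres hQ (by omega) fun u hu => eCentres_all hQ hM (hcentre z hz0 hz) (hcentre f hf0 hQf)
    (by rw [qr_one hQ hrat hzf]; exact one_ne_zero) hu

end CfsgLib.Perm.Trans.Quad
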