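import Mathlib
import Cfsg.Agent.Lib.Perm.Trans.QuadFrames

/-!
# The small members whose stabilisers preserve a finer configuration
-/

set_option autoImplicit false
set_option linter.all false

namespace CfsgLib.Perm.Trans.Quad

open scoped Matrix
open Matrix Cfsg.Geo CfsgLib.Perm.Asch CfsgLib.Perm.Trans

variable {ι : Type} [Fintype ι] [DecidableEq ι] {F : Type*} [Field F] [Fintype F]
variable {Q : (ι → F) → F}

local notation "pol" => QuadraticMap.polar

omit [DecidableEq ι] [Fintype ι] in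
theorem three_cases (hq : Fintype.card F = 3) (x : F) : x = 0 ∨ x = 1 ∨ x = -1 := by
  rcases eq_or_ne x 0 with h | h
  · exact Or.inl h
  · have := FiniteField.pow_card_sub_one_eq_one x h
    rw [hq] at this
    refine Or.inr ?_
    have h' : (x - 1) * (x + 1) = 0 := by linear_combination this
    rcases mul_eq_zero.1 h' with h1 | h1
    · exact Or.inl (sub_eq_zero.1 h1)
    · exact Or.inr (eq_neg_of_add_eq_zero_left h1)

omit [DecidableEq ι] [Fintype ι] in
theorem two_ne_of_odd_card {n : ℕ} (hn : Fintype.card F = 2 * n + 1) : (2 : F) ≠ 0 := fun h => by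
  have := FiniteField.cast_card_eq_zero F
  rw [hn] at this
  push_cast at this
  rw [h, zero_mul, zero_add] at this
  exact one_ne_zero this

variable (hQ : IsNondegenerateQuadraticForm Q)
include hQ

theorem hyperbolic_coords {P : Submodule F (ι → F)} (hP : Module.finrank F P = 2) {e f : ι → F} (he : e ∈ P) (hf : f ∈ P)
    (hQe : Q e = 0) (hQf : Q f = 0) (hef : pol Q e f = 1) {x : ι → F} (hx : x ∈ P) :
    x = pol Q x f • e + pol Q x e • f := by
  have hee : pol Q e e = 0 := by rw [pself hQ, hQe, mul_zero]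
  have hff : pol Q f f = 0 := by rw [pself hQ, hQf, mul_zero]
  have := frame_coords hQ hP ![e, f] ![f, e] (fun i => by fin_cases i <;> assumption)
    (fun i j => by fin_cases i <;> fin_cases j <;> simp [hef, hee, hff, pcomm f e]) hx
  rwa [Fin.sum_univ_two] at this

variable {t k : ℕ} {D : Fin t → Submodule F (ι → F)} (hD : IsOrthogonalMDecomposition Q k D)
include hD

theorem exists_transport_line (V : Set F) {i : Fin t} {a : ι → F} (ha : a ∈ D i)
    (hS : ∀ x ∈ D i, Q x ∈ V → x ∈ Submodule.span F {a} ∨ pol Q x a = 0) :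
    ∃ b : Fin t → ι → F, (∀ j, b j ∈ D j) ∧ (∀ j, Q (b j) = Q a) ∧
      ∀ j, ∀ x ∈ D j, Q x ∈ V → x ∈ Submodule.span F {b j} ∨ pol Q x (b j) = 0 := by
  choose b h1 h2 h3 using transport_line hQ hD i V ha hS
  exact ⟨b, h1, h2, h3⟩

/-- planes with a singular vector over the fields with three and five elements -/
theorem plus_lines_not_maximal (hn : 10 ≤ Fintype.card ι) (hk : k = 2) (hq : Fintype.card F = 3 ∨ Fintype.card F = 5)
    {i : Fin t} {e : ι → F} (he : e ∈ D i) (he0 : e ≠ 0) (hQe : Q e = 0) :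
    ∃ K : Subgroup (GL ι F), decompositionStabilizer D ⊓ omegaGL Q < K ∧ K < omegaGL Q := by
  have h2 : (2 : F) ≠ 0 := by
    rcases hq with h | h
    · exact two_ne_of_odd_card (n := 1) h
    · exact two_ne_of_odd_card (n := 2) h
  obtain ⟨f, hf, hQf, hef⟩ := exists_qpartner hQ (hD.decomp.nondegenerate i) he he0 hQe
  have hQa : Q (e + f) = 1 := by rw [qadd hQ, hQe, hQf, hef]; ring
  have h4 : ∀ α : F, α ≠ 0 → α ^ 4 = 1 := fun α hα => by
    have := FiniteField.pow_card_sub_one_eq_one α hα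
    rcases hq with h | h <;> rw [h] at this
    · linear_combination (α ^ 2 + 1) * this
    · exact this
  obtain ⟨b, hb, hbQ, hbS⟩ := exists_transport_line hQ hD ({1, -1} : Set F) ((D i).add_mem he hf) fun x hx hxV => by
    have hco := hyperbolic_coords hQ ((hD.decomp.decomp.finrank_eq i).trans hk) he hf hQe hQf hef hx
    obtain ⟨α, hαd⟩ : ∃ α, α = pol Q x f := ⟨_, rfl⟩
    obtain ⟨β, hβd⟩ : ∃ β, β = pol Q x e := ⟨_, rfl⟩
    rw [← hαd, ← hβd] at hco
    have hQx : Q x = α * β := by
      conv_lhs => rw [hco]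
      rw [qadd hQ, qsmul hQ, qsmul hQ, hQe, hQf, psmul_left hQ, psmul_right hQ, hef]
      ring
    have hsq : (β - α) * (β + α) = 0 := by
      rw [hQx] at hxV
      have hne : α * β ≠ 0 := by
        rcases hxV with h | h <;> rw [h]
        · exact one_ne_zero
        · exact neg_ne_zero.2 one_ne_zero
      have h1 : (α * β) ^ 2 = 1 := by rcases hxV with h | h <;> rw [h] <;> ring
      have h3 := h4 α (left_ne_zero_of_mul hne)
      linear_combination (-(β ^ 2)) * h3 + α ^ 2 * h1
    rcases mul_eq_zero.1 hsq with h | h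
    · left
      refine Submodule.mem_span_singleton.2 ⟨α, ?_⟩
      conv_rhs => rw [hco, sub_eq_zero.1 h]
      rw [smul_add]
    · right
      rw [padd_right hQ, ← hαd, ← hβd]
      exact h
  refine lines_not_maximal hQ hD hn h2 (by omega) (by omega) _ b hb (c := 1) (fun j => by rw [hbQ, hQa]) one_ne_zero
    (Or.inl rfl) hbS

/-- anisotropic planes over the field with three elements -/
theorem minus_lines_not_maximal (hn : 10 ≤ Fintype.card ι) (hk : k = 2) (hq : Fintype.card F = 3)
    {i : Fin t} (hi : ∀ x ∈ D i, Q x = 0 → x = 0) :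
    ∃ K : Subgroup (GL ι F), decompositionStabilizer D ⊓ omegaGL Q < K ∧ K < omegaGL Q := by
  have h2 : (2 : F) ≠ 0 := two_ne_of_odd_card (n := 1) hq
  have h3 : (3 : F) = 0 := by
    have := FiniteField.cast_card_eq_zero F
    rw [hq] at this
    exact_mod_cast this
  have hne : D i ≠ ⊥ := fun h => by
    have := hD.decomp.decomp.finrank_eq i
    rw [h, finrank_bot] at this
    omega
  have hperp : ∀ a : ι → F, ∃ b ∈ D i, pol Q b a = 0 ∧ b ≠ 0 := fun a => by
    obtain ⟨b, ⟨hb, hba⟩, hb0⟩ := Submodule.exists_mem_ne_zero_of_ne_bot (p := D i ⊓ LinearMap.ker (pfl hQ a)) fun h => by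
      have h1 := finrank_inf_pfl hQ (D i) a
      rw [h, finrank_bot, hD.decomp.decomp.finrank_eq i] at h1
      omega
    exact ⟨b, hb, hba, hb0⟩
  obtain ⟨a, ha, hQa⟩ : ∃ a ∈ D i, Q a = 1 := by
    obtain ⟨z, hz, hz0⟩ := exists_nonsingular hQ (hD.decomp.nondegenerate i) hne
    rcases three_cases hq (Q z) with h | h | h
    · exact absurd h hz0
    · exact ⟨z, hz, h⟩
    obtain ⟨b, hb, hbz, hb0⟩ := hperp z
    rcases three_cases hq (Q b) with h' | h' | h'
    · exact absurd (hi b hb h') hb0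
    · exact ⟨b, hb, h'⟩
    · exact ⟨b + z, (D i).add_mem hb hz, by rw [qadd hQ, h, h', hbz]; linear_combination -h3⟩
  obtain ⟨b, hb, hba, hb0⟩ := hperp a
  have hQb : Q b = 1 := by
    rcases three_cases hq (Q b) with h | h | h
    · exact absurd (hi b hb h) hb0
    · exact h
    · exfalso
      have h1 := hi _ ((D i).add_mem hb ha) (by rw [qadd hQ, h, hQa, hba]; ring)
      have h4 : pol Q (b + a) a = 0 := by rw [h1, pzero_left hQ]
      rw [padd_left hQ, hba, pself hQ, hQa, zero_add, mul_one] at h4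
      exact h2 h4
  obtain ⟨c, hc, hcQ, hcS⟩ := exists_transport_line hQ hD ({1} : Set F) ha fun x hx hxV => by
    have hco := frame_coords hQ ((hD.decomp.decomp.finrank_eq i).trans hk) ![a, b] ![-a, -b]
      (fun j => by fin_cases j <;> assumption) (fun p q => by
        fin_cases p <;> fin_cases q <;> simp [pneg_right hQ, pself hQ, hQa, hQb, hba, pcomm a b] <;> linear_combination -h3) hx
    rw [Fin.sum_univ_two] at hco
    simp only [Matrix.cons_val_zero, Matrix.cons_val_one, Matrix.cons_val_fin_one] at hco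
    obtain ⟨α, hαd⟩ : ∃ α, α = pol Q x (-a) := ⟨_, rfl⟩
    obtain ⟨β, hβd⟩ : ∃ β, β = pol Q x (-b) := ⟨_, rfl⟩
    rw [← hαd, ← hβd] at hco
    have hQx : α ^ 2 + β ^ 2 = 1 := by
      rw [← show Q x = 1 from hxV, hco, qadd hQ, qsmul hQ, qsmul hQ, hQa, hQb, psmul_left hQ, psmul_right hQ, pcomm, hba]
      ring
    rcases three_cases hq β with h | h | h
    · left
      exact Submodule.mem_span_singleton.2 ⟨α, by rw [hco, h, zero_smul, add_zero]⟩
    all_goals
      right
      have hα : α = 0 := by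
        have : α ^ 2 = 0 := by rw [h] at hQx; linear_combination hQx
        exact pow_eq_zero_iff two_ne_zero |>.1 this
      rw [pneg_right hQ] at hαd
      linear_combination -(hα) + hαd
  exact lines_not_maximal hQ hD hn h2 (by omega) (by omega) {1} c hc (c := 1) (fun j => by rw [hcQ, hQa]) one_ne_zero rfl hcS

/-- three-dimensional members over the field with three elements -/
theorem triple_lines_not_maximal (hn : 10 ≤ Fintype.card ι) (hk : k = 3) (hq : Fintype.card F = 3) (i : Fin t) :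
    ∃ K : Subgroup (GL ι F), decompositionStabilizer D ⊓ omegaGL Q < K ∧ K < omegaGL Q := by
  have h2 : (2 : F) ≠ 0 := two_ne_of_odd_card (n := 1) hq
  have h3 : (3 : F) = 0 := by
    have := FiniteField.cast_card_eq_zero F
    rw [hq] at this
    exact_mod_cast this
  have hP := hD.decomp.nondegenerate i
  have hPd : Module.finrank F (D i) = 3 := (hD.decomp.decomp.finrank_eq i).trans hk
  obtain ⟨e, he, he0, hQe⟩ := exists_qsingular hQ hP (by omega)
  obtain ⟨f, hf, hQf, hef⟩ := exists_qpartner hQ hP he he0 hQe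
  obtain ⟨z, hz, hQz⟩ := exists_nonsingular hQ (pair_nd hQ he hf hQe hQf hef hP) (fun h => by
    have := pair_finrank hQ he hf hQe hQf hef (P := D i)
    rw [h, finrank_bot, hPd] at this
    omega)
  obtain ⟨hzP, hze, hzf⟩ := (mem_pairPerp hQ).1 hz
  obtain ⟨γ, hγd⟩ : ∃ γ, γ = Q z := ⟨_, rfl⟩
  rw [← hγd] at hQz
  have hαsq : ∀ α' : F, α' ≠ 0 → α' * α' = 1 := fun α' h' => by
    rcases three_cases hq α' with h | h | h
    · exact absurd h h'
    · rw [h, one_mul]
    · rw [h]; ring
  have hinv : γ⁻¹ * 2⁻¹ * (2 * γ) = 1 := by field_simp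
  have hee : pol Q e e = 0 := by rw [pself hQ, hQe, mul_zero]
  have hff : pol Q f f = 0 := by rw [pself hQ, hQf, mul_zero]
  have hQa : Q (e - γ • f) = -γ := by rw [qsub hQ, qsmul hQ, hQe, hQf, psmul_right hQ, hef]; ring
  obtain ⟨b, hb, hbQ, hbS⟩ := exists_transport_line hQ hD ({-γ} : Set F) ((D i).sub_mem he ((D i).smul_mem γ hf))
    fun x hx hxV => by
    have hco := frame_coords hQ hPd ![e, f, z] ![f, e, (2 * γ)⁻¹ • z] (fun j => by fin_cases j <;> assumption)
      (fun p q => by
        fin_cases p <;> fin_cases q <;>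
          simp [psmul_right hQ, hef, hee, hff, hze, hzf, pcomm f e, pcomm e z, pcomm f z, pself hQ z, ← hγd,
            inv_mul_cancel₀ (mul_ne_zero h2 hQz), hinv]) hx
    rw [Fin.sum_univ_three] at hco
    simp only [Matrix.cons_val_zero, Matrix.cons_val_one, Matrix.cons_val_two, Matrix.head_cons, Matrix.tail_cons,
      Matrix.cons_val_fin_one] at hco
    obtain ⟨α, hαd⟩ : ∃ α, α = pol Q x f := ⟨_, rfl⟩
    obtain ⟨β, hβd⟩ : ∃ β, β = pol Q x e := ⟨_, rfl⟩
    obtain ⟨δ, hδd⟩ : ∃ δ, δ = pol Q x ((2 * γ)⁻¹ • z) := ⟨_, rfl⟩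
    rw [← hαd, ← hβd, ← hδd] at hco
    have hQx : α * β + γ * δ ^ 2 = -γ := by
      rw [← show Q x = -γ from hxV, hco, qadd hQ, qadd hQ, qsmul hQ, qsmul hQ, qsmul hQ, hQe, hQf, ← hγd,
        padd_left hQ, psmul_left hQ, psmul_left hQ, psmul_left hQ, psmul_right hQ, psmul_right hQ, psmul_right hQ,
        hef, pcomm e z, hze, pcomm f z, hzf]
      ring
    rcases eq_or_ne δ 0 with hδ | hδ
    · left
      refine Submodule.mem_span_singleton.2 ⟨α, ?_⟩
      rw [hδ] at hQx
      have hα : α ≠ 0 := fun h => hQz (by rw [h] at hQx; linear_combination hQx)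
      have hβ : β = -(γ * α) := by linear_combination α * hQx - β * hαsq α hα
      rw [hco, hδ, zero_smul, add_zero, hβ, smul_sub, smul_smul, neg_smul, mul_comm α γ, ← sub_eq_add_neg]
    · right
      rw [psub_right hQ, psmul_right hQ, ← hαd, ← hβd]
      have h1 := hαsq δ hδ
      have h5 : α * β = γ := by linear_combination hQx - γ * h1 - γ * h3
      have hα : α ≠ 0 := fun h => hQz (by rw [h, zero_mul] at h5; exact h5.symm)
      linear_combination α * h5 - β * hαsq α hα
  refine lines_not_maximal hQ hD hn h2 (by omega) (by omega) {-γ} b hb (c := -γ) (fun j => by rw [hbQ, hQa])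
    (neg_ne_zero.2 hQz) rfl hbS

/-- hyperbolic planes over the fields with two and four elements -/
theorem plus_lattice_not_maximal (hn : 10 ≤ Fintype.card ι) (hk : k = 2) (hq : Fintype.card F = 2 ∨ Fintype.card F = 4)
    (hplus : ∀ i, IsPlusTypeOn Q (D i)) :
    ∃ K : Subgroup (GL ι F), decompositionStabilizer D ⊓ omegaGL Q < K ∧ K < omegaGL Q := by
  have h2 : (2 : F) = 0 := by
    have := FiniteField.cast_card_eq_zero F
    rcases hq with h | h <;> rw [h] at this
    · exact_mod_cast this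
    · have h4 : (2 : F) * 2 = 0 := by rw [← this]; norm_num
      simpa using h4
  have hdata : ∀ i, ∃ e f, e ∈ D i ∧ f ∈ D i ∧ Q e = 0 ∧ Q f = 0 ∧ pol Q e f = 1 := by
    intro i
    obtain ⟨U, hUD, hU, hUd⟩ := hplus i
    obtain ⟨e, he, he0⟩ := Submodule.exists_mem_ne_zero_of_ne_bot (p := U) fun h => by
      rw [h, finrank_bot, hD.decomp.decomp.finrank_eq i] at hUd
      omega
    obtain ⟨f, hf, hQf, hef⟩ := exists_qpartner hQ (hD.decomp.nondegenerate i) (hUD he) he0 (hU e he)
    exact ⟨e, f, hUD he, hf, hU e he, hQf, hef⟩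
  choose e f he hf hQe hQf hef using hdata
  have hpolS : ∀ i, ∀ x ∈ D i, ∀ y ∈ D i, Q x = 1 → Q y = 1 → ∃ s u : F, s * u = 1 ∧ pol Q x y = s + u := by
    intro i x hx y hy hQx hQy
    have hcx := hyperbolic_coords hQ ((hD.decomp.decomp.finrank_eq i).trans hk) (he i) (hf i) (hQe i) (hQf i) (hef i) hx
    have hcy := hyperbolic_coords hQ ((hD.decomp.decomp.finrank_eq i).trans hk) (he i) (hf i) (hQe i) (hQf i) (hef i) hy
    obtain ⟨α, hαd⟩ : ∃ α, α = pol Q x (f i) := ⟨_, rfl⟩
    obtain ⟨β, hβd⟩ : ∃ β, β = pol Q x (e i) := ⟨_, rfl⟩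
    obtain ⟨γ, hγd⟩ : ∃ γ, γ = pol Q y (f i) := ⟨_, rfl⟩
    obtain ⟨δ, hδd⟩ : ∃ δ, δ = pol Q y (e i) := ⟨_, rfl⟩
    rw [← hαd, ← hβd] at hcx
    rw [← hγd, ← hδd] at hcy
    have h1 : α * β = 1 := by
      rw [← hQx, hcx, qadd hQ, qsmul hQ, qsmul hQ, hQe, hQf, psmul_left hQ, psmul_right hQ, hef]
      ring
    have h3 : γ * δ = 1 := by
      rw [← hQy, hcy, qadd hQ, qsmul hQ, qsmul hQ, hQe, hQf, psmul_left hQ, psmul_right hQ, hef]
      ring
    refine ⟨α * δ, β * γ, by linear_combination δ * γ * h1 + h3, ?_⟩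
    rw [hcx, hcy]
    simp only [padd_left hQ, padd_right hQ, psmul_left hQ, psmul_right hQ, pself hQ (e i), pself hQ (f i), hQe, hQf, hef,
      pcomm (f i) (e i)]
    ring
  have ha : ∀ i, Q (e i + f i) = 1 := fun i => by rw [qadd hQ, hQe, hQf, hef]; ring
  have hea : ∀ i, pol Q (e i) (e i + f i) = 1 := fun i => by
    rw [padd_right hQ, pself hQ, hQe, hef, mul_zero, zero_add]
  rcases hq with hq | hq
  · refine lattice_not_maximal hQ hD hn h2 hk ⊥ (fun v hv => Or.inl hv) (c := 1) one_ne_zero (fun i => e i + f i) e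
      (fun i => (D i).add_mem (he i) (hf i)) he ha hQe hea fun i x hx y hy hQx hQy => ?_
    obtain ⟨s, u, hsu, hp⟩ := hpolS i x hx y hy hQx hQy
    have h01 : ∀ v : F, v ≠ 0 → v = 1 := fun v hv => by simpa [hq] using FiniteField.pow_card_sub_one_eq_one v hv
    show pol Q x y = 0
    rw [hp, h01 s (left_ne_zero_of_mul (hsu ▸ one_ne_zero)), h01 u (right_ne_zero_of_mul (hsu ▸ one_ne_zero)),
      one_add_one_eq_two, h2]
  · let V₀ : AddSubgroup F :=
      { carrier := {v | v = 0 ∨ v = 1}
        add_mem' := by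
          rintro a b (rfl | rfl) (rfl | rfl) <;> simp [one_add_one_eq_two, h2]
        zero_mem' := Or.inl rfl
        neg_mem' := by
          rintro a (rfl | rfl)
          · simp
          · exact Or.inr (neg_eq_of_add_eq_zero_left (by rw [one_add_one_eq_two, h2])) }
    obtain ⟨c, hc⟩ : ∃ c, c ∉ V₀ := by
      by_contra hcon
      push Not at hcon
      classical
      have h1 : (Finset.univ : Finset F) ⊆ {0, 1} := fun v _ => by rcases hcon v with h | h <;> simp [h]
      have h4 := (Finset.card_le_card h1).trans Finset.card_le_two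
      rw [Finset.card_univ, hq] at h4
      omega
    refine lattice_not_maximal hQ hD hn h2 hk V₀ (fun v hv => hv) hc (fun i => e i + f i) e
      (fun i => (D i).add_mem (he i) (hf i)) he ha hQe hea fun i x hx y hy hQx hQy => ?_
    obtain ⟨s, u, hsu, hp⟩ := hpolS i x hx y hy hQx hQy
    have hs := FiniteField.pow_card_sub_one_eq_one s (left_ne_zero_of_mul (hsu ▸ one_ne_zero))
    rw [hq] at hs
    have h5 : (s + u) * (s + u - 1) = 0 := by
      have hu : u = s ^ 2 := by linear_combination s ^ 2 * hsu - u * hs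
      rw [hu]
      linear_combination (s + 2) * hs + h2
    rcases mul_eq_zero.1 h5 with h | h
    · exact Or.inl (hp.trans h)
    · exact Or.inr (hp.trans (sub_eq_zero.1 h))

/-- plus four-spaces over the field with two elements -/
theorem plus_four_not_maximal (hn : 10 ≤ Fintype.card ι) (hk : k = 4) (hq : Fintype.card F = 2)
    (hplus : ∀ i, IsPlusTypeOn Q (D i)) :
    ∃ K : Subgroup (GL ι F), decompositionStabilizer D ⊓ omegaGL Q < K ∧ K < omegaGL Q := by
  have h2 : (2 : F) = 0 := by
    have := FiniteField.cast_card_eq_zero F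
    rw [hq] at this
    exact_mod_cast this
  have h01 : ∀ v : F, v = 0 ∨ v = 1 := fun v => by
    rcases eq_or_ne v 0 with h | h
    · exact Or.inl h
    · exact Or.inr (by simpa [hq] using FiniteField.pow_card_sub_one_eq_one v h)
  have hdata : ∀ i, ∃ x y, x ∈ D i ∧ y ∈ D i ∧ Q x = 1 ∧ Q y = 1 ∧ pol Q x y = 1 ∧
      ∀ z ∈ D i, Q z = 1 → z ∈ Submodule.span F {x, y} ∨ (pol Q z x = 0 ∧ pol Q z y = 0) := by
    intro i
    have hP := hD.decomp.nondegenerate i
    have hPd : Module.finrank F (D i) = 4 := (hD.decomp.decomp.finrank_eq i).trans hk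
    obtain ⟨U, hUD, hU, hUd⟩ := hplus i
    rw [hPd] at hUd
    obtain ⟨e, he, he0⟩ := Submodule.exists_mem_ne_zero_of_ne_bot (p := U) fun h => by
      rw [h, finrank_bot] at hUd
      omega
    obtain ⟨f, hf, hQf, hef⟩ := exists_qpartner hQ hP (hUD he) he0 (hU e he)
    have heD := hUD he
    have hQe := hU e he
    obtain ⟨e', ⟨he'U, he'f⟩, he'0⟩ := Submodule.exists_mem_ne_zero_of_ne_bot (p := U ⊓ LinearMap.ker (pfl hQ f))
      fun h => by
        have h1 := finrank_inf_pfl hQ U f
        rw [h, finrank_bot] at h1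
        omega
    have he'e : pol Q e' e = 0 := pol_zero_of_singular hQ hU he'U he
    have he'f' : pol Q e' f = 0 := he'f
    have he'P : e' ∈ pairPerp hQ (D i) e f := (mem_pairPerp hQ).2 ⟨hUD he'U, he'e, he'f'⟩
    obtain ⟨f', hf', hQf', he'f''⟩ := exists_qpartner hQ (pair_nd hQ heD hf hQe hQf hef hP) he'P he'0 (hU e' he'U)
    obtain ⟨hf'D, hf'e, hf'f⟩ := (mem_pairPerp hQ).1 hf'
    have hee : pol Q e e = 0 := by rw [pself hQ, hQe, mul_zero]
    have hff : pol Q f f = 0 := by rw [pself hQ, hQf, mul_zero]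
    have hee' : pol Q e' e' = 0 := by rw [pself hQ, hU e' he'U, mul_zero]
    have hff' : pol Q f' f' = 0 := by rw [pself hQ, hQf', mul_zero]
    refine ⟨e + f, e + (e' + f'), (D i).add_mem heD hf, (D i).add_mem heD ((D i).add_mem (hUD he'U) hf'D), ?_, ?_, ?_, ?_⟩
    · rw [qadd hQ, hQe, hQf, hef]; ring
    · rw [qadd hQ, qadd hQ, hQe, hU e' he'U, hQf', he'f'', padd_right hQ, pcomm e e', he'e, pcomm e f', hf'e]; ring
    · rw [padd_left hQ, padd_right hQ, padd_right hQ, padd_right hQ, padd_right hQ, hee, pcomm e e', he'e, pcomm e f',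
        hf'e, pcomm f e, hef, pcomm f e', he'f', pcomm f f', hf'f]
      ring
    intro z hz hQz
    have hco := frame_coords hQ hPd ![e, f, e', f'] ![f, e, f', e']
      (fun j => by fin_cases j <;> first | assumption | exact hUD he'U) (fun p q => by
        fin_cases p <;> fin_cases q <;>
          simp [hef, hee, hff, he'e, he'f', he'f'', hee', hff', hf'e, hf'f, pcomm f e, pcomm e e', pcomm e f',
            pcomm f e', pcomm f f', pcomm f' e']) hz
    rw [Fin.sum_univ_four] at hco
    simp only [Matrix.cons_val_zero, Matrix.cons_val_one, Matrix.cons_val, Matrix.cons_val_fin_one] at hco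
    obtain ⟨α, hαd⟩ : ∃ α, α = pol Q z f := ⟨_, rfl⟩
    obtain ⟨β, hβd⟩ : ∃ β, β = pol Q z e := ⟨_, rfl⟩
    obtain ⟨γ, hγd⟩ : ∃ γ, γ = pol Q z f' := ⟨_, rfl⟩
    obtain ⟨δ, hδd⟩ : ∃ δ, δ = pol Q z e' := ⟨_, rfl⟩
    rw [← hαd, ← hβd, ← hγd, ← hδd] at hco
    have hQv : α * β + γ * δ = 1 := by
      rw [← hQz, hco]
      simp only [qadd hQ, qsmul hQ, padd_left hQ, psmul_left hQ, psmul_right hQ, hQe, hQf, hU e' he'U, hQf', hef,
        pcomm e e', he'e, pcomm e f', hf'e, pcomm f e', he'f', pcomm f f', hf'f, he'f'']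
      ring
    have hz1 : pol Q z (e + f) = β + α := by rw [padd_right hQ, ← hαd, ← hβd]
    have hz2 : pol Q z (e + (e' + f')) = β + (δ + γ) := by rw [padd_right hQ, padd_right hQ, ← hβd, ← hγd, ← hδd]
    rw [hz1, hz2]
    have hn2 : ∀ v : ι → F, v + v = 0 := fun v => by rw [← two_smul F v, h2, zero_smul]
    have h11 : (1 : F) + 1 = 0 := by rw [one_add_one_eq_two, h2]
    rcases h01 α with rfl | rfl <;> rcases h01 β with rfl | rfl <;> rcases h01 γ with rfl | rfl <;>
      rcases h01 δ with rfl | rfl <;> simp only [zero_mul, mul_zero, one_mul, mul_one, add_zero, zero_add, h11] at hQv ⊢ <;>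
      first
        | exact absurd hQv zero_ne_one
        | exact Or.inr ⟨rfl, rfl⟩
        | exact Or.inr ⟨trivial, trivial⟩
        | trivial
        | (left; rw [hco]; refine Submodule.mem_span_pair.2 ⟨1, 0, ?_⟩; module)
        | (left; rw [hco]; refine Submodule.mem_span_pair.2 ⟨0, 1, ?_⟩; module)
        | (left; rw [hco]; refine Submodule.mem_span_pair.2 ⟨1, 1, ?_⟩
           simp only [one_smul, zero_smul, add_zero, zero_add]
           rw [show e + f + (e + (e' + f')) = (e + e) + (f + e' + f') by abel, hn2, zero_add])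
  choose x y hx hy hQx hQy hxy hS using hdata
  exact planes_not_maximal hQ hD hn h2 hk x y hx hy hQx hQy hxy hS

end CfsgLib.Perm.Trans.Quad
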