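import Mathlib
import Cfsg.Agent.Lib.Perm.Trans.QuadMax

/-!
# Stabilisers of plus planes over the fields with two and three elements are not maximal
-/

set_option autoImplicit false
set_option linter.all false

namespace CfsgLib.Perm.Trans.Quad

open scoped Matrix
open Matrix Cfsg.Geo CfsgLib.Perm.Asch CfsgLib.Perm.Trans

variable {ι : Type} [Fintype ι] [DecidableEq ι] {F : Type*} [Field F] [Fintype F]
variable {Q : (ι → F) → F}

local notation "pol" => QuadraticMap.polar

theorem plus_plane_not_maximal (hQ : IsNondegenerateQuadraticForm Q) (hn : 5 ≤ Fintype.card ι)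
    (hq : Fintype.card F ≤ 3) (W : Submodule F (ι → F)) (hdim : Module.finrank F W = 2) (hW : NdOn Q W)
    (hWp : IsPlusTypeOn Q W) :
    ∃ K : Subgroup (GL ι F), subspaceStabilizer W ⊓ omegaGL Q < K ∧ K < omegaGL Q := by
  classical
  obtain ⟨U, hUW, hUQ, hU⟩ := hWp
  obtain ⟨e, he, he0⟩ := Submodule.exists_mem_ne_zero_of_ne_bot (p := U) fun h => by
    rw [h, finrank_bot, hdim] at hU
    omega
  obtain ⟨f, hf, hQf, hef⟩ := exists_qpartner hQ hW (hUW he) he0 (hUQ e he)
  have hQe := hUQ e he
  have heW := hUW he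
  have hee : pol Q e e = 0 := by rw [pself hQ, hQe, mul_zero]
  have hff : pol Q f f = 0 := by rw [pself hQ, hQf, mul_zero]
  have hfe : pol Q f e = 1 := by rw [pcomm, hef]
  have hspan : ∀ x ∈ W, x = pol Q x f • e + pol Q x e • f := fun x hx => by
    have h1 := (mem_pairPerp hQ).1 (pair_proj hQ heW hf hQe hQf hef hx)
    obtain ⟨h1W, h1e, h1f⟩ := h1
    rw [← sub_eq_zero]
    by_contra hne
    obtain ⟨y, hy, hyne⟩ := (hW _ h1W (by rwa [← sub_sub] at hne)).1
    refine hyne ?_
    have hle : Submodule.span F ({e, f} : Set (ι → F)) = W := by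
      refine Submodule.eq_of_le_of_finrank_le (Submodule.span_le.2 (by simp [Set.insert_subset_iff, heW, hf])) ?_
      have hlt : Submodule.span F {e} < Submodule.span F ({e, f} : Set (ι → F)) := by
        refine SetLike.lt_iff_le_and_exists.2 ⟨Submodule.span_mono (by simp), f, Submodule.subset_span (by simp),
          fun h => ?_⟩
        obtain ⟨c, rfl⟩ := Submodule.mem_span_singleton.1 h
        rw [psmul_right hQ, hee, mul_zero] at hef
        exact zero_ne_one hef
      have h3 := Submodule.finrank_lt_finrank_of_lt hlt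
      rw [finrank_span_singleton he0] at h3
      omega
    obtain ⟨a, b, rfl⟩ := Submodule.mem_span_pair.1 (hle ▸ hy)
    rw [padd_left hQ, psmul_left hQ, psmul_left hQ, pcomm e, h1e, pcomm f, h1f]
    ring
  have hp : (e + f) ∈ W := W.add_mem heW hf
  have hp0 : pol Q (e + f) e = 1 := by rw [padd_left hQ, hee, hfe, zero_add]
  have hQp : Q (e + f) = 1 := by rw [qadd hQ, hQe, hQf, hef]; ring
  -- the complement
  have hperp : 3 ≤ Module.finrank F (qperp hQ W) := by
    have := finrank_qperp hQ W
    omega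
  have hnd : ∀ x ∈ W, x ∈ qperp hQ W → x = 0 := fun x hx hx' => by
    by_contra hne
    obtain ⟨y, hy, hyne⟩ := (hW x hx hne).2
    exact hyne (hx' y hy)
  have hline : ∀ g ∈ subspaceStabilizer W ⊓ omegaGL Q, g ∈ subspaceStabilizer (Submodule.span F {e + f}) := by
    intro g hg
    have hmaps : ∀ h ∈ subspaceStabilizer W ⊓ omegaGL Q, ∀ x ∈ Submodule.span F {e + f},
        (h : Matrix ι ι F) *ᵥ x ∈ Submodule.span F {e + f} := by
      intro h hh x hx
      obtain ⟨c, rfl⟩ := Submodule.mem_span_singleton.1 hx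
      rw [mulVec_smul]
      refine Submodule.smul_mem _ _ (Submodule.mem_span_singleton.2 ⟨pol Q ((h : Matrix ι ι F) *ᵥ (e + f)) f, ?_⟩)
      have hy : (h : Matrix ι ι F) *ᵥ (e + f) ∈ W := (hh.1 (e + f)).1 hp
      have h1 := hspan _ hy
      generalize hyd : (h : Matrix ι ι F) *ᵥ (e + f) = y at hy h1 ⊢
      have h2 : Q y = pol Q y f * pol Q y e := by
        conv_lhs => rw [h1]
        rw [qadd hQ, qsmul hQ, qsmul hQ, hQe, hQf, psmul_left hQ, psmul_right hQ, hef]
        ring
      rw [← hyd, mem_iso.1 (omegaGL_le_iso hh.2), hQp, hyd] at h2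
      have h3 : ∀ a : F, a ≠ 0 → a * a = 1 := fun a ha => by
        have := FiniteField.pow_card_sub_one_eq_one a ha
        have h4 := Fintype.one_lt_card (α := F)
        rcases (show Fintype.card F = 2 ∨ Fintype.card F = 3 by omega) with h5 | h5 <;> rw [h5] at this
        · rw [show 2 - 1 = 1 from rfl, pow_one] at this
          rw [this, one_mul]
        · rwa [show 3 - 1 = 2 from rfl, pow_two] at this
      have ha : pol Q y f ≠ 0 := fun h0 => by rw [h0, zero_mul] at h2; exact one_ne_zero h2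
      have hb : pol Q y e = pol Q y f := by
        have := h3 _ ha
        linear_combination pol Q y e * (-1 : F) * this + pol Q y f * (-1 : F) * h2
      conv_rhs => rw [h1, hb]
      rw [smul_add]
    exact fun x => ⟨hmaps g hg x, fun hx => by
      have := hmaps g⁻¹ (inv_mem hg) _ hx
      rwa [show (Cfsg.glToMat ι F) g *ᵥ x = (g : Matrix ι ι F) *ᵥ x from rfl, gl_inv_mulVec] at this⟩
  refine ⟨subspaceStabilizer (Submodule.span F {e + f}) ⊓ omegaGL Q,
    lt_of_le_of_ne (le_inf hline inf_le_right) fun heq => ?_, lt_of_le_of_ne inf_le_right fun heq => ?_⟩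
  · obtain ⟨u, hu, hu0, hQu⟩ : ∃ u ∈ qperp hQ W, u ≠ 0 ∧ Q u = 0 := exists_qsingular hQ (fun w hw hw0 => by
      obtain ⟨z, hz⟩ := (hQ.nondegenerate w hw0).1
      have hd : pol Q (z - (pol Q z f • e + pol Q z e • f)) w = pol Q z w := by
        rw [psub_left hQ, padd_left hQ, psmul_left hQ, psmul_left hQ, pcomm e, hw e heW, pcomm f, hw f hf]
        ring
      have hmem : z - (pol Q z f • e + pol Q z e • f) ∈ qperp hQ W := fun v hv => by
        rw [hspan v hv]
        simp only [psub_left hQ, padd_left hQ, padd_right hQ, psmul_left hQ, psmul_right hQ, hee, hff, hef, hfe]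
        ring
      exact ⟨⟨_, hmem, by rwa [hd]⟩, ⟨_, hmem, by rwa [pcomm, hd]⟩⟩) hperp
    obtain ⟨g, hgΩ, hg⟩ := ein_omega hQ hn (a := e - f) hQu (by rw [psub_right hQ, hu e heW, hu f hf, sub_zero])
    have heb : pol Q e (e - f) = -1 := by rw [psub_right hQ, hee, hef]; ring
    have hgp : (g : Matrix ι ι F) *ᵥ (e + f) = e + f := by
      rw [hg, pcomm (e + f) u, hu _ hp, zero_smul, mul_zero, zero_smul, sub_zero, add_zero, padd_left hQ, heb,
        psub_right hQ, hfe, hff]
      simp
    have hgK : g ∈ subspaceStabilizer (Submodule.span F {e + f}) ⊓ omegaGL Q := by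
      refine ⟨fun x => ?_, hgΩ⟩
      have hf1 : ∀ c : F, (g : Matrix ι ι F) *ᵥ (c • (e + f)) = c • (e + f) := fun c => by rw [mulVec_smul, hgp]
      constructor
      · intro hx
        obtain ⟨c, rfl⟩ := Submodule.mem_span_singleton.1 hx
        show (g : Matrix ι ι F) *ᵥ _ ∈ _
        rw [hf1]
        exact hx
      · intro hx
        obtain ⟨c, hc⟩ := Submodule.mem_span_singleton.1 hx
        refine Submodule.mem_span_singleton.2 ⟨c, ?_⟩
        have := congrArg (fun z => ((g⁻¹ : GL ι F) : Matrix ι ι F) *ᵥ z) ((hf1 c).trans hc)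
        simpa only [gl_inv_mulVec, show (Cfsg.glToMat ι F) g = (g : Matrix ι ι F) from rfl] using this
    rw [← heq] at hgK
    have h1 := (hgK.1 e).1 heW
    change (g : Matrix ι ι F) *ᵥ e ∈ W at h1
    rw [hg, pcomm e u, hu e heW, zero_smul, mul_zero, zero_smul, sub_zero, add_zero, heb, neg_one_smul,
      sub_neg_eq_add] at h1
    exact hu0 (hnd u ((W.add_mem_iff_right heW).1 h1) hu)
  · obtain ⟨b, hb, hb0⟩ := Submodule.exists_mem_ne_zero_of_ne_bot (p := qperp hQ W) fun h => by
      rw [h, finrank_bot] at hperp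
      omega
    obtain ⟨g, hgΩ, hg⟩ := ein_omega hQ hn (a := b) hQe (by rw [pcomm, hb e heW])
    rw [← heq] at hgΩ
    have h1 := (hgΩ.1 (e + f)).1 (Submodule.mem_span_singleton_self _)
    change (g : Matrix ι ι F) *ᵥ (e + f) ∈ _ at h1
    rw [hg, hp0, one_smul, pcomm _ b, hb _ hp, zero_smul, sub_zero, mul_one] at h1
    have h2 : e + f + b - Q b • e ∈ W := (Submodule.span_singleton_le_iff_mem _ _).2 hp h1
    have h3 : b ∈ W := by
      have := W.sub_mem (W.add_mem h2 (W.smul_mem (Q b) heW)) hp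
      simpa using this
    exact hb0 (hnd b h3 hb)

end CfsgLib.Perm.Trans.Quad
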