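import Cfsg.Agent.Lib.Perm.Trans.Basic
import Cfsg.Agent.Lib.Classical.SymmDiag
import Mathlib

/-!
# Symmetric forms over finite fields of odd characteristic
-/

set_option autoImplicit false
set_option linter.all false

namespace CfsgLib.Perm.Trans.Orth

open scoped Matrix
open Matrix Cfsg.Geo CfsgLib.Perm.Asch CfsgLib.Perm.Trans

variable {ι : Type} [Fintype ι] [DecidableEq ι] {F : Type*} [Field F]
variable {f : (ι → F) → (ι → F) → F}

/-- the pullback of a form -/
def pull (f : (ι → F) → (ι → F) → F) (g : GL ι F) : (ι → F) → (ι → F) → F :=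
  fun x y => f ((g : Matrix ι ι F) *ᵥ x) ((g : Matrix ι ι F) *ᵥ y)

theorem pull_symm (hf : IsSymmetricForm f) (g : GL ι F) : IsSymmetricForm (pull f g) where
  bilinear :=
    ⟨fun x y v => by simp only [pull, mulVec_add, hf.bilinear.add_left],
     fun c x v => by simp only [pull, mulVec_smul, hf.bilinear.smul_left],
     fun v x y => by simp only [pull, mulVec_add, hf.bilinear.add_right],
     fun c v x => by simp only [pull, mulVec_smul, hf.bilinear.smul_right]⟩
  symm u v := hf.symm _ _
  nondegenerate v hv := by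
    obtain ⟨⟨x, hx⟩, ⟨y, hy⟩⟩ := hf.nondegenerate _ (gl_mulVec_eq_zero.not.2 hv : (g : Matrix ι ι F) *ᵥ v ≠ 0)
    exact ⟨⟨((g⁻¹ : GL ι F) : Matrix ι ι F) *ᵥ x, by rwa [pull, gl_mulVec_inv]⟩,
      ⟨((g⁻¹ : GL ι F) : Matrix ι ι F) *ᵥ y, by rwa [pull, gl_mulVec_inv]⟩⟩

theorem finrank_le_inf_ker (W : Submodule F (ι → F)) (L : (ι → F) →ₗ[F] F) :
    Module.finrank F W ≤ Module.finrank F ↥(W ⊓ LinearMap.ker L) + 1 := by
  have h1 := LinearMap.finrank_range_add_finrank_ker (L.comp W.subtype)
  have h2 : Module.finrank F (LinearMap.range (L.comp W.subtype)) ≤ 1 :=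
    (Submodule.finrank_le _).trans (by rw [Module.finrank_self])
  have h3 : Module.finrank F (LinearMap.ker (L.comp W.subtype)) = Module.finrank F ↥(W ⊓ LinearMap.ker L) := by
    rw [LinearMap.ker_comp, ← Submodule.map_comap_subtype]
    exact ((Submodule.equivMapOfInjective _ W.injective_subtype _).finrank_eq)
  omega

/-- the functional of a dot product -/
def dotFun (φ : ι → F) : (ι → F) →ₗ[F] F where
  toFun x := φ ⬝ᵥ x
  map_add' x y := dotProduct_add _ _ _
  map_smul' c x := dotProduct_smul _ _ _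

theorem dotFun_apply (φ x : ι → F) : dotFun φ x = φ ⬝ᵥ x := rfl

variable (hf : IsSymmetricForm f)
include hf

theorem sym_zero_left (v : ι → F) : f 0 v = 0 := by
  have := hf.bilinear.smul_left 0 0 v
  simpa using this

theorem sym_zero_right (v : ι → F) : f v 0 = 0 := by rw [hf.symm, sym_zero_left hf]

theorem sym_neg_left (v w : ι → F) : f (-v) w = -f v w := by
  rw [← neg_one_smul F v, hf.bilinear.smul_left, neg_one_mul]

theorem sym_neg_right (v w : ι → F) : f v (-w) = -f v w := by rw [hf.symm, sym_neg_left hf, hf.symm]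

theorem sym_sub_left (x y v : ι → F) : f (x - y) v = f x v - f y v := by
  rw [sub_eq_add_neg, hf.bilinear.add_left, sym_neg_left hf, sub_eq_add_neg]

theorem sym_sub_right (v x y : ι → F) : f v (x - y) = f v x - f v y := by
  rw [hf.symm, sym_sub_left hf, hf.symm x, hf.symm y]

/-- `x ↦ f x u` -/
def sfl (u : ι → F) : (ι → F) →ₗ[F] F where
  toFun x := f x u
  map_add' x y := hf.bilinear.add_left x y u
  map_smul' c x := hf.bilinear.smul_left c x u

theorem mem_ker_sfl {u x : ι → F} : x ∈ LinearMap.ker (sfl hf u) ↔ f x u = 0 := Iff.rfl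

/-- the vector of `x ↦ f x u`, linearly in `u` -/
def ov : (ι → F) →ₗ[F] (ι → F) where
  toFun u := fvec (sfl hf u)
  map_add' a b := funext fun i => hf.bilinear.add_right _ a b
  map_smul' c a := funext fun i => hf.bilinear.smul_right c _ a

theorem ov_dot (u x : ι → F) : ov hf u ⬝ᵥ x = f x u := fvec_dot (sfl hf u) x

theorem ov_injective : Function.Injective (ov hf) := by
  intro a b hab
  by_contra hne
  obtain ⟨x, hx⟩ := (hf.nondegenerate _ (sub_ne_zero.2 hne)).1
  rw [sym_sub_right hf, ← ov_dot hf, ← ov_dot hf, hab, sub_self] at hx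
  exact hx rfl

theorem ov_surjective : Function.Surjective (ov hf) := LinearMap.surjective_of_injective (ov_injective hf)

theorem exists_rep (φ : ι → F) : ∃ p, ∀ x, f x p = φ ⬝ᵥ x := by
  obtain ⟨p, rfl⟩ := ov_surjective hf φ
  exact ⟨p, fun x => (ov_dot hf p x).symm⟩

theorem exists_pairing {z : ι → F} {W : Submodule F (ι → F)} (hz : z ∉ W) :
    ∃ p, f z p = 1 ∧ ∀ w ∈ W, f w p = 0 := by
  obtain ⟨φ, h1, h2⟩ := exists_dual W hz
  obtain ⟨p, hp⟩ := exists_rep hf φ
  exact ⟨p, by rw [hp, h1], fun w hw => by rw [hp, h2 w hw]⟩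

theorem two_mul_finrank_le {W : Submodule F (ι → F)} (hW : ∀ x ∈ W, ∀ y ∈ W, f x y = 0) :
    2 * Module.finrank F W ≤ Fintype.card ι := by
  obtain ⟨W', hW'⟩ := W.exists_isCompl
  let T : (ι → F) →ₗ[F] (W →ₗ[F] F) :=
    { toFun := fun v => (sfl hf v).comp W.subtype
      map_add' := fun a b => LinearMap.ext fun x => hf.bilinear.add_right (x : ι → F) a b
      map_smul' := fun c a => LinearMap.ext fun x => hf.bilinear.smul_right c (x : ι → F) a }
  have hsurj : Function.Surjective T := by
    intro L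
    obtain ⟨L', hL'⟩ := LinearMap.exists_extend L
    obtain ⟨p, hp⟩ := exists_rep hf (fvec L')
    refine ⟨p, LinearMap.ext fun x => ?_⟩
    show f (x : ι → F) p = L x
    rw [hp, fvec_dot, ← hL']
    rfl
  have hker : W ≤ LinearMap.ker T := fun v hv => LinearMap.ext fun x => hW x x.2 v hv
  have h1 := LinearMap.finrank_range_add_finrank_ker T
  rw [LinearMap.range_eq_top.2 hsurj, finrank_top, Module.finrank_fintype_fun_eq_card] at h1
  have h2 : Module.finrank F (W →ₗ[F] F) = Module.finrank F W := Subspace.dual_finrank_eq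
  have h3 := Submodule.finrank_mono hker
  omega

variable (h2 : (2 : F) ≠ 0)
include h2

theorem exists_aniso {W : Submodule F (ι → F)} (hW : Fintype.card ι < 2 * Module.finrank F W) :
    ∃ x ∈ W, f x x ≠ 0 := by
  by_contra hcon
  push Not at hcon
  have := two_mul_finrank_le hf (W := W) fun x hx y hy => by
    have h1 := hcon _ (W.add_mem hx hy)
    rw [hf.bilinear.add_left, hf.bilinear.add_right, hf.bilinear.add_right, hcon x hx, hcon y hy, hf.symm y x] at h1
    exact (mul_eq_zero.1 (show (2 : F) * f x y = 0 by linear_combination h1)).resolve_left h2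
  omega

variable [Fintype F]

theorem exists_with_value {W : Submodule F (ι → F)} (hW : Fintype.card ι + 2 < 2 * Module.finrank F W) (r : F) :
    ∃ x ∈ W, f x x = r := by
  rcases eq_or_ne r 0 with rfl | hr
  · exact ⟨0, W.zero_mem, sym_zero_left hf 0⟩
  obtain ⟨a, ha, haa⟩ := exists_aniso hf h2 (W := W) (by omega)
  have h1 := finrank_le_inf_ker W (sfl hf a)
  obtain ⟨b, hb, hbb⟩ := exists_aniso hf h2 (W := W ⊓ LinearMap.ker (sfl hf a)) (by omega)
  obtain ⟨x, y, hxy⟩ := CfsgLib.Classical.exists_binary_one (F := F) h2 (div_ne_zero haa hr) (div_ne_zero hbb hr)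
  refine ⟨x • a + y • b, W.add_mem (W.smul_mem _ ha) (W.smul_mem _ hb.1), ?_⟩
  have hba : f b a = 0 := hb.2
  rw [hf.bilinear.add_left, hf.bilinear.add_right, hf.bilinear.add_right, hf.bilinear.smul_left,
    hf.bilinear.smul_left, hf.bilinear.smul_left, hf.bilinear.smul_left, hf.bilinear.smul_right,
    hf.bilinear.smul_right, hf.bilinear.smul_right, hf.bilinear.smul_right, hba, hf.symm a b, hba]
  field_simp at hxy
  linear_combination hxy

/-- a singular vector of `W` not orthogonal to `t` -/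
theorem exists_singular_pair {W : Submodule F (ι → F)} (hW : Fintype.card ι + 6 < 2 * Module.finrank F W)
    {t v : ι → F} (hv : v ∈ W) (htv : f t v ≠ 0) : ∃ w ∈ W, f w w = 0 ∧ f t w ≠ 0 := by
  have h1 := finrank_le_inf_ker W (sfl hf t)
  have h3 := finrank_le_inf_ker (W ⊓ LinearMap.ker (sfl hf t)) (sfl hf v)
  obtain ⟨e, he, hee⟩ := exists_with_value hf h2 (W := W ⊓ LinearMap.ker (sfl hf t) ⊓ LinearMap.ker (sfl hf v))
    (by omega) (-f v v)
  have het : f e t = 0 := he.1.2
  have hev : f e v = 0 := he.2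
  refine ⟨v + e, W.add_mem hv he.1.1, ?_, ?_⟩
  · rw [hf.bilinear.add_left, hf.bilinear.add_right, hf.bilinear.add_right, hee, hev, hf.symm v e, hev]
    ring
  · rw [hf.bilinear.add_right, hf.symm t e, het, add_zero]
    exact htv

omit h2 in
/-- two forms have a common zero in any five dimensional subspace -/
theorem exists_common_zero {f' : (ι → F) → (ι → F) → F} (hf' : IsSymmetricForm f') {W : Submodule F (ι → F)}
    (hW : 5 ≤ Module.finrank F W) : ∃ z ∈ W, z ≠ 0 ∧ f z z = 0 ∧ f' z z = 0 := by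
  classical
  let b := Module.finBasis F W
  obtain ⟨P, hP⟩ : ∃ P : ((ι → F) → (ι → F) → F) → MvPolynomial (Fin (Module.finrank F W)) F, ∀ g, P g =
      ∑ i, ∑ j, MvPolynomial.C (g (b i : ι → F) (b j : ι → F)) * MvPolynomial.X i * MvPolynomial.X j :=
    ⟨_, fun g => rfl⟩
  have hdeg : ∀ g, (P g).totalDegree ≤ 2 := fun g => by
    rw [hP]
    refine MvPolynomial.totalDegree_finsetSum_le fun i _ => ?_
    refine MvPolynomial.totalDegree_finsetSum_le fun j _ => ?_
    refine (MvPolynomial.totalDegree_mul _ _).trans ?_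
    refine le_trans (Nat.add_le_add_right (MvPolynomial.totalDegree_mul _ _) _) ?_
    rw [MvPolynomial.totalDegree_C, MvPolynomial.totalDegree_X, MvPolynomial.totalDegree_X]
  have heval : ∀ (g : (ι → F) → (ι → F) → F), IsSymmetricForm g → ∀ x, MvPolynomial.eval x (P g) =
      g (∑ i, x i • (b i : ι → F)) (∑ j, x j • (b j : ι → F)) := by
    intro g hg x
    have hl : ∀ z, g (∑ i, x i • (b i : ι → F)) z = ∑ i, x i * g (b i : ι → F) z := fun z => by
      show sfl hg z (∑ i, x i • (b i : ι → F)) = _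
      rw [map_sum]
      exact Finset.sum_congr rfl fun i _ => by rw [map_smul]; rfl
    rw [hP, map_sum, hl]
    refine Finset.sum_congr rfl fun i _ => ?_
    rw [hg.symm _ (∑ j, x j • (b j : ι → F)), hl, map_sum, Finset.mul_sum]
    refine Finset.sum_congr rfl fun j _ => ?_
    simp only [map_mul, MvPolynomial.eval_C, MvPolynomial.eval_X]
    rw [hg.symm (b j : ι → F)]
    ring
  obtain ⟨p, hp⟩ := CharP.exists F
  haveI : Fact p.Prime := ⟨CharP.char_is_prime F p⟩
  have hdvd := char_dvd_card_solutions_of_add_lt p (f₁ := P f) (f₂ := P f') (by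
    rw [Fintype.card_fin]
    have := hdeg f
    have := hdeg f'
    omega)
  have hzero : MvPolynomial.eval (0 : Fin (Module.finrank F W) → F) (P f) = 0 ∧
      MvPolynomial.eval (0 : Fin (Module.finrank F W) → F) (P f') = 0 := by
    rw [heval f hf, heval f' hf']
    simp [sym_zero_left hf, sym_zero_left hf']
  have hlt : 1 < Fintype.card {x // MvPolynomial.eval x (P f) = 0 ∧ MvPolynomial.eval x (P f') = 0} := by
    have hpos : 0 < Fintype.card {x // MvPolynomial.eval x (P f) = 0 ∧ MvPolynomial.eval x (P f') = 0} :=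
      Fintype.card_pos_iff.2 ⟨⟨0, hzero⟩⟩
    exact lt_of_lt_of_le (Fact.out : p.Prime).one_lt (Nat.le_of_dvd hpos hdvd)
  obtain ⟨⟨x, hx⟩, hne⟩ := Fintype.exists_ne_of_one_lt_card hlt ⟨0, hzero⟩
  refine ⟨((∑ i, x i • b i : W) : ι → F), Submodule.coe_mem _, fun h0 => hne (Subtype.ext ?_), ?_, ?_⟩
  · have h1 : (∑ i, x i • b i : W) = 0 := Subtype.ext h0
    exact funext fun i => Fintype.linearIndependent_iff.1 b.linearIndependent x h1 i
  · have h1 := hx.1
    rw [heval f hf] at h1
    simpa using h1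
  · have h1 := hx.2
    rw [heval f' hf'] at h1
    simpa using h1

/-! ### Eichler transformations -/

omit [Fintype F] hf h2 in
/-- `g` is the Eichler transformation of `u` and `a` -/
def IsEich (f : (ι → F) → (ι → F) → F) (u a : ι → F) (g : GL ι F) : Prop :=
  ∀ x, (g : Matrix ι ι F) *ᵥ x = x + f x u • a - f x a • u - (f a a / 2 * f x u) • u

omit [Fintype F] hf h2 in
/-- all Eichler transformations at `u` lie in `M` -/
def Eichs (f : (ι → F) → (ι → F) → F) (M : Subgroup (GL ι F)) (u : ι → F) : Prop :=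
  ∀ a, f u a = 0 → ∃ g ∈ M, IsEich f u a g

omit [Fintype F] in
theorem exists_eich {u a : ι → F} (huu : f u u = 0) (hua : f u a = 0) :
    ∃ g ∈ similarityGroup f ⊓ specialLinear ι F, IsEich f u a g := by
  have hau : f a u = 0 := by rw [hf.symm, hua]
  obtain ⟨A, hA⟩ : ∃ A : Matrix ι ι F,
      A = 1 + vecMulVec a (ov hf u) + vecMulVec (-u) (ov hf a + (f a a / 2) • ov hf u) := ⟨_, rfl⟩
  have happ : ∀ x, A *ᵥ x = x + f x u • a - f x a • u - (f a a / 2 * f x u) • u := fun x => by
    rw [hA, add_mulVec, add_mulVec, one_mulVec, vecMulVec_mulVec, vecMulVec_mulVec, op_smul_eq_smul,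
      op_smul_eq_smul, ov_dot, add_dotProduct, smul_dotProduct, ov_dot, ov_dot, smul_eq_mul, add_smul, smul_neg,
      smul_neg]
    abel
  have hiso : ∀ x y, f (A *ᵥ x) (A *ᵥ y) = f x y := by
    intro x y
    simp only [happ, sym_sub_left hf, sym_sub_right hf, hf.bilinear.add_left, hf.bilinear.add_right,
      hf.bilinear.smul_left, hf.bilinear.smul_right, huu, hua, hau, hf.symm u y, hf.symm a y]
    field_simp
    ring
  have hdet : A.det = 1 := by
    have key : ∀ (v w φ ψ : ι → F), (1 + vecMulVec v φ + vecMulVec w ψ).det =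
        (1 + φ ⬝ᵥ v) * (1 + ψ ⬝ᵥ w) - (φ ⬝ᵥ w) * (ψ ⬝ᵥ v) := by
      intro v w φ ψ
      let C : Matrix ι (Fin 2) F := Matrix.of fun i j => if j = 0 then v i else w i
      let B : Matrix (Fin 2) ι F := Matrix.of fun j i => if j = 0 then φ i else ψ i
      have hCB : 1 + vecMulVec v φ + vecMulVec w ψ = 1 + C * B := by
        rw [add_assoc]
        congr 1
        ext i j
        simp [C, B, Matrix.mul_apply, vecMulVec_apply, Fin.sum_univ_two]
      rw [hCB, det_one_add_mul_comm, det_fin_two]
      simp [C, B, Matrix.mul_apply, Matrix.one_apply, dotProduct]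
    rw [hA, key, dotProduct_neg, dotProduct_neg, add_dotProduct, add_dotProduct, smul_dotProduct, smul_dotProduct,
      ov_dot, ov_dot, ov_dot, ov_dot, huu, hau, hua]
    simp
  exact ⟨Matrix.GeneralLinearGroup.mkOfDetNeZero A (by rw [hdet]; exact one_ne_zero),
    ⟨⟨1, fun x y => (hiso x y).trans (one_mul _).symm⟩, Units.ext hdet⟩, happ⟩

end CfsgLib.Perm.Trans.Orth
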