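import Cfsg.Agent.Lib.Perm.Trans.QuadB

/-!
# Eichler transformations generate the commutator subgroup of an orthogonal group
-/

set_option autoImplicit false
set_option linter.all false

namespace CfsgLib.Perm.Trans.Quad

open scoped Matrix commutatorElement
open Matrix Cfsg.Geo CfsgLib.Perm.Asch CfsgLib.Perm.Trans

variable {ι : Type} [Fintype ι] [DecidableEq ι] {F : Type*} [Field F] [Fintype F]
variable {Q : (ι → F) → F}

local notation "pol" => QuadraticMap.polar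

/-- the Eichler transformation of `u` and `a` lies in `M` -/
def EIn (Q : (ι → F) → F) (M : Subgroup (GL ι F)) (u a : ι → F) : Prop := ∃ g ∈ M, IsE Q u a g

/-- the subgroup generated by the Eichler transformations -/
def eGroup (Q : (ι → F) → F) : Subgroup (GL ι F) :=
  Subgroup.closure {g | g ∈ Cfsg.isometryGroup F Q ∧ ∃ u a, Q u = 0 ∧ pol Q u a = 0 ∧ IsE Q u a g}

/-- the subgroup generated by the Eichler transformations and the reflections -/
def eRefl (Q : (ι → F) → F) : Subgroup (GL ι F) :=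
  eGroup Q ⊔ Subgroup.closure {g | g ∈ Cfsg.isometryGroup F Q ∧ ∃ v, Q v ≠ 0 ∧ IsRefl Q v g}

theorem eGroup_le_iso : eGroup Q ≤ Cfsg.isometryGroup F Q := (Subgroup.closure_le _).2 fun g hg => hg.1

theorem eGroup_normal {g e : GL ι F} (hg : g ∈ Cfsg.isometryGroup F Q) (he : e ∈ eGroup Q) :
    g * e * g⁻¹ ∈ eGroup Q := by
  induction he using Subgroup.closure_induction with
  | mem x hx =>
    obtain ⟨hxi, u, a, hu, hua, hxE⟩ := hx
    exact Subgroup.subset_closure ⟨mul_mem (mul_mem hg hxi) (inv_mem hg), _, _,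
      by rw [mem_iso.1 hg, hu], by rw [iso_pol hg, hua], hxE.conj hg⟩
  | one => rw [mul_one, mul_inv_cancel]; exact one_mem _
  | mul x y _ _ hx hy => rw [show g * (x * y) * g⁻¹ = g * x * g⁻¹ * (g * y * g⁻¹) by group]; exact mul_mem hx hy
  | inv x _ hx => rw [show g * x⁻¹ * g⁻¹ = (g * x * g⁻¹)⁻¹ by group]; exact inv_mem hx

theorem EIn.conj {M : Subgroup (GL ι F)} {u a : ι → F} (h : EIn Q M u a) {k : GL ι F}
    (hk : k ∈ Cfsg.isometryGroup F Q) (hkM : k ∈ M) :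
    EIn Q M ((k : Matrix ι ι F) *ᵥ u) ((k : Matrix ι ι F) *ᵥ a) :=
  let ⟨g, hg, hgE⟩ := h
  ⟨k * g * k⁻¹, mul_mem (mul_mem hkM hg) (inv_mem hkM), hgE.conj hk⟩

variable (hQ : IsNondegenerateQuadraticForm Q)
include hQ

theorem EIn.add {M : Subgroup (GL ι F)} {u a b : ι → F} (hu : Q u = 0) (ha : pol Q u a = 0) (hb : pol Q u b = 0)
    (h : EIn Q M u a) (h' : EIn Q M u b) : EIn Q M u (a + b) :=
  let ⟨g, hg, hgE⟩ := h
  let ⟨k, hk, hkE⟩ := h'
  ⟨g * k, mul_mem hg hk, hgE.mul hQ hu ha hb hkE⟩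

theorem EIn.smul_self (M : Subgroup (GL ι F)) {u : ι → F} (hu : Q u = 0) (s : F) : EIn Q M u (s • u) :=
  ⟨1, one_mem M, IsE.one hQ hu s⟩

theorem ein_eGroup {u a : ι → F} (hu : Q u = 0) (hua : pol Q u a = 0) : EIn Q (eGroup Q) u a := by
  obtain ⟨g, hg, hgE⟩ := exists_E hQ hu hua
  exact ⟨g, Subgroup.subset_closure ⟨hg, u, a, hu, hua, hgE⟩, hgE⟩

/-- the transformations at `e` move the partners of `e` -/
theorem exists_move_partner {e f f' : ι → F} (he : Q e = 0) (hf : Q f = 0) (hef : pol Q e f = 1) (hf' : Q f' = 0)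
    (hef' : pol Q e f' = 1) : ∃ a g, g ∈ eGroup Q ∧ IsE Q e a g ∧ a = f' - f - pol Q f' f • e ∧
      (g : Matrix ι ι F) *ᵥ e = e ∧ (g : Matrix ι ι F) *ᵥ f = f' := by
  obtain ⟨a, ha⟩ : ∃ a, a = f' - f - pol Q f' f • e := ⟨_, rfl⟩
  have hee : pol Q e e = 0 := by rw [pself hQ, he, mul_zero]
  have hff : pol Q f f = 0 := by rw [pself hQ, hf, mul_zero]
  have hea : pol Q e a = 0 := by
    rw [ha, psub_right hQ, psub_right hQ, psmul_right hQ, hef', hef, hee]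
    ring
  have hfa : pol Q f a = 0 := by
    rw [ha, psub_right hQ, psub_right hQ, psmul_right hQ, hff, pcomm f f', pcomm f e, hef]
    ring
  have hQa : Q a = -pol Q f' f := by
    rw [ha, qsub hQ, qsub hQ, qsmul hQ, hf', hf, he, psub_left hQ, psmul_right hQ, psmul_right hQ, pcomm f' e, hef',
      pcomm f e, hef]
    ring
  obtain ⟨g, hg, hgE⟩ := ein_eGroup hQ he hea
  refine ⟨a, g, hg, hgE, ha, ?_, ?_⟩
  · rw [hgE, hee, hea]
    simp
  · rw [hgE, pcomm f e, hef, hfa, hQa, ha]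
    module

/-- singular vectors in general position are conjugate -/
theorem move_step (hn : 5 ≤ Fintype.card ι) {e w : ι → F} (he : Q e = 0) (hw : Q w = 0) (hew : pol Q e w ≠ 0) :
    ∃ g ∈ eGroup Q, (g : Matrix ι ι F) *ᵥ e = w := by
  obtain ⟨c, hc⟩ : ∃ c, c = pol Q e w := ⟨_, rfl⟩
  rw [← hc] at hew
  obtain ⟨f, hfdef⟩ : ∃ f, f = c⁻¹ • w := ⟨_, rfl⟩
  have hf : Q f = 0 := by rw [hfdef, qsmul hQ, hw, mul_zero]
  have hef : pol Q e f = 1 := by rw [hfdef, psmul_right hQ, ← hc, inv_mul_cancel₀ hew]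
  have hdim := pair_finrank hQ (P := ⊤) (e := e) (f := f) Submodule.mem_top Submodule.mem_top he hf hef
  rw [finrank_top, Module.finrank_fintype_fun_eq_card] at hdim
  have hnd := pair_nd hQ (P := ⊤) (e := e) (f := f) Submodule.mem_top Submodule.mem_top he hf hef (ndOn_top hQ)
  obtain ⟨a, ha, hQa⟩ := exists_qvalue hQ hnd (by omega) (-c)
  obtain ⟨-, hae, haf⟩ := (mem_pairPerp hQ).1 ha
  have hee : pol Q e e = 0 := by rw [pself hQ, he, mul_zero]
  have hff : pol Q f f = 0 := by rw [pself hQ, hf, mul_zero]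
  obtain ⟨b, hb⟩ : ∃ b, b = (Q a)⁻¹ • a := ⟨_, rfl⟩
  have hQa0 : Q a ≠ 0 := by rw [hQa]; exact neg_ne_zero.2 hew
  obtain ⟨g₁, hg₁, h₁⟩ := ein_eGroup hQ hf (a := a) (by rw [pcomm, haf])
  obtain ⟨g₂, hg₂, h₂⟩ := ein_eGroup hQ he (a := b) (by rw [hb, psmul_right hQ, pcomm, hae, mul_zero])
  refine ⟨g₂ * g₁, mul_mem hg₂ hg₁, ?_⟩
  rw [gl_mul_mulVec, h₁, h₂, show w = c • f by rw [hfdef, smul_smul, mul_inv_cancel₀ hew, one_smul]]
  simp only [psub_left hQ, padd_left hQ, psmul_left hQ, hb, psmul_right hQ, qsmul hQ, hef, pcomm e a, pcomm f e, hae,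
    pcomm f a, haf, hee, hff, pself hQ a, pcomm a e]
  match_scalars <;> field_simp <;> simp [hQa] <;> ring

/-- a singular vector not orthogonal to two given ones -/
theorem exists_common_nonorth {u w : ι → F} (hu0 : u ≠ 0) (hw0 : w ≠ 0) (hu : Q u = 0) (huw : pol Q u w = 0) :
    ∃ z, Q z = 0 ∧ pol Q u z ≠ 0 ∧ pol Q z w ≠ 0 := by
  obtain ⟨a, ha⟩ := (hQ.nondegenerate u hu0).2
  obtain ⟨b, hb⟩ := (hQ.nondegenerate w hw0).2
  obtain ⟨y, hyu, hyw⟩ : ∃ y, pol Q u y ≠ 0 ∧ pol Q w y ≠ 0 := by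
    by_cases ha' : pol Q w a = 0
    · by_cases hb' : pol Q u b = 0
      · exact ⟨a + b, by rw [padd_right hQ, hb', add_zero]; exact ha,
          by rw [padd_right hQ, ha', zero_add]; exact hb⟩
      · exact ⟨b, hb', hb⟩
    · exact ⟨a, ha, ha'⟩
  refine ⟨y - (Q y / pol Q u y) • u, ?_, ?_, ?_⟩
  · rw [qsub hQ, qsmul hQ, hu, psmul_right hQ, pcomm y u, div_mul_cancel₀ _ hyu]
    ring
  · rw [psub_right hQ, psmul_right hQ, pself hQ, hu, mul_zero, mul_zero, sub_zero]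
    exact hyu
  · rw [psub_left hQ, psmul_left hQ, huw, mul_zero, sub_zero, pcomm]
    exact hyw

/-- the Eichler group is transitive on singular vectors -/
theorem exists_move (hn : 5 ≤ Fintype.card ι) {u w : ι → F} (hu0 : u ≠ 0) (hw0 : w ≠ 0) (hu : Q u = 0)
    (hw : Q w = 0) : ∃ g ∈ eGroup Q, (g : Matrix ι ι F) *ᵥ u = w := by
  by_cases huw : pol Q u w = 0
  · obtain ⟨z, hz, huz, hzw⟩ := exists_common_nonorth hQ hu0 hw0 hu huw
    obtain ⟨g₁, hg₁, e₁⟩ := move_step hQ hn hu hz huz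
    obtain ⟨g₂, hg₂, e₂⟩ := move_step hQ hn hz hw hzw
    exact ⟨g₂ * g₁, mul_mem hg₂ hg₁, by rw [gl_mul_mulVec, e₁, e₂]⟩
  · exact move_step hQ hn hu hw huw

/-- the Eichler group is transitive on hyperbolic pairs -/
theorem exists_move_pair (hn : 5 ≤ Fintype.card ι) {e f e' f' : ι → F} (he : Q e = 0) (hf : Q f = 0)
    (hef : pol Q e f = 1) (he' : Q e' = 0) (hf' : Q f' = 0) (hef' : pol Q e' f' = 1) :
    ∃ g ∈ eGroup Q, (g : Matrix ι ι F) *ᵥ e = e' ∧ (g : Matrix ι ι F) *ᵥ f = f' := by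
  have h0 : ∀ {a b : ι → F}, pol Q a b = 1 → a ≠ 0 := fun {a b} h h0 => by
    rw [h0, pzero_left hQ] at h
    exact zero_ne_one h
  obtain ⟨g, hg, hge⟩ := exists_move hQ hn (h0 hef) (h0 hef') he he'
  obtain ⟨a, k, hk, -, -, hke, hkf⟩ := exists_move_partner hQ (e := e') (f := (g : Matrix ι ι F) *ᵥ f) he'
    (by rw [mem_iso.1 (eGroup_le_iso hg), hf]) (by rw [← hge, iso_pol (eGroup_le_iso hg), hef]) hf' hef'
  exact ⟨k * g, mul_mem hk hg, by rw [gl_mul_mulVec, hge, hke], by rw [gl_mul_mulVec, hkf]⟩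

/-- a singular vector not orthogonal to a given nonsingular one -/
theorem exists_singular_nonorth (hn : 3 ≤ Fintype.card ι) {v : ι → F} (hv : v ≠ 0) :
    ∃ f, Q f = 0 ∧ pol Q v f ≠ 0 := by
  obtain ⟨e, -, he0, he⟩ := exists_qsingular hQ (P := ⊤) (ndOn_top hQ)
    (by rw [finrank_top, Module.finrank_fintype_fun_eq_card]; omega)
  obtain ⟨f, -, hf, hef⟩ := exists_qpartner hQ (ndOn_top hQ) Submodule.mem_top he0 he
  by_cases hve : pol Q v e = 0
  swap
  · exact ⟨e, he, hve⟩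
  by_cases hvf : pol Q v f = 0
  swap
  · exact ⟨f, hf, hvf⟩
  have hvP : v ∈ pairPerp hQ ⊤ e f := (mem_pairPerp hQ).2 ⟨Submodule.mem_top, hve, hvf⟩
  obtain ⟨a, ha, hva⟩ := ((pair_nd hQ (P := ⊤) Submodule.mem_top Submodule.mem_top he hf hef (ndOn_top hQ)) v hvP hv).2
  obtain ⟨-, hae, haf⟩ := (mem_pairPerp hQ).1 ha
  refine ⟨f + a - Q a • e, ?_, ?_⟩
  · rw [qsub hQ, qadd hQ, qsmul hQ, hf, he, psmul_right hQ, padd_left hQ, pcomm f e, hef, hae, pcomm f a, haf]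
    ring
  · rw [psub_right hQ, padd_right hQ, psmul_right hQ, hve, hvf, zero_add, mul_zero, sub_zero]
    exact hva

/-- the Eichler group is transitive on vectors of equal nonzero value -/
theorem exists_move_value (hn : 5 ≤ Fintype.card ι) {v w : ι → F} (hv : Q v ≠ 0) (hvw : Q v = Q w) :
    ∃ g ∈ eGroup Q, (g : Matrix ι ι F) *ᵥ v = w := by
  have key : ∀ v, Q v ≠ 0 → ∃ e f, Q e = 0 ∧ Q f = 0 ∧ pol Q e f = 1 ∧ v = e + Q v • f := by
    intro v hv
    obtain ⟨f₀, hf₀, hvf⟩ := exists_singular_nonorth hQ (by omega) (v := v) (fun h => hv (by rw [h]; exact qzero hQ))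
    obtain ⟨f, hfdef⟩ : ∃ f, f = (pol Q v f₀)⁻¹ • f₀ := ⟨_, rfl⟩
    have h1 : pol Q v f = 1 := by rw [hfdef, psmul_right hQ, inv_mul_cancel₀ hvf]
    have hf : Q f = 0 := by rw [hfdef, qsmul hQ, hf₀, mul_zero]
    refine ⟨v - Q v • f, f, ?_, hf, ?_, (sub_add_cancel _ _).symm⟩
    · rw [qsub hQ, qsmul hQ, hf, psmul_right hQ, h1]
      ring
    · rw [psub_left hQ, psmul_left hQ, h1, pself hQ, hf]
      ring
  obtain ⟨e, f, he, hf, hef, hve⟩ := key v hv
  obtain ⟨e', f', he', hf', hef', hwe⟩ := key w (hvw ▸ hv)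
  obtain ⟨g, hg, hge, hgf⟩ := exists_move_pair hQ hn he hf hef he' hf' hef'
  refine ⟨g, hg, ?_⟩
  rw [hve, mulVec_add, mulVec_smul, hge, hgf, hvw]
  exact hwe.symm

theorem refl_mem {d : ι → F} (hd : Q d ≠ 0) : ∃ r ∈ eRefl Q, r ∈ Cfsg.isometryGroup F Q ∧ IsRefl Q d r := by
  obtain ⟨r, hr, hrd⟩ := exists_refl hQ hd
  exact ⟨r, Subgroup.mem_sup_right (Subgroup.subset_closure ⟨hr, d, hd, hrd⟩), hr, hrd⟩

theorem refl_fix {d x : ι → F} {r : GL ι F} (hr : IsRefl Q d r) (h : pol Q x d = 0) :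
    (r : Matrix ι ι F) *ᵥ x = x := by rw [hr, h, mul_zero, zero_smul, sub_zero]

theorem refl_moves {u w : ι → F} (h : Q u = Q w) {r : GL ι F} (hd : Q (u - w) ≠ 0) (hr : IsRefl Q (u - w) r) :
    (r : Matrix ι ι F) *ᵥ u = w := by
  have h1 : pol Q u (u - w) = Q (u - w) := by
    rw [psub_right hQ, pself hQ, qsub hQ, ← h]
    ring
  rw [hr, h1, inv_mul_cancel₀ hd, one_smul, sub_sub_cancel]

/-- isometries supported on `P` are products of Eichler transformations and reflections -/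
theorem mem_eRefl_of_fix : ∀ (k : ℕ) (P : Submodule F (ι → F)), Module.finrank F P = k → NdOn Q P →
    ∀ g : GL ι F, g ∈ Cfsg.isometryGroup F Q → (∀ x ∈ qperp hQ P, (g : Matrix ι ι F) *ᵥ x = x) →
      (∀ x ∈ P, (g : Matrix ι ι F) *ᵥ x ∈ P) → g ∈ eRefl Q := by
  intro k
  induction k using Nat.strong_induction_on with
  | _ k ih =>
  intro P hk hP g hg hfix hmap
  classical
  have hdecomp : ∀ x : ι → F, ∃ p ∈ P, x - p ∈ qperp hQ P := by
    intro x
    have hinf : P ⊓ qperp hQ P = ⊥ := by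
      rw [eq_bot_iff]
      rintro v ⟨hvP, hv'⟩
      by_contra hne
      obtain ⟨y, hy, hyv⟩ := (hP v hvP hne).2
      exact hyv (hv' y hy)
    have h1 := Submodule.finrank_sup_add_finrank_inf_eq P (qperp hQ P)
    rw [hinf, finrank_bot, add_zero] at h1
    have h2 := finrank_qperp hQ P
    have hsup : P ⊔ qperp hQ P = ⊤ := Submodule.eq_top_of_finrank_eq (by
      refine le_antisymm (Submodule.finrank_le _) ?_
      rw [Module.finrank_fintype_fun_eq_card]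
      omega)
    obtain ⟨p, hp, y, hy, hpy⟩ := Submodule.mem_sup.1 (hsup ▸ Submodule.mem_top : x ∈ P ⊔ qperp hQ P)
    exact ⟨p, hp, by rwa [← hpy, add_sub_cancel_left]⟩
  have hfixall : ∀ h : GL ι F, (∀ x ∈ qperp hQ P, (h : Matrix ι ι F) *ᵥ x = x) →
      (∀ x ∈ P, (h : Matrix ι ι F) *ᵥ x = x) → h = 1 := by
    intro h h1 h2
    refine gl_ext_vec fun x => ?_
    obtain ⟨p, hp, hp'⟩ := hdecomp x
    have h3 := h1 _ hp'
    rw [mulVec_sub, h2 p hp, sub_left_inj] at h3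
    rw [h3, Units.val_one, one_mulVec]
  by_cases hsing : ∃ u ∈ P, u ≠ 0 ∧ Q u = 0
  swap
  · -- anisotropic
    push Not at hsing
    suffices hs : ∀ (m : ℕ) (g : GL ι F) (S : Submodule F (ι → F)), g ∈ Cfsg.isometryGroup F Q →
        (∀ x ∈ qperp hQ P, (g : Matrix ι ι F) *ᵥ x = x) → (∀ x ∈ P, (g : Matrix ι ι F) *ᵥ x ∈ P) →
        (∀ x ∈ S, (g : Matrix ι ι F) *ᵥ x = x) → S ≤ P → Module.finrank F P ≤ Module.finrank F S + m →
          g ∈ eRefl Q by
      exact hs _ g ⊥ hg hfix hmap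
        (fun x hx => by rw [(Submodule.mem_bot F).1 hx, mulVec_zero]) bot_le (Nat.le_add_left _ _)
    intro m
    induction m with
    | zero =>
      intro g S hg hfix hmap hS hSP hm
      rw [hfixall g hfix fun x hx => hS x (Submodule.eq_of_le_of_finrank_le hSP (by omega) ▸ hx)]
      exact one_mem _
    | succ m ihm =>
      intro g S hg hfix hmap hS hSP hm
      by_cases hall : ∀ x ∈ P, (g : Matrix ι ι F) *ᵥ x = x
      · rw [hfixall g hfix hall]
        exact one_mem _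
      push Not at hall
      obtain ⟨x, hx, hgx⟩ := hall
      obtain ⟨d, hd⟩ : ∃ d, d = (g : Matrix ι ι F) *ᵥ x - x := ⟨_, rfl⟩
      have hdP : d ∈ P := hd ▸ P.sub_mem (hmap x hx) hx
      have hQd : Q d ≠ 0 := hsing d hdP (hd ▸ sub_ne_zero.2 hgx)
      obtain ⟨r, hr, hri, hrd⟩ := refl_mem hQ hQd
      have hrg : ((r * g : GL ι F) : Matrix ι ι F) *ᵥ x = x := by
        rw [gl_mul_mulVec]
        exact refl_moves hQ (mem_iso.1 hg x) (hd ▸ hQd) (hd ▸ hrd)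
      have hfixr : ∀ s ∈ S, ((r * g : GL ι F) : Matrix ι ι F) *ᵥ s = s := fun s hs => by
        rw [gl_mul_mulVec, hS s hs]
        refine refl_fix hQ hrd ?_
        rw [hd, psub_right hQ]
        nth_rewrite 1 [← hS s hs]
        rw [iso_pol hg, sub_self]
      have hxS : x ∉ S := fun h => hgx (hS x h)
      have hlt : S < S ⊔ Submodule.span F {x} :=
        lt_of_le_of_ne le_sup_left fun h => hxS (h.symm ▸ Submodule.mem_sup_right (Submodule.mem_span_singleton_self x))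
      have h1 := Submodule.finrank_lt_finrank_of_lt hlt
      have h2 := ihm (r * g) (S ⊔ Submodule.span F {x}) (mul_mem hri hg) (fun y hy => by
          rw [gl_mul_mulVec, hfix y hy]
          exact refl_fix hQ hrd (hy d hdP))
        (fun y hy => by
          rw [gl_mul_mulVec, hrd]
          exact P.sub_mem (hmap y hy) (P.smul_mem _ hdP))
        (fun y hy => by
          obtain ⟨s, hs, t, ht, rfl⟩ := Submodule.mem_sup.1 hy
          obtain ⟨c, rfl⟩ := Submodule.mem_span_singleton.1 ht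
          rw [mulVec_add, mulVec_smul, hfixr s hs, hrg])
        (sup_le hSP ((Submodule.span_singleton_le_iff_mem _ _).2 hx)) (by omega)
      have h3 := mul_mem (inv_mem hr) h2
      rwa [inv_mul_cancel_left] at h3
  obtain ⟨u, hu, hu0, hQu⟩ := hsing
  obtain ⟨v, hv, hQv, huv⟩ := exists_qpartner hQ hP hu hu0 hQu
  -- move the image of `u` back to `u`
  have hstep : ∀ a b, a ∈ P → b ∈ P → Q a = 0 → Q b = 0 → pol Q a b ≠ 0 → ∃ r ∈ eRefl Q,
      r ∈ Cfsg.isometryGroup F Q ∧ (r : Matrix ι ι F) *ᵥ a = b ∧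
        (∀ x ∈ qperp hQ P, (r : Matrix ι ι F) *ᵥ x = x) ∧ ∀ x ∈ P, (r : Matrix ι ι F) *ᵥ x ∈ P := by
    intro a b ha hb hQa hQb hab
    have hd : Q (a - b) ≠ 0 := by
      rw [qsub hQ, hQa, hQb, add_zero, zero_sub]
      exact neg_ne_zero.2 hab
    obtain ⟨r, hr, hri, hrd⟩ := refl_mem hQ hd
    exact ⟨r, hr, hri, refl_moves hQ (hQa.trans hQb.symm) hd hrd,
      fun x hx => refl_fix hQ hrd (hx _ (P.sub_mem ha hb)),
      fun x hx => by rw [hrd]; exact P.sub_mem hx (P.smul_mem _ (P.sub_mem ha hb))⟩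
  obtain ⟨g₁, hg₁, hg₁i, hg₁u, hg₁f, hg₁P⟩ : ∃ g₁ ∈ eRefl Q, g₁ ∈ Cfsg.isometryGroup F Q ∧
      ((g₁ * g : GL ι F) : Matrix ι ι F) *ᵥ u = u ∧ (∀ x ∈ qperp hQ P, (g₁ : Matrix ι ι F) *ᵥ x = x) ∧
        ∀ x ∈ P, (g₁ : Matrix ι ι F) *ᵥ x ∈ P := by
    obtain ⟨w, hw⟩ : ∃ w, w = (g : Matrix ι ι F) *ᵥ u := ⟨_, rfl⟩
    have hwP : w ∈ P := hw ▸ hmap u hu
    have hQw : Q w = 0 := by rw [hw, mem_iso.1 hg, hQu]
    have hw0 : w ≠ 0 := fun h => hu0 (gl_mulVec_eq_zero.1 (hw ▸ h))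
    simp only [gl_mul_mulVec, ← hw]
    by_cases hwu : pol Q w u = 0
    swap
    · obtain ⟨r, h1, h2, h3, h4, h5⟩ := hstep w u hwP hu hQw hQu hwu
      exact ⟨r, h1, h2, h3, h4, h5⟩
    obtain ⟨a, ha, hua⟩ := (hP u hu hu0).2
    obtain ⟨b, hb, hwb⟩ := (hP w hwP hw0).2
    obtain ⟨y, hy, hyu, hyw⟩ : ∃ y ∈ P, pol Q u y ≠ 0 ∧ pol Q w y ≠ 0 := by
      by_cases ha' : pol Q w a = 0
      · by_cases hb' : pol Q u b = 0
        · exact ⟨a + b, P.add_mem ha hb, by rw [padd_right hQ, hb', add_zero]; exact hua,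
            by rw [padd_right hQ, ha', zero_add]; exact hwb⟩
        · exact ⟨b, hb, hb', hwb⟩
      · exact ⟨a, ha, hua, ha'⟩
    obtain ⟨z, hz⟩ : ∃ z, z = y - (Q y / pol Q u y) • u := ⟨_, rfl⟩
    have hzP : z ∈ P := hz ▸ P.sub_mem hy (P.smul_mem _ hu)
    have hQz : Q z = 0 := by
      rw [hz, qsub hQ, qsmul hQ, hQu, psmul_right hQ, pcomm y u, div_mul_cancel₀ _ hyu]
      ring
    have hwz : pol Q w z ≠ 0 := by
      rw [hz, psub_right hQ, psmul_right hQ, hwu, mul_zero, sub_zero]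
      exact hyw
    have hzu : pol Q z u ≠ 0 := by
      rw [hz, psub_left hQ, psmul_left hQ, pself hQ, hQu, mul_zero, mul_zero, sub_zero, pcomm]
      exact hyu
    obtain ⟨r₁, h1, h2, h3, h4, h5⟩ := hstep w z hwP hzP hQw hQz hwz
    obtain ⟨r₂, k1, k2, k3, k4, k5⟩ := hstep z u hzP hu hQz hQu hzu
    exact ⟨r₂ * r₁, mul_mem k1 h1, mul_mem k2 h2, by rw [gl_mul_mulVec, h3, k3],
      fun x hx => by rw [gl_mul_mulVec, h4 x hx, k4 x hx], fun x hx => by rw [gl_mul_mulVec]; exact k5 _ (h5 x hx)⟩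
  obtain ⟨w, hwdef⟩ : ∃ w, w = ((g₁ * g : GL ι F) : Matrix ι ι F) *ᵥ v := ⟨_, rfl⟩
  have hwP : w ∈ P := by rw [hwdef, gl_mul_mulVec]; exact hg₁P _ (hmap v hv)
  have hgi : g₁ * g ∈ Cfsg.isometryGroup F Q := mul_mem hg₁i hg
  obtain ⟨a, t, ht, htE, ha, htu, htv⟩ := exists_move_partner hQ hQu (f := w) (f' := v)
    (by rw [hwdef, mem_iso.1 hgi, hQv]) (by
      conv_lhs => rw [← hg₁u, hwdef]
      rw [iso_pol hgi, huv]) hQv huv
  have haP : a ∈ P := ha ▸ P.sub_mem (P.sub_mem hv hwP) (P.smul_mem _ hu)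
  obtain ⟨g₂, hg₂⟩ : ∃ g₂, g₂ = t * (g₁ * g) := ⟨_, rfl⟩
  have hg₂i : g₂ ∈ Cfsg.isometryGroup F Q := hg₂ ▸ mul_mem (eGroup_le_iso ht) hgi
  have hg₂u : (g₂ : Matrix ι ι F) *ᵥ u = u := by rw [hg₂, gl_mul_mulVec, hg₁u, htu]
  have hg₂v : (g₂ : Matrix ι ι F) *ᵥ v = v := by rw [hg₂, gl_mul_mulVec, ← hwdef, htv]
  have hg₂f : ∀ x ∈ qperp hQ P, (g₂ : Matrix ι ι F) *ᵥ x = x := fun x hx => by
    rw [hg₂, gl_mul_mulVec, gl_mul_mulVec, hfix x hx, hg₁f x hx, htE, hx u hu, hx a haP]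
    simp
  have hg₂P : ∀ x ∈ P, (g₂ : Matrix ι ι F) *ᵥ x ∈ P := fun x hx => by
    rw [hg₂, gl_mul_mulVec, gl_mul_mulVec, htE]
    exact P.sub_mem (P.sub_mem (P.add_mem (hg₁P _ (hmap x hx)) (P.smul_mem _ haP)) (P.smul_mem _ hu)) (P.smul_mem _ hu)
  have h2 : g₂ ∈ eRefl Q := ih _ (hk ▸ pair_lt hQ hu hv hQu hQv huv) _ rfl (pair_nd hQ hu hv hQu hQv huv hP) g₂ hg₂i
    (fun x hx => by
      obtain ⟨p, hp, hp'⟩ := hdecomp x
      have hpu : ∀ y ∈ pairPerp hQ P u v, pol Q p y = 0 := fun y hy => by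
        have h3 : pol Q (x - p) y = 0 := hp' y ((mem_pairPerp hQ).1 hy).1
        rw [psub_left hQ, hx y hy, zero_sub, neg_eq_zero] at h3
        exact h3
      have hp2 : p - pol Q p v • u - pol Q p u • v = 0 := by
        by_contra hne
        obtain ⟨y, hy, hyp⟩ := ((pair_nd hQ hu hv hQu hQv huv hP) _ (pair_proj hQ hu hv hQu hQv huv hp) hne).2
        refine hyp ?_
        obtain ⟨-, hyu, hyv⟩ := (mem_pairPerp hQ).1 hy
        rw [psub_left hQ, psub_left hQ, psmul_left hQ, psmul_left hQ, hpu y hy, pcomm u y, hyu, pcomm v y, hyv]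
        ring
      have hpe : p = pol Q p v • u + pol Q p u • v := by
        rw [sub_sub, sub_eq_zero] at hp2
        exact hp2
      have h3 := hg₂f _ hp'
      have h4 : (g₂ : Matrix ι ι F) *ᵥ p = p := by
        rw [hpe, mulVec_add, mulVec_smul, mulVec_smul, hg₂u, hg₂v]
      rw [mulVec_sub, h4, sub_left_inj] at h3
      exact h3)
    (fun x hx => by
      obtain ⟨hxP, hxu, hxv⟩ := (mem_pairPerp hQ).1 hx
      refine (mem_pairPerp hQ).2 ⟨hg₂P x hxP, ?_, ?_⟩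
      · conv_lhs => rw [← hg₂u, iso_pol hg₂i]
        exact hxu
      · conv_lhs => rw [← hg₂v, iso_pol hg₂i]
        exact hxv)
  have h3 := mul_mem (inv_mem hg₁) (mul_mem (inv_mem (Subgroup.mem_sup_left ht : t ∈ eRefl Q)) h2)
  rwa [hg₂, inv_mul_cancel_left, inv_mul_cancel_left] at h3

theorem iso_le_eRefl : Cfsg.isometryGroup F Q ≤ eRefl Q := fun g hg =>
  mem_eRefl_of_fix hQ _ ⊤ rfl (ndOn_top hQ) g hg (fun x hx => by
    have hx0 : x = 0 := by
      by_contra hne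
      obtain ⟨y, hy⟩ := (hQ.nondegenerate x hne).2
      exact hy (hx y Submodule.mem_top)
    rw [hx0, mulVec_zero]) fun x _ => Submodule.mem_top

omit [Fintype F] hQ in
theorem mem_omegaGL_comm {g h : GL ι F} (hg : g ∈ Cfsg.isometryGroup F Q) (hh : h ∈ Cfsg.isometryGroup F Q) :
    g * h * g⁻¹ * h⁻¹ ∈ omegaGL Q :=
  Subgroup.mem_map.2 ⟨⁅(⟨g, hg⟩ : Cfsg.isometryGroup F Q), ⟨h, hh⟩⁆,
    Subgroup.commutator_mem_commutator (Subgroup.mem_top _) (Subgroup.mem_top _), rfl⟩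

omit [Fintype F] hQ in
theorem omegaGL_le_iso : omegaGL Q ≤ Cfsg.isometryGroup F Q := fun g hg => by
  obtain ⟨x, -, rfl⟩ := Subgroup.mem_map.1 hg
  exact x.2

theorem ein_omega (hn : 5 ≤ Fintype.card ι) {u a : ι → F} (hu : Q u = 0) (hua : pol Q u a = 0) :
    EIn Q (omegaGL Q) u a := by
  rcases eq_or_ne u 0 with rfl | hu0
  · refine ⟨1, one_mem _, fun x => ?_⟩
    rw [Units.val_one, one_mulVec, pzero_right hQ]
    simp
  obtain ⟨u', -, hu', huu'⟩ := exists_qpartner hQ (ndOn_top hQ) Submodule.mem_top hu0 hu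
  have hdim := pair_finrank hQ (P := ⊤) (e := u) (f := u') Submodule.mem_top Submodule.mem_top hu hu' huu'
  rw [finrank_top, Module.finrank_fintype_fun_eq_card] at hdim
  have hnd := pair_nd hQ (P := ⊤) (e := u) (f := u') Submodule.mem_top Submodule.mem_top hu hu' huu' (ndOn_top hQ)
  let S : Submodule F (ι → F) :=
    { carrier := {p | pol Q u p = 0 ∧ ∀ s : F, EIn Q (omegaGL Q) u (s • p)}
      zero_mem' := ⟨pzero_right hQ u, fun s => by
        rw [smul_zero]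
        have := EIn.smul_self hQ (omegaGL Q) hu 0
        rwa [zero_smul] at this⟩
      add_mem' := fun {p p'} hp hp' => ⟨by rw [padd_right hQ, hp.1, hp'.1, add_zero], fun s => by
        rw [smul_add]
        exact EIn.add hQ hu (by rw [psmul_right hQ, hp.1, mul_zero]) (by rw [psmul_right hQ, hp'.1, mul_zero])
          (hp.2 s) (hp'.2 s)⟩
      smul_mem' := fun c p hp => ⟨by rw [psmul_right hQ, hp.1, mul_zero], fun s => by
        rw [smul_smul]; exact hp.2 _⟩ }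
  have hle : pairPerp hQ ⊤ u u' ≤ S := by
    refine le_of_nonsingular_mem hQ hnd (by omega) fun v hv hQv => ?_
    obtain ⟨-, hvu, hvu'⟩ := (mem_pairPerp hQ).1 hv
    refine ⟨by rw [pcomm, hvu], fun s => ?_⟩
    obtain ⟨y, hy, hvy⟩ := (hnd v hv (fun h => hQv (by rw [h, qzero hQ]))).2
    obtain ⟨-, hyu, -⟩ := (mem_pairPerp hQ).1 hy
    obtain ⟨b, hb⟩ : ∃ b, b = (-(s * Q v) / pol Q v y) • y := ⟨_, rfl⟩
    have hub : pol Q u b = 0 := by rw [hb, psmul_right hQ, pcomm u y, hyu, mul_zero]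
    obtain ⟨r, hr, hrv⟩ := exists_refl hQ hQv
    obtain ⟨g, hg, hgE⟩ := exists_E hQ hu hub
    obtain ⟨g', hg', hg'E⟩ := exists_E hQ hu (a := -b) (by rw [pneg_right hQ, hub, neg_zero])
    refine ⟨r * g * r⁻¹ * g⁻¹, mem_omegaGL_comm hr hg, ?_⟩
    have hinv : g⁻¹ = g' := by
      refine (mul_eq_one_iff_inv_eq).1 (gl_ext_vec fun x => ?_)
      have h1 := hgE.mul hQ hu hub (by rw [pneg_right hQ, hub, neg_zero]) hg'E x
      rw [add_neg_cancel] at h1
      rw [h1, Units.val_one, one_mulVec, pzero_right hQ, qzero hQ]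
      simp
    have h1 : IsE Q u ((r : Matrix ι ι F) *ᵥ b) (r * g * r⁻¹) := by
      have := hgE.conj hr
      rwa [refl_fix hQ hrv (by rw [pcomm, hvu])] at this
    have h2 : pol Q u ((r : Matrix ι ι F) *ᵥ b) = 0 := by
      conv_lhs => rw [← refl_fix hQ hrv (x := u) (by rw [pcomm, hvu])]
      rw [iso_pol hr, hub]
    rw [hinv]
    convert h1.mul hQ hu h2 (by rw [pneg_right hQ, hub, neg_zero]) hg'E using 1
    rw [hrv, hb, psmul_left hQ, pcomm y v, div_mul_cancel₀ _ hvy]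
    match_scalars <;> field_simp
    ring
  have hp : a - pol Q a u' • u ∈ pairPerp hQ ⊤ u u' := by
    refine (mem_pairPerp hQ).2 ⟨Submodule.mem_top, ?_, ?_⟩
    · rw [psub_left hQ, psmul_left hQ, pcomm, hua, pself hQ, hu]
      ring
    · rw [psub_left hQ, psmul_left hQ, huu']
      ring
  have h1 := (hle hp).2 1
  rw [one_smul] at h1
  have h2 := EIn.add hQ hu (hle hp).1 (by rw [psmul_right hQ, pself hQ, hu, mul_zero, mul_zero]) h1
    (EIn.smul_self hQ (omegaGL Q) hu (pol Q a u'))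
  rwa [sub_add_cancel] at h2

theorem eGroup_le_omega (hn : 5 ≤ Fintype.card ι) : eGroup Q ≤ omegaGL Q := by
  refine (Subgroup.closure_le _).2 ?_
  rintro g ⟨-, u, a, hu, hua, hgE⟩
  obtain ⟨k, hk, hkE⟩ := ein_omega hQ hn hu hua
  rw [hgE.unique hkE]
  exact hk

/-- `Ω` is generated by the Eichler transformations -/
theorem omegaGL_eq (hn : 5 ≤ Fintype.card ι) : omegaGL Q = eGroup Q := by
  refine le_antisymm ?_ (eGroup_le_omega hQ hn)
  let N : Subgroup (Cfsg.isometryGroup F Q) := (eGroup Q).comap (Cfsg.isometryGroup F Q).subtype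
  haveI : N.Normal := ⟨fun x hx g => eGroup_normal g.2 hx⟩
  let π := QuotientGroup.mk' N
  have hπ : ∀ x ∈ N, π x = 1 := fun x hx => (QuotientGroup.eq_one_iff x).2 hx
  -- reflections commute modulo the Eichler group
  have hcomm : ∀ (v w : ι → F) (r s : Cfsg.isometryGroup F Q), Q v ≠ 0 → Q w ≠ 0 → IsRefl Q v r.1 →
      IsRefl Q w s.1 → Commute (π r) (π s) := by
    intro v w r s hv hw hr hs
    have h1 : IsRefl Q ((r.1 : Matrix ι ι F) *ᵥ w) (r * s * r⁻¹ : Cfsg.isometryGroup F Q).1 := hs.conj r.2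
    obtain ⟨e, he, hew⟩ := exists_move_value hQ hn (v := w) (w := (r.1 : Matrix ι ι F) *ᵥ w) hw
      (mem_iso.1 r.2 w).symm
    have h2 := hs.conj (eGroup_le_iso he)
    rw [hew] at h2
    have h3 : r * s * r⁻¹ = ⟨e, eGroup_le_iso he⟩ * s * ⟨e, eGroup_le_iso he⟩⁻¹ := Subtype.ext (h1.unique h2)
    have h4 := congrArg π h3
    rw [map_mul, map_mul, map_mul, map_mul, map_inv, map_inv,
      hπ ⟨e, eGroup_le_iso he⟩ he, one_mul, inv_one, mul_one] at h4
    exact mul_inv_eq_iff_eq_mul.1 h4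
  let R : Set (Cfsg.isometryGroup F Q) := {r | ∃ v, Q v ≠ 0 ∧ IsRefl Q v r.1}
  have htop : Subgroup.closure (π '' R) = ⊤ := by
    refine eq_top_iff.2 fun y _ => ?_
    obtain ⟨g, rfl⟩ := QuotientGroup.mk'_surjective N y
    have hg : g.1 ∈ eRefl Q := iso_le_eRefl hQ g.2
    have hle : eRefl Q ≤ ((Subgroup.closure (π '' R)).comap π).map (Cfsg.isometryGroup F Q).subtype := by
      refine sup_le (fun x hx => ⟨⟨x, eGroup_le_iso hx⟩, ?_, rfl⟩) ((Subgroup.closure_le _).2 ?_)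
      · show π _ ∈ Subgroup.closure _
        rw [hπ ⟨x, eGroup_le_iso hx⟩ hx]
        exact one_mem _
      · rintro x ⟨hxi, v, hv, hxv⟩
        exact ⟨⟨x, hxi⟩, Subgroup.subset_closure ⟨⟨x, hxi⟩, ⟨v, hv, hxv⟩, rfl⟩, rfl⟩
    obtain ⟨g', hg', hgg⟩ := hle hg
    rw [← (show g' = g from Subtype.ext hgg)]
    exact hg'
  have hall : ∀ a b : Cfsg.isometryGroup F Q ⧸ N, Commute a b := by
    intro a b
    refine Subgroup.closure_induction (p := fun x _ => Commute x b) ?_ (Commute.one_left _)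
      (fun _ _ _ _ h1 h2 => h1.mul_left h2) (fun _ _ h => h.inv_left) (htop ▸ Subgroup.mem_top a)
    rintro _ ⟨r, ⟨v, hv, hr⟩, rfl⟩
    refine Subgroup.closure_induction (p := fun y _ => Commute (π r) y) ?_ (Commute.one_right _)
      (fun _ _ _ _ h1 h2 => h1.mul_right h2) (fun _ _ h => h.inv_right) (htop ▸ Subgroup.mem_top b)
    rintro _ ⟨s, ⟨w, hw, hs⟩, rfl⟩
    exact hcomm v w r s hv hw hr hs
  rintro _ ⟨x, hx, rfl⟩
  have hle : Cfsg.Omega F Q ≤ N := by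
    rw [show Cfsg.Omega F Q = commutator (Cfsg.isometryGroup F Q) from rfl, commutator_def, Subgroup.commutator_le]
    intro a _ b _
    refine (QuotientGroup.eq_one_iff _).1 ?_
    show π ⁅a, b⁆ = 1
    rw [map_commutatorElement, commutatorElement_eq_one_iff_commute]
    exact hall _ _
  exact hle hx

end CfsgLib.Perm.Trans.Quad
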