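import Mathlib
import Cfsg.Agent.Lib.Perm.Trans.TensorFrame

/-!
# Overgroups of tensor product subgroups: the descent on pure subspaces

A root is an element `1 ⊗ (1 + b β)`.  If a group `M` containing enough roots has the property that every
element moving some `U ⊗ b` to a pure subspace lies in the tensor product subgroup, then all of `M` does.
-/

set_option autoImplicit false
set_option linter.all false

namespace CfsgLib.Perm.Trans.TensorMax

open scoped Matrix Kronecker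
open Matrix Cfsg.Geo CfsgLib.Perm.Asch CfsgLib.Perm.Trans CfsgLib.Perm.Trans.TensorFrame

variable {ι : Type} [Fintype ι] [DecidableEq ι] {F : Type*} [Field F] {r s : ℕ}

/-! ### coordinates -/

/-- the coordinates with respect to the product basis -/
def crd (e : ι ≃ Fin r × Fin s) (P : GL ι F) : (ι → F) →ₗ[F] (Fin r × Fin s → F) where
  toFun z := fun p => (((P⁻¹ : GL ι F) : Matrix ι ι F) *ᵥ z) (e.symm p)
  map_add' z z' := by funext p; simp [mulVec_add]
  map_smul' c z := by funext p; simp [mulVec_smul]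

variable {e : ι ≃ Fin r × Fin s} {P : GL ι F}

theorem crd_tvec (x : Fin r → F) (y : Fin s → F) (p : Fin r × Fin s) : crd e P (tvec e P x y) p = x p.1 * y p.2 := by
  show (((P⁻¹ : GL ι F) : Matrix ι ι F) *ᵥ tvec e P x y) (e.symm p) = _
  rw [tvec, gl_inv_mulVec]
  simp

theorem crd_inj {z z' : ι → F} (h : crd e P z = crd e P z') : z = z' := by
  have h1 : ((P⁻¹ : GL ι F) : Matrix ι ι F) *ᵥ z = ((P⁻¹ : GL ι F) : Matrix ι ι F) *ᵥ z' := by
    funext i
    simpa [crd] using congrFun h (e i)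
  rw [← gl_mulVec_inv P z, h1, gl_mulVec_inv]

/-- contraction of the second factor with `β` -/
def co (e : ι ≃ Fin r × Fin s) (P : GL ι F) (β : Fin s → F) : (ι → F) →ₗ[F] (Fin r → F) where
  toFun z := fun i => ∑ j, crd e P z (i, j) * β j
  map_add' z z' := by funext i; simp [add_mul, Finset.sum_add_distrib]
  map_smul' c z := by funext i; simp [Finset.mul_sum, mul_assoc]

/-- contraction of the first factor with `γ` -/
def rc (e : ι ≃ Fin r × Fin s) (P : GL ι F) (γ : Fin r → F) : (ι → F) →ₗ[F] (Fin s → F) where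
  toFun z := fun j => ∑ i, γ i * crd e P z (i, j)
  map_add' z z' := by funext j; simp [mul_add, Finset.sum_add_distrib]
  map_smul' c z := by funext j; simp [Finset.mul_sum, mul_left_comm]

theorem co_tvec (β : Fin s → F) (x : Fin r → F) (y : Fin s → F) : co e P β (tvec e P x y) = (β ⬝ᵥ y) • x := by
  funext i
  show ∑ j, crd e P (tvec e P x y) (i, j) * β j = _
  simp only [crd_tvec, Pi.smul_apply, smul_eq_mul, dotProduct, Finset.sum_mul]
  exact Finset.sum_congr rfl fun j _ => by ring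

theorem rc_tvec (γ : Fin r → F) (x : Fin r → F) (y : Fin s → F) : rc e P γ (tvec e P x y) = (γ ⬝ᵥ x) • y := by
  funext j
  show ∑ i, γ i * crd e P (tvec e P x y) (i, j) = _
  simp only [crd_tvec, Pi.smul_apply, smul_eq_mul, dotProduct, Finset.sum_mul]
  exact Finset.sum_congr rfl fun i _ => by ring

theorem co_add (β β' : Fin s → F) (z : ι → F) : co e P (β + β') z = co e P β z + co e P β' z := by
  funext i
  show ∑ j, crd e P z (i, j) * (β + β') j = _
  simp [mul_add, Finset.sum_add_distrib, co]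

theorem co_smul (c : F) (β : Fin s → F) (z : ι → F) : co e P (c • β) z = c • co e P β z := by
  funext i
  show ∑ j, crd e P z (i, j) * (c • β) j = _
  simp [Finset.mul_sum, mul_left_comm, co]

theorem co_rc (β : Fin s → F) (γ : Fin r → F) (z : ι → F) : β ⬝ᵥ rc e P γ z = γ ⬝ᵥ co e P β z := by
  show ∑ j, β j * ∑ i, γ i * crd e P z (i, j) = ∑ i, γ i * ∑ j, crd e P z (i, j) * β j
  simp only [Finset.mul_sum]
  rw [Finset.sum_comm]
  exact Finset.sum_congr rfl fun i _ => Finset.sum_congr rfl fun j _ => by ring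

theorem tvec_zero_left (y : Fin s → F) : tvec e P 0 y = 0 := by
  rw [← zero_smul F (0 : Fin r → F), tvec_smul_left, zero_smul]

theorem tvec_zero_right (x : Fin r → F) : tvec e P x 0 = 0 := by
  rw [← zero_smul F (0 : Fin s → F), tvec_smul_right, zero_smul]

theorem exists_dot_one {k : ℕ} {b : Fin k → F} (hb : b ≠ 0) : ∃ γ : Fin k → F, γ ⬝ᵥ b = 1 := by
  obtain ⟨γ, hγ, -⟩ := exists_dual (⊥ : Submodule F (Fin k → F)) (x := b) (by simpa using hb)
  exact ⟨γ, hγ⟩

theorem tvec_left_inj {b : Fin s → F} (hb : b ≠ 0) {x x' : Fin r → F} (h : tvec e P x b = tvec e P x' b) : x = x' := by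
  obtain ⟨γ, hγ⟩ := exists_dot_one hb
  simpa [co_tvec, hγ] using congrArg (co e P γ) h

theorem tvec_ne_zero {x : Fin r → F} {y : Fin s → F} (hx : x ≠ 0) (hy : y ≠ 0) : tvec e P x y ≠ 0 := fun h =>
  hx (tvec_left_inj hy (h.trans (tvec_zero_left y).symm))

/-- a vector killed by all contractions orthogonal to `b` lies in `U ⊗ b` -/
theorem pure_of_co {b γ : Fin s → F} (hγ : γ ⬝ᵥ b = 1) {z : ι → F}
    (h : ∀ δ : Fin s → F, δ ⬝ᵥ b = 0 → co e P δ z = 0) : z = tvec e P (co e P γ z) b := by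
  refine crd_inj (e := e) (P := P) (funext fun p => ?_)
  obtain ⟨i, j⟩ := p
  rw [crd_tvec]
  have h1 := congrFun (h (Pi.single j 1 - b j • γ)
    (by rw [sub_dotProduct, smul_dotProduct, hγ, single_dotProduct]; simp)) i
  rw [sub_eq_add_neg, ← neg_smul, co_add, co_smul] at h1
  simp only [Pi.add_apply, Pi.smul_apply, smul_eq_mul, Pi.zero_apply, neg_mul] at h1
  have h2 : co e P (Pi.single j 1) z i = crd e P z (i, j) := by
    show ∑ l, crd e P z (i, l) * (Pi.single j (1 : F) : Fin s → F) l = _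
    simp [Pi.single_apply]
  rw [h2] at h1
  show _ = co e P γ z i * b j
  linear_combination h1

theorem lin_ext {N : Type*} [AddCommGroup N] [Module F N] {f g : (ι → F) →ₗ[F] N}
    (h : ∀ x y, f (tvec e P x y) = g (tvec e P x y)) : f = g :=
  LinearMap.ext_on (s := {w | ∃ x y, tvec e P x y = w}) (eq_top_iff.2 fun z _ => tvec_span z)
    (by rintro _ ⟨x, y, rfl⟩; exact h x y)

theorem gl_ext_tvec {g h : GL ι F}
    (H : ∀ x y, (g : Matrix ι ι F) *ᵥ tvec e P x y = (h : Matrix ι ι F) *ᵥ tvec e P x y) : g = h :=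
  gl_ext_vec fun z => LinearMap.congr_fun
    (lin_ext (f := Matrix.mulVecLin (g : Matrix ι ι F)) (g := Matrix.mulVecLin (h : Matrix ι ι F)) H) z

/-! ### Kronecker elements and roots -/

/-- the Kronecker product of invertible matrices -/
def kr (A : GL (Fin r) F) (B : GL (Fin s) F) : GL (Fin r × Fin s) F where
  val := (A : Matrix (Fin r) (Fin r) F) ⊗ₖ (B : Matrix (Fin s) (Fin s) F)
  inv := ((A⁻¹ : GL (Fin r) F) : Matrix (Fin r) (Fin r) F) ⊗ₖ ((B⁻¹ : GL (Fin s) F) : Matrix (Fin s) (Fin s) F)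
  val_inv := by rw [← Matrix.mul_kronecker_mul, Units.mul_inv, Units.mul_inv, Matrix.one_kronecker_one]
  inv_val := by rw [← Matrix.mul_kronecker_mul, Units.inv_mul, Units.inv_mul, Matrix.one_kronecker_one]

/-- the element of the tensor product subgroup with factors `A` and `B` -/
def kg (e : ι ≃ Fin r × Fin s) (P : GL ι F) (A : GL (Fin r) F) (B : GL (Fin s) F) : GL ι F :=
  P * glReindex e.symm (kr A B) * P⁻¹

theorem kg_mem (A : GL (Fin r) F) (B : GL (Fin s) F) : kg e P A B ∈ tensorProductSubgroup r s e P :=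
  ⟨glReindex e.symm (kr A B), ⟨kr A B, ⟨A, B, rfl⟩, rfl⟩, rfl⟩

theorem kg_tvec (A : GL (Fin r) F) (B : GL (Fin s) F) (x : Fin r → F) (y : Fin s → F) :
    (kg e P A B : Matrix ι ι F) *ᵥ tvec e P x y =
      tvec e P ((A : Matrix (Fin r) (Fin r) F) *ᵥ x) ((B : Matrix (Fin s) (Fin s) F) *ᵥ y) := by
  rw [kg, gl_mul_mulVec, gl_mul_mulVec, tvec, gl_inv_mulVec, tvec]
  congr 1
  rw [show ((glReindex e.symm (kr A B) : GL ι F) : Matrix ι ι F) =
      ((A : Matrix (Fin r) (Fin r) F) ⊗ₖ (B : Matrix (Fin s) (Fin s) F)).submatrix e e from rfl,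
    Matrix.submatrix_mulVec_equiv]
  congr 1
  rw [show ((fun p : Fin r × Fin s => x p.1 * y p.2) ∘ ⇑e) ∘ ⇑e.symm = (fun p => x p.1 * y p.2) by ext p; simp,
    kron_mulVec]

theorem kg_det (A : GL (Fin r) F) (B : GL (Fin s) F) : (kg e P A B : Matrix ι ι F).det =
    (A : Matrix (Fin r) (Fin r) F).det ^ s * (B : Matrix (Fin s) (Fin s) F).det ^ r := by
  rw [kg, Units.val_mul, Units.val_mul, Matrix.det_units_conj,
    show ((glReindex e.symm (kr A B) : GL ι F) : Matrix ι ι F) =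
      ((A : Matrix (Fin r) (Fin r) F) ⊗ₖ (B : Matrix (Fin s) (Fin s) F)).submatrix e e from rfl,
    Matrix.det_submatrix_equiv_self, Matrix.det_kronecker]
  simp [Fintype.card_fin]

/-- the root element `1 ⊗ (1 + b β)` -/
def rootGL (e : ι ≃ Fin r × Fin s) (P : GL ι F) (b β : Fin s → F) (h : β ⬝ᵥ b = 0) : GL ι F :=
  kg e P 1 (tv b β h)

theorem root_mulVec (b β : Fin s → F) (h : β ⬝ᵥ b = 0) (z : ι → F) :
    (rootGL e P b β h : Matrix ι ι F) *ᵥ z = z + tvec e P (co e P β z) b := by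
  refine LinearMap.congr_fun (lin_ext (e := e) (P := P) (f := Matrix.mulVecLin (rootGL e P b β h : Matrix ι ι F))
    (g := LinearMap.id + (⟨⟨fun x => tvec e P x b, fun x x' => tvec_add_left x x' b⟩,
      fun c x => tvec_smul_left c x b⟩ : (Fin r → F) →ₗ[F] (ι → F)).comp (co e P β)) fun x y => ?_) z
  show (rootGL e P b β h : Matrix ι ι F) *ᵥ tvec e P x y = tvec e P x y + tvec e P (co e P β (tvec e P x y)) b
  rw [rootGL, kg_tvec, Units.val_one, one_mulVec, tv_mulVec, co_tvec, tvec_add_right, tvec_smul_right, tvec_smul_left]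

theorem conj_root_mulVec (g : GL ι F) (b β : Fin s → F) (h : β ⬝ᵥ b = 0) (z : ι → F) :
    ((g * rootGL e P b β h * g⁻¹ : GL ι F) : Matrix ι ι F) *ᵥ z =
      z + (g : Matrix ι ι F) *ᵥ tvec e P (co e P β (((g⁻¹ : GL ι F) : Matrix ι ι F) *ᵥ z)) b := by
  rw [gl_mul_mulVec, gl_mul_mulVec, root_mulVec, mulVec_add, gl_mulVec_inv]

theorem scalar_of_eigen {k : ℕ} (hk : 0 < k) {A : Matrix (Fin k) (Fin k) F}
    (h : ∀ a : Fin k → F, ∃ c : F, A *ᵥ a = c • a) : ∃ l : F, ∀ a : Fin k → F, A *ᵥ a = l • a := by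
  choose c hc using h
  let i0 : Fin k := ⟨0, hk⟩
  have key : ∀ i, c (Pi.single i 1) = c (Pi.single i0 1) := by
    intro i
    rcases eq_or_ne i i0 with rfl | hi
    · rfl
    have h1 := hc (Pi.single i 1 + Pi.single i0 1)
    rw [mulVec_add, hc, hc] at h1
    have ha := congrFun h1 i
    have hb := congrFun h1 i0
    simp [hi, hi.symm] at ha hb
    rw [ha, hb]
  refine ⟨c (Pi.single i0 1), fun a => ?_⟩
  conv_lhs => rw [pi_eq_sum_univ' a]
  rw [mulVec_sum]
  conv_rhs => rw [pi_eq_sum_univ' a]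
  rw [Finset.smul_sum]
  exact Finset.sum_congr rfl fun i _ => by rw [mulVec_smul, hc, key, smul_comm]

/-- a conjugate of a root lying in the tensor product subgroup comes from a pure subspace -/
theorem fold (hr : 0 < r) (hrs : r < s) {g : GL ι F} {b β : Fin s → F} (h : β ⬝ᵥ b = 0) (hb : b ≠ 0) (hβ : β ≠ 0)
    (hmem : g * rootGL e P b β h * g⁻¹ ∈ tensorProductSubgroup r s e P) :
    ∃ b'' : Fin s → F, b'' ≠ 0 ∧ ∀ x, ∃ x', (g : Matrix ι ι F) *ᵥ tvec e P x b = tvec e P x' b'' := by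
  obtain ⟨A, B, hAB⟩ := mem_tensor hmem
  set π : (ι → F) →ₗ[F] (Fin r → F) := (co e P β).comp (Matrix.mulVecLin ((g⁻¹ : GL ι F) : Matrix ι ι F)) with hπ
  have hN : ∀ x y, tvec e P ((A : Matrix (Fin r) (Fin r) F) *ᵥ x) ((B : Matrix (Fin s) (Fin s) F) *ᵥ y) =
      tvec e P x y + (g : Matrix ι ι F) *ᵥ tvec e P (π (tvec e P x y)) b := fun x y => by
    rw [← hAB, conj_root_mulVec]
    rfl
  have heig : ∀ a : Fin r → F, ∃ c : F, (A : Matrix (Fin r) (Fin r) F) *ᵥ a = c • a := by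
    intro a
    by_contra hcon
    push Not at hcon
    have hnot : (A : Matrix (Fin r) (Fin r) F) *ᵥ a ∉ Submodule.span F {a} := fun hm => by
      obtain ⟨c, hc⟩ := Submodule.mem_span_singleton.1 hm
      exact hcon c hc.symm
    obtain ⟨γ, hγ1, hγ0⟩ := exists_dual _ hnot
    have hinj : Function.Injective (π.comp
        (⟨⟨fun y => tvec e P a y, fun y y' => tvec_add_right a y y'⟩, fun c y => tvec_smul_right c a y⟩ :
          (Fin s → F) →ₗ[F] (ι → F))) := by
      rw [injective_iff_map_eq_zero]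
      intro y hy
      have hy' : π (tvec e P a y) = 0 := hy
      have h1 := hN a y
      rw [hy', tvec_zero_left, mulVec_zero, add_zero] at h1
      have h2 := congrArg (rc e P γ) h1
      rw [rc_tvec, rc_tvec, hγ1, hγ0 a (Submodule.mem_span_singleton_self a), one_smul, zero_smul] at h2
      exact gl_mulVec_eq_zero.1 h2
    have := LinearMap.finrank_le_finrank_of_injective hinj
    simp at this
    omega
  obtain ⟨l, hl⟩ := scalar_of_eigen hr heig
  -- the element is `1 ⊗ D`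
  have hD : ∀ x y, (g : Matrix ι ι F) *ᵥ tvec e P (π (tvec e P x y)) b =
      tvec e P x (l • ((B : Matrix (Fin s) (Fin s) F) *ᵥ y) - y) := fun x y => by
    have h1 := hN x y
    rw [hl, tvec_smul_left, ← tvec_smul_right] at h1
    rw [sub_eq_add_neg, ← neg_one_smul F y, tvec_add_right, tvec_smul_right (-1 : F), h1, neg_one_smul]
    abel
  obtain ⟨y0, hy0⟩ : ∃ y, l • ((B : Matrix (Fin s) (Fin s) F) *ᵥ y) - y ≠ 0 := by
    by_contra hcon
    push Not at hcon
    have hz : π = 0 := lin_ext (e := e) (P := P) fun x y => by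
      have h1 := hD x y
      rw [hcon, tvec_zero_right, gl_mulVec_eq_zero] at h1
      exact tvec_left_inj hb (by rw [h1, LinearMap.zero_apply, tvec_zero_left])
    obtain ⟨δ, hδ⟩ := exists_dot_one hβ
    obtain ⟨a, ha⟩ : ∃ a : Fin r → F, a ≠ 0 := ⟨Pi.single ⟨0, hr⟩ 1, by simp⟩
    refine ha ?_
    have h1 := LinearMap.congr_fun hz ((g : Matrix ι ι F) *ᵥ tvec e P a δ)
    rw [hπ, LinearMap.comp_apply, Matrix.mulVecLin_apply, gl_inv_mulVec, co_tvec, dotProduct_comm, hδ, one_smul] at h1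
    exact h1
  set b'' := l • ((B : Matrix (Fin s) (Fin s) F) *ᵥ y0) - y0 with hb''
  refine ⟨b'', hy0, fun x0 => ?_⟩
  set f : (Fin r → F) →ₗ[F] (Fin r → F) := π.comp
    (⟨⟨fun x => tvec e P x y0, fun x x' => tvec_add_left x x' y0⟩, fun c x => tvec_smul_left c x y0⟩ :
      (Fin r → F) →ₗ[F] (ι → F)) with hf
  have hfs : Function.Surjective f := LinearMap.surjective_of_injective ((injective_iff_map_eq_zero f).2 fun x hx => by
    have h1 := hD x y0
    rw [show π (tvec e P x y0) = 0 from hx, tvec_zero_left, mulVec_zero, eq_comm] at h1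
    exact tvec_left_inj hy0 (h1.trans (tvec_zero_left b'').symm))
  obtain ⟨x, rfl⟩ := hfs x0
  exact ⟨x, hD x y0⟩

/-! ### the descent -/

/-- the hypothesis at the bottom of the descent: elements mapping some `U ⊗ b` to a pure subspace -/
def PureRigid (e : ι ≃ Fin r × Fin s) (P : GL ι F) (M : Subgroup (GL ι F)) (b : Fin s → F) : Prop :=
  ∀ g ∈ M, ∀ b'' : Fin s → F, b'' ≠ 0 →
    (∀ x, ∃ x', (g : Matrix ι ι F) *ᵥ tvec e P x b = tvec e P x' b'') → g ∈ tensorProductSubgroup r s e P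

/-- the step of the descent -/
theorem descend_step (hr : 0 < r) (hrs : r < s) {M : Subgroup (GL ι F)} {g : GL ι F} (hg : g ∈ M)
    {b β : Fin s → F} (h : β ⬝ᵥ b = 0) (hb : b ≠ 0) (hβ : β ≠ 0) (hmem : rootGL e P b β h ∈ M)
    (hrigid : PureRigid e P M b)
    (hconj : g * rootGL e P b β h * g⁻¹ ∈ M → g * rootGL e P b β h * g⁻¹ ∈ tensorProductSubgroup r s e P) :
    g ∈ tensorProductSubgroup r s e P := by
  obtain ⟨b'', hb'', hx⟩ := fold hr hrs h hb hβ (hconj (M.mul_mem (M.mul_mem hg hmem) (M.inv_mem hg)))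
  exact hrigid g hg b'' hb'' hx

/-- the descent -/
theorem descend (hr : 0 < r) (hrs : r < s) (M : Subgroup (GL ι F)) (R : (Fin s → F) → (Fin s → F) → Prop)
    (hR : ∀ b β, R b β → ∃ h : β ⬝ᵥ b = 0, b ≠ 0 ∧ β ≠ 0 ∧ rootGL e P b β h ∈ M)
    (hne : ∃ b β, R b β)
    (hrigid : ∀ b : Fin s → F, b ≠ 0 → PureRigid e P M b)
    (hstep : ∀ g ∈ M, ∀ b₀ : Fin s → F, b₀ ≠ 0 → ∀ A : Submodule F (Fin r → F), A ≠ ⊥ → A ≠ ⊤ →
      ∃ a ∉ A, ∃ b β, R b β ∧ β ⬝ᵥ b₀ = 0 ∧
        (co e P β (((g⁻¹ : GL ι F) : Matrix ι ι F) *ᵥ tvec e P a b₀) = 0 ∨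
          (b = b₀ ∧ co e P β (((g⁻¹ : GL ι F) : Matrix ι ι F) *ᵥ tvec e P a b₀) ∈ A))) :
    M ≤ tensorProductSubgroup r s e P := by
  have good : ∀ j : ℕ, ∀ g ∈ M, ∀ b₀ : Fin s → F, b₀ ≠ 0 → ∀ A : Submodule F (Fin r → F), A ≠ ⊥ →
      r ≤ Module.finrank F A + j →
      (∀ x ∈ A, ∃ x' ∈ A, (g : Matrix ι ι F) *ᵥ tvec e P x b₀ = tvec e P x' b₀) →
      g ∈ tensorProductSubgroup r s e P := by
    intro j
    induction j with
    | zero =>
      intro g hg b₀ hb₀ A _ hA hgA
      have hAt : A = ⊤ := Submodule.eq_top_of_finrank_eq (le_antisymm (Submodule.finrank_le A) (by simpa using hA))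
      exact hrigid b₀ hb₀ g hg b₀ hb₀ fun x => let ⟨x', _, h⟩ := hgA x (hAt ▸ Submodule.mem_top); ⟨x', h⟩
    | succ j ih =>
      intro g hg b₀ hb₀ A hA0 hA hgA
      by_cases hAt : A = ⊤
      · exact ih g hg b₀ hb₀ A hA0 (by rw [hAt, finrank_top]; simp) hgA
      obtain ⟨a, ha, b, β, hRb, hβ0, hcase⟩ := hstep g hg b₀ hb₀ A hA0 hAt
      obtain ⟨hbb, hb, hβ, hmem⟩ := hR b β hRb
      refine descend_step hr hrs hg hbb hb hβ hmem (hrigid b hb) fun he => ?_
      obtain ⟨γ, hγ⟩ := exists_dot_one hb₀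
      -- `g` permutes `A ⊗ b₀`
      let f : (Fin r → F) →ₗ[F] (Fin r → F) := (co e P γ).comp ((Matrix.mulVecLin (g : Matrix ι ι F)).comp
        (⟨⟨fun x => tvec e P x b₀, fun x x' => tvec_add_left x x' b₀⟩, fun c x => tvec_smul_left c x b₀⟩ :
          (Fin r → F) →ₗ[F] (ι → F)))
      have hf : ∀ x ∈ A, f x ∈ A ∧ (g : Matrix ι ι F) *ᵥ tvec e P x b₀ = tvec e P (f x) b₀ := fun x hx => by
        obtain ⟨x', hx', hgx⟩ := hgA x hx
        have : f x = x' := by
          show co e P γ ((g : Matrix ι ι F) *ᵥ tvec e P x b₀) = x'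
          rw [hgx, co_tvec, hγ, one_smul]
        rw [this]
        exact ⟨hx', hgx⟩
      have hsurj : Function.Surjective (f.restrict fun x hx => (hf x hx).1) :=
        LinearMap.surjective_of_injective ((injective_iff_map_eq_zero _).2 fun x hx => by
          have h0 : f x.1 = 0 := congrArg Subtype.val hx
          have h1 := (hf x.1 x.2).2
          rw [h0, tvec_zero_left, gl_mulVec_eq_zero] at h1
          exact Subtype.ext (tvec_left_inj hb₀ (h1.trans (tvec_zero_left b₀).symm)))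
      have hinv : ∀ x ∈ A, ∃ x' ∈ A, ((g⁻¹ : GL ι F) : Matrix ι ι F) *ᵥ tvec e P x b₀ = tvec e P x' b₀ :=
          fun x hx => by
        obtain ⟨⟨x', hx'⟩, hfx⟩ := hsurj ⟨x, hx⟩
        refine ⟨x', hx', ?_⟩
        have : f x' = x := congrArg Subtype.val hfx
        rw [← this, ← (hf x' hx').2, gl_inv_mulVec]
      have hfix : ∀ x ∈ A, ((g * rootGL e P b β hbb * g⁻¹ : GL ι F) : Matrix ι ι F) *ᵥ tvec e P x b₀ =
          tvec e P x b₀ := fun x hx => by
        obtain ⟨x', -, hx'⟩ := hinv x hx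
        rw [conj_root_mulVec, hx', co_tvec, hβ0, zero_smul, tvec_zero_left, mulVec_zero, add_zero]
      obtain ⟨x₀, hx₀, hmove⟩ : ∃ x₀ ∈ A, ((g * rootGL e P b β hbb * g⁻¹ : GL ι F) : Matrix ι ι F) *ᵥ
          tvec e P a b₀ = tvec e P (a + x₀) b₀ := by
        rw [conj_root_mulVec]
        rcases hcase with hc | ⟨hbb₀, hc⟩
        · exact ⟨0, A.zero_mem, by rw [hc, tvec_zero_left, mulVec_zero, add_zero, add_zero]⟩
        · obtain ⟨x', hx', hgx⟩ := hgA _ hc
          exact ⟨x', hx', by rw [hbb₀, hgx, tvec_add_left]⟩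
      refine ih _ he b₀ hb₀ (A ⊔ Submodule.span F {a}) (fun hb => hA0 (le_bot_iff.1 (hb ▸ le_sup_left))) ?_ ?_
      · have hlt : Module.finrank F A < Module.finrank F ↥(A ⊔ Submodule.span F {a}) :=
          Submodule.finrank_lt_finrank_of_lt (lt_of_le_of_ne le_sup_left fun heq =>
            ha (heq ▸ Submodule.mem_sup_right (Submodule.mem_span_singleton_self a)))
        omega
      · intro x hx
        obtain ⟨y, hy, z, hz, rfl⟩ := Submodule.mem_sup.1 hx
        obtain ⟨c, rfl⟩ := Submodule.mem_span_singleton.1 hz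
        refine ⟨y + c • (a + x₀), Submodule.add_mem _ (Submodule.mem_sup_left hy) (Submodule.smul_mem _ c
          (Submodule.add_mem _ (Submodule.mem_sup_right (Submodule.mem_span_singleton_self a))
            (Submodule.mem_sup_left hx₀))), ?_⟩
        rw [tvec_add_left, tvec_smul_left, mulVec_add, mulVec_smul, hfix y hy, hmove, ← tvec_smul_left,
          ← tvec_add_left]
  intro g hg
  obtain ⟨b, β, hRb⟩ := hne
  obtain ⟨hbb, hb, hβ, hmem⟩ := hR b β hRb
  refine descend_step hr hrs hg hbb hb hβ hmem (hrigid b hb) fun he => ?_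
  obtain ⟨a, ha⟩ : ∃ a : Fin r → F, a ≠ 0 := ⟨Pi.single ⟨0, hr⟩ 1, by simp⟩
  let L : (Fin s → F) →ₗ[F] (Fin r → F) := (co e P β).comp ((Matrix.mulVecLin ((g⁻¹ : GL ι F) : Matrix ι ι F)).comp
    (⟨⟨fun y => tvec e P a y, fun y y' => tvec_add_right a y y'⟩, fun c y => tvec_smul_right c a y⟩ :
      (Fin s → F) →ₗ[F] (ι → F)))
  obtain ⟨b₀, hb₀L, hb₀⟩ := Submodule.exists_mem_ne_zero_of_ne_bot
    (LinearMap.ker_ne_bot_of_finrank_lt (f := L) (by simpa using hrs))
  refine good r _ he b₀ hb₀ (Submodule.span F {a}) (by simpa using ha) (by omega) fun x hx => ⟨x, hx, ?_⟩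
  obtain ⟨c, rfl⟩ := Submodule.mem_span_singleton.1 hx
  have h0 : co e P β (((g⁻¹ : GL ι F) : Matrix ι ι F) *ᵥ tvec e P a b₀) = 0 := hb₀L
  rw [tvec_smul_left, mulVec_smul, conj_root_mulVec, h0, tvec_zero_left, mulVec_zero, add_zero]

end CfsgLib.Perm.Trans.TensorMax
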