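import Mathlib
import Cfsg.Agent.Lib.Classical.SymmDiag
import Cfsg.Agent.Lib.Perm.Trans.OrthB
import Cfsg.Agent.Lib.Perm.Trans.TensorCore
import Cfsg.Agent.Lib.Perm.Trans.QuadOmega

/-!
# `GO₃(3) ⊗ GO_s(3)` is not maximal: it permutes three orthogonal blocks
-/

set_option autoImplicit false
set_option linter.all false

namespace CfsgLib.Perm.Trans.TensorOrthThree

open scoped Matrix
open Matrix Cfsg.Geo CfsgLib.Perm.Asch CfsgLib.Perm.Trans CfsgLib.Perm.Trans.Quad
open CfsgLib.Perm.Trans.TensorFrame CfsgLib.Perm.Trans.TensorMax CfsgLib.Perm.Trans.Orth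

variable {F : Type*} [Field F] [Fintype F]

theorem three_eq_zero (hq : Fintype.card F = 3) : (3 : F) = 0 := by
  simpa [hq] using FiniteField.cast_card_eq_zero F

theorem three_values (hq : Fintype.card F = 3) (x : F) : x = 0 ∨ x = 1 ∨ x = -1 := by
  have h1 : x ^ 3 = x := by simpa [hq] using FiniteField.pow_card x
  have h2 : x * ((x - 1) * (x + 1)) = 0 := by linear_combination h1
  rcases mul_eq_zero.1 h2 with h | h
  · exact Or.inl h
  rcases mul_eq_zero.1 h with h | h
  · exact Or.inr (Or.inl (sub_eq_zero.1 h))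
  · exact Or.inr (Or.inr (eq_neg_of_add_eq_zero_left h))

theorem two_ne (hq : Fintype.card F = 3) : (2 : F) ≠ 0 := fun h => by
  have h3 := three_eq_zero hq
  exact one_ne_zero (show (1 : F) = 0 by linear_combination h3 - h)

/-- a basis of three orthogonal vectors of equal norm -/
theorem exists_equal_frame (hq : Fintype.card F = 3) {f : (Fin 3 → F) → (Fin 3 → F) → F} (hf : IsSymmetricForm f) :
    ∃ (v : Fin 3 → Fin 3 → F) (c : F), c ≠ 0 ∧ (∀ i j, i ≠ j → f (v i) (v j) = 0) ∧ ∀ i, f (v i) (v i) = c := by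
  let B : LinearMap.BilinForm F (Fin 3 → F) :=
    LinearMap.mk₂ F f hf.bilinear.add_left hf.bilinear.smul_left hf.bilinear.add_right hf.bilinear.smul_right
  have hB : B.Nondegenerate := by
    constructor
    · intro x hx
      by_contra hne
      obtain ⟨-, ⟨y, hy⟩⟩ := hf.nondegenerate x hne
      exact hy (hx y)
    · intro x hx
      by_contra hne
      obtain ⟨⟨y, hy⟩, -⟩ := hf.nondegenerate x hne
      exact hy (hx y)
  obtain ⟨v, ho, hne⟩ := CfsgLib.Classical.exists_orthogonal_anisotropic (two_ne hq) B ⟨fun x y => hf.symm x y⟩ hB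
    (n := 3) (by simp)
  have ho' : ∀ i j, i ≠ j → f (v i) (v j) = 0 := ho
  have hne' : ∀ i, f (v i) (v i) ≠ 0 := hne
  have h3 := three_eq_zero hq
  have hmix : ∀ i j k : Fin 3, i ≠ j → i ≠ k → j ≠ k → f (v i) (v i) = f (v j) (v j) →
      f (v k) (v k) = -f (v i) (v i) →
      ∃ (w : Fin 3 → Fin 3 → F) (c : F), c ≠ 0 ∧ (∀ a b, a ≠ b → f (w a) (w b) = 0) ∧ ∀ a, f (w a) (w a) = c := by
    intro i j k hij hik hjk heq hk
    refine ⟨![v i + v j, v i - v j, v k], f (v k) (v k), hne' k, fun a b hab => ?_, fun a => ?_⟩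
    · fin_cases a <;> fin_cases b <;> first | exact absurd rfl hab |
        simp [hf.bilinear.add_left, hf.bilinear.add_right, sym_sub_left hf, sym_sub_right hf, ho' i j hij, ho' j i hij.symm,
          ho' i k hik, ho' k i hik.symm, ho' j k hjk, ho' k j hjk.symm, heq]
    · fin_cases a
      · simp [hf.bilinear.add_left, hf.bilinear.add_right, ho' i j hij, ho' j i hij.symm, hk, ← heq]
        linear_combination f (v i) (v i) * h3
      · simp [sym_sub_left hf, sym_sub_right hf, ho' i j hij, ho' j i hij.symm, hk, ← heq]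
        linear_combination f (v i) (v i) * h3
      · simp
  have hval : ∀ i, f (v i) (v i) = 1 ∨ f (v i) (v i) = -1 := fun i =>
    (three_values hq _).resolve_left (hne' i)
  rcases hval 0 with a | a <;> rcases hval 1 with b | b <;> rcases hval 2 with c | c
  · exact ⟨v, 1, one_ne_zero, ho', fun i => by fin_cases i <;> assumption⟩
  · exact hmix 0 1 2 (by decide) (by decide) (by decide) (by rw [a, b]) (by rw [a, c])
  · exact hmix 0 2 1 (by decide) (by decide) (by decide) (by rw [a, c]) (by rw [a, b])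
  · exact hmix 1 2 0 (by decide) (by decide) (by decide) (by rw [b, c]) (by rw [b, a, neg_neg])
  · exact hmix 1 2 0 (by decide) (by decide) (by decide) (by rw [b, c]) (by rw [b, a])
  · exact hmix 0 2 1 (by decide) (by decide) (by decide) (by rw [a, c]) (by rw [a, b, neg_neg])
  · exact hmix 0 1 2 (by decide) (by decide) (by decide) (by rw [a, b]) (by rw [a, c, neg_neg])
  · exact ⟨v, -1, neg_ne_zero.2 one_ne_zero, ho', fun i => by fin_cases i <;> assumption⟩

/-- a monomial pattern -/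
theorem weight_one (hq : Fintype.card F = 3) (a b c : F) (h : a * a + b * b + c * c = 1) :
    (b = 0 ∧ c = 0) ∨ (a = 0 ∧ c = 0) ∨ (a = 0 ∧ b = 0) := by
  have h2 := two_ne hq
  have h3 := three_eq_zero hq
  rcases three_values hq a with rfl | rfl | rfl <;> rcases three_values hq b with rfl | rfl | rfl <;>
    rcases three_values hq c with rfl | rfl | rfl <;> first | (simp; done) |
      exact absurd (show (1 : F) = 0 by
        first | linear_combination h | linear_combination -h | linear_combination h3 - h | linear_combination h - h3)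
        one_ne_zero

/-- over three elements a form of rank at least three has a zero -/
theorem exists_zero (hq : Fintype.card F = 3) {s : ℕ} (hs : 3 ≤ s) {f : (Fin s → F) → (Fin s → F) → F}
    (hf : IsSymmetricForm f) : ∃ b, b ≠ 0 ∧ f b b = 0 := by
  let B : LinearMap.BilinForm F (Fin s → F) :=
    LinearMap.mk₂ F f hf.bilinear.add_left hf.bilinear.smul_left hf.bilinear.add_right hf.bilinear.smul_right
  have hB : B.Nondegenerate := by
    constructor
    · intro x hx
      by_contra hne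
      obtain ⟨-, ⟨y, hy⟩⟩ := hf.nondegenerate x hne
      exact hy (hx y)
    · intro x hx
      by_contra hne
      obtain ⟨⟨y, hy⟩, -⟩ := hf.nondegenerate x hne
      exact hy (hx y)
  obtain ⟨v, ho, hne⟩ := CfsgLib.Classical.exists_orthogonal_anisotropic (two_ne hq) B ⟨fun x y => hf.symm x y⟩ hB
    (n := s) (by simp)
  have ho' : ∀ i j, i ≠ j → f (v i) (v j) = 0 := ho
  have hne' : ∀ i, f (v i) (v i) ≠ 0 := hne
  have hval : ∀ i, f (v i) (v i) = 1 ∨ f (v i) (v i) = -1 := fun i =>
    (three_values hq _).resolve_left (hne' i)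
  have hpair : ∀ i j, i ≠ j → f (v i) (v i) + f (v j) (v j) = 0 → ∃ b, b ≠ 0 ∧ f b b = 0 := by
    intro i j hij h
    refine ⟨v i + v j, fun h0 => hne' i ?_, ?_⟩
    · have h1 : f (v i + v j) (v i) = 0 := by rw [h0, sym_zero_left hf]
      rwa [hf.bilinear.add_left, ho' j i hij.symm, add_zero] at h1
    · rw [hf.bilinear.add_left, hf.bilinear.add_right, hf.bilinear.add_right, ho' i j hij, ho' j i hij.symm,
        add_zero, zero_add, h]
  let i : Fin s := ⟨0, by omega⟩
  let j : Fin s := ⟨1, by omega⟩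
  let k : Fin s := ⟨2, by omega⟩
  have hij : i ≠ j := by simp [i, j]
  have hik : i ≠ k := by simp [i, k]
  have hjk : j ≠ k := by simp [j, k]
  by_cases e1 : f (v i) (v i) + f (v j) (v j) = 0
  · exact hpair i j hij e1
  by_cases e2 : f (v i) (v i) + f (v k) (v k) = 0
  · exact hpair i k hik e2
  refine ⟨v i + v j + v k, fun h0 => hne' i ?_, ?_⟩
  · have h1 : f (v i + v j + v k) (v i) = 0 := by rw [h0, sym_zero_left hf]
    rwa [hf.bilinear.add_left, hf.bilinear.add_left, ho' j i hij.symm, ho' k i hik.symm, add_zero, add_zero] at h1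
  · have h3 := three_eq_zero hq
    simp only [hf.bilinear.add_left, hf.bilinear.add_right, ho' i j hij, ho' j i hij.symm, ho' i k hik, ho' k i hik.symm,
      ho' j k hjk, ho' k j hjk.symm, add_zero, zero_add]
    rcases hval i with a | a <;> rcases hval j with b | b <;> rcases hval k with c | c <;>
      rw [a, b] at e1 <;> rw [a, c] at e2 <;> rw [a, b, c] <;>
      first | linear_combination h3 | linear_combination -h3 | (exfalso; apply e1; ring1) | (exfalso; apply e2; ring1)

variable {ι : Type} [Fintype ι] [DecidableEq ι]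
variable {s : ℕ} {e : ι ≃ Fin 3 × Fin s} {P : GL ι F} {Q : (ι → F) → F}
variable {f₁ : (Fin 3 → F) → (Fin 3 → F) → F} {f₂ : (Fin s → F) → (Fin s → F) → F}

/-- the elements permuting the blocks -/
def blockStab (S : Subgroup (GL ι F)) (v : Fin 3 → Fin 3 → F) (e : ι ≃ Fin 3 × Fin s) (P : GL ι F) :
    Subgroup (GL ι F) where
  carrier := {g | g ∈ S ∧ ∀ i, ∃ j, ∀ y, ∃ y', (g : Matrix ι ι F) *ᵥ tvec e P (v i) y = tvec e P (v j) y'}
  one_mem' := ⟨one_mem S, fun i => ⟨i, fun y => ⟨y, by rw [Units.val_one, one_mulVec]⟩⟩⟩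
  mul_mem' := fun {g h} hg hh => ⟨mul_mem hg.1 hh.1, fun i => by
    obtain ⟨j, hj⟩ := hh.2 i
    obtain ⟨k, hk⟩ := hg.2 j
    refine ⟨k, fun y => ?_⟩
    obtain ⟨y', hy'⟩ := hj y
    obtain ⟨y'', hy''⟩ := hk y'
    exact ⟨y'', by rw [gl_mul_mulVec, hy', hy'']⟩⟩
  inv_mem' := fun {g} hg => by
    let T : Submonoid (GL ι F) :=
      { carrier := {g | g ∈ S ∧ ∀ i, ∃ j, ∀ y, ∃ y', (g : Matrix ι ι F) *ᵥ tvec e P (v i) y = tvec e P (v j) y'}
        one_mem' := ⟨one_mem S, fun i => ⟨i, fun y => ⟨y, by rw [Units.val_one, one_mulVec]⟩⟩⟩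
        mul_mem' := fun {g h} hg hh => ⟨mul_mem hg.1 hh.1, fun i => by
          obtain ⟨j, hj⟩ := hh.2 i
          obtain ⟨k, hk⟩ := hg.2 j
          refine ⟨k, fun y => ?_⟩
          obtain ⟨y', hy'⟩ := hj y
          obtain ⟨y'', hy''⟩ := hk y'
          exact ⟨y'', by rw [gl_mul_mulVec, hy', hy'']⟩⟩ }
    have h1 : g * g ^ (orderOf g - 1) = 1 := by
      rw [← pow_succ', Nat.sub_add_cancel (orderOf_pos g), pow_orderOf_eq_one]
    rw [inv_eq_of_mul_eq_one_right h1]
    exact pow_mem (show g ∈ T from hg) _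

/-- the tensor group is properly contained in a proper subgroup of `Ω` -/
theorem orth_three_not_maximal (hn : 5 ≤ Fintype.card ι) (hq : Fintype.card F = 3) (hs : 3 ≤ s)
    (hQ : IsNondegenerateQuadraticForm Q) (hf : IsSymmetricForm f₁) (hg : IsSymmetricForm f₂)
    (hT : IsTensorFormStructure id (QuadraticMap.polar Q) f₁ f₂ e P) :
    ∃ K : Subgroup (GL ι F), tensorProductSubgroup 3 s e P ⊓ omegaGL Q < K ∧ K < omegaGL Q := by
  have h2 := two_ne hq
  have h3 := three_eq_zero hq
  obtain ⟨k, hk, hpol⟩ := tvec_form (σ := id) (fun a b => rfl) (sesq_of_bilinear hf.bilinear)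
    (sesq_of_bilinear hg.bilinear) hT
  obtain ⟨v, c, hc, ho, hv⟩ := exists_equal_frame hq hf
  obtain ⟨γ, hγ⟩ : ∃ γ : Fin 3 → Fin 3 → F, ∀ i x, γ i ⬝ᵥ x = c⁻¹ * f₁ x (v i) :=
    ⟨fun i => fvec ⇑(c⁻¹ • sfl hf (v i)), fun i x => by rw [fvec_dot]; rfl⟩
  have hγv : ∀ i j, γ i ⬝ᵥ v j = if i = j then 1 else 0 := fun i j => by
    rw [hγ]
    split_ifs with h
    · rw [h, hv, inv_mul_cancel₀ hc]
    · rw [ho j i (Ne.symm h), mul_zero]
  have hli : LinearIndependent F v := Fintype.linearIndependent_iff.2 fun g hg i => by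
    have h1 := congrArg (fun x => γ i ⬝ᵥ x) hg
    simpa [dotProduct_sum, dotProduct_smul, hγv] using h1
  have hexp : ∀ x, x = (γ 0 ⬝ᵥ x) • v 0 + (γ 1 ⬝ᵥ x) • v 1 + (γ 2 ⬝ᵥ x) • v 2 := by
    intro x
    have hmem : x ∈ Submodule.span F (Set.range v) := by
      rw [hli.span_eq_top_of_card_eq_finrank (by simp)]
      trivial
    induction hmem using Submodule.span_induction with
    | mem u hu => obtain ⟨i, rfl⟩ := hu; fin_cases i <;> simp [hγv]
    | zero => simp
    | add a b _ _ e1 e2 => conv_lhs => rw [e1, e2]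
                           simp only [dotProduct_add, add_smul]; abel
    | smul a x _ e1 => conv_lhs => rw [e1]
                       simp only [dotProduct_smul, smul_eq_mul, smul_add, smul_smul]
  have hQ2 : ∀ z, Q z + Q z = QuadraticMap.polar Q z z := fun z => by
    have h1 : Q (z + z) = Q z + Q z + QuadraticMap.polar Q z z := qadd hQ z z
    rw [← two_smul F z, qsmul hQ] at h1
    linear_combination h1
  obtain ⟨b, hb0, hbb⟩ := exists_zero hq hs hg
  have hQb : ∀ x, Q (tvec e P x b) = 0 := fun x => by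
    have h1 := hQ2 (tvec e P x b)
    rw [hpol, hbb, mul_zero, mul_zero, ← two_mul] at h1
    exact (mul_eq_zero.1 h1).resolve_left h2
  obtain ⟨q, hq1, -⟩ := exists_pairing hg (z := b) (W := ⊥) (by simpa using hb0)
  have hqb : f₂ q b = 1 := by rw [hg.symm, hq1]
  refine ⟨blockStab (omegaGL Q) v e P, ?_, ?_⟩
  · refine lt_of_le_of_ne (fun h hh => ⟨hh.2, fun i => ?_⟩) fun heq => ?_
    · obtain ⟨a, B, hab⟩ := mem_tensor hh.1
      obtain ⟨μ, hμ⟩ : ∃ μ : F, μ = f₂ ((B : Matrix (Fin s) (Fin s) F) *ᵥ b) ((B : Matrix (Fin s) (Fin s) F) *ᵥ q) :=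
        ⟨_, rfl⟩
      have hsim : ∀ x x', μ * f₁ ((a : Matrix (Fin 3) (Fin 3) F) *ᵥ x) ((a : Matrix (Fin 3) (Fin 3) F) *ᵥ x') =
          f₁ x x' := fun x x' => by
        have h1 := iso_pol (omegaGL_le_iso hh.2) (tvec e P x b) (tvec e P x' q)
        rw [hab, hab, hpol, hpol, ← hμ, hq1, mul_one] at h1
        linear_combination mul_left_cancel₀ hk h1
      let Mx : Matrix (Fin 3) (Fin 3) F := fun i j => γ j ⬝ᵥ ((a : Matrix (Fin 3) (Fin 3) F) *ᵥ v i)
      have hrow : ∀ i j, μ * (c * (Mx i 0 * Mx j 0 + Mx i 1 * Mx j 1 + Mx i 2 * Mx j 2)) = f₁ (v i) (v j) := by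
        intro i j
        rw [← hsim (v i) (v j)]
        conv_rhs => rw [hexp ((a : Matrix (Fin 3) (Fin 3) F) *ᵥ v i), hexp ((a : Matrix (Fin 3) (Fin 3) F) *ᵥ v j)]
        simp [hf.bilinear.add_left, hf.bilinear.add_right, hf.bilinear.smul_left, hf.bilinear.smul_right, hv,
          ho, Mx]
        ring_nf
        simp
      have hMM : μ • (Mx * Mxᵀ) = 1 := by
        ext i j
        rw [Matrix.smul_apply, Matrix.mul_apply, Fin.sum_univ_three, Matrix.transpose_apply, Matrix.transpose_apply,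
          Matrix.transpose_apply, smul_eq_mul, Matrix.one_apply]
        refine mul_left_cancel₀ hc ?_
        rw [show c * (μ * (Mx i 0 * Mx j 0 + Mx i 1 * Mx j 1 + Mx i 2 * Mx j 2)) = f₁ (v i) (v j) by
          rw [← hrow i j]; ring]
        split_ifs with h
        · rw [h, hv, mul_one]
        · rw [ho i j h, mul_zero]
      have hdet := congrArg Matrix.det hMM
      rw [Matrix.det_smul, Fintype.card_fin, Matrix.det_mul, Matrix.det_transpose, Matrix.det_one] at hdet
      have hμ1 : μ = 1 := by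
        rcases three_values hq μ with h | h | h
        · rw [h] at hdet; simp at hdet
        · exact h
        · rw [h] at hdet
          rcases three_values hq Mx.det with h' | h' | h' <;> rw [h'] at hdet <;> ring_nf at hdet
          · exact absurd hdet zero_ne_one
          all_goals exact absurd (show (2 : F) = 0 by linear_combination -hdet) h2
      have h1 := hrow i i
      rw [hμ1, one_mul, hv] at h1
      have h4 : Mx i 0 * Mx i 0 + Mx i 1 * Mx i 1 + Mx i 2 * Mx i 2 = 1 :=
        mul_left_cancel₀ hc (by rw [h1, mul_one])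
      have h5 := hexp ((a : Matrix (Fin 3) (Fin 3) F) *ᵥ v i)
      rcases weight_one hq _ _ _ h4 with ⟨e1, e2⟩ | ⟨e1, e2⟩ | ⟨e1, e2⟩
      · rw [show γ 1 ⬝ᵥ _ = 0 from e1, show γ 2 ⬝ᵥ _ = 0 from e2, zero_smul, zero_smul, add_zero, add_zero] at h5
        exact ⟨0, fun y => ⟨_, by rw [hab, h5, tvec_smul_left, ← tvec_smul_right]⟩⟩
      · rw [show γ 0 ⬝ᵥ _ = 0 from e1, show γ 2 ⬝ᵥ _ = 0 from e2, zero_smul, zero_smul, add_zero, zero_add] at h5
        exact ⟨1, fun y => ⟨_, by rw [hab, h5, tvec_smul_left, ← tvec_smul_right]⟩⟩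
      · rw [show γ 0 ⬝ᵥ _ = 0 from e1, show γ 1 ⬝ᵥ _ = 0 from e2, zero_smul, zero_smul, zero_add, zero_add] at h5
        exact ⟨2, fun y => ⟨_, by rw [hab, h5, tvec_smul_left, ← tvec_smul_right]⟩⟩
    · let Lb : (Fin s → F) →ₗ[F] F := sfl hg b
      have h1 : Submodule.span F {b} < LinearMap.ker Lb := by
        refine lt_of_le_of_ne ((Submodule.span_singleton_le_iff_mem _ _).2 hbb) fun hh => ?_
        have h1 := LinearMap.finrank_range_add_finrank_ker Lb
        have h2 : Module.finrank F (LinearMap.range Lb) ≤ 1 :=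
          (Submodule.finrank_le _).trans (by rw [Module.finrank_self])
        rw [← hh, finrank_span_singleton hb0, Module.finrank_fin_fun] at h1
        omega
      obtain ⟨b', hb'b, hb'⟩ := SetLike.exists_of_lt h1
      have hb'b : f₂ b' b = 0 := hb'b
      obtain ⟨g, hgΩ, hgE⟩ := ein_omega hQ hn (hQb (v 0)) (a := tvec e P (v 0) b')
        (by rw [hpol, hg.symm, hb'b]; ring)
      obtain ⟨R, hR⟩ : ∃ R, R = Q (tvec e P (v 0) b') := ⟨_, rfl⟩
      have hgT : ∀ x y, (g : Matrix ι ι F) *ᵥ tvec e P x y = tvec e P x y +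
          tvec e P (v 0) ((k * (f₁ x (v 0) * f₂ y b)) • b' - (k * (f₁ x (v 0) * f₂ y b')) • b -
            (R * (k * (f₁ x (v 0) * f₂ y b))) • b) := fun x y => by
        rw [hgE, hpol, hpol, ← hR, sub_eq_add_neg (_ • b' - _ • b), sub_eq_add_neg (_ • b'), tvec_add_right,
          tvec_add_right, ← neg_smul, ← neg_smul, tvec_smul_right, tvec_smul_right, tvec_smul_right, neg_smul,
          neg_smul]
        abel
      have hgK : g ∈ blockStab (omegaGL Q) v e P := by
        refine ⟨hgΩ, fun i => ⟨i, fun y => ?_⟩⟩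
        rcases eq_or_ne i 0 with rfl | hi
        · exact ⟨_, by rw [hgT, ← tvec_add_right]⟩
        · refine ⟨y, ?_⟩
          rw [hgT, ho i 0 hi]
          simp [tvec_zero_right]
      rw [← heq] at hgK
      obtain ⟨a, B, hab⟩ := mem_tensor hgK.1
      have hB : ∀ y, (γ 1 ⬝ᵥ ((a : Matrix (Fin 3) (Fin 3) F) *ᵥ v 1)) • ((B : Matrix (Fin s) (Fin s) F) *ᵥ y) = y := fun y => by
        have h := congrArg (rc e P (γ 1)) ((hab (v 1) y).symm.trans (hgT (v 1) y))
        rw [map_add, rc_tvec, rc_tvec, rc_tvec, hγv, hγv, if_pos rfl, if_neg (by decide), one_smul, zero_smul,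
          add_zero] at h
        exact h
      obtain ⟨ρ, hρ⟩ : ∃ ρ, ρ = γ 1 ⬝ᵥ ((a : Matrix (Fin 3) (Fin 3) F) *ᵥ v 1) := ⟨_, rfl⟩
      rw [← hρ] at hB
      have hρ0 : ρ ≠ 0 := fun h => hb0 (by rw [← hB b, h, zero_smul])
      have hB' : ∀ y, (B : Matrix (Fin s) (Fin s) F) *ᵥ y = ρ⁻¹ • y := fun y => by
        conv_rhs => rw [← hB y]
        rw [smul_smul, inv_mul_cancel₀ hρ0, one_smul]
      have h5 : ∀ y, (γ 0 ⬝ᵥ ((a : Matrix (Fin 3) (Fin 3) F) *ᵥ v 0) * ρ⁻¹) • y = y +
          ((k * (c * f₂ y b)) • b' - (k * (c * f₂ y b')) • b - (R * (k * (c * f₂ y b))) • b) := fun y => by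
        have h := congrArg (rc e P (γ 0)) ((hab (v 0) y).symm.trans (hgT (v 0) y))
        rw [map_add, rc_tvec, rc_tvec, rc_tvec, hγv, if_pos rfl, one_smul, one_smul, hB', smul_smul, hv] at h
        exact h
      have h6 := h5 b
      rw [hbb, hg.symm b b', hb'b] at h6
      simp at h6
      have h7 := h5 q
      rw [smul_left_injective F hb0 (h6.trans (one_smul F b).symm), hqb, one_smul, left_eq_add, sub_sub, sub_eq_zero, ← add_smul] at h7
      refine hb' (Submodule.mem_span_singleton.2 ⟨(k * (c * 1))⁻¹ * (k * (c * f₂ q b') + R * (k * (c * 1))), ?_⟩)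
      rw [← smul_smul, ← h7, smul_smul, inv_mul_cancel₀ (by simp [hk, hc]), one_smul]
  · refine lt_of_le_of_ne (fun h hh => hh.1) fun heq => ?_
    obtain ⟨g, hgΩ, hgE⟩ := ein_omega hQ hn (hQb (v 0)) (a := tvec e P (v 1) b)
      (by rw [hpol, hbb]; ring)
    have hgK : g ∈ blockStab (omegaGL Q) v e P := heq.symm ▸ hgΩ
    obtain ⟨j, hj⟩ := hgK.2 0
    obtain ⟨y', hy'⟩ := hj q
    rw [hgE, hQb, hpol, hpol, hv, ho 0 1 (by decide), hqb] at hy'
    simp at hy'
    have h0 := congrArg (rc e P (γ 0)) hy'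
    have h1 := congrArg (rc e P (γ 1)) hy'
    simp only [map_add, map_smul, rc_tvec, hγv] at h0 h1
    fin_cases j <;> simp at h0 h1
    · rcases h1 with h | h
      · exact (mul_ne_zero hk hc) (by simpa using h)
      · exact hb0 h
    · rw [h0] at hqb
      exact zero_ne_one (by rw [← hqb, sym_zero_left hg])
    · rw [h0] at hqb
      exact zero_ne_one (by rw [← hqb, sym_zero_left hg])

end CfsgLib.Perm.Trans.TensorOrthThree
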