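import Mathlib
import Cfsg.Agent.Lib.Perm.Trans.QuadMax

/-!
# Root elements of an orthogonal group attached to a tensor product of symplectic forms

A root element with pure centre and axis outside the tensor product subgroup generates `Ω` together with it.
-/

set_option autoImplicit false
set_option linter.all false

namespace CfsgLib.Perm.Trans.TensorSymp

open scoped Matrix
open Matrix Cfsg.Geo CfsgLib.Perm.Asch CfsgLib.Perm.Trans CfsgLib.Perm.Trans.Quad

variable {ι : Type} [Fintype ι] [DecidableEq ι] {F : Type*} [Field F] [Fintype F]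

/-! ### symplectic forms -/

section Symp

variable {r : ℕ} {f : (Fin r → F) → (Fin r → F) → F} (hf : IsSymplecticForm f)
include hf

theorem fadd_left (x y z : Fin r → F) : f (x + y) z = f x z + f y z := hf.bilinear.add_left x y z

theorem fadd_right (x y z : Fin r → F) : f z (x + y) = f z x + f z y := hf.bilinear.add_right z x y

theorem fsmul_left (c : F) (x z : Fin r → F) : f (c • x) z = c * f x z := hf.bilinear.smul_left c x z

theorem fsmul_right (c : F) (x z : Fin r → F) : f z (c • x) = c * f z x := hf.bilinear.smul_right c z x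

theorem fneg_left (x z : Fin r → F) : f (-x) z = -f x z := by
  rw [← neg_one_smul F x, fsmul_left hf]; ring

theorem fneg_right (x z : Fin r → F) : f z (-x) = -f z x := by
  rw [← neg_one_smul F x, fsmul_right hf]; ring

theorem fsub_left (x y z : Fin r → F) : f (x - y) z = f x z - f y z := by
  rw [sub_eq_add_neg, fadd_left hf, fneg_left hf, sub_eq_add_neg]

theorem fsub_right (x y z : Fin r → F) : f z (x - y) = f z x - f z y := by
  rw [sub_eq_add_neg, fadd_right hf, fneg_right hf, sub_eq_add_neg]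

theorem fzero_left (z : Fin r → F) : f 0 z = 0 := by
  rw [← zero_smul F (0 : Fin r → F), fsmul_left hf, zero_mul]

theorem fzero_right (z : Fin r → F) : f z 0 = 0 := by
  rw [← zero_smul F (0 : Fin r → F), fsmul_right hf, zero_mul]

theorem fswap (x y : Fin r → F) : f x y = -f y x := hf.skew x y

/-- the form as a linear map in the first argument -/
def fL (a : Fin r → F) : (Fin r → F) →ₗ[F] F where
  toFun x := f x a
  map_add' x y := fadd_left hf x y a
  map_smul' c x := fsmul_left hf c x a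

theorem fL_apply (a x : Fin r → F) : fL hf a x = f x a := rfl

/-- the form as a linear map in the second argument -/
def fR : (Fin r → F) →ₗ[F] ((Fin r → F) →ₗ[F] F) where
  toFun a := fL hf a
  map_add' a b := LinearMap.ext fun x => fadd_right hf a b x
  map_smul' c a := LinearMap.ext fun x => fsmul_right hf c a x

theorem eq_zero_of_orth {x : Fin r → F} (h : ∀ y, f y x = 0) : x = 0 := by
  by_contra hx
  obtain ⟨⟨w, hw⟩, -⟩ := hf.nondegenerate x hx
  exact hw (h w)

theorem exists_rep (L : (Fin r → F) →ₗ[F] F) : ∃ a, ∀ x, f x a = L x := by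
  have hinj : Function.Injective (fR hf) := (injective_iff_map_eq_zero (fR hf)).2 fun a ha =>
    eq_zero_of_orth hf fun y => LinearMap.congr_fun ha y
  obtain ⟨a, ha⟩ := ((fR hf).injective_iff_surjective_of_finrank_eq_finrank (by simp)).1 hinj L
  exact ⟨a, fun x => LinearMap.congr_fun ha x⟩

theorem exists_partner {a : Fin r → F} (ha : a ≠ 0) : ∃ p, f p a = 1 := by
  obtain ⟨⟨w, hw⟩, -⟩ := hf.nondegenerate a ha
  exact ⟨(f w a)⁻¹ • w, by rw [fsmul_left hf, inv_mul_cancel₀ hw]⟩

theorem sep {a x : Fin r → F} (ha : a ≠ 0) (hx : x ∉ Submodule.span F {a}) : ∃ w, f a w = 0 ∧ f x w = 1 := by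
  obtain ⟨w, hw1, hw0⟩ := Submodule.exists_dual_map_eq_bot_of_notMem hx inferInstance
  obtain ⟨v, hv⟩ := exists_rep hf w
  have ha' : w a = 0 := by
    have : w a ∈ (Submodule.span F {a}).map w := ⟨a, Submodule.mem_span_singleton_self a, rfl⟩
    rwa [hw0, Submodule.mem_bot] at this
  refine ⟨(w x)⁻¹ • v, by rw [fsmul_right hf, hv, ha', mul_zero], by rw [fsmul_right hf, hv, inv_mul_cancel₀ hw1]⟩

theorem common_nonorth {a b : Fin r → F} (ha : a ≠ 0) (hb : b ≠ 0) : ∃ z, f a z ≠ 0 ∧ f b z ≠ 0 := by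
  obtain ⟨p, hp⟩ := exists_partner hf ha
  obtain ⟨q, hq⟩ := exists_partner hf hb
  have hap : f a p ≠ 0 := by rw [fswap hf, hp]; exact neg_ne_zero.2 one_ne_zero
  have hbq : f b q ≠ 0 := by rw [fswap hf, hq]; exact neg_ne_zero.2 one_ne_zero
  by_cases h1 : f b p = 0
  · by_cases h2 : f a q = 0
    · exact ⟨p + q, by rwa [fadd_right hf, h2, add_zero], by rwa [fadd_right hf, h1, zero_add]⟩
    · exact ⟨q, h2, hbq⟩
  · exact ⟨p, hap, h1⟩

theorem exists_orth_two (hr : 3 ≤ r) (a b : Fin r → F) : ∃ z, z ≠ 0 ∧ f z a = 0 ∧ f z b = 0 := by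
  obtain ⟨z, hz, hz0⟩ := Submodule.exists_mem_ne_zero_of_ne_bot (LinearMap.ker_ne_bot_of_finrank_lt
    (f := (fL hf a).prod (fL hf b)) (by rw [Module.finrank_prod, Module.finrank_self]; simp; omega))
  have := Prod.ext_iff.1 (LinearMap.mem_ker.1 hz)
  exact ⟨z, hz0, this.1, this.2⟩

theorem orth_spread {S : Submodule F (Fin r → F)} {a x : Fin r → F} (ha : a ≠ 0) (hx : x ∉ Submodule.span F {a})
    (h : ∀ w, f a w = 0 → f x w ≠ 0 → w ∈ S) {w : Fin r → F} (hw : f a w = 0) : w ∈ S := by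
  obtain ⟨w₀, hw₀, hxw₀⟩ := sep hf ha hx
  by_cases h1 : f x w = 0
  · have h2 := h (w + w₀) (by rw [fadd_right hf, hw, hw₀, add_zero]) (by rw [fadd_right hf, h1, hxw₀]; simp)
    have h3 := S.sub_mem h2 (h w₀ hw₀ (by rw [hxw₀]; exact one_ne_zero))
    rwa [add_sub_cancel_right] at h3
  · exact h w hw h1

theorem transvection_transitive {P : (Fin r → F) → Prop}
    (hP : ∀ w (l : F) x, P x → P (x + (l * f x w) • w)) {b b' : Fin r → F} (hb : b ≠ 0) (hb' : b' ≠ 0)
    (h : P b) : P b' := by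
  have step : ∀ u v, f u v ≠ 0 → P u → P v := fun u v huv hu => by
    have := hP (v - u) (f u v)⁻¹ u hu
    rwa [fsub_right hf, hf.alternating, sub_zero, inv_mul_cancel₀ huv, one_smul, add_sub_cancel] at this
  obtain ⟨z, hz, hz'⟩ := common_nonorth hf hb hb'
  exact step z b' (by rw [fswap hf]; exact neg_ne_zero.2 hz') (step b z hz h)

end Symp

/-! ### Eichler transformations in a subgroup -/

/-- the root subgroup of `u` and `v` lies in `M` -/
def AIn (Q : (ι → F) → F) (M : Subgroup (GL ι F)) (u v : ι → F) : Prop :=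
  QuadraticMap.polar Q u v = 0 ∧ ∀ c : F, EIn Q M u (c • v)

variable {Q : (ι → F) → F} {M : Subgroup (GL ι F)}

section AIn

variable (hQ : IsNondegenerateQuadraticForm Q)
include hQ

theorem AIn.add {x y z : ι → F} (hx : Q x = 0) (h : AIn Q M x y) (h' : AIn Q M x z) : AIn Q M x (y + z) :=
  ⟨by rw [padd_right hQ, h.1, h'.1, add_zero], fun c => by
    rw [smul_add]
    exact EIn.add hQ hx (by rw [psmul_right hQ, h.1, mul_zero]) (by rw [psmul_right hQ, h'.1, mul_zero])
      (h.2 c) (h'.2 c)⟩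

theorem AIn.smul {x y : ι → F} (h : AIn Q M x y) (a : F) : AIn Q M x (a • y) :=
  ⟨by rw [psmul_right hQ, h.1, mul_zero], fun c => by rw [smul_smul]; exact h.2 _⟩

theorem AIn.sub {x y z : ι → F} (hx : Q x = 0) (h : AIn Q M x y) (h' : AIn Q M x z) : AIn Q M x (y - z) := by
  rw [sub_eq_add_neg, ← neg_one_smul F z]
  exact AIn.add hQ hx h (AIn.smul hQ h' _)

theorem AIn.symm {x y : ι → F} (hx : Q x = 0) (hy : Q y = 0) (h : AIn Q M x y) : AIn Q M y x := by
  refine ⟨by rw [pcomm, h.1], fun c => ?_⟩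
  obtain ⟨g, hg, hgE⟩ := h.2 (-c)
  refine ⟨g, hg, fun v => ?_⟩
  rw [hgE, qsmul hQ, hy, qsmul hQ, hx, psmul_right hQ, psmul_right hQ]
  module

theorem AIn.self {x : ι → F} (hx : Q x = 0) (c : F) : AIn Q M x (c • x) :=
  ⟨by rw [psmul_right hQ, pself hQ, hx, mul_zero, mul_zero], fun d => by
    rw [smul_smul]; exact EIn.smul_self hQ M hx _⟩

/-- the submodule of the parameters at a singular vector -/
def aSub (M : Subgroup (GL ι F)) {x : ι → F} (hx : Q x = 0) : Submodule F (ι → F) where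
  carrier := {y | AIn Q M x y}
  zero_mem' := by
    have := AIn.self hQ (M := M) hx 0
    rwa [zero_smul] at this
  add_mem' h h' := AIn.add hQ hx h h'
  smul_mem' c _ h := AIn.smul hQ h c

end AIn

theorem AIn.conj {x y : ι → F} (h : AIn Q M x y) (hM : M ≤ Cfsg.isometryGroup F Q) {k : GL ι F} (hk : k ∈ M) :
    AIn Q M ((k : Matrix ι ι F) *ᵥ x) ((k : Matrix ι ι F) *ᵥ y) :=
  ⟨by rw [iso_pol (hM hk), h.1], fun c => by rw [← mulVec_smul]; exact (h.2 c).conj (hM hk) hk⟩

/-! ### the setting -/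

variable {r s : ℕ}

/-- a decomposition `V = U ⊗ W` with symplectic forms, and the transvections of both factors in `M` -/
structure TS (Q : (ι → F) → F) (f₁ : (Fin r → F) → (Fin r → F) → F) (f₂ : (Fin s → F) → (Fin s → F) → F)
    (T : (Fin r → F) → (Fin s → F) → ι → F) (k : F) (M : Subgroup (GL ι F)) : Prop where
  quad : IsNondegenerateQuadraticForm Q
  s1 : IsSymplecticForm f₁
  s2 : IsSymplecticForm f₂
  addL : ∀ x x' y, T (x + x') y = T x y + T x' y
  smulL : ∀ (c : F) x y, T (c • x) y = c • T x y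
  addR : ∀ x y y', T x (y + y') = T x y + T x y'
  smulR : ∀ (c : F) x y, T x (c • y) = c • T x y
  span : ∀ z, z ∈ Submodule.span F {w | ∃ x y, T x y = w}
  kne : k ≠ 0
  pol : ∀ x y x' y', QuadraticMap.polar Q (T x y) (T x' y') = k * (f₁ x x' * f₂ y y')
  pure : ∀ x y, Q (T x y) = 0
  le : M ≤ Cfsg.isometryGroup F Q
  tU : ∀ (a : Fin r → F) (l : F), ∃ g ∈ M, ∀ x y, (g : Matrix ι ι F) *ᵥ T x y = T (x + (l * f₁ x a) • a) y
  tW : ∀ (b : Fin s → F) (l : F), ∃ g ∈ M, ∀ x y, (g : Matrix ι ι F) *ᵥ T x y = T x (y + (l * f₂ y b) • b)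

variable {f₁ : (Fin r → F) → (Fin r → F) → F} {f₂ : (Fin s → F) → (Fin s → F) → F}
  {T : (Fin r → F) → (Fin s → F) → ι → F} {k : F}

variable (D : TS Q f₁ f₂ T k M)
include D

theorem TS.swap : TS Q f₂ f₁ (fun y x => T x y) k M :=
  ⟨D.quad, D.s2, D.s1, fun y y' x => D.addR x y y', fun c y x => D.smulR c x y, fun y x x' => D.addL x x' y,
    fun c y x => D.smulL c x y,
    fun z => by
      rw [show {w | ∃ y x, (fun y x => T x y) y x = w} = {w | ∃ x y, T x y = w} from
        Set.ext fun w => ⟨fun ⟨y, x, h⟩ => ⟨x, y, h⟩, fun ⟨x, y, h⟩ => ⟨y, x, h⟩⟩]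
      exact D.span z,
    D.kne, fun y x y' x' => by rw [D.pol, mul_comm (f₁ x x')], fun y x => D.pure x y, D.le,
    fun a l => let ⟨g, hg, h⟩ := D.tW a l; ⟨g, hg, fun y x => h x y⟩,
    fun a l => let ⟨g, hg, h⟩ := D.tU a l; ⟨g, hg, fun y x => h x y⟩⟩

theorem TS.zeroL (y : Fin s → F) : T 0 y = 0 := by
  rw [← zero_smul F (0 : Fin r → F), D.smulL, zero_smul]

theorem TS.zeroR (x : Fin r → F) : T x 0 = 0 := by
  rw [← zero_smul F (0 : Fin s → F), D.smulR, zero_smul]

/-- roots with a common second factor -/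
def S1 (_D : TS Q f₁ f₂ T k M) (a a' : Fin r → F) (b : Fin s → F) : Prop := AIn Q M (T a b) (T a' b)

/-- roots with a common first factor -/
def S2 (_D : TS Q f₁ f₂ T k M) (a : Fin r → F) (b b' : Fin s → F) : Prop := AIn Q M (T a b) (T a b')

/-- the second centres of the roots at `a ⊗ b` with a common second factor -/
def s1Sub (a : Fin r → F) (b : Fin s → F) : Submodule F (Fin r → F) :=
  (aSub D.quad M (D.pure a b)).comap
    ({ toFun := fun x => T x b, map_add' := fun x x' => D.addL x x' b, map_smul' := fun c x => D.smulL c x b } :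
      (Fin r → F) →ₗ[F] (ι → F))

theorem mem_s1Sub {a x : Fin r → F} {b : Fin s → F} : x ∈ s1Sub D a b ↔ S1 D a x b := Iff.rfl

theorem S1.symm' {a a' : Fin r → F} {b : Fin s → F} (h : S1 D a a' b) : S1 D a' a b :=
  AIn.symm D.quad (D.pure _ _) (D.pure _ _) h

theorem self_mem_s1Sub (a : Fin r → F) (b : Fin s → F) (c : F) : c • a ∈ s1Sub D a b := by
  show AIn Q M (T a b) (T (c • a) b)
  rw [D.smulL]
  exact AIn.self D.quad (D.pure a b) c

theorem S1.move {a a' : Fin r → F} {b : Fin s → F} (h : S1 D a a' b) (w : Fin r → F) (l : F) :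
    S1 D (a + (l * f₁ a w) • w) (a' + (l * f₁ a' w) • w) b := by
  obtain ⟨g, hg, hgT⟩ := D.tU w l
  have := AIn.conj h D.le hg
  rwa [hgT, hgT] at this

/-- one root with a common second factor gives all the orthogonal ones -/
theorem s1_spread (hr : 3 ≤ r) {a₀ x₀ : Fin r → F} {b₀ : Fin s → F} (ha₀ : a₀ ≠ 0) (hb₀ : b₀ ≠ 0)
    (hx₀ : x₀ ∉ Submodule.span F {a₀}) (h : S1 D a₀ x₀ b₀) (a x : Fin r → F) (b : Fin s → F) (hax : f₁ a x = 0) :
    S1 D a x b := by
  have hf := D.s1
  -- all vectors orthogonal to a given one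
  have grow : ∀ a x b, a ≠ 0 → x ∉ Submodule.span F {a} → S1 D a x b → ∀ w, f₁ a w = 0 → S1 D a w b := by
    intro a x b ha hx h w hw
    refine (mem_s1Sub D).1 (orth_spread hf ha hx (fun w hw hxw => ?_) hw)
    have h1 := S1.move D h w 1
    rw [hw, mul_zero, zero_smul, add_zero, one_mul] at h1
    have h2 := (s1Sub D a b).sub_mem ((mem_s1Sub D).2 h1) ((mem_s1Sub D).2 h)
    rw [add_sub_cancel_left] at h2
    exact ((s1Sub D a b).smul_mem_iff hxw).1 h2
  have good₀ := grow a₀ x₀ b₀ ha₀ hx₀ h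
  have good : ∀ a x, f₁ a x = 0 → S1 D a x b₀ := by
    have step : ∀ g a, g ∉ Submodule.span F {a} → (∀ w, f₁ g w = 0 → S1 D g w b₀) → f₁ g a = 0 → a ≠ 0 →
        ∀ w, f₁ a w = 0 → S1 D a w b₀ := fun g a hga hg h0 ha => grow a g b₀ ha hga (S1.symm' D (hg a h0))
    intro a x hax
    rcases eq_or_ne a 0 with rfl | ha
    · refine S1.symm' D ((mem_s1Sub D).1 ?_)
      exact Submodule.zero_mem _
    by_cases hsp : a₀ ∈ Submodule.span F {a}
    · obtain ⟨c, hc⟩ := Submodule.mem_span_singleton.1 hsp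
      have hc0 : c ≠ 0 := fun h0 => ha₀ (by rw [← hc, h0, zero_smul])
      have h1 := good₀ x (by rw [← hc, fsmul_left hf, hax, mul_zero])
      have h2 := ((mem_s1Sub D).2 (S1.symm' D h1) : a₀ ∈ s1Sub D x b₀)
      rw [← hc, Submodule.smul_mem_iff _ hc0] at h2
      exact S1.symm' D h2
    by_cases h0 : f₁ a₀ a = 0
    · exact step a₀ a hsp good₀ h0 ha x hax
    obtain ⟨z, hz, hza₀, hza⟩ := exists_orth_two hf hr a₀ a
    have hz₁ : f₁ a₀ z = 0 := by rw [fswap hf, hza₀, neg_zero]
    have hz2 : a₀ ∉ Submodule.span F {z} := fun hm => by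
      obtain ⟨c, rfl⟩ := Submodule.mem_span_singleton.1 hm
      exact h0 (by rw [fsmul_left hf, hza, mul_zero])
    have hz3 : z ∉ Submodule.span F {a} := fun hm => by
      obtain ⟨c, rfl⟩ := Submodule.mem_span_singleton.1 hm
      rw [fsmul_left hf, mul_eq_zero] at hza₀
      refine hza₀.elim (fun hc => hz (by rw [hc, zero_smul])) fun h' => h0 ?_
      rw [fswap hf, h', neg_zero]
    exact step z a hz3 (step a₀ z hz2 good₀ hz₁ hz) hza ha x hax
  rcases eq_or_ne b 0 with rfl | hb
  · show AIn Q M (T a 0) (T x 0)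
    rw [D.zeroR, D.zeroR]
    have := AIn.self (M := M) D.quad (qzero D.quad) 0
    rwa [zero_smul] at this
  refine transvection_transitive D.s2 (P := fun y => S1 D a x y) (fun w l y hy => ?_) hb₀ hb (good a x hax)
  obtain ⟨g, hg, hgT⟩ := D.tW w l
  have := AIn.conj hy D.le hg
  rwa [hgT, hgT] at this

/-- a root with one fixed centre moved by a root -/
theorem root_shift {u p u₁ v₁ : ι → F} (hu : Q u = 0) (hp : Q p = 0) (hv₁ : Q v₁ = 0) (h : AIn Q M u p)
    (h₁ : AIn Q M u₁ v₁) (hp₁ : QuadraticMap.polar Q p u₁ = 0) (hp₂ : QuadraticMap.polar Q p v₁ = 0) :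
    AIn Q M p (QuadraticMap.polar Q u u₁ • v₁ - QuadraticMap.polar Q u v₁ • u₁) := by
  obtain ⟨g, hg, hgE⟩ := h₁.2 1
  rw [one_smul] at hgE
  have hgp : (g : Matrix ι ι F) *ᵥ p = p := by rw [hgE, hp₁, hp₂, hv₁]; simp
  have h2 := AIn.conj h D.le hg
  rw [hgp] at h2
  have hgu : Q ((g : Matrix ι ι F) *ᵥ u) = 0 := by rw [mem_iso.1 (D.le hg), hu]
  have h3 := AIn.sub D.quad hp (AIn.symm D.quad hgu hp h2) (AIn.symm D.quad hu hp h)
  rw [hgE, hv₁] at h3
  convert h3 using 1
  rw [zero_mul, zero_smul]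
  abel

/-- roots with orthogonal first factors give those with a common first factor -/
theorem s2_of_s1 (hr : 3 ≤ r) (h : ∀ a x b, f₁ a x = 0 → S1 D a x b) (x : Fin r → F) (b b' : Fin s → F) :
    S2 D x b b' := by
  have hf := D.s1
  rcases eq_or_ne x 0 with rfl | hx
  · show AIn Q M (T 0 b) (T 0 b')
    rw [D.zeroL, D.zeroL]
    have := AIn.self (M := M) D.quad (qzero D.quad) 0
    rwa [zero_smul] at this
  rcases eq_or_ne b 0 with rfl | hb
  · show AIn Q M (T x 0) (T x b')
    rw [D.zeroR]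
    refine AIn.symm D.quad (D.pure _ _) (qzero D.quad) ?_
    have := AIn.self (M := M) D.quad (D.pure x b') 0
    rwa [zero_smul] at this
  have key : ∀ b', f₂ b b' ≠ 0 → S2 D x b b' := by
    intro b' hbb'
    obtain ⟨p, hp⟩ := exists_partner hf hx
    obtain ⟨a, ha0, hax, hap⟩ := exists_orth_two hf hr x p
    have hsp : a ∉ Submodule.span F {x} := fun hm => by
      obtain ⟨c, rfl⟩ := Submodule.mem_span_singleton.1 hm
      rw [fsmul_left hf, fswap hf x p, hp, mul_neg, mul_one, neg_eq_zero] at hap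
      exact ha0 (by rw [hap, zero_smul])
    obtain ⟨x', hxx', hax'⟩ := sep hf hx hsp
    have := root_shift D (D.pure a b) (D.pure x b) (D.pure x' b') (h a x b hax) (h x x' b' hxx')
      (by rw [D.pol, hf.alternating]; ring) (by rw [D.pol, hxx']; ring)
    rw [D.pol, D.pol, hax, hax', zero_mul, mul_zero, zero_smul, zero_sub, ← neg_smul, one_mul] at this
    have h' := AIn.smul D.quad this (-(k * f₂ b b'))⁻¹
    rwa [smul_smul, inv_mul_cancel₀ (neg_ne_zero.2 (mul_ne_zero D.kne hbb')), one_smul] at h'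
  by_cases hbb' : f₂ b b' = 0
  swap
  · exact key b' hbb'
  obtain ⟨q, hq⟩ := exists_partner D.s2 hb
  have hbq : f₂ b q ≠ 0 := by rw [fswap D.s2, hq]; exact neg_ne_zero.2 one_ne_zero
  have := AIn.sub D.quad (D.pure x b) (key (b' + q) (by rwa [fadd_right D.s2, hbb', zero_add])) (key q hbq)
  rwa [D.addR, add_sub_cancel_right] at this

/-- the mixed roots from those with common first factor and orthogonal second factors -/
theorem mixed_of_s2 (hs : 5 ≤ s) (h : ∀ a y y', f₂ y y' = 0 → S2 D a y y') (a a' : Fin r → F) (b y : Fin s → F)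
    (hby : f₂ b y = 0) : AIn Q M (T a b) (T a' y) := by
  classical
  have hf := D.s1
  have hg := D.s2
  have key : ∀ a', f₁ a a' ≠ 0 → AIn Q M (T a b) (T a' y) := by
    intro a' haa'
    -- an auxiliary vector orthogonal to both and independent from them
    obtain ⟨b₂, ⟨hb₂b, hb₂y⟩, hb₂⟩ : ∃ b₂, (f₂ b₂ b = 0 ∧ f₂ b₂ y = 0) ∧ b₂ ∉ Submodule.span F ({b, y} : Set (Fin s → F)) := by
      by_contra hcon
      push Not at hcon
      have hle : LinearMap.ker ((fL hg b).prod (fL hg y)) ≤ Submodule.span F ({b, y} : Set (Fin s → F)) :=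
        fun z hz => hcon z (Prod.ext_iff.1 (LinearMap.mem_ker.1 hz))
      have h1 := Submodule.finrank_mono hle
      have h2 := ((fL hg b).prod (fL hg y)).finrank_range_add_finrank_ker
      have h3 := Submodule.finrank_le (LinearMap.range ((fL hg b).prod (fL hg y)))
      have h4 : Module.finrank F ↥(Submodule.span F ({b, y} : Set (Fin s → F))) ≤ 2 := by
        refine le_trans (finrank_span_le_card ({b, y} : Set (Fin s → F))) ?_
        rw [Set.toFinset_insert, Set.toFinset_singleton]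
        exact Finset.card_le_two
      rw [Module.finrank_prod, Module.finrank_self] at h3
      simp at h2
      omega
    obtain ⟨L, hL1, hL0⟩ := Submodule.exists_dual_map_eq_bot_of_notMem hb₂ inferInstance
    obtain ⟨y₀, hy₀⟩ := exists_rep hg L
    have hkill : ∀ z ∈ ({b, y} : Set (Fin s → F)), L z = 0 := fun z hz => by
      have : L z ∈ (Submodule.span F ({b, y} : Set (Fin s → F))).map L := ⟨z, Submodule.subset_span hz, rfl⟩
      rwa [hL0, Submodule.mem_bot] at this
    set y' := (L b₂)⁻¹ • y₀ with hy'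
    have hby' : f₂ b y' = 0 := by rw [hy', fsmul_right hg, hy₀, hkill b (Set.mem_insert _ _), mul_zero]
    have hyy' : f₂ y y' = 0 := by rw [hy', fsmul_right hg, hy₀, hkill y (Set.mem_insert_of_mem _ rfl), mul_zero]
    have hb₂y' : f₂ b₂ y' = 1 := by rw [hy', fsmul_right hg, hy₀, inv_mul_cancel₀ hL1]
    have h1 := root_shift D (D.pure a b₂) (D.pure a b) (D.pure a' y')
      (h a b₂ b hb₂b) (h a' y y' hyy') (by rw [D.pol, hby]; ring) (by rw [D.pol, hby']; ring)
    rw [D.pol, D.pol, hb₂y, hb₂y', mul_zero, mul_zero, zero_smul, zero_sub, ← neg_smul, mul_one] at h1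
    have h2 := AIn.smul D.quad h1 (-(k * f₁ a a'))⁻¹
    rwa [smul_smul, inv_mul_cancel₀ (neg_ne_zero.2 (mul_ne_zero D.kne haa')), one_smul] at h2
  by_cases haa' : f₁ a a' = 0
  swap
  · exact key a' haa'
  rcases eq_or_ne a 0 with rfl | ha
  · rw [D.zeroL]
    refine AIn.symm D.quad (D.pure _ _) (qzero D.quad) ?_
    have := AIn.self (M := M) D.quad (D.pure a' y) 0
    rwa [zero_smul] at this
  obtain ⟨q, hq⟩ := exists_partner hf ha
  have haq : f₁ a q ≠ 0 := by rw [fswap hf, hq]; exact neg_ne_zero.2 one_ne_zero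
  have := AIn.sub D.quad (D.pure a b) (key (a' + q) (by rwa [fadd_right hf, haa', zero_add])) (key q haq)
  rwa [D.addL, add_sub_cancel_right] at this

/-- the non-orthogonal roots with a common first factor -/
theorem s2_all (hr : 1 ≤ r) (hs : 5 ≤ s) (h : ∀ a y y', f₂ y y' = 0 → S2 D a y y') (a' : Fin r → F) (y d : Fin s → F) :
    S2 D a' y d := by
  have hf := D.s1
  have hg := D.s2
  by_cases hyd : f₂ y d = 0
  · exact h a' y d hyd
  rcases eq_or_ne a' 0 with rfl | ha'
  · show AIn Q M (T 0 y) (T 0 d)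
    rw [D.zeroL, D.zeroL]
    have := AIn.self (M := M) D.quad (qzero D.quad) 0
    rwa [zero_smul] at this
  obtain ⟨a, ha⟩ := exists_partner hf ha'
  have hy : y ≠ 0 := fun h0 => hyd (by rw [h0, fzero_left hg])
  have hd : d ≠ 0 := fun h0 => hyd (by rw [h0, fzero_right hg])
  -- a vector orthogonal to `d` and `y` but not zero
  obtain ⟨b, hb0, hbd, hby⟩ := exists_orth_two hg (by omega) d y
  have hsp : b ∉ Submodule.span F {y} := fun hm => by
    obtain ⟨c, rfl⟩ := Submodule.mem_span_singleton.1 hm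
    rw [fsmul_left hg, mul_eq_zero] at hbd
    exact hbd.elim (fun hc => hb0 (by rw [hc, zero_smul])) hyd
  obtain ⟨y', hyy', hby'⟩ := sep hg hy hsp
  have h1 := root_shift D (D.pure a b) (D.pure a' d) (D.pure a' y') (mixed_of_s2 D hs h a a' b d hbd)
    (h a' y y' hyy') (by rw [D.pol, hf.alternating]; ring) (by rw [D.pol, hf.alternating]; ring)
  rw [D.pol, D.pol, hby, hby', ha, mul_zero, mul_zero, zero_smul, zero_sub, ← neg_smul, one_mul, mul_one] at h1
  have h2 := AIn.smul D.quad h1 (-k)⁻¹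
  rw [smul_smul, inv_mul_cancel₀ (neg_ne_zero.2 D.kne), one_smul] at h2
  exact AIn.symm D.quad (D.pure _ _) (D.pure _ _) h2

/-- mixed roots with orthogonal first factors -/
theorem mixed_of_s1 (h₁ : ∀ a a' b, S1 D a a' b) (h₂ : ∀ a b b', S2 D a b b') (x c : Fin r → F) (b b' : Fin s → F)
    (hxc : f₁ x c = 0) (hbb' : f₂ b b' ≠ 0) : AIn Q M (T x b) (T c b') := by
  have hf := D.s1
  rcases eq_or_ne x 0 with rfl | hx
  · rw [D.zeroL]
    refine AIn.symm D.quad (D.pure _ _) (qzero D.quad) ?_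
    have := AIn.self (M := M) D.quad (D.pure c b') 0
    rwa [zero_smul] at this
  by_cases hsp : c ∈ Submodule.span F {x}
  · obtain ⟨l, rfl⟩ := Submodule.mem_span_singleton.1 hsp
    rw [D.smulL]
    exact AIn.smul D.quad (h₂ x b b') l
  obtain ⟨a₂, hxa₂, hca₂⟩ := sep hf hx hsp
  have h3 := root_shift D (D.pure c b) (D.pure x b) (D.pure a₂ b') (h₁ c x b) (h₁ c a₂ b')
    (by rw [D.pol, hxc]; ring) (by rw [D.pol, hxa₂]; ring)
  rw [D.pol, D.pol, hf.alternating, hca₂, zero_mul, mul_zero, zero_smul, zero_sub, ← neg_smul, one_mul] at h3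
  have h4 := AIn.smul D.quad h3 (-(k * f₂ b b'))⁻¹
  rwa [smul_smul, inv_mul_cancel₀ (neg_ne_zero.2 (mul_ne_zero D.kne hbb')), one_smul] at h4

/-- all roots with pure factors give `Ω` -/
theorem omega_le_of_all (hn : 5 ≤ Fintype.card ι) (hr : 1 ≤ r) (hs : 5 ≤ s)
    (h₁ : ∀ a a' b, S1 D a a' b) (h₂ : ∀ a b b', S2 D a b b') : omegaGL Q ≤ M := by
  have hf := D.s1
  have hg := D.s2
  have cent : ∀ a b, a ≠ 0 → b ≠ 0 → T a b ∈ eCentres Q M := by
    intro a b ha hb
    obtain ⟨p, hp⟩ := exists_partner hf ha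
    obtain ⟨q, hq⟩ := exists_partner hg hb
    set u := T a b with hu
    have hmem : ∀ x y, f₁ x a = 0 ∨ f₂ y b = 0 → AIn Q M u (T x y) := by
      intro x y hxy
      rcases hxy with hxa | hyb
      · by_cases hby : f₂ b y = 0
        · exact mixed_of_s2 D hs (fun a y y' _ => h₂ a y y') a x b y hby
        · exact mixed_of_s1 D h₁ h₂ a x b y (by rw [fswap hf, hxa, neg_zero]) hby
      · exact mixed_of_s2 D hs (fun a y y' _ => h₂ a y y') a x b y (by rw [fswap hg, hyb, neg_zero])
    have hall : ∀ z, z - (k⁻¹ * QuadraticMap.polar Q z u) • T p q ∈ aSub D.quad M (D.pure a b) := by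
      intro z
      induction D.span z using Submodule.span_induction with
      | mem v hv =>
        obtain ⟨x, y, rfl⟩ := hv
        rw [hu, D.pol, ← mul_assoc, inv_mul_cancel₀ D.kne, one_mul]
        have e1 : T x y - (f₁ x a * f₂ y b) • T p q =
            T (x - f₁ x a • p) y + f₁ x a • T p (y - f₂ y b • q) := by
          rw [sub_eq_add_neg x, sub_eq_add_neg y, ← neg_smul, ← neg_smul, D.addL, D.addR, D.smulL, D.smulR]
          module
        rw [e1]
        exact Submodule.add_mem _ (hmem _ _ (Or.inl (by rw [fsub_left hf, fsmul_left hf, hp]; ring)))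
          (Submodule.smul_mem _ _ (hmem _ _ (Or.inr (by rw [fsub_left hg, fsmul_left hg, hq]; ring))))
      | zero => rw [pzero_left D.quad]; simp
      | add v w _ _ e1 e2 =>
        have := Submodule.add_mem _ e1 e2
        convert this using 1
        rw [padd_left D.quad]
        module
      | smul c v _ e1 =>
        have := Submodule.smul_mem (aSub D.quad M (D.pure a b)) c e1
        convert this using 1
        rw [psmul_left D.quad]
        module
    refine ⟨D.pure a b, fun v hv => ?_⟩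
    have h3 := hall v
    rw [pcomm, hv, mul_zero, zero_smul, sub_zero] at h3
    have h4 : EIn Q M u ((1 : F) • v) := h3.2 1
    rwa [one_smul] at h4
  obtain ⟨a, ha⟩ : ∃ a : Fin r → F, a ≠ 0 := ⟨Pi.single ⟨0, hr⟩ 1, by simp⟩
  obtain ⟨b, hb⟩ : ∃ b : Fin s → F, b ≠ 0 := ⟨Pi.single ⟨0, by omega⟩ 1, by simp⟩
  obtain ⟨p, hp⟩ := exists_partner hf ha
  obtain ⟨q, hq⟩ := exists_partner hg hb
  have hp0 : p ≠ 0 := fun h => zero_ne_one (hp ▸ h ▸ (fzero_left hf a).symm)
  have hq0 : q ≠ 0 := fun h => zero_ne_one (hq ▸ h ▸ (fzero_left hg b).symm)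
  refine omega_le_of_eCentres D.quad hn fun u hu =>
    eCentres_all D.quad D.le (cent p q hp0 hq0) (cent a b ha hb) ?_ hu
  rw [D.pol, hp, hq, one_mul, mul_one]
  exact D.kne

/-- an orthogonal root with a common second factor generates `Ω` -/
theorem omega_le_of_s1 (hn : 5 ≤ Fintype.card ι) (hr : 3 ≤ r) (hs : 5 ≤ s) {a x : Fin r → F} {b : Fin s → F}
    (ha : a ≠ 0) (hb : b ≠ 0) (hx : x ∉ Submodule.span F {a}) (h : S1 D a x b) : omegaGL Q ≤ M := by
  have h1 := s1_spread D hr ha hb hx h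
  have h2 : ∀ a b b', S2 D a b b' := s2_of_s1 D hr h1
  have h3 : ∀ a a' b, S1 D a a' b := fun a a' b => s2_of_s1 D.swap (by omega) (fun y y' x _ => h2 x y y') b a a'
  exact omega_le_of_all D hn (by omega) hs h3 h2

/-- a root with a common first factor generates `Ω` -/
theorem omega_le_of_s2 (hn : 5 ≤ Fintype.card ι) (hr : 1 ≤ r) (hs : 5 ≤ s) {a : Fin r → F} {y y' : Fin s → F}
    (ha : a ≠ 0) (hy : y ≠ 0) (hy' : y' ∉ Submodule.span F {y}) (h : S2 D a y y') : omegaGL Q ≤ M := by
  have h0 : ∀ y y' a, f₂ y y' = 0 → S2 D a y y' := fun y y' a hyy' =>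
    s1_spread D.swap (by omega) hy ha hy' h y y' a hyy'
  have h2 : ∀ a y d, S2 D a y d := s2_all D hr hs fun a y y' hh => h0 y y' a hh
  have h3 : ∀ a a' b, S1 D a a' b := fun a a' b => s2_of_s1 D.swap (by omega) (fun y y' x _ => h2 x y y') b a a'
  exact omega_le_of_all D hn hr hs h3 h2

end CfsgLib.Perm.Trans.TensorSymp
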