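import Mathlib
import Cfsg.Agent.Lib.Perm.Trans.TensorCore
import Cfsg.Agent.Lib.Perm.Trans.TensorSympRoots

/-!
# The radical of the stabiliser of `U ⊗ b` in a tensor product of symplectic forms

In a subgroup of the orthogonal group containing the transvections of both factors but not `Ω`, an element of
the radical is the image of a radical element of the second factor.
-/

set_option autoImplicit false
set_option linter.all false

namespace CfsgLib.Perm.Trans.TensorSymp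

open scoped Matrix
open Matrix Cfsg.Geo CfsgLib.Perm.Asch CfsgLib.Perm.Trans CfsgLib.Perm.Trans.Quad
open CfsgLib.Perm.Trans.TensorFrame CfsgLib.Perm.Trans.TensorMax

variable {ι : Type} [Fintype ι] [DecidableEq ι] {F : Type*} [Field F] [Fintype F]
variable {r s : ℕ} {e : ι ≃ Fin r × Fin s} {P : GL ι F}
variable {Q : (ι → F) → F} {M : Subgroup (GL ι F)}
variable {f₁ : (Fin r → F) → (Fin r → F) → F} {f₂ : (Fin s → F) → (Fin s → F) → F} {k : F}

/-! ### linear algebra on the first factor -/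

section Linear

variable (hf : IsSymplecticForm f₁)
include hf

omit [Fintype ι] [DecidableEq ι] in
theorem orth_indep_three {a x : Fin r → F} (ha : a ≠ 0) (hx : x ∉ Submodule.span F {a}) (h : f₁ a x = 0) : 3 ≤ r := by
  by_contra hcon
  have hli : LinearIndependent F ![a, x] := by
    rw [LinearIndependent.pair_iff]
    intro u v huv
    rcases eq_or_ne v 0 with rfl | hv
    · rw [zero_smul, add_zero, smul_eq_zero] at huv
      exact ⟨huv.resolve_right ha, rfl⟩
    · refine absurd (Submodule.mem_span_singleton.2 ⟨-(v⁻¹ * u), ?_⟩) hx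
      have hux : u • a = -(v • x) := eq_neg_of_add_eq_zero_left huv
      rw [neg_smul, mul_smul, hux, smul_neg, smul_smul, inv_mul_cancel₀ hv, one_smul, neg_neg]
  have h2 : Submodule.span F (Set.range ![a, x]) = ⊤ := by
    refine Submodule.eq_top_of_finrank_eq ?_
    rw [finrank_span_eq_card hli, Module.finrank_fintype_fun_eq_card, Fintype.card_fin, Fintype.card_fin]
    have := finrank_span_eq_card hli
    have := Submodule.finrank_le (Submodule.span F (Set.range ![a, x]))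
    rw [finrank_span_eq_card hli, Fintype.card_fin, Module.finrank_fintype_fun_eq_card, Fintype.card_fin] at this
    omega
  refine ha (eq_zero_of_orth hf fun y => ?_)
  have hy : y ∈ Submodule.span F (Set.range ![a, x]) := h2 ▸ Submodule.mem_top
  rw [Submodule.mem_span_range_iff_exists_fun] at hy
  obtain ⟨c, rfl⟩ := hy
  rw [Fin.sum_univ_two, fadd_left hf, fsmul_left hf, fsmul_left hf]
  simp only [Matrix.cons_val_zero, Matrix.cons_val_one]
  rw [hf.alternating, fswap hf x a, h]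
  ring

/-- a transvection -/
def tlin (a : Fin r → F) (l : F) : (Fin r → F) →ₗ[F] (Fin r → F) :=
  LinearMap.id + (l • fL hf a).smulRight a

omit [Fintype ι] [DecidableEq ι] in
theorem tlin_apply (a : Fin r → F) (l : F) (x : Fin r → F) : tlin hf a l x = x + (l * f₁ x a) • a := by
  simp [tlin, fL_apply]

/-- the map `x ↦ f(x,q) p` -/
def op1 (p q : Fin r → F) : (Fin r → F) →ₗ[F] (Fin r → F) := (fL hf q).smulRight p

omit [Fintype ι] [DecidableEq ι] in
theorem op1_apply (p q x : Fin r → F) : op1 hf p q x = f₁ x q • p := by simp [op1, fL_apply]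

/-- the alternating map of two vectors -/
def wed (p q : Fin r → F) : (Fin r → F) →ₗ[F] (Fin r → F) := op1 hf p q - op1 hf q p

omit [Fintype ι] [DecidableEq ι] in
theorem wed_apply (p q x : Fin r → F) : wed hf p q x = f₁ x q • p - f₁ x p • q := by simp [wed, op1_apply]

omit [Fintype ι] [DecidableEq ι] in
theorem self_adjoint_of_alt {S : (Fin r → F) →ₗ[F] (Fin r → F)} (h : ∀ x, f₁ x (S x) = 0) (x y : Fin r → F) :
    f₁ (S x) y = f₁ x (S y) := by
  have h1 := h (x + y)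
  rw [map_add, fadd_left hf, fadd_right hf, fadd_right hf, h, h, zero_add, add_zero] at h1
  rw [fswap hf (S x) y]
  linear_combination (-1 : F) * h1

/-- the difference of a conjugate by a transvection -/
theorem conj_diff (X : (Fin r → F) →ₗ[F] (Fin r → F)) (a : Fin r → F) (l : F) (x : Fin r → F) :
    tlin hf a l (X (tlin hf a (-l) x)) - X x =
      (l * f₁ (X x) a) • a - (l * f₁ x a) • X a - (l * l * f₁ x a * f₁ (X a) a) • a := by
  simp only [tlin_apply, map_add, map_smul, fadd_left hf, fsmul_left hf]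
  module

end Linear

/-- an alternating eigen map is scalar -/
theorem lin_scalar {S : (Fin r → F) →ₗ[F] (Fin r → F)} (hr : 0 < r) (h : ∀ a, S a ∈ Submodule.span F {a}) :
    ∃ σ : F, ∀ x, S x = σ • x := by
  obtain ⟨σ, hσ⟩ := scalar_of_eigen hr (A := LinearMap.toMatrix' S) fun a => by
    obtain ⟨c, hc⟩ := Submodule.mem_span_singleton.1 (h a)
    exact ⟨c, by rw [LinearMap.toMatrix'_mulVec, hc]⟩
  exact ⟨σ, fun x => by rw [← hσ, LinearMap.toMatrix'_mulVec]⟩

/-- eigen on a subspace with two independent vectors gives a common value -/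
theorem common_eigen {S : (Fin r → F) →ₗ[F] (Fin r → F)} {A : Submodule F (Fin r → F)}
    (h : ∀ a ∈ A, S a ∈ Submodule.span F {a}) {u w : Fin r → F} (hu : u ∈ A) (hw : w ∈ A) (hu0 : u ≠ 0)
    (hwu : w ∉ Submodule.span F {u}) : ∃ σ : F, ∀ a ∈ A, S a = σ • a := by
  have key : ∀ a ∈ A, ∀ b ∈ A, a ≠ 0 → b ∉ Submodule.span F {a} → ∀ α β : F, S a = α • a → S b = β • b → α = β := by
    intro a ha b hb ha0 hb0 α β hα hβ
    obtain ⟨γ, hγ⟩ := Submodule.mem_span_singleton.1 (h (a + b) (A.add_mem ha hb))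
    rw [map_add, hα, hβ] at hγ
    have h1 : (γ - α) • a + (γ - β) • b = 0 := by
      rw [sub_smul, sub_smul, ← sub_eq_zero.2 hγ]; module
    by_cases hγβ : γ - β = 0
    · rw [hγβ, zero_smul, add_zero, smul_eq_zero] at h1
      rw [← sub_eq_zero.1 (h1.resolve_right ha0), sub_eq_zero.1 hγβ]
    · refine absurd (Submodule.mem_span_singleton.2 ⟨-((γ - β)⁻¹ * (γ - α)), ?_⟩) hb0
      have h2 : (γ - α) • a = -((γ - β) • b) := eq_neg_of_add_eq_zero_left h1
      rw [neg_smul, mul_smul, h2, smul_neg, smul_smul, inv_mul_cancel₀ hγβ, one_smul, neg_neg]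
  obtain ⟨σ, hσ⟩ := Submodule.mem_span_singleton.1 (h u hu)
  obtain ⟨σ', hσ'⟩ := Submodule.mem_span_singleton.1 (h w hw)
  have hσσ' := key u hu w hw hu0 hwu σ σ' hσ.symm hσ'.symm
  refine ⟨σ, fun a ha => ?_⟩
  obtain ⟨α, hα⟩ := Submodule.mem_span_singleton.1 (h a ha)
  by_cases hsp : a ∈ Submodule.span F {u}
  · obtain ⟨c, rfl⟩ := Submodule.mem_span_singleton.1 hsp
    rw [map_smul, ← hσ, smul_comm]
  · rw [← hα, key u hu a ha hu0 hsp σ α hσ.symm hα.symm]

/-! ### elements of the radical -/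

variable (D : TS Q f₁ f₂ (tvec e P) k M)
include D

/-- the functional of `b` -/
def fb (b : Fin s → F) : Fin s → F := fvec (fL D.s2 b)

theorem fb_dot (b y : Fin s → F) : fb D b ⬝ᵥ y = f₂ y b := by rw [fb, fvec_dot, fL_apply]

/-- the contraction with `b` -/
def cob (b : Fin s → F) : (ι → F) →ₗ[F] (Fin r → F) := co e P (fb D b)

theorem cob_tvec (b : Fin s → F) (x : Fin r → F) (y : Fin s → F) : cob D b (tvec e P x y) = f₂ y b • x := by
  rw [cob, co_tvec, fb_dot]

theorem cob_add (b b' : Fin s → F) (z : ι → F) : cob D (b + b') z = cob D b z + cob D b' z := by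
  rw [cob, cob, cob, ← co_add]
  congr 2
  exact dotProduct_eq _ _ fun y => by rw [add_dotProduct, fb_dot, fb_dot, fb_dot, fadd_right D.s2]

theorem cob_smul (c : F) (b : Fin s → F) (z : ι → F) : cob D (c • b) z = c • cob D b z := by
  rw [cob, cob, ← co_smul]
  congr 2
  exact dotProduct_eq _ _ fun y => by rw [smul_dotProduct, fb_dot, fb_dot, fsmul_right D.s2, smul_eq_mul]

theorem pol_cob (z : ι → F) (x : Fin r → F) (b : Fin s → F) :
    QuadraticMap.polar Q z (tvec e P x b) = k * f₁ (cob D b z) x := by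
  induction tvec_span (e := e) (P := P) z using Submodule.span_induction with
  | mem v hv =>
    obtain ⟨x', y, rfl⟩ := hv
    rw [D.pol, cob_tvec, fsmul_left D.s1]
    ring
  | zero => rw [pzero_left D.quad, map_zero, fzero_left D.s1, mul_zero]
  | add v w _ _ h1 h2 => rw [padd_left D.quad, h1, h2, map_add, fadd_left D.s1]; ring
  | smul c v _ h1 => rw [psmul_left D.quad, h1, map_smul, fsmul_left D.s1]; ring

theorem tW_apply {v : Fin s → F} {l : F} {g : GL ι F}
    (hg : ∀ x y, (g : Matrix ι ι F) *ᵥ tvec e P x y = tvec e P x (y + (l * f₂ y v) • v)) (z : ι → F) :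
    (g : Matrix ι ι F) *ᵥ z = z + tvec e P (l • cob D v z) v := by
  induction tvec_span (e := e) (P := P) z using Submodule.span_induction with
  | mem w hw =>
    obtain ⟨x, y, rfl⟩ := hw
    rw [hg, tvec_add_right, tvec_smul_right, cob_tvec, smul_smul, tvec_smul_left]
  | zero => rw [mulVec_zero, map_zero, smul_zero, tvec_zero_left, add_zero]
  | add a b _ _ h1 h2 => rw [mulVec_add, h1, h2, map_add, smul_add, tvec_add_left]; abel
  | smul c a _ h1 => rw [mulVec_smul, h1, map_smul, smul_comm l c, tvec_smul_left c (l • _), smul_add]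

theorem tU_cob {a : Fin r → F} {l : F} {g : GL ι F}
    (hg : ∀ x y, (g : Matrix ι ι F) *ᵥ tvec e P x y = tvec e P (x + (l * f₁ x a) • a) y) (b : Fin s → F) (z : ι → F) :
    cob D b ((g : Matrix ι ι F) *ᵥ z) = tlin D.s1 a l (cob D b z) := by
  induction tvec_span (e := e) (P := P) z using Submodule.span_induction with
  | mem w hw =>
    obtain ⟨x, y, rfl⟩ := hw
    rw [hg, cob_tvec, cob_tvec, map_smul, tlin_apply]
  | zero => rw [mulVec_zero, map_zero, map_zero]
  | add u v _ _ h1 h2 => rw [mulVec_add, map_add, h1, h2, map_add, map_add]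
  | smul c u _ h1 => rw [mulVec_smul, map_smul, h1, map_smul, map_smul]

theorem tU_inv {a : Fin r → F} {l : F} {g : GL ι F}
    (hg : ∀ x y, (g : Matrix ι ι F) *ᵥ tvec e P x y = tvec e P (x + (l * f₁ x a) • a) y) (x : Fin r → F) (y : Fin s → F) :
    ((g⁻¹ : GL ι F) : Matrix ι ι F) *ᵥ tvec e P x y = tvec e P (x + (-l * f₁ x a) • a) y := by
  have h1 : (g : Matrix ι ι F) *ᵥ tvec e P (x + (-l * f₁ x a) • a) y = tvec e P x y := by
    rw [hg, fadd_left D.s1, fsmul_left D.s1, D.s1.alternating]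
    congr 1
    module
  rw [← h1, gl_inv_mulVec]

theorem tW_inv {a : Fin s → F} {l : F} {g : GL ι F}
    (hg : ∀ x y, (g : Matrix ι ι F) *ᵥ tvec e P x y = tvec e P x (y + (l * f₂ y a) • a)) (x : Fin r → F) (y : Fin s → F) :
    ((g⁻¹ : GL ι F) : Matrix ι ι F) *ᵥ tvec e P x y = tvec e P x (y + (-l * f₂ y a) • a) := by
  have h1 : (g : Matrix ι ι F) *ᵥ tvec e P x (y + (-l * f₂ y a) • a) = tvec e P x y := by
    rw [hg, fadd_left D.s2, fsmul_left D.s2, D.s2.alternating]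
    congr 1
    module
  rw [← h1, gl_inv_mulVec]

omit D in
theorem tvec_neg_left (x : Fin r → F) (y : Fin s → F) : tvec e P (-x) y = -tvec e P x y := by
  rw [← neg_one_smul F x, tvec_smul_left, neg_one_smul]

omit D in
theorem tvec_neg_right (x : Fin r → F) (y : Fin s → F) : tvec e P x (-y) = -tvec e P x y := by
  rw [← neg_one_smul F y, tvec_smul_right, neg_one_smul]

/-- the central element of `S` -/
def Cen (b : Fin s → F) (S : (Fin r → F) →ₗ[F] (Fin r → F)) (m : GL ι F) : Prop :=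
  ∀ z, (m : Matrix ι ι F) *ᵥ z = z + tvec e P (S (cob D b z)) b

/-- the element with middle component `X` at `v` -/
def El (b v : Fin s → F) (X Y S : (Fin r → F) →ₗ[F] (Fin r → F)) (m : GL ι F) : Prop :=
  ∀ z, (m : Matrix ι ι F) *ᵥ z =
    z + tvec e P (X (cob D b z)) v + tvec e P (Y (cob D v z)) b + tvec e P (S (cob D b z)) b

variable {b v : Fin s → F}

theorem El.mul {X Y S X' Y' S' : (Fin r → F) →ₗ[F] (Fin r → F)} {m m' : GL ι F} (hbv : f₂ b v = 0)
    (h : El D b v X Y S m) (h' : El D b v X' Y' S' m') : El D b v (X + X') (Y + Y') (S + S') (m * m') := fun z => by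
  have hvb : f₂ v b = 0 := by rw [fswap D.s2, hbv, neg_zero]
  rw [gl_mul_mulVec, h', h]
  simp only [map_add, cob_tvec, D.s2.alternating, hbv, hvb, zero_smul, add_zero, map_zero, LinearMap.add_apply,
    tvec_add_left]
  abel

theorem El.inv {X Y S : (Fin r → F) →ₗ[F] (Fin r → F)} {m : GL ι F} (hbv : f₂ b v = 0) (h : El D b v X Y S m) :
    El D b v (-X) (-Y) (-S) m⁻¹ := fun z => by
  have hvb : f₂ v b = 0 := by rw [fswap D.s2, hbv, neg_zero]
  have key : (m : Matrix ι ι F) *ᵥ (z + tvec e P ((-X) (cob D b z)) v + tvec e P ((-Y) (cob D v z)) b +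
      tvec e P ((-S) (cob D b z)) b) = z := by
    rw [h]
    simp only [map_add, map_neg, cob_tvec, D.s2.alternating, hbv, hvb, zero_smul, neg_zero, add_zero,
      LinearMap.neg_apply, tvec_neg_left]
    module
  calc ((m⁻¹ : GL ι F) : Matrix ι ι F) *ᵥ z = ((m⁻¹ : GL ι F) : Matrix ι ι F) *ᵥ ((m : Matrix ι ι F) *ᵥ
        (z + tvec e P ((-X) (cob D b z)) v + tvec e P ((-Y) (cob D v z)) b + tvec e P ((-S) (cob D b z)) b)) := by
        rw [key]
    _ = _ := gl_inv_mulVec m _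

theorem El.conjU {X Y S : (Fin r → F) →ₗ[F] (Fin r → F)} {m g : GL ι F} {a : Fin r → F} {l : F}
    (h : El D b v X Y S m)
    (hg : ∀ x y, (g : Matrix ι ι F) *ᵥ tvec e P x y = tvec e P (x + (l * f₁ x a) • a) y) :
    El D b v (tlin D.s1 a l ∘ₗ X ∘ₗ tlin D.s1 a (-l)) (tlin D.s1 a l ∘ₗ Y ∘ₗ tlin D.s1 a (-l))
      (tlin D.s1 a l ∘ₗ S ∘ₗ tlin D.s1 a (-l)) (g * m * g⁻¹) := fun z => by
  rw [gl_mul_mulVec, gl_mul_mulVec, h, mulVec_add, mulVec_add, mulVec_add, gl_mulVec_inv, hg, hg, hg,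
    tU_cob D (tU_inv D hg), tU_cob D (tU_inv D hg)]
  simp only [LinearMap.comp_apply, tlin_apply]

theorem Cen.mul {S S' : (Fin r → F) →ₗ[F] (Fin r → F)} {m m' : GL ι F} (h : Cen D b S m) (h' : Cen D b S' m') :
    Cen D b (S + S') (m * m') := fun z => by
  rw [gl_mul_mulVec, h', h, map_add, cob_tvec, D.s2.alternating, zero_smul, add_zero, LinearMap.add_apply,
    tvec_add_left]
  abel

/-- the scalar central elements -/
theorem exists_cen_scalar (b : Fin s → F) (σ : F) : ∃ m ∈ M, Cen D b (σ • LinearMap.id) m := by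
  obtain ⟨g, hg, hgT⟩ := D.tW b σ
  exact ⟨g, hg, fun z => tW_apply D hgT z⟩

theorem El.isometry_adjoint {X Y S : (Fin r → F) →ₗ[F] (Fin r → F)} {m : GL ι F} (hm : m ∈ M) (hb : b ≠ 0)
    (hbv : f₂ b v = 0) (hv : v ∉ Submodule.span F {b}) (h : El D b v X Y S m) :
    (∀ x x', f₁ x (Y x') = f₁ (X x) x') ∧ ∀ x, f₁ x (S x) = 0 := by
  have hg := D.s2
  have hvb : f₂ v b = 0 := by rw [fswap hg, hbv, neg_zero]
  have hv0 : v ≠ 0 := fun h0 => hv (by rw [h0]; exact Submodule.zero_mem _)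
  obtain ⟨y₀, hy₀b, hy₀v⟩ := sep hg hb hv
  have hyb : f₂ (-y₀) b = 0 := by rw [fneg_left hg, fswap hg, hy₀b, neg_zero, neg_zero]
  have hyv : f₂ (-y₀) v = 1 := by rw [fneg_left hg, fswap hg, hy₀v, neg_neg]
  have hb' : b ∉ Submodule.span F {v} := fun hm => by
    obtain ⟨c, hc⟩ := Submodule.mem_span_singleton.1 hm
    have hc0 : c ≠ 0 := fun h0 => hb (by rw [← hc, h0, zero_smul])
    exact hv (Submodule.mem_span_singleton.2 ⟨c⁻¹, by rw [← hc, smul_smul, inv_mul_cancel₀ hc0, one_smul]⟩)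
  obtain ⟨q, hqv, hqb⟩ := sep hg hv0 hb'
  have hpb : f₂ (-q) b = 1 := by rw [fneg_left hg, fswap hg, hqb, neg_neg]
  have hpv : f₂ (-q) v = 0 := by rw [fneg_left hg, fswap hg, hqv, neg_zero, neg_zero]
  set p := -q
  set y := -y₀
  have e1 : ∀ x, (m : Matrix ι ι F) *ᵥ tvec e P x p = tvec e P x p + tvec e P (X x) v + tvec e P (S x) b := fun x => by
    rw [h, cob_tvec, cob_tvec, hpb, hpv, one_smul, zero_smul, map_zero, tvec_zero_left, add_zero]
  have e2 : ∀ x, (m : Matrix ι ι F) *ᵥ tvec e P x y = tvec e P x y + tvec e P (Y x) b := fun x => by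
    rw [h, cob_tvec, cob_tvec, hyb, hyv, one_smul, zero_smul, map_zero, map_zero, tvec_zero_left, tvec_zero_left,
      add_zero, add_zero]
  refine ⟨fun x x' => ?_, fun x => ?_⟩
  · have h1 := iso_pol (D.le hm) (tvec e P x p) (tvec e P x' y)
    rw [e1, e2] at h1
    simp only [padd_left D.quad, padd_right D.quad, D.pol, fswap hg v y, fswap hg b y, hpb, hyv, hyb, hvb,
      D.s2.alternating] at h1
    have h2 : k * (f₁ x (Y x') - f₁ (X x) x') = 0 := by linear_combination h1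
    exact sub_eq_zero.1 ((mul_eq_zero.1 h2).resolve_left D.kne)
  · have h1 := mem_iso.1 (D.le hm) (tvec e P x p)
    rw [e1] at h1
    simp only [qadd D.quad, padd_left D.quad, D.pure, D.pol, hpb, hpv, hvb, mul_zero, mul_one, add_zero,
      zero_add] at h1
    exact (mul_eq_zero.1 h1).resolve_left D.kne

theorem cen_alt {S : (Fin r → F) →ₗ[F] (Fin r → F)} {m : GL ι F} (hm : m ∈ Cfsg.isometryGroup F Q) (hb : b ≠ 0)
    (h : Cen D b S m) (x : Fin r → F) : f₁ x (S x) = 0 := by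
  obtain ⟨p, hp⟩ := exists_partner D.s2 hb
  have h1 := mem_iso.1 hm (tvec e P x p)
  rw [h, cob_tvec, hp, one_smul, qadd D.quad, D.pure, D.pure, D.pol, hp, mul_one, zero_add, zero_add] at h1
  exact (mul_eq_zero.1 h1).resolve_left D.kne

variable (hΩ : ¬ omegaGL Q ≤ M) (hn : 5 ≤ Fintype.card ι) (hr : 2 ≤ r) (hs : 5 ≤ s)
include hΩ hn hr hs

/-- central elements of a proper overgroup are scalar -/
theorem cen_eigen (hb : b ≠ 0) {S : (Fin r → F) →ₗ[F] (Fin r → F)} (halt : ∀ x, f₁ x (S x) = 0) {a : Fin r → F}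
    (h : ∀ l : F, ∃ m ∈ M, Cen D b (l • wed D.s1 a (S a)) m) : S a ∈ Submodule.span F {a} := by
  by_contra hsp
  have ha : a ≠ 0 := fun h0 => hsp (by rw [h0, map_zero]; exact Submodule.zero_mem _)
  have hr3 := orth_indep_three D.s1 ha hsp (halt a)
  refine hΩ (omega_le_of_s1 D hn hr3 hs ha hb hsp (AIn.symm D.quad (D.pure _ _) (D.pure _ _)
    ⟨by rw [D.pol, D.s2.alternating, mul_zero, mul_zero], fun c => ?_⟩))
  obtain ⟨m, hm, hmC⟩ := h (c * k)
  refine ⟨m, hm, fun z => ?_⟩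
  rw [hmC, qsmul D.quad, D.pure, psmul_right D.quad, pol_cob D, pol_cob D, LinearMap.smul_apply, wed_apply,
    sub_eq_add_neg, ← neg_smul, tvec_smul_left, tvec_add_left, tvec_smul_left, tvec_smul_left]
  module

/-- the conjugation by a transvection fixing the middle component -/
theorem el_cen_family (hbv : f₂ b v = 0) {X Y S : (Fin r → F) →ₗ[F] (Fin r → F)} {m : GL ι F} (hm : m ∈ M)
    (h : El D b v X Y S m) (halt : ∀ x, f₁ x (S x) = 0) {c : Fin r → F}
    (hX : X c = 0) (hX' : ∀ x, f₁ (X x) c = 0) (hY : Y c = 0) (hY' : ∀ x, f₁ (Y x) c = 0) (l : F) :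
    ∃ m' ∈ M, Cen D b (l • wed D.s1 c (S c)) m' := by
  obtain ⟨g, hg, hgT⟩ := D.tU c l
  refine ⟨g * m * g⁻¹ * m⁻¹, M.mul_mem (M.mul_mem (M.mul_mem hg hm) (M.inv_mem hg)) (M.inv_mem hm), fun z => ?_⟩
  have h1 := El.mul D hbv (El.conjU D h hgT) (El.inv D hbv h) z
  have e1 : ∀ Z : (Fin r → F) →ₗ[F] (Fin r → F), Z c = 0 → (∀ x, f₁ (Z x) c = 0) → ∀ x,
      (tlin D.s1 c l ∘ₗ Z ∘ₗ tlin D.s1 c (-l) + -Z) x = 0 := fun Z hZ hZ' x => by
    rw [LinearMap.add_apply, LinearMap.comp_apply, LinearMap.comp_apply, LinearMap.neg_apply, ← sub_eq_add_neg,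
      conj_diff D.s1, hZ, hZ', fzero_left D.s1]
    simp
  have e2 : ∀ x, (tlin D.s1 c l ∘ₗ S ∘ₗ tlin D.s1 c (-l) + -S) x = (l • wed D.s1 c (S c)) x := fun x => by
    rw [LinearMap.add_apply, LinearMap.comp_apply, LinearMap.comp_apply, LinearMap.neg_apply, ← sub_eq_add_neg,
      conj_diff D.s1, LinearMap.smul_apply, wed_apply, self_adjoint_of_alt D.s1 halt x c, fswap D.s1 (S c) c,
      halt c]
    module
  rw [h1, e1 X hX hX', e1 Y hY hY', e2, tvec_zero_left, tvec_zero_left, add_zero, add_zero]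

/-- the middle components -/
def xSub (hbv : f₂ b v = 0) : Submodule F ((Fin r → F) →ₗ[F] (Fin r → F)) where
  carrier := {X | ∀ l : F, ∃ m ∈ M, ∃ Y S, El D b v (l • X) Y S m}
  add_mem' := fun {X X'} h h' l => by
    obtain ⟨m, hm, Y, S, hE⟩ := h l
    obtain ⟨m', hm', Y', S', hE'⟩ := h' l
    exact ⟨m * m', M.mul_mem hm hm', Y + Y', S + S', by rw [smul_add]; exact El.mul D hbv hE hE'⟩
  zero_mem' := fun l => ⟨1, M.one_mem, 0, 0, fun z => by
    simp [tvec_zero_left]⟩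
  smul_mem' := fun c X h l => by rw [smul_smul]; exact h _

theorem xSub_diff (hbv : f₂ b v = 0) {X : (Fin r → F) →ₗ[F] (Fin r → F)}
    (hX : X ∈ xSub D hbv) (a : Fin r → F) (t : F) :
    tlin D.s1 a t ∘ₗ X ∘ₗ tlin D.s1 a (-t) - X ∈ xSub D hbv := by
  refine Submodule.sub_mem _ (fun l => ?_) hX
  obtain ⟨m, hm, Y, S, hE⟩ := hX l
  obtain ⟨g, hg, hgT⟩ := D.tU a t
  have h1 := El.conjU D hE hgT
  rw [show tlin D.s1 a t ∘ₗ (l • X) ∘ₗ tlin D.s1 a (-t) = l • (tlin D.s1 a t ∘ₗ X ∘ₗ tlin D.s1 a (-t)) from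
    LinearMap.ext fun x => by simp] at h1
  exact ⟨_, M.mul_mem (M.mul_mem hg hm) (M.inv_mem hg), _, _, h1⟩

/-- no transvection component -/
theorem middle_nl (hb : b ≠ 0) (hbv : f₂ b v = 0) (hv : v ∉ Submodule.span F {b}) {a : Fin r → F} (ha : a ≠ 0)
    (h : op1 D.s1 a a ∈ xSub D hbv) : False := by
  have hf := D.s1
  refine hΩ (omega_le_of_s2 D hn (by omega) hs ha hb hv ⟨?_, fun c => ?_⟩)
  · rw [D.pol, hf.alternating, zero_mul, mul_zero]
  obtain ⟨m, hm, Y, S, hE⟩ := h (c * k)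
  obtain ⟨hadj, halt⟩ := El.isometry_adjoint D hm hb hbv hv hE
  have hY : ∀ x, Y x = -((c * k) * f₁ x a) • a := by
    intro x
    refine sub_eq_zero.1 (eq_zero_of_orth hf fun y => ?_)
    rw [fsub_right hf, hadj, LinearMap.smul_apply, op1_apply, fsmul_left hf, fsmul_left hf, fsmul_right hf,
      fswap hf a x]
    ring
  -- the centre is scalar
  obtain ⟨σ, hσ⟩ : ∃ σ : F, ∀ x, S x = σ • x := by
    have heig : ∀ c', f₁ a c' = 0 → S c' ∈ Submodule.span F {c'} := fun c' hc' =>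
      cen_eigen D hΩ hn hr hs hb halt fun l => el_cen_family D hΩ hn hr hs hbv hm hE halt
        (by rw [LinearMap.smul_apply, op1_apply, fswap hf c' a, hc', neg_zero, zero_smul, smul_zero])
        (fun x => by rw [LinearMap.smul_apply, op1_apply, fsmul_left hf, fsmul_left hf, hc', mul_zero, mul_zero])
        (by rw [hY, fswap hf c' a, hc', neg_zero, mul_zero, neg_zero, zero_smul])
        (fun x => by rw [hY, fsmul_left hf, hc', mul_zero]) l
    by_cases hr3 : 3 ≤ r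
    swap
    · refine lin_scalar (by omega) fun x => ?_
      by_contra hx
      exact hr3 (orth_indep_three hf (fun h0 => hx (by rw [h0, map_zero]; exact Submodule.zero_mem _)) hx (halt x))
    obtain ⟨x₀, hx₀⟩ := exists_partner hf ha
    obtain ⟨z, hz, hza, hzx⟩ := exists_orth_two hf hr3 a x₀
    have hza' : z ∉ Submodule.span F {a} := fun hm' => by
      obtain ⟨γ, rfl⟩ := Submodule.mem_span_singleton.1 hm'
      rw [fsmul_left hf, fswap hf a x₀, hx₀, mul_neg, mul_one, neg_eq_zero] at hzx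
      exact hz (by rw [hzx, zero_smul])
    obtain ⟨σ, hσ⟩ := common_eigen (A := LinearMap.ker (fL hf a))
      (fun y hy => heig y (by rw [fswap hf, show f₁ y a = 0 from hy, neg_zero]))
      (show a ∈ LinearMap.ker (fL hf a) from hf.alternating a) hza ha hza'
    refine ⟨σ, fun x => ?_⟩
    have hk : ∀ y, f₁ y (S x₀ - σ • x₀) = 0 := by
      intro y
      have hy : y - f₁ y a • x₀ ∈ LinearMap.ker (fL hf a) := by
        show f₁ (y - f₁ y a • x₀) a = 0
        rw [fsub_left hf, fsmul_left hf, hx₀]; ring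
      have h1 := hσ _ hy
      have h2 := self_adjoint_of_alt hf halt (y - f₁ y a • x₀) x₀
      rw [h1, fsmul_left hf, fsub_left hf, fsmul_left hf, fsub_left hf, fsmul_left hf, hf.alternating] at h2
      rw [fsub_right hf, fsmul_right hf]
      linear_combination -h2 + f₁ y a * halt x₀
    have h0 := sub_eq_zero.1 (eq_zero_of_orth hf hk)
    have hx' : x - f₁ x a • x₀ ∈ LinearMap.ker (fL hf a) := by
      show f₁ (x - f₁ x a • x₀) a = 0
      rw [fsub_left hf, fsmul_left hf, hx₀]; ring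
    have h1 := hσ _ hx'
    rw [map_sub, map_smul, h0] at h1
    rw [← sub_eq_zero] at h1 ⊢
    rw [← h1]
    module
  obtain ⟨g, hg, hgC⟩ := exists_cen_scalar D b (-σ)
  refine ⟨m * g, M.mul_mem hm hg, fun z => ?_⟩
  rw [gl_mul_mulVec, hgC, hE, qsmul D.quad, D.pure, psmul_right D.quad, pol_cob D, pol_cob D]
  simp only [map_add, map_neg, map_smul, cob_tvec, D.s2.alternating, hbv, zero_smul, smul_zero, neg_zero, add_zero,
    LinearMap.smul_apply, op1_apply, hY, hσ, LinearMap.id_apply, smul_smul, tvec_smul_left, tvec_add_left,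
    tvec_neg_left, neg_smul, LinearMap.neg_apply]
  module

/-- no rank one component -/
theorem middle_rank_one (hb : b ≠ 0) (hbv : f₂ b v = 0) (hv : v ∉ Submodule.span F {b}) {a d : Fin r → F}
    (hd : d ≠ 0) (had : f₁ a d = 0) (hsp : a ∉ Submodule.span F {d})
    (h : op1 D.s1 a d ∈ xSub D hbv) : False := by
  have hf := D.s1
  obtain ⟨w₀, hdw, haw⟩ := sep hf hd hsp
  have key : ∀ w, f₁ d w = 0 → f₁ a w = 1 → op1 hf w d ∈ xSub D hbv := by
    intro w h1 h2
    have h3 := xSub_diff D hΩ hn hr hs hbv h w 1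
    have e1 : tlin hf w 1 ∘ₗ op1 hf a d ∘ₗ tlin hf w (-1) - op1 hf a d = op1 hf w d := LinearMap.ext fun x => by
      rw [LinearMap.sub_apply, LinearMap.comp_apply, LinearMap.comp_apply, conj_diff hf, op1_apply, op1_apply,
        op1_apply, fswap hf w d, h1, neg_zero, zero_smul, fsmul_left hf, h2, fzero_left hf]
      module
    rwa [e1] at h3
  have h1 := Submodule.sub_mem _ (key (w₀ + d) (by rw [fadd_right hf, hdw, hf.alternating, add_zero])
    (by rw [fadd_right hf, haw, had, add_zero])) (key w₀ hdw haw)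
  rw [show op1 hf (w₀ + d) d - op1 hf w₀ d = op1 hf d d from LinearMap.ext fun x => by
    rw [LinearMap.sub_apply, op1_apply, op1_apply, op1_apply, smul_add, add_sub_cancel_left]] at h1
  exact middle_nl D hΩ hn hr hs hb hbv hv hd h1

/-- no alternating component -/
theorem middle_wed (hb : b ≠ 0) (hbv : f₂ b v = 0) (hv : v ∉ Submodule.span F {b}) {a a' : Fin r → F} (ha : a ≠ 0)
    (haa' : f₁ a a' = 0) (hsp : a' ∉ Submodule.span F {a})
    (h : wed D.s1 a a' ∈ xSub D hbv) : False := by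
  classical
  have hf := D.s1
  have hg := D.s2
  have hr3 := orth_indep_three hf ha hsp haa'
  have ha'a : f₁ a' a = 0 := by rw [fswap hf, haa', neg_zero]
  have hvb : f₂ v b = 0 := by rw [fswap hg, hbv, neg_zero]
  obtain ⟨W, hW⟩ : ∃ W, W = wed hf a a' := ⟨_, rfl⟩
  have hWa : W a = 0 := by rw [hW, wed_apply, haa', hf.alternating]; simp
  have hWa' : W a' = 0 := by rw [hW, wed_apply, ha'a, hf.alternating]; simp
  have hWsa : ∀ x y, f₁ (W x) y = f₁ x (W y) := fun x y => by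
    rw [hW, wed_apply, wed_apply, fsub_left hf, fsub_right hf, fsmul_left hf, fsmul_left hf, fsmul_right hf,
      fsmul_right hf, fswap hf a y, fswap hf a' y]
    ring
  obtain ⟨m, hm, Y, S, hE⟩ := h 1
  rw [one_smul, ← hW] at hE
  obtain ⟨hadj, halt⟩ := El.isometry_adjoint D hm hb hbv hv hE
  have hYW : Y = W := LinearMap.ext fun x => sub_eq_zero.1 (eq_zero_of_orth hf fun y => by
    rw [fsub_right hf, hadj, hWsa, sub_self])
  rw [hYW] at hE hadj
  -- the centre
  have hker : ∀ c ∈ LinearMap.ker ((fL hf a).prod (fL hf a')), W c = 0 ∧ (∀ x, f₁ (W x) c = 0) ∧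
      f₁ c a = 0 ∧ f₁ c a' = 0 := by
    intro c hc
    obtain ⟨h1, h2⟩ := Prod.ext_iff.1 (LinearMap.mem_ker.1 hc)
    have h1' : f₁ c a = 0 := h1
    have h2' : f₁ c a' = 0 := h2
    have h3 : W c = 0 := by rw [hW, wed_apply, h1', h2']; simp
    exact ⟨h3, fun x => by rw [hWsa, h3, fzero_right hf], h1', h2'⟩
  obtain ⟨σ, hσ⟩ := common_eigen (A := LinearMap.ker ((fL hf a).prod (fL hf a'))) (S := S)
    (fun c hc => cen_eigen D hΩ hn hr hs hb halt fun l => el_cen_family D hΩ hn hr hs hbv hm hE halt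
      (hker c hc).1 (hker c hc).2.1 (hker c hc).1 (hker c hc).2.1 l)
    (show a ∈ _ from LinearMap.mem_ker.2 (Prod.ext (hf.alternating a) haa'))
    (show a' ∈ _ from LinearMap.mem_ker.2 (Prod.ext ha'a (hf.alternating a'))) ha hsp
  have ha'0 : a' ≠ 0 := fun h0 => hsp (by rw [h0]; exact Submodule.zero_mem _)
  have hsp' : a ∉ Submodule.span F {a'} := fun hm' => by
    obtain ⟨c, hc⟩ := Submodule.mem_span_singleton.1 hm'
    have hc0 : c ≠ 0 := fun h0 => ha (by rw [← hc, h0, zero_smul])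
    exact hsp (Submodule.mem_span_singleton.2 ⟨c⁻¹, by rw [← hc, smul_smul, inv_mul_cancel₀ hc0, one_smul]⟩)
  obtain ⟨d₁, had₁, ha'd₁⟩ := sep hf ha hsp
  obtain ⟨d₂, ha'd₂, had₂⟩ := sep hf ha'0 hsp'
  obtain ⟨μ, hμ⟩ : ∃ μ, μ = f₁ d₂ (S d₁ - σ • d₁) := ⟨_, rfl⟩
  have hS : ∀ x, S x = σ • x + μ • W x := by
    intro x
    refine sub_eq_zero.1 (eq_zero_of_orth hf fun y => ?_)
    have dec : ∀ x, x - f₁ a' x • d₁ - f₁ a x • d₂ ∈ LinearMap.ker ((fL hf a).prod (fL hf a')) := fun x => by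
      refine LinearMap.mem_ker.2 (Prod.ext ?_ ?_)
      · show f₁ (x - f₁ a' x • d₁ - f₁ a x • d₂) a = 0
        rw [fsub_left hf, fsub_left hf, fsmul_left hf, fsmul_left hf, fswap hf d₁ a, had₁, fswap hf d₂ a, had₂,
          fswap hf x a]
        ring
      · show f₁ (x - f₁ a' x • d₁ - f₁ a x • d₂) a' = 0
        rw [fsub_left hf, fsub_left hf, fsmul_left hf, fsmul_left hf, fswap hf d₁ a', ha'd₁, fswap hf d₂ a', ha'd₂,
          fswap hf x a']
        ring
    have halt' : ∀ u, f₁ u (S u - σ • u) = 0 := fun u => by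
      rw [fsub_right hf, halt, fsmul_right hf, hf.alternating, mul_zero, sub_zero]
    have hsa : ∀ u w, f₁ u (S w - σ • w) = f₁ (S u - σ • u) w := fun u w => by
      rw [fsub_left hf, fsub_right hf, fsmul_left hf, fsmul_right hf, self_adjoint_of_alt hf halt]
    obtain ⟨x0, hx0, hx⟩ : ∃ x0 ∈ LinearMap.ker ((fL hf a).prod (fL hf a')),
        x = x0 + f₁ a' x • d₁ + f₁ a x • d₂ := ⟨_, dec x, by abel⟩
    obtain ⟨y0, hy0, hy⟩ : ∃ y0 ∈ LinearMap.ker ((fL hf a).prod (fL hf a')),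
        y = y0 + f₁ a' y • d₁ + f₁ a y • d₂ := ⟨_, dec y, by abel⟩
    have hd12 : f₁ d₁ (S d₂ - σ • d₂) = -μ := by
      rw [hμ, hsa, fswap hf]
    have e1 : f₁ y (S x - σ • x) = f₁ a' y * f₁ a x * (-μ) + f₁ a y * f₁ a' x * μ := by
      conv_lhs => rw [hx, map_add, map_add, map_smul, map_smul, hσ x0 hx0]
      have hy0S : S y0 = σ • y0 := hσ y0 hy0
      have h1 : ∀ u, f₁ y0 (S u - σ • u) = 0 := fun u => by rw [hsa, hy0S, sub_self, fzero_left hf]
      rw [show σ • x0 + f₁ a' x • S d₁ + f₁ a x • S d₂ - σ • (x0 + f₁ a' x • d₁ + f₁ a x • d₂) =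
        f₁ a' x • (S d₁ - σ • d₁) + f₁ a x • (S d₂ - σ • d₂) by module]
      conv_lhs => rw [hy]
      simp only [fadd_left hf, fadd_right hf, fsmul_left hf, fsmul_right hf, h1, halt', hd12, ← hμ]
      ring
    have e2 : f₁ y (W x) = f₁ a y * f₁ a' x - f₁ a' y * f₁ a x := by
      rw [hW, wed_apply, fsub_right hf, fsmul_right hf, fsmul_right hf, fswap hf x a', fswap hf x a, fswap hf y a,
        fswap hf y a']
      ring
    rw [show S x - (σ • x + μ • W x) = (S x - σ • x) - μ • W x by module, fsub_right hf, fsmul_right hf, e1, e2]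
    ring
  obtain ⟨g, hgM, hgC⟩ := exists_cen_scalar D b (-σ)
  have hPm : ∀ z, ((m * g : GL ι F) : Matrix ι ι F) *ᵥ z = z + tvec e P (W (cob D b z)) (v + μ • b) +
      tvec e P (W (cob D v z)) b := by
    intro z
    rw [gl_mul_mulVec, hgC, hE]
    simp only [map_add, map_neg, map_smul, cob_tvec, D.s2.alternating, hbv, zero_smul, smul_zero, neg_zero, add_zero,
      hS, LinearMap.smul_apply, LinearMap.id_apply, smul_smul, tvec_add_left, tvec_add_right, tvec_smul_left,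
      tvec_smul_right, tvec_neg_left, neg_smul, LinearMap.neg_apply]
    module
  -- the conjugates by the first factor
  obtain ⟨κ, hκ⟩ : ∃ κ, κ = f₁ d₁ a' := ⟨_, rfl⟩
  have hκ0 : κ ≠ 0 := by rw [hκ, fswap hf, ha'd₁]; exact neg_ne_zero.2 one_ne_zero
  have hd₁a : f₁ d₁ a = 0 := by rw [fswap hf, had₁, neg_zero]
  obtain ⟨X, hX⟩ : ∃ X, X = wed hf a d₁ := ⟨_, rfl⟩
  have hY : ∀ l : F, ∃ m' ∈ M, ∀ z, (m' : Matrix ι ι F) *ᵥ z = z + tvec e P (l • X (cob D b z)) (v + μ • b) +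
      tvec e P (l • X (cob D v z)) b := by
    intro l
    obtain ⟨t, ht, htT⟩ := D.tU d₁ (-(l / κ))
    refine ⟨t * (m * g) * t⁻¹ * (m * g)⁻¹, M.mul_mem (M.mul_mem (M.mul_mem ht (M.mul_mem hm hgM)) (M.inv_mem ht))
      (M.inv_mem (M.mul_mem hm hgM)), fun z => ?_⟩
    obtain ⟨w, rfl⟩ : ∃ w, z = ((m * g : GL ι F) : Matrix ι ι F) *ᵥ ((t : Matrix ι ι F) *ᵥ w) :=
      ⟨((t⁻¹ : GL ι F) : Matrix ι ι F) *ᵥ ((((m * g)⁻¹ : GL ι F) : Matrix ι ι F) *ᵥ z), by
        rw [gl_mulVec_inv, gl_mulVec_inv]⟩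
    rw [gl_mul_mulVec, gl_inv_mulVec, gl_mul_mulVec, gl_inv_mulVec, gl_mul_mulVec t (m * g), hPm, hPm, mulVec_add,
      mulVec_add]
    have hWd : W d₁ = κ • a := by rw [hW, wed_apply, ← hκ, hd₁a, zero_smul, sub_zero]
    have hXd : ∀ x, f₁ (W x) d₁ = κ * f₁ x a := fun x => by
      rw [hW, wed_apply, fsub_left hf, fsmul_left hf, fsmul_left hf, had₁, hκ, fswap hf d₁ a', ha'd₁]
      ring
    have htT' : ∀ x y, (t : Matrix ι ι F) *ᵥ tvec e P x y = tvec e P (tlin hf d₁ (-(l / κ)) x) y := fun x y => by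
      rw [htT, tlin_apply]
    have hconj : ∀ u, tlin hf d₁ (-(l / κ)) (W u) = W (tlin hf d₁ (-(l / κ)) u) +
        l • X (tlin hf d₁ (-(l / κ)) u) := by
      intro u
      have h1 := conj_diff hf W d₁ (-(l / κ)) (tlin hf d₁ (-(l / κ)) u)
      have h2 : tlin hf d₁ (- -(l / κ)) (tlin hf d₁ (-(l / κ)) u) = u := by
        simp only [tlin_apply, fadd_left hf, fsmul_left hf, hf.alternating]
        module
      rw [h2, sub_eq_iff_eq_add'] at h1
      rw [h1, hWd, hXd, fsmul_left hf, had₁, hX, wed_apply]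
      match_scalars <;> field_simp <;> ring
    simp only [map_add, htT', tU_cob D htT, cob_tvec, fadd_left D.s2, fsmul_left D.s2, hbv, hvb, D.s2.alternating, mul_zero, add_zero,
      zero_smul, map_zero, hconj, tvec_add_left]
    abel
  -- move the second family
  have hv0 : v ≠ 0 := fun h0 => hv (by rw [h0]; exact Submodule.zero_mem _)
  have hb' : b ∉ Submodule.span F {v} := fun hm' => by
    obtain ⟨c, hc⟩ := Submodule.mem_span_singleton.1 hm'
    have hc0 : c ≠ 0 := fun h0 => hb (by rw [← hc, h0, zero_smul])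
    exact hv (Submodule.mem_span_singleton.2 ⟨c⁻¹, by rw [← hc, smul_smul, inv_mul_cancel₀ hc0, one_smul]⟩)
  obtain ⟨q, hvq, hbq⟩ := sep hg hv0 hb'
  have hqb : f₂ q b = -1 := by rw [fswap hg, hbq]
  have hqv : f₂ q v = 0 := by rw [fswap hg, hvq, neg_zero]
  obtain ⟨Fam, hFam⟩ : ∃ Fam : (Fin s → F) → (Fin s → F) → Prop, Fam = fun b₀ v₀ => ∀ l : F, ∃ m' ∈ M, ∀ z,
      (m' : Matrix ι ι F) *ᵥ z = z + tvec e P (l • X (cob D b₀ z)) (v₀ + μ • b₀) +
        tvec e P (l • X (cob D v₀ z)) b₀ := ⟨_, rfl⟩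
  have hmove : ∀ b₀ v₀ w (c : F), Fam b₀ v₀ → Fam (b₀ + (c * f₂ b₀ w) • w) (v₀ + (c * f₂ v₀ w) • w) := by
    intro b₀ v₀ w c hF
    rw [hFam] at hF ⊢
    intro l
    obtain ⟨m', hm', hm'T⟩ := hF l
    obtain ⟨t, ht, htT⟩ := D.tW w c
    refine ⟨t * m' * t⁻¹, M.mul_mem (M.mul_mem ht hm') (M.inv_mem ht), fun z => ?_⟩
    obtain ⟨z₀, rfl⟩ : ∃ z₀, z = (t : Matrix ι ι F) *ᵥ z₀ :=
      ⟨((t⁻¹ : GL ι F) : Matrix ι ι F) *ᵥ z, by rw [gl_mulVec_inv]⟩
    have hcob : ∀ u, cob D (u + (c * f₂ u w) • w) ((t : Matrix ι ι F) *ᵥ z₀) = cob D u z₀ := fun u => by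
      rw [tW_apply D htT, map_add, cob_tvec, cob_add, cob_smul, fadd_right hg, fsmul_right hg, D.s2.alternating,
        mul_zero, add_zero, fswap hg w u]
      module
    rw [gl_mul_mulVec, gl_mul_mulVec, gl_inv_mulVec, hm'T, mulVec_add, mulVec_add, htT, htT, hcob, hcob]
    congr 3
    rw [fadd_left hg, fsmul_left hg]
    module
  have hFq : Fam q v := by
    have h1 := hmove b v (q - b) 1 (by rw [hFam]; exact hY)
    rwa [fsub_right hg, fsub_right hg, hbq, hg.alternating, hvq, hvb, sub_zero, sub_zero, one_mul, one_mul,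
      one_smul, zero_smul, add_zero, add_sub_cancel] at h1
  -- a vector orthogonal to `b`, `q` and `v`
  obtain ⟨w, ⟨hwb, hwq, hwv⟩, hw⟩ : ∃ w, (f₂ w b = 0 ∧ f₂ w q = 0 ∧ f₂ w v = 0) ∧ w ∉ Submodule.span F {v} := by
    by_contra hcon
    push Not at hcon
    have hle : LinearMap.ker ((fL hg b).prod ((fL hg q).prod (fL hg v))) ≤ Submodule.span F {v} := fun z hz => by
      obtain ⟨h1, h2⟩ := Prod.ext_iff.1 (LinearMap.mem_ker.1 hz)
      obtain ⟨h2, h3⟩ := Prod.ext_iff.1 h2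
      exact hcon z ⟨h1, h2, h3⟩
    have h1 := Submodule.finrank_mono hle
    have h2 := ((fL hg b).prod ((fL hg q).prod (fL hg v))).finrank_range_add_finrank_ker
    have h3 := Submodule.finrank_le (LinearMap.range ((fL hg b).prod ((fL hg q).prod (fL hg v))))
    rw [finrank_span_singleton hv0] at h1
    rw [Module.finrank_prod, Module.finrank_prod, Module.finrank_self] at h3
    simp at h2
    omega
  have hw0 : w ≠ 0 := fun h0 => hw (by rw [h0]; exact Submodule.zero_mem _)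
  obtain ⟨z, hzv, hzw, hzq⟩ : ∃ z, f₂ v z = 1 ∧ f₂ w z = 1 ∧ f₂ q z = 0 := by
    have n1 : v ∉ Submodule.span F ({w, q} : Set (Fin s → F)) := fun hm' => by
      obtain ⟨α, β, hαβ⟩ := Submodule.mem_span_pair.1 hm'
      have hβ : β = 0 := by
        have := congrArg (fun u => f₂ u b) hαβ
        simp only [fadd_left hg, fsmul_left hg, hwb, hqb, hvb] at this
        linear_combination -this
      rw [hβ, zero_smul, add_zero] at hαβ
      have hα : α ≠ 0 := fun h0 => hv0 (by rw [← hαβ, h0, zero_smul])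
      exact hw (Submodule.mem_span_singleton.2 ⟨α⁻¹, by rw [← hαβ, smul_smul, inv_mul_cancel₀ hα, one_smul]⟩)
    have n2 : w ∉ Submodule.span F ({v, q} : Set (Fin s → F)) := fun hm' => by
      obtain ⟨α, β, hαβ⟩ := Submodule.mem_span_pair.1 hm'
      have hβ : β = 0 := by
        have := congrArg (fun u => f₂ u b) hαβ
        simp only [fadd_left hg, fsmul_left hg, hwb, hqb, hvb] at this
        linear_combination -this
      rw [hβ, zero_smul, add_zero] at hαβ
      exact hw (Submodule.mem_span_singleton.2 ⟨α, hαβ⟩)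
    obtain ⟨L₁, hL₁, hL₁0⟩ := Submodule.exists_dual_map_eq_bot_of_notMem n1 inferInstance
    obtain ⟨L₂, hL₂, hL₂0⟩ := Submodule.exists_dual_map_eq_bot_of_notMem n2 inferInstance
    have k1 : ∀ u ∈ ({w, q} : Set (Fin s → F)), L₁ u = 0 := fun u hu => by
      have : L₁ u ∈ (Submodule.span F ({w, q} : Set (Fin s → F))).map L₁ := ⟨u, Submodule.subset_span hu, rfl⟩
      rwa [hL₁0, Submodule.mem_bot] at this
    have k2 : ∀ u ∈ ({v, q} : Set (Fin s → F)), L₂ u = 0 := fun u hu => by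
      have : L₂ u ∈ (Submodule.span F ({v, q} : Set (Fin s → F))).map L₂ := ⟨u, Submodule.subset_span hu, rfl⟩
      rwa [hL₂0, Submodule.mem_bot] at this
    obtain ⟨z, hz⟩ := exists_rep hg ((L₁ v)⁻¹ • L₁ + (L₂ w)⁻¹ • L₂)
    refine ⟨z, ?_, ?_, ?_⟩ <;> rw [hz]
    · simp [hL₁, k2 v (Set.mem_insert _ _)]
    · simp [hL₂, k1 w (Set.mem_insert _ _)]
    · simp [k1 q (Set.mem_insert_of_mem _ rfl), k2 q (Set.mem_insert_of_mem _ rfl)]
  have hFz : Fam q z := by
    have h1 := hmove q v (z - v) 1 hFq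
    rwa [fsub_right hg, fsub_right hg, hzq, hqv, hg.alternating, hzv, sub_zero, sub_zero, mul_zero, one_mul,
      zero_smul, add_zero, one_smul, add_sub_cancel] at h1
  have hFw : Fam q w := by
    have h1 := hmove q z (w - z) (-1) hFz
    rwa [fsub_right hg, fsub_right hg, hzq, fswap hg q w, hwq, hg.alternating, fswap hg z w, hzw, neg_zero, sub_zero,
      sub_zero, mul_zero, zero_smul, add_zero, mul_neg, neg_mul, neg_neg, one_mul, one_smul, add_sub_cancel] at h1
  rw [hFam] at hFw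
  obtain ⟨p, hp⟩ : ∃ p, p = v + μ • b := ⟨_, rfl⟩
  obtain ⟨p', hp'⟩ : ∃ p', p' = w + μ • q := ⟨_, rfl⟩
  have hp'0 : p' ≠ 0 := fun h0 => by
    have h1 := congrArg (fun u => f₂ u b) h0
    simp only [hp', fadd_left hg, fsmul_left hg, hwb, hqb, fzero_left hg] at h1
    refine hw0 ?_
    have hμ0 : μ = 0 := by linear_combination -h1
    rwa [hp', hμ0, zero_smul, add_zero] at h0
  have hpp' : p ∉ Submodule.span F {p'} := fun hm' => by
    obtain ⟨γ, hγ⟩ := Submodule.mem_span_singleton.1 hm'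
    have h1 := congrArg (fun u => f₂ u q) hγ
    simp only [hp, hp', fadd_left hg, fsmul_left hg, hwq, hvq, hbq, hg.alternating] at h1
    have hμ0 : μ = 0 := by linear_combination -h1
    rw [hp, hp', hμ0, zero_smul, zero_smul, add_zero, add_zero] at hγ
    have hγ0 : γ ≠ 0 := fun h0 => hv0 (by rw [← hγ, h0, zero_smul])
    exact hw (Submodule.mem_span_singleton.2 ⟨γ⁻¹, by rw [← hγ, smul_smul, inv_mul_cancel₀ hγ0, one_smul]⟩)
  refine hΩ (omega_le_of_s2 D hn (by omega) hs ha hp'0 hpp' ⟨by rw [D.pol, hf.alternating, zero_mul, mul_zero],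
    fun c => ?_⟩)
  obtain ⟨m', hm', hm'T⟩ := hFw (c * k / κ)
  obtain ⟨m₀, hm₀, hm₀T⟩ : ∃ m₀ ∈ M, ∀ z, (m₀ : Matrix ι ι F) *ᵥ z = z + tvec e P (W (cob D b z)) (v + μ • b) +
      tvec e P (W (cob D v z)) b := ⟨_, M.mul_mem hm hgM, hPm⟩
  refine ⟨m₀ * m' * (m' * m₀)⁻¹, M.mul_mem (M.mul_mem hm₀ hm') (M.inv_mem (M.mul_mem hm' hm₀)), fun z => ?_⟩
  obtain ⟨z₀, rfl⟩ : ∃ z₀, z = ((m' * m₀ : GL ι F) : Matrix ι ι F) *ᵥ z₀ :=
    ⟨(((m' * m₀)⁻¹ : GL ι F) : Matrix ι ι F) *ᵥ z, by rw [gl_mulVec_inv]⟩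
  have hWX : ∀ u, W (X u) = (-(κ * f₁ u a)) • a := fun u => by
    have hWd : W d₁ = κ • a := by rw [hW, wed_apply, ← hκ, hd₁a, zero_smul, sub_zero]
    rw [hX, wed_apply, map_sub, map_smul, map_smul, hWa, hWd]
    module
  have hWa'' : ∀ u, f₁ (W u) a = 0 := fun u => by rw [hWsa, hWa, fzero_right hf]
  have hXa'' : ∀ u, f₁ (X u) a = 0 := fun u => by
    rw [hX, wed_apply, fsub_left hf, fsmul_left hf, fsmul_left hf, hd₁a, hf.alternating]; ring
  have hXW : ∀ u, X (W u) = (κ * f₁ u a) • a := fun u => by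
    have hXd : f₁ (W u) d₁ = κ * f₁ u a := by
      rw [hW, wed_apply, fsub_left hf, fsmul_left hf, fsmul_left hf, had₁, hκ, fswap hf d₁ a', ha'd₁]
      ring
    rw [hX, wed_apply, hWa'', hXd]
    module
  rw [gl_mul_mulVec, gl_inv_mulVec, gl_mul_mulVec m₀ m', gl_mul_mulVec m' m₀, hm₀T ((m' : Matrix ι ι F) *ᵥ z₀),
    hm'T ((m₀ : Matrix ι ι F) *ᵥ z₀), hm₀T z₀, hm'T z₀, qsmul D.quad, D.pure, psmul_right D.quad]
  have hbw : f₂ b w = 0 := by rw [fswap hg, hwb, neg_zero]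
  have hvw : f₂ v w = 0 := by rw [fswap hg, hwv, neg_zero]
  simp only [padd_left D.quad, D.pol, fsmul_left hf, hWa'', hXa'', map_add, map_smul, cob_tvec, fadd_left hg,
    fsmul_left hg, hwb, hwv, hqb, hqv, hbq, hvq, hbw, hvw, hWX, hXW, hf.alternating, map_zero, mul_zero, zero_mul,
    add_zero, zero_add, zero_smul, smul_zero]
  rw [pol_cob D, pol_cob D, hp, hp', cob_add, cob_add, cob_smul, cob_smul, fadd_left hf, fadd_left hf, fsmul_left hf,
    fsmul_left hf]
  simp only [fadd_left hf, fsmul_left hf, hXa'', hf.alternating, mul_zero, zero_mul, add_zero, zero_add]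
  simp only [smul_add, smul_smul, tvec_add_left, tvec_smul_left, tvec_add_right, tvec_smul_right]
  match_scalars <;> field_simp [D.kne] <;> ring

/-- the middle components are scalar -/
theorem middle_scalar (hex : 3 ≤ r ∨ 3 ≤ Fintype.card F) (hb : b ≠ 0) (hbv : f₂ b v = 0)
    (hv : v ∉ Submodule.span F {b}) {X : (Fin r → F) →ₗ[F] (Fin r → F)} (hX : X ∈ xSub D hbv) :
    ∃ σ : F, ∀ x, X x = σ • x := by
  classical
  have hf := D.s1
  refine lin_scalar (by omega) fun a => ?_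
  by_contra hXa
  have hX1 : ∀ a₀ t, tlin hf a₀ t ∘ₗ X ∘ₗ tlin hf a₀ (-t) - X ∈ xSub D hbv := xSub_diff D hΩ hn hr hs hbv hX
  by_cases hall : ∀ x, f₁ (X x) x = 0
  · -- an alternating component
    have halt : ∀ x, f₁ x (X x) = 0 := fun x => by rw [fswap hf, hall, neg_zero]
    have h1 := hX1 a 1
    rw [show tlin hf a 1 ∘ₗ X ∘ₗ tlin hf a (-1) - X = wed hf a (X a) from LinearMap.ext fun x => by
      rw [LinearMap.sub_apply, LinearMap.comp_apply, LinearMap.comp_apply, conj_diff hf, wed_apply, hall,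
        self_adjoint_of_alt hf halt x a]
      module] at h1
    exact middle_wed D hΩ hn hr hs hb hbv hv (fun h0 => hXa (by rw [h0, map_zero]; exact Submodule.zero_mem _))
      (halt a) hXa h1
  push Not at hall
  obtain ⟨a, ha⟩ := hall
  have ha0 : a ≠ 0 := fun h0 => ha (by rw [h0, fzero_right hf])
  by_cases hq : 3 ≤ Fintype.card F
  · obtain ⟨t, ht⟩ : ∃ t : F, t ∉ ({0, 1} : Finset F) := by
      by_contra hcon
      push Not at hcon
      have : Fintype.card F ≤ 2 := (Finset.card_le_card (s := Finset.univ) (t := ({0, 1} : Finset F))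
        fun x _ => hcon x).trans Finset.card_le_two
      omega
    simp only [Finset.mem_insert, Finset.mem_singleton, not_or] at ht
    have h1 := Submodule.sub_mem _ (Submodule.smul_mem _ t (hX1 a 1)) (hX1 a t)
    have h2 := Submodule.smul_mem _ (((t * t - t) * f₁ (X a) a)⁻¹) h1
    refine middle_nl D hΩ hn hr hs hb hbv hv ha0 ?_
    convert h2 using 1
    refine LinearMap.ext fun x => ?_
    simp only [LinearMap.sub_apply, LinearMap.smul_apply, LinearMap.comp_apply, conj_diff hf, op1_apply]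
    have hne : (t * t - t) * f₁ (X a) a ≠ 0 :=
      mul_ne_zero (by rw [show t * t - t = t * (t - 1) by ring]; exact mul_ne_zero ht.1 (sub_ne_zero.2 ht.2)) ha
    set N := (t * t - t) * f₁ (X a) a with hN
    rw [eq_inv_smul_iff₀ hne, hN]
    module
  -- two elements
  have hr3 : 3 ≤ r := hex.resolve_right hq
  have hq2 : Fintype.card F = 2 := by have := Fintype.one_lt_card (α := F); omega
  have two : ∀ x : F, x = 0 ∨ x = 1 := by
    intro x
    by_contra hx
    push Not at hx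
    have h3 : ({0, 1, x} : Finset F).card = 3 := by
      rw [Finset.card_eq_three]
      exact ⟨0, 1, x, zero_ne_one, hx.1.symm, hx.2.symm, rfl⟩
    have := Finset.card_le_univ ({0, 1, x} : Finset F)
    omega
  have hneg : (-1 : F) = 1 := (two (-1)).resolve_left (neg_ne_zero.2 one_ne_zero)
  have hκ : f₁ (X a) a = 1 := (two _).resolve_left ha
  have ha1 : X a ∉ Submodule.span F {a} := fun hm => by
    obtain ⟨c, hc⟩ := Submodule.mem_span_singleton.1 hm
    exact ha (by rw [← hc, fsmul_left hf, hf.alternating, mul_zero])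
  obtain ⟨d₀, had₀, hd₀⟩ := sep hf ha0 ha1
  obtain ⟨z, hz0, hza, hz1⟩ := exists_orth_two hf hr3 a (X a)
  have hza' : z ∉ Submodule.span F {a} := fun hm => by
    obtain ⟨c, rfl⟩ := Submodule.mem_span_singleton.1 hm
    rw [fsmul_left hf, fswap hf a (X a), hκ, mul_neg, mul_one, neg_eq_zero] at hz1
    exact hz0 (by rw [hz1, zero_smul])
  obtain ⟨d, had, hd1, hda⟩ : ∃ d, f₁ a d = 0 ∧ f₁ (X a) d = 1 ∧ d ∉ Submodule.span F {a} := by
    by_cases hd : d₀ ∈ Submodule.span F {a}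
    · refine ⟨d₀ + z, by rw [fadd_right hf, had₀, fswap hf a z, hza, neg_zero, add_zero],
        by rw [fadd_right hf, hd₀, fswap hf (X a) z, hz1, neg_zero, add_zero], fun hm => hza' ?_⟩
      have := Submodule.sub_mem _ hm hd
      rwa [add_sub_cancel_left] at this
    · exact ⟨d₀, had₀, hd₀, hd⟩
  have hd0 : d ≠ 0 := fun h0 => hda (by rw [h0]; exact Submodule.zero_mem _)
  have had' : a ∉ Submodule.span F {d} := fun hm => by
    obtain ⟨c, hc⟩ := Submodule.mem_span_singleton.1 hm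
    have hc0 : c ≠ 0 := fun h0 => ha0 (by rw [← hc, h0, zero_smul])
    exact hda (Submodule.mem_span_singleton.2 ⟨c⁻¹, by rw [← hc, smul_smul, inv_mul_cancel₀ hc0, one_smul]⟩)
  have hda0 : f₁ d a = 0 := by rw [fswap hf, had, neg_zero]
  have h2 := xSub_diff D hΩ hn hr hs hbv (hX1 a 1) d 1
  obtain ⟨ε, hε⟩ : ∃ ε, ε = f₁ (X d) a := ⟨_, rfl⟩
  rw [show tlin hf d 1 ∘ₗ (tlin hf a 1 ∘ₗ X ∘ₗ tlin hf a (-1) - X) ∘ₗ tlin hf d (-1) -
      (tlin hf a 1 ∘ₗ X ∘ₗ tlin hf a (-1) - X) = -(ε • op1 hf a d + op1 hf d a) from LinearMap.ext fun x => by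
    rw [LinearMap.sub_apply, LinearMap.comp_apply, LinearMap.comp_apply, conj_diff hf]
    simp only [LinearMap.sub_apply, LinearMap.comp_apply, conj_diff hf, LinearMap.neg_apply, LinearMap.add_apply,
      LinearMap.smul_apply, op1_apply, hda0, fsub_left hf, fsmul_left hf, had, hd1, ← hε]
    module] at h2
  have h3 := Submodule.neg_mem _ h2
  rw [neg_neg] at h3
  rcases two ε with hε0 | hε1
  · rw [hε0, zero_smul, zero_add] at h3
    exact middle_rank_one D hΩ hn hr hs hb hbv hv ha0 hda0 hda h3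
  · refine middle_wed D hΩ hn hr hs hb hbv hv ha0 had hda ?_
    convert h3 using 1
    refine LinearMap.ext fun x => ?_
    simp only [wed, LinearMap.sub_apply, LinearMap.add_apply, LinearMap.smul_apply, op1_apply, hε1, one_smul]
    have hq' : ∀ u : Fin r → F, -u = u := fun u => by rw [← neg_one_smul F u, hneg, one_smul]
    rw [sub_eq_add_neg, hq']

/-- an element of the radical comes from the second factor -/
theorem radical_scalar (hex : 3 ≤ r ∨ 3 ≤ Fintype.card F) (hb : b ≠ 0) {w : GL ι F}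
    (hw : w ∈ Cfsg.isometryGroup F Q)
    (hL : ∀ x, (w : Matrix ι ι F) *ᵥ tvec e P x b = tvec e P x b)
    (hcob : ∀ z, cob D b ((w : Matrix ι ι F) *ᵥ z) = cob D b z)
    (hmid : ∀ x y, f₂ y b = 0 → ∃ x', (w : Matrix ι ι F) *ᵥ tvec e P x y = tvec e P x y + tvec e P x' b)
    (hU : ∀ (a : Fin r → F) (l : F) (g : GL ι F), g ∈ M →
      (∀ x y, (g : Matrix ι ι F) *ᵥ tvec e P x y = tvec e P (x + (l * f₁ x a) • a) y) → g * w * g⁻¹ * w⁻¹ ∈ M)
    (hW : ∀ (a : Fin s → F) (l : F) (g : GL ι F), g ∈ M →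
      (∀ x y, (g : Matrix ι ι F) *ᵥ tvec e P x y = tvec e P x (y + (l * f₂ y a) • a)) → g * w * g⁻¹ * w⁻¹ ∈ M) :
    ∃ (w₀ : Fin s → F) (σ : F), f₂ b w₀ = 0 ∧ ∀ x y, (w : Matrix ι ι F) *ᵥ tvec e P x y =
      tvec e P x (y + f₂ y b • (w₀ + σ • b) + f₂ y w₀ • b) := by
  have hf := D.s1
  have hg := D.s2
  obtain ⟨p, hp⟩ := exists_partner hg hb
  have hbp : f₂ b p = -1 := by rw [fswap hg, hp]
  let Θ : (Fin r → F) →ₗ[F] (ι → F) :=
    (Matrix.mulVecLin (w : Matrix ι ι F) - LinearMap.id) ∘ₗ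
      (⟨⟨fun x => tvec e P x p, fun x x' => tvec_add_left x x' p⟩, fun c x => tvec_smul_left c x p⟩ :
        (Fin r → F) →ₗ[F] (ι → F))
  have hwp : ∀ x, (w : Matrix ι ι F) *ᵥ tvec e P x p = tvec e P x p + Θ x := fun x => (add_sub_cancel _ _).symm
  let ψ : (Fin s → F) → ((Fin r → F) →ₗ[F] (Fin r → F)) := fun y =>
    (-cob D p) ∘ₗ (Matrix.mulVecLin (w : Matrix ι ι F) - LinearMap.id) ∘ₗ
      (⟨⟨fun x => tvec e P x y, fun x x' => tvec_add_left x x' y⟩, fun c x => tvec_smul_left c x y⟩ :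
        (Fin r → F) →ₗ[F] (ι → F))
  have hwy : ∀ x y, f₂ y b = 0 → (w : Matrix ι ι F) *ᵥ tvec e P x y = tvec e P x y + tvec e P (ψ y x) b := by
    intro x y hy
    obtain ⟨x', hx'⟩ := hmid x y hy
    have : ψ y x = x' := by
      show -(cob D p ((w : Matrix ι ι F) *ᵥ tvec e P x y - tvec e P x y)) = x'
      rw [hx', add_sub_cancel_left, cob_tvec, hbp, neg_smul, one_smul, neg_neg]
    rw [this, hx']
  have hΘb : ∀ x, cob D b (Θ x) = 0 := fun x => by
    show cob D b ((w : Matrix ι ι F) *ᵥ tvec e P x p - tvec e P x p) = 0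
    rw [map_sub, hcob, sub_self]
  -- the middle components are scalar
  have hMv : ∀ v, f₂ b v = 0 → ∃ σ : F, ∀ x, cob D v (Θ x) = σ • x := by
    intro v hbv
    by_cases hsp : v ∈ Submodule.span F {b}
    · obtain ⟨c, rfl⟩ := Submodule.mem_span_singleton.1 hsp
      exact ⟨0, fun x => by rw [cob_smul, hΘb, smul_zero, zero_smul]⟩
    refine middle_scalar D hΩ hn hr hs hex hb hbv hsp (X := (cob D v) ∘ₗ Θ) fun l => ?_
    obtain ⟨g, hgM, hgT⟩ := D.tW v l
    have hvb : f₂ v b = 0 := by rw [fswap hg, hbv, neg_zero]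
    refine ⟨g * w * g⁻¹ * w⁻¹, hW v l g hgM hgT, -(l • ψ v), l • (ψ v ∘ₗ cob D v ∘ₗ Θ), ?_⟩
    intro z
    obtain ⟨z₀, rfl⟩ : ∃ z₀, z = (w : Matrix ι ι F) *ᵥ z₀ :=
      ⟨((w⁻¹ : GL ι F) : Matrix ι ι F) *ᵥ z, by rw [gl_mulVec_inv]⟩
    rw [gl_mul_mulVec, gl_inv_mulVec, gl_mul_mulVec, gl_mul_mulVec]
    induction tvec_span (e := e) (P := P) z₀ using Submodule.span_induction with
    | mem u hu =>
      obtain ⟨x, y, rfl⟩ := hu
      obtain ⟨y₀, hy₀, hy⟩ : ∃ y₀, f₂ y₀ b = 0 ∧ y = y₀ + f₂ y b • p :=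
        ⟨y - f₂ y b • p, by rw [fsub_left hg, fsmul_left hg, hp]; ring, by abel⟩
      obtain ⟨β, hβ⟩ : ∃ β, β = f₂ y b := ⟨_, rfl⟩
      rw [← hβ] at hy
      have hgi : ((g⁻¹ : GL ι F) : Matrix ι ι F) *ᵥ tvec e P x y =
          tvec e P x y₀ + β • tvec e P x p + (-l * f₂ y v) • tvec e P x v := by
        rw [tW_inv D hgT, tvec_add_right, tvec_smul_right, ← tvec_smul_right β, ← tvec_add_right, ← hy]
      rw [hgi, hy]
      simp only [tvec_add_right, tvec_smul_right, mulVec_add, mulVec_smul, hwy x y₀ hy₀, hwy x v hvb, hwp,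
        tW_apply D hgT, map_add, map_smul, cob_tvec, hΘb, hp, hy₀, hvb, hbv, hg.alternating, fadd_left hg,
        fsmul_left hg, zero_smul, smul_zero, add_zero, zero_add, tvec_zero_left, LinearMap.smul_apply,
        LinearMap.neg_apply, LinearMap.comp_apply, map_zero, one_smul, ← neg_smul, tvec_add_left, tvec_smul_left,
        mul_one]
      module
    | zero =>
      simp only [mulVec_zero, map_zero, tvec_zero_left, add_zero]
    | add u u' _ _ h1 h2 =>
      simp only [mulVec_add, map_add, h1, h2, tvec_add_left]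
      abel
    | smul c u _ h1 =>
      simp only [mulVec_smul, map_smul, h1, tvec_smul_left, smul_add]
  obtain ⟨x₀, hx₀⟩ : ∃ x₀ : Fin r → F, x₀ ≠ 0 := ⟨Pi.single ⟨0, by omega⟩ 1, by simp⟩
  obtain ⟨γ, hγ⟩ := exists_dot_one hx₀
  let L : (Fin s → F) →ₗ[F] F :=
    { toFun := fun v => γ ⬝ᵥ cob D v (Θ x₀)
      map_add' := fun v v' => by rw [cob_add, dotProduct_add]
      map_smul' := fun c v => by rw [cob_smul, dotProduct_smul]; rfl }
  obtain ⟨w₁, hw₁⟩ := exists_rep hg L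
  obtain ⟨w₀, hw₀⟩ : ∃ w₀, w₀ = -w₁ := ⟨_, rfl⟩
  have hbw₀ : f₂ b w₀ = 0 := by
    rw [hw₀, fneg_right hg, hw₁]
    show -(γ ⬝ᵥ cob D b (Θ x₀)) = 0
    rw [hΘb, dotProduct_zero, neg_zero]
  have hw₀b : f₂ w₀ b = 0 := by rw [fswap hg, hbw₀, neg_zero]
  have hMw : ∀ v, f₂ b v = 0 → ∀ x, cob D v (Θ x - tvec e P x w₀) = 0 := by
    intro v hv x
    obtain ⟨σ, hσ⟩ := hMv v hv
    have hσ' : f₂ w₀ v = σ := by
      rw [fswap hg, hw₀, fneg_right hg, neg_neg, hw₁]
      show γ ⬝ᵥ cob D v (Θ x₀) = σ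
      rw [hσ, dotProduct_smul, hγ, smul_eq_mul, mul_one]
    rw [map_sub, cob_tvec, hσ, hσ', sub_self]
  -- the centre
  let S : (Fin r → F) →ₗ[F] (Fin r → F) := (-cob D p) ∘ₗ (Θ -
    (⟨⟨fun x => tvec e P x w₀, fun x x' => tvec_add_left x x' w₀⟩, fun c x => tvec_smul_left c x w₀⟩ :
      (Fin r → F) →ₗ[F] (ι → F)))
  have hΘ : ∀ x, Θ x = tvec e P x w₀ + tvec e P (S x) b := by
    intro x
    have hγb : (-fb D p) ⬝ᵥ b = 1 := by rw [neg_dotProduct, fb_dot, hbp, neg_neg]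
    have h1 := pure_of_co (e := e) (P := P) hγb (z := Θ x - tvec e P x w₀) fun δ hδ => by
      let Lδ : (Fin s → F) →ₗ[F] F :=
        { toFun := fun y => δ ⬝ᵥ y
          map_add' := fun a b => dotProduct_add _ _ _
          map_smul' := fun c a => by simp [dotProduct_smul] }
      obtain ⟨v, hv⟩ := exists_rep hg Lδ
      have hδv : δ = fb D v := dotProduct_eq _ _ fun y => by rw [fb_dot, hv]; rfl
      rw [hδv]
      refine hMw v ?_ x
      rw [hδv, fb_dot] at hδ
      exact hδ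
    have h2 : co e P (-fb D p) (Θ x - tvec e P x w₀) = S x := by
      rw [← neg_one_smul F (fb D p), co_smul, neg_one_smul]
      rfl
    rw [h2, sub_eq_iff_eq_add'] at h1
    exact h1
  -- remove the middle component
  obtain ⟨g₁, hg₁, hg₁T⟩ := D.tW (b + w₀) 1
  obtain ⟨g₂, hg₂, hg₂T⟩ := D.tW b (-1)
  obtain ⟨g₃, hg₃, hg₃T⟩ := D.tW w₀ (-1)
  obtain ⟨x', hx'⟩ : ∃ x', x' = g₁ * g₂ * g₃ := ⟨_, rfl⟩
  have hx'M : x' ∈ M := hx' ▸ M.mul_mem (M.mul_mem hg₁ hg₂) hg₃
  have hx'T : ∀ x y, (x' : Matrix ι ι F) *ᵥ tvec e P x y = tvec e P x (y + f₂ y b • w₀ + f₂ y w₀ • b) := by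
    intro x y
    rw [hx', gl_mul_mulVec, gl_mul_mulVec, hg₃T, hg₂T, hg₁T]
    congr 1
    simp only [fadd_left hg, fadd_right hg, fsmul_left hg, hw₀b, hbw₀, hg.alternating]
    module
  have hx'i : ∀ x y, ((x'⁻¹ : GL ι F) : Matrix ι ι F) *ᵥ tvec e P x y =
      tvec e P x (y - f₂ y b • w₀ - f₂ y w₀ • b) := by
    intro x y
    have h1 : (x' : Matrix ι ι F) *ᵥ tvec e P x (y - f₂ y b • w₀ - f₂ y w₀ • b) = tvec e P x y := by
      rw [hx'T]
      congr 1
      simp only [fsub_left hg, fsmul_left hg, hw₀b, hbw₀, hg.alternating]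
      module
    rw [← h1, gl_inv_mulVec]
  obtain ⟨w', hw'⟩ : ∃ w', w' = x'⁻¹ * w := ⟨_, rfl⟩
  have hw'iso : w' ∈ Cfsg.isometryGroup F Q := hw' ▸ mul_mem (inv_mem (D.le hx'M)) hw
  obtain ⟨S₁, hS₁⟩ : ∃ S₁, S₁ = S - f₂ p w₀ • LinearMap.id := ⟨_, rfl⟩
  have hw'p : ∀ x, (w' : Matrix ι ι F) *ᵥ tvec e P x p = tvec e P x p + tvec e P (S₁ x) b := by
    intro x
    rw [hw', gl_mul_mulVec, hwp, hΘ, mulVec_add, mulVec_add, hx'i, hx'i, hx'i, hp, hw₀b, hg.alternating, hbw₀, hS₁,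
      LinearMap.sub_apply, LinearMap.smul_apply, LinearMap.id_apply, sub_eq_add_neg (S x), ← neg_smul]
    simp only [hg.alternating, one_smul, zero_smul, sub_zero, sub_eq_add_neg, neg_zero, add_zero, tvec_add_right,
      tvec_neg_right, tvec_smul_right, tvec_add_left, tvec_neg_left, tvec_smul_left, neg_smul]
    module
  have hw'y : ∀ x y, f₂ y b = 0 → (w' : Matrix ι ι F) *ᵥ tvec e P x y = tvec e P x y := by
    intro x y hy
    obtain ⟨x₂, hx₂⟩ : ∃ x₂, (w' : Matrix ι ι F) *ᵥ tvec e P x y = tvec e P x y + tvec e P x₂ b := by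
      refine ⟨ψ y x - f₂ y w₀ • x, ?_⟩
      rw [hw', gl_mul_mulVec, hwy x y hy, mulVec_add, hx'i, hx'i, hy, hg.alternating, hbw₀, sub_eq_add_neg (ψ y x),
        ← neg_smul]
      simp only [zero_smul, sub_zero, sub_eq_add_neg, neg_zero, add_zero, tvec_add_right, tvec_smul_right,
        tvec_add_left, tvec_smul_left, tvec_neg_left, tvec_neg_right, neg_smul]
      module
    rw [hx₂]
    have : x₂ = 0 := by
      refine eq_zero_of_orth hf fun u => ?_
      have h1 := iso_pol hw'iso (tvec e P u p) (tvec e P x y)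
      rw [hw'p, hx₂] at h1
      simp only [padd_left D.quad, padd_right D.quad, D.pol, hp, hg.alternating, fswap hg b y, hy] at h1
      have h2 : k * f₁ u x₂ = 0 := by linear_combination h1
      exact (mul_eq_zero.1 h2).resolve_left D.kne
    rw [this, tvec_zero_left, add_zero]
  have hw'C : Cen D b S₁ w' := by
    intro z
    induction tvec_span (e := e) (P := P) z using Submodule.span_induction with
    | mem u hu =>
      obtain ⟨x, y, rfl⟩ := hu
      have hy₀ : f₂ (y - f₂ y b • p) b = 0 := by rw [fsub_left hg, fsmul_left hg, hp]; ring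
      have e1 : tvec e P x y = tvec e P x (y - f₂ y b • p) + f₂ y b • tvec e P x p := by
        rw [← tvec_smul_right, ← tvec_add_right, sub_add_cancel]
      rw [e1, mulVec_add, mulVec_smul, hw'y _ _ hy₀, hw'p]
      simp only [map_add, map_smul, cob_tvec, hy₀, hp, zero_smul, one_smul, map_zero, zero_add, tvec_smul_left]
      module
    | zero => rw [mulVec_zero, map_zero, map_zero, tvec_zero_left, add_zero]
    | add u u' _ _ h1 h2 => rw [mulVec_add, h1, h2, map_add, map_add, tvec_add_left]; abel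
    | smul c u _ h1 => rw [mulVec_smul, h1, map_smul, map_smul, tvec_smul_left, smul_add]
  have halt := fun x => cen_alt D hw'iso hb hw'C x
  obtain ⟨σ, hσ⟩ : ∃ σ : F, ∀ x, S₁ x = σ • x := by
    refine lin_scalar (by omega) fun a => cen_eigen D hΩ hn hr hs hb halt fun l => ?_
    obtain ⟨g, hgM, hgT⟩ := D.tU a l
    refine ⟨g * w' * g⁻¹ * w'⁻¹, ?_, fun z => ?_⟩
    · have h1 : g * w' * g⁻¹ * w'⁻¹ = g * x'⁻¹ * g⁻¹ * (g * w * g⁻¹ * w⁻¹) * x' := by rw [hw']; group
      rw [h1]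
      exact M.mul_mem (M.mul_mem (M.mul_mem (M.mul_mem hgM (M.inv_mem hx'M)) (M.inv_mem hgM))
        (hU a l g hgM hgT)) hx'M
    · obtain ⟨z₀, rfl⟩ : ∃ z₀, z = (w' : Matrix ι ι F) *ᵥ ((g : Matrix ι ι F) *ᵥ z₀) :=
        ⟨((g⁻¹ : GL ι F) : Matrix ι ι F) *ᵥ (((w'⁻¹ : GL ι F) : Matrix ι ι F) *ᵥ z), by
          rw [gl_mulVec_inv, gl_mulVec_inv]⟩
      rw [gl_mul_mulVec, gl_inv_mulVec, gl_mul_mulVec, gl_inv_mulVec, gl_mul_mulVec, hw'C, hw'C, mulVec_add, hgT, map_add,
        cob_tvec, hg.alternating, zero_smul, add_zero, tU_cob D hgT, add_assoc, ← tvec_add_left]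
      congr 2
      simp only [tlin_apply, map_add, map_smul, LinearMap.smul_apply, wed_apply, fadd_left hf, fsmul_left hf,
        self_adjoint_of_alt hf halt (cob D b z₀) a, hf.alternating, fswap hf (S₁ a) a, halt a]
      module
  refine ⟨w₀, σ, hbw₀, fun x y => ?_⟩
  have h1 : (w : Matrix ι ι F) *ᵥ tvec e P x y = (x' : Matrix ι ι F) *ᵥ ((w' : Matrix ι ι F) *ᵥ tvec e P x y) := by
    rw [← gl_mul_mulVec, hw', mul_inv_cancel_left]
  rw [h1, hw'C, mulVec_add, hx'T, hx'T, cob_tvec, map_smul, hσ, hg.alternating, hbw₀]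
  simp only [zero_smul, add_zero, tvec_add_right, tvec_smul_right, tvec_add_left, tvec_smul_left]
  module

end CfsgLib.Perm.Trans.TensorSymp
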