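import Mathlib
import Cfsg.Agent.Lib.Perm.Trans.TensorSympRadical
import Cfsg.Agent.Lib.Perm.Asch.Forms.SpLemmas

/-!
# The stabiliser of a symplectic tensor decomposition is maximal in the orthogonal group
-/

set_option autoImplicit false
set_option linter.all false

namespace CfsgLib.Perm.Trans.TensorSymp

open scoped Matrix
open Matrix Cfsg.Geo CfsgLib.Perm.Asch CfsgLib.Perm.Trans CfsgLib.Perm.Trans.Quad
open CfsgLib.Perm.Trans.TensorFrame CfsgLib.Perm.Trans.TensorMax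

variable {ι : Type} [Fintype ι] [DecidableEq ι] {F : Type*} [Field F] [Fintype F]
variable {r s : ℕ} {e : ι ≃ Fin r × Fin s} {P : GL ι F}
variable {Q : (ι → F) → F} {M : Subgroup (GL ι F)}
variable {f₁ : (Fin r → F) → (Fin r → F) → F} {f₂ : (Fin s → F) → (Fin s → F) → F} {k : F}

/-- a similarity of the pure vectors is an isometry -/
theorem iso_of_pure (hQ : IsNondegenerateQuadraticForm Q) {g : GL ι F}
    (hq : ∀ x y, Q ((g : Matrix ι ι F) *ᵥ tvec e P x y) = Q (tvec e P x y))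
    (hp : ∀ x y x' y', QuadraticMap.polar Q ((g : Matrix ι ι F) *ᵥ tvec e P x y)
      ((g : Matrix ι ι F) *ᵥ tvec e P x' y') = QuadraticMap.polar Q (tvec e P x y) (tvec e P x' y')) :
    g ∈ Cfsg.isometryGroup F Q := by
  have h1 : ∀ x y w, QuadraticMap.polar Q ((g : Matrix ι ι F) *ᵥ tvec e P x y) ((g : Matrix ι ι F) *ᵥ w) =
      QuadraticMap.polar Q (tvec e P x y) w := by
    intro x y w
    induction tvec_span (e := e) (P := P) w using Submodule.span_induction with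
    | mem u hu => obtain ⟨x', y', rfl⟩ := hu; exact hp x y x' y'
    | zero => rw [mulVec_zero, pzero_right hQ, pzero_right hQ]
    | add a b _ _ e1 e2 => rw [mulVec_add, padd_right hQ, e1, e2, padd_right hQ]
    | smul c a _ e1 => rw [mulVec_smul, psmul_right hQ, e1, psmul_right hQ]
  have h2 : ∀ v w, QuadraticMap.polar Q ((g : Matrix ι ι F) *ᵥ v) ((g : Matrix ι ι F) *ᵥ w) =
      QuadraticMap.polar Q v w := by
    intro v w
    induction tvec_span (e := e) (P := P) v using Submodule.span_induction with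
    | mem u hu => obtain ⟨x', y', rfl⟩ := hu; exact h1 x' y' w
    | zero => rw [mulVec_zero, pzero_left hQ, pzero_left hQ]
    | add a b _ _ e1 e2 => rw [mulVec_add, padd_left hQ, e1, e2, padd_left hQ]
    | smul c a _ e1 => rw [mulVec_smul, psmul_left hQ, e1, psmul_left hQ]
  refine mem_iso.2 fun v => ?_
  induction tvec_span (e := e) (P := P) v using Submodule.span_induction with
  | mem u hu => obtain ⟨x', y', rfl⟩ := hu; exact hq x' y'
  | zero => rw [mulVec_zero]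
  | add a b _ _ e1 e2 => rw [mulVec_add, qadd hQ, qadd hQ, e1, e2, h2]
  | smul c a _ e1 => rw [mulVec_smul, qsmul hQ, qsmul hQ, e1]

section OmegaMember

variable (hQ : IsNondegenerateQuadraticForm Q) (hf : IsSymplecticForm f₁) (hg : IsSymplecticForm f₂)
  (hpol : ∀ x y x' y', QuadraticMap.polar Q (tvec e P x y) (tvec e P x' y') = k * (f₁ x x' * f₂ y y'))
  (hpure : ∀ x y, Q (tvec e P x y) = 0) (hk : k ≠ 0) (hn : 5 ≤ Fintype.card ι)
include hQ hf hg hpol hpure hk hn

/-- a transvection of one factor times a self-adjoint map of the other lies in `Ω` -/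
theorem exists_omega_map (a : Fin r → F) (l : F) (π : (Fin s → F) →ₗ[F] (Fin s → F))
    (hsa : ∀ y y', f₂ (π y) y' = f₂ y (π y')) (halt : ∀ y, f₂ (π y) y = 0) :
    ∃ g ∈ omegaGL Q, ∀ x y, (g : Matrix ι ι F) *ᵥ tvec e P x y =
      tvec e P x y + tvec e P ((l * f₁ x a) • a) (π y) := by
  induction hd : Module.finrank F (LinearMap.range π) using Nat.strong_induction_on generalizing π with
  | _ d ih => ?_
  by_cases hπ : π = 0
  · refine ⟨1, one_mem _, fun x y => ?_⟩
    rw [Units.val_one, one_mulVec, hπ, LinearMap.zero_apply, tvec_zero_right, add_zero]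
  obtain ⟨y₀, hy₀⟩ : ∃ y₀, π y₀ ≠ 0 := by
    by_contra hcon
    push Not at hcon
    exact hπ (LinearMap.ext hcon)
  obtain ⟨q, hq⟩ := exists_partner hg hy₀
  obtain ⟨y₁, hy₁⟩ : ∃ y₁, y₁ = -q := ⟨_, rfl⟩
  have h01 : f₂ (π y₀) y₁ = 1 := by rw [hy₁, fneg_right hg, fswap hg, hq, neg_neg]
  obtain ⟨π₂, hπ₂⟩ : ∃ π₂, π₂ = wed hg (π y₀) (π y₁) := ⟨_, rfl⟩
  have hsa₂ : ∀ y y', f₂ (π₂ y) y' = f₂ y (π₂ y') := fun y y' => by
    rw [hπ₂, wed_apply, wed_apply, fsub_left hg, fsub_right hg, fsmul_left hg, fsmul_left hg, fsmul_right hg,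
      fsmul_right hg, fswap hg (π y₀) y', fswap hg (π y₁) y']
    ring
  have halt₂ : ∀ y, f₂ (π₂ y) y = 0 := fun y => by
    rw [hπ₂, wed_apply, fsub_left hg, fsmul_left hg, fsmul_left hg, fswap hg (π y₀) y, fswap hg (π y₁) y]
    ring
  -- the rank drops
  have hker : LinearMap.ker π < LinearMap.ker (π - π₂) := by
    refine lt_of_le_of_ne (fun u hu => ?_) fun heq => ?_
    · have hu' : π u = 0 := hu
      show (π - π₂) u = 0
      rw [LinearMap.sub_apply, hu', hπ₂, wed_apply, ← hsa, ← hsa, hu', fzero_left hg, fzero_left hg]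
      simp
    · have h1 : y₀ ∈ LinearMap.ker (π - π₂) := by
        show (π - π₂) y₀ = 0
        rw [LinearMap.sub_apply, hπ₂, wed_apply, ← hsa, ← hsa, h01, halt, one_smul, zero_smul, sub_zero, sub_self]
      rw [← heq] at h1
      exact hy₀ h1
  have hlt : Module.finrank F (LinearMap.range (π - π₂)) < d := by
    have h1 := Submodule.finrank_lt_finrank_of_lt hker
    have h2 := π.finrank_range_add_finrank_ker
    have h3 := (π - π₂).finrank_range_add_finrank_ker
    omega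
  obtain ⟨g', hg', hg'T⟩ := ih _ hlt (π - π₂)
    (fun y y' => by rw [LinearMap.sub_apply, LinearMap.sub_apply, fsub_left hg, fsub_right hg, hsa, hsa₂])
    (fun y => by rw [LinearMap.sub_apply, fsub_left hg, halt, halt₂, sub_zero]) rfl
  obtain ⟨g₂, hg₂, hg₂E⟩ := ein_omega hQ hn (hpure a (π y₀)) (a := (-(l / k)) • tvec e P a (π y₁))
    (by rw [psmul_right hQ, hpol, hf.alternating]; ring)
  refine ⟨g' * g₂, mul_mem hg' hg₂, fun x y => ?_⟩
  have e2 : (g₂ : Matrix ι ι F) *ᵥ tvec e P x y = tvec e P x y + tvec e P ((l * f₁ x a) • a) (π₂ y) := by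
    rw [hg₂E, qsmul hQ, hpure a (π y₁), psmul_right hQ, hpol, hpol, hπ₂, wed_apply, sub_eq_add_neg (f₂ y (π y₁) • _),
      tvec_add_right, ← neg_smul, tvec_smul_right, tvec_smul_right, tvec_smul_left, tvec_smul_left]
    match_scalars <;> field_simp <;> ring
  rw [gl_mul_mulVec, e2, mulVec_add, hg'T, hg'T, fsmul_left hf, hf.alternating, mul_zero, mul_zero, zero_smul,
    tvec_zero_left, add_zero, add_assoc, ← tvec_add_right, LinearMap.sub_apply, sub_add_cancel]

end OmegaMember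

/-- the elements of the first factor -/
def tgl {r : ℕ} {f : (Fin r → F) → (Fin r → F) → F} (hf : IsSymplecticForm f) (a : Fin r → F) (l : F) :
    GL (Fin r) F :=
  tv a (fvec ⇑(l • fL hf a)) (by rw [fvec_dot, LinearMap.smul_apply, fL_apply, hf.alternating, smul_zero])

theorem tgl_mulVec {r : ℕ} {f : (Fin r → F) → (Fin r → F) → F} (hf : IsSymplecticForm f) (a : Fin r → F) (l : F)
    (x : Fin r → F) : (tgl hf a l : Matrix (Fin r) (Fin r) F) *ᵥ x = x + (l * f x a) • a := by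
  rw [tgl, tv_mulVec, fvec_dot, LinearMap.smul_apply, fL_apply, smul_eq_mul]

/-- the setting of a proper overgroup -/
theorem exists_setting (hQ : IsNondegenerateQuadraticForm Q) (hf : IsSymplecticForm f₁) (hg : IsSymplecticForm f₂)
    (hT : IsTensorFormStructure id (QuadraticMap.polar Q) f₁ f₂ e P)
    (hpure : ∀ x y, Q (tvec e P x y) = 0) (hn : 5 ≤ Fintype.card ι)
    (hHM : tensorProductSubgroup r s e P ⊓ omegaGL Q ≤ M) (hM : M ≤ omegaGL Q) :
    ∃ k : F, TS Q f₁ f₂ (tvec e P) k M := by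
  obtain ⟨k, hk, hpol⟩ := tvec_form (σ := id) (fun a b => rfl) (sesq_of_bilinear hf.bilinear)
    (sesq_of_bilinear hg.bilinear) hT
  have hpol' : ∀ x y x' y', QuadraticMap.polar Q (tvec e P x y) (tvec e P x' y') = k * (f₁ x x' * f₂ y y') := hpol
  refine ⟨k, hQ, hf, hg, tvec_add_left, tvec_smul_left, tvec_add_right, tvec_smul_right, tvec_span, hk, hpol', hpure,
    hM.trans omegaGL_le_iso, fun a l => ?_, fun b l => ?_⟩
  · refine ⟨kg e P (tgl hf a l) 1, hHM ⟨kg_mem _ _, ?_⟩, fun x y => by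
      rw [kg_tvec, tgl_mulVec, Units.val_one, one_mulVec]⟩
    obtain ⟨g, hgΩ, hgT⟩ := exists_omega_map hQ hf hg hpol' hpure hk hn a l LinearMap.id (fun _ _ => rfl)
      (fun y => hg.alternating y)
    rwa [show kg e P (tgl hf a l) (1 : GL (Fin s) F) = g from gl_ext_tvec (e := e) (P := P) fun x y => by
      rw [kg_tvec, tgl_mulVec, Units.val_one, one_mulVec, hgT, tvec_add_left]; rfl]
  · refine ⟨kg e P 1 (tgl hg b l), hHM ⟨kg_mem _ _, ?_⟩, fun x y => by
      rw [kg_tvec, tgl_mulVec, Units.val_one, one_mulVec]⟩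
    have hts : ∀ (x : Fin s → F) (y : Fin r → F),
        tvec (e.trans (Equiv.prodComm _ _)) P x y = tvec e P y x := fun x y => by
      rw [tvec, tvec]
      congr 1
      funext i
      simp [mul_comm]
    obtain ⟨g, hgΩ, hgT⟩ := exists_omega_map (e := e.trans (Equiv.prodComm _ _)) (P := P) hQ hg hf
      (k := k) (fun x y x' y' => by rw [hts, hts, hpol', mul_comm (f₁ y y')]) (fun x y => by rw [hts, hpure]) hk hn
      b l LinearMap.id (fun _ _ => rfl) (fun y => hf.alternating y)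
    rwa [show kg e P (1 : GL (Fin r) F) (tgl hg b l) = g from gl_ext_tvec (e := e) (P := P) fun x y => by
      rw [kg_tvec, tgl_mulVec, Units.val_one, one_mulVec, ← hts y x, hgT, hts, hts, tvec_add_right]; rfl]

variable (D : TS Q f₁ f₂ (tvec e P) k M) (hΩ : ¬ omegaGL Q ≤ M) (hn : 5 ≤ Fintype.card ι) (hr : 2 ≤ r) (hs : 5 ≤ s)
include D hΩ hn hr hs

/-- central elements in `M` are scalar -/
theorem cen_scalar {b : Fin s → F} (hb : b ≠ 0) {S : (Fin r → F) →ₗ[F] (Fin r → F)} {m : GL ι F} (hm : m ∈ M)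
    (h : Cen D b S m) : ∃ σ : F, ∀ x, S x = σ • x := by
  have halt := fun x => cen_alt D (D.le hm) hb h x
  refine lin_scalar (by omega) fun a => cen_eigen D hΩ hn hr hs hb halt fun l =>
    el_cen_family D hΩ hn hr hs (v := 0) (X := 0) (Y := 0) (fzero_right D.s2 b) hm ?_ halt rfl
      (fun x => by rw [LinearMap.zero_apply, fzero_left D.s1]) rfl
      (fun x => by rw [LinearMap.zero_apply, fzero_left D.s1]) l
  intro z
  rw [h, LinearMap.zero_apply, LinearMap.zero_apply, tvec_zero_left, tvec_zero_left, add_zero, add_zero]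

/-- elements moving a pure subspace to a pure subspace lie in the tensor product subgroup -/
theorem symp_rigid (hex : 3 ≤ r ∨ 3 ≤ Fintype.card F) {b : Fin s → F} (hb : b ≠ 0) : PureRigid e P M b := by
  intro g hg b'' hb'' hpure
  have hf := D.s1
  have hg₂ := D.s2
  choose C hC using hpure
  obtain ⟨γ'', hγ''⟩ := exists_dot_one hb''
  let C' : (Fin r → F) →ₗ[F] (Fin r → F) := (co e P γ'').comp ((Matrix.mulVecLin (g : Matrix ι ι F)).comp
    (⟨⟨fun x => tvec e P x b, fun x x' => tvec_add_left x x' b⟩, fun c x => tvec_smul_left c x b⟩ :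
      (Fin r → F) →ₗ[F] (ι → F)))
  have hC' : ∀ x, (g : Matrix ι ι F) *ᵥ tvec e P x b = tvec e P (C' x) b'' := fun x => by
    rw [hC, show C' x = C x by
      show co e P γ'' ((g : Matrix ι ι F) *ᵥ tvec e P x b) = C x
      rw [hC, co_tvec, hγ'', one_smul]]
  have hCinj : Function.Injective C' := (injective_iff_map_eq_zero C').2 fun x hx => by
    have h1 := hC' x
    rw [hx, tvec_zero_left, gl_mulVec_eq_zero] at h1
    exact tvec_left_inj hb (h1.trans (tvec_zero_left b).symm)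
  have hCsurj : Function.Surjective C' := LinearMap.surjective_of_injective hCinj
  -- the action on the quotient
  have hdual : ∀ z x, f₁ (cob D b'' ((g : Matrix ι ι F) *ᵥ z)) (C' x) = f₁ (cob D b z) x := by
    intro z x
    have h1 := iso_pol (D.le hg) z (tvec e P x b)
    rw [hC', pol_cob D, pol_cob D] at h1
    exact mul_left_cancel₀ D.kne h1
  obtain ⟨p, hp⟩ := exists_partner hg₂ hb
  let Cs : (Fin r → F) →ₗ[F] (Fin r → F) := (cob D b'').comp ((Matrix.mulVecLin (g : Matrix ι ι F)).comp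
    (⟨⟨fun x => tvec e P x p, fun x x' => tvec_add_left x x' p⟩, fun c x => tvec_smul_left c x p⟩ :
      (Fin r → F) →ₗ[F] (ι → F)))
  have hCs0 : ∀ u x, f₁ (Cs u) (C' x) = f₁ u x := fun u x => by
    show f₁ (cob D b'' ((g : Matrix ι ι F) *ᵥ tvec e P u p)) (C' x) = f₁ u x
    rw [hdual, cob_tvec, hp, one_smul]
  have hCs : ∀ z, cob D b'' ((g : Matrix ι ι F) *ᵥ z) = Cs (cob D b z) := fun z => by
    refine sub_eq_zero.1 (eq_zero_of_orth hf fun y => ?_)
    obtain ⟨x, rfl⟩ := hCsurj y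
    rw [fswap hf, fsub_left hf, hdual, hCs0, sub_self, neg_zero]
  have hCsinj : Function.Injective Cs := (injective_iff_map_eq_zero Cs).2 fun u hu =>
    eq_zero_of_orth hf fun x => by rw [fswap hf, ← hCs0, hu, fzero_left hf, neg_zero]
  let CsE : (Fin r → F) ≃ₗ[F] (Fin r → F) := LinearEquiv.ofBijective Cs ⟨hCsinj, LinearMap.surjective_of_injective hCsinj⟩
  have hCsg : ∀ z, cob D b (((g⁻¹ : GL ι F) : Matrix ι ι F) *ᵥ z) = CsE.symm (cob D b'' z) := fun z => by
    refine CsE.injective ?_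
    rw [LinearEquiv.apply_symm_apply]
    show Cs _ = _
    rw [← hCs, gl_mulVec_inv]
  obtain ⟨σ, hσ⟩ : ∃ σ : F, ∀ x, C' x = σ • Cs x := by
    obtain ⟨t, ht, htT⟩ := D.tW b 1
    obtain ⟨σ, hσ⟩ := cen_scalar D hΩ hn hr hs hb'' (S := C'.comp CsE.symm.toLinearMap)
      (M.mul_mem (M.mul_mem hg ht) (M.inv_mem hg)) (fun z => by
        rw [gl_mul_mulVec, gl_mul_mulVec, tW_apply D htT, mulVec_add, gl_mulVec_inv, one_smul, hC', hCsg]
        rfl)
    refine ⟨σ, fun x => ?_⟩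
    have := hσ (Cs x)
    rwa [LinearMap.comp_apply, show CsE.symm.toLinearMap (Cs x) = x from CsE.symm_apply_apply x] at this
  obtain ⟨x₀, hx₀⟩ : ∃ x₀ : Fin r → F, x₀ ≠ 0 := ⟨Pi.single ⟨0, by omega⟩ 1, by simp⟩
  have hσ0 : σ ≠ 0 := fun h => hx₀ (hCinj (by rw [hσ, h, zero_smul, map_zero]))
  have hsim : ∀ u x, f₁ (C' u) (C' x) = σ * f₁ u x := fun u x => by rw [hσ u, fsmul_left hf, hCs0]
  have hCs' : ∀ z, cob D b'' ((g : Matrix ι ι F) *ᵥ z) = σ⁻¹ • C' (cob D b z) := fun z => by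
    rw [hCs, hσ, smul_smul, inv_mul_cancel₀ hσ0, one_smul]
  have hcob'' : ∀ x y, cob D b'' ((g : Matrix ι ι F) *ᵥ tvec e P x y) = (σ⁻¹ * f₂ y b) • C' x := fun x y => by
    rw [hCs', cob_tvec, map_smul, smul_smul]
  have hginv : ∀ x, ((g⁻¹ : GL ι F) : Matrix ι ι F) *ᵥ tvec e P (C' x) b'' = tvec e P x b := fun x => by
    rw [← hC', gl_inv_mulVec]
  -- the map on the second factor
  obtain ⟨γ, hγ⟩ := exists_dot_one (show C' x₀ ≠ 0 from fun h => hx₀ (hCinj (by rw [h, map_zero])))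
  let D0 : (Fin s → F) →ₗ[F] (Fin s → F) := (rc e P γ).comp ((Matrix.mulVecLin (g : Matrix ι ι F)).comp
    (⟨⟨fun y => tvec e P x₀ y, fun y y' => tvec_add_right x₀ y y'⟩, fun c y => tvec_smul_right c x₀ y⟩ :
      (Fin s → F) →ₗ[F] (ι → F)))
  have hD0 : ∀ y v, f₂ (D0 y) v = γ ⬝ᵥ cob D v ((g : Matrix ι ι F) *ᵥ tvec e P x₀ y) := fun y v => by
    rw [← fb_dot D]
    exact co_rc _ _ _
  have hD0b : D0 b = b'' := by
    show rc e P γ ((g : Matrix ι ι F) *ᵥ tvec e P x₀ b) = _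
    rw [hC', rc_tvec, hγ, one_smul]
  have hD0'' : ∀ y, f₂ (D0 y) b'' = σ⁻¹ * f₂ y b := fun y => by
    rw [hD0, hcob'', dotProduct_smul, hγ, smul_eq_mul, mul_one]
  have hmiddle : ∀ w, f₂ w b = 0 → ∀ v, f₂ b'' v = 0 → ∀ x,
      cob D v ((g : Matrix ι ι F) *ᵥ tvec e P x w) = f₂ (D0 w) v • C' x := by
    intro w hw v hv
    have hbw : f₂ b w = 0 := by rw [fswap hg₂, hw, neg_zero]
    obtain ⟨g₁, hg₁, hg₁T⟩ := D.tW (b + w) 1
    obtain ⟨g₂', hg₂', hg₂T⟩ := D.tW b (-1)
    obtain ⟨g₃, hg₃, hg₃T⟩ := D.tW w (-1)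
    obtain ⟨x', hx'⟩ : ∃ x', x' = g₁ * g₂' * g₃ := ⟨_, rfl⟩
    have hx'M : x' ∈ M := hx' ▸ M.mul_mem (M.mul_mem hg₁ hg₂') hg₃
    have hx'z : ∀ z, (x' : Matrix ι ι F) *ᵥ z = z + tvec e P (cob D b z) w + tvec e P (cob D w z) b := by
      intro z
      rw [hx', gl_mul_mulVec, gl_mul_mulVec, tW_apply D hg₃T, tW_apply D hg₂T, tW_apply D hg₁T]
      simp only [map_add, map_neg, map_smul, map_zero, cob_add, cob_tvec, tvec_add_right, tvec_add_left, tvec_smul_left,
        hg₂.alternating, hw, hbw, zero_smul, smul_zero, add_zero, zero_add, smul_add, one_smul, neg_one_smul, neg_smul,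
        smul_neg, neg_zero, tvec_neg_left, tvec_zero_left, fadd_right hg₂]
      abel
    obtain ⟨m, hm⟩ : ∃ m, m = g * x' * g⁻¹ := ⟨_, rfl⟩
    have hmM : m ∈ M := hm ▸ M.mul_mem (M.mul_mem hg hx'M) (M.inv_mem hg)
    have hmz : ∀ z, (m : Matrix ι ι F) *ᵥ z = z +
        (g : Matrix ι ι F) *ᵥ tvec e P (cob D b (((g⁻¹ : GL ι F) : Matrix ι ι F) *ᵥ z)) w +
        tvec e P (C' (cob D w (((g⁻¹ : GL ι F) : Matrix ι ι F) *ᵥ z))) b'' := fun z => by
      rw [hm, gl_mul_mulVec, gl_mul_mulVec, hx'z, mulVec_add, mulVec_add, gl_mulVec_inv, hC']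
    obtain ⟨w₀, σ', hw₀, hmT⟩ := radical_scalar D hΩ hn hr hs hex hb'' (D.le hmM)
      (fun x => by
        obtain ⟨x₁, rfl⟩ := hCsurj x
        rw [hmz, hginv, cob_tvec, cob_tvec, hg₂.alternating, hbw, zero_smul, map_zero, tvec_zero_left,
          tvec_zero_left, mulVec_zero, add_zero, add_zero])
      (fun z => by
        rw [hmz, map_add, map_add, hcob'', hw, cob_tvec, hg₂.alternating, mul_zero, zero_smul, zero_smul, add_zero,
          add_zero])
      (fun x y hy => by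
        refine ⟨C' (cob D w (((g⁻¹ : GL ι F) : Matrix ι ι F) *ᵥ tvec e P x y)), ?_⟩
        rw [hmz, hCsg, cob_tvec, hy, zero_smul, map_zero, tvec_zero_left, mulVec_zero, add_zero])
      (fun a l t ht _ => M.mul_mem (M.mul_mem (M.mul_mem ht hmM) (M.inv_mem ht)) (M.inv_mem hmM))
      (fun a l t ht _ => M.mul_mem (M.mul_mem (M.mul_mem ht hmM) (M.inv_mem ht)) (M.inv_mem hmM))
    have hcv : ∀ z, cob D v ((m : Matrix ι ι F) *ᵥ z) = cob D v z + f₂ w₀ v • cob D b'' z := by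
      intro z
      induction tvec_span (e := e) (P := P) z using Submodule.span_induction with
      | mem u hu =>
        obtain ⟨x, y, rfl⟩ := hu
        rw [hmT, cob_tvec, cob_tvec, cob_tvec, fadd_left hg₂, fadd_left hg₂, fsmul_left hg₂, fsmul_left hg₂,
          fadd_left hg₂, fsmul_left hg₂, hv, mul_zero, mul_zero, add_zero, add_zero]
        module
      | zero => rw [mulVec_zero, map_zero, map_zero, smul_zero, add_zero]
      | add a c _ _ e1 e2 => rw [mulVec_add, map_add, e1, e2, map_add, map_add]; module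
      | smul c a _ e1 => rw [mulVec_smul, map_smul, e1, map_smul, map_smul]; module
    have hall : ∀ x, cob D v ((g : Matrix ι ι F) *ᵥ tvec e P x w) = (σ⁻¹ * f₂ w₀ v) • C' x := by
      intro x
      have h1 := hcv ((g : Matrix ι ι F) *ᵥ tvec e P x p)
      rw [hmz, gl_inv_mulVec, cob_tvec, hp, one_smul, map_add, map_add, hcob'', hp, mul_one, smul_smul, cob_tvec,
        hv] at h1
      rw [zero_smul, add_zero, add_right_inj, mul_comm] at h1
      exact h1
    intro x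
    rw [hall, hD0, hall, dotProduct_smul, hγ, smul_eq_mul, mul_one]
  -- injectivity
  have hpure'' : ∀ x y, f₂ y b = 0 → ∃ x₁, (g : Matrix ι ι F) *ᵥ tvec e P x y =
      tvec e P (C' x) (D0 y) + tvec e P x₁ b'' := by
    intro x y hy
    obtain ⟨x₁, hx₁⟩ : ∃ x₁, x₁ = co e P γ'' ((g : Matrix ι ι F) *ᵥ tvec e P x y - tvec e P (C' x) (D0 y)) := ⟨_, rfl⟩
    refine ⟨x₁, ?_⟩
    have h1 := pure_of_co (e := e) (P := P) hγ''
      (z := (g : Matrix ι ι F) *ᵥ tvec e P x y - tvec e P (C' x) (D0 y)) fun δ hδ => by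
        let Lδ : (Fin s → F) →ₗ[F] F :=
          { toFun := fun u => δ ⬝ᵥ u
            map_add' := fun a c => dotProduct_add _ _ _
            map_smul' := fun c a => by simp [dotProduct_smul] }
        obtain ⟨v, hv⟩ := exists_rep hg₂ Lδ
        have hδv : δ = fb D v := dotProduct_eq _ _ fun u => by rw [fb_dot, hv]; rfl
        rw [hδv, fb_dot] at hδ
        rw [hδv]
        show cob D v _ = 0
        rw [map_sub, hmiddle y hy v hδ, cob_tvec, sub_self]
    rw [← hx₁] at h1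
    exact sub_eq_iff_eq_add'.1 h1
  have hD0inj : Function.Injective D0 := (injective_iff_map_eq_zero D0).2 fun y hy => by
    have hy0 : f₂ y b = 0 := by
      have := hD0'' y
      rw [hy, fzero_left hg₂, eq_comm, mul_eq_zero] at this
      exact this.resolve_left (inv_ne_zero hσ0)
    obtain ⟨x₁, hx₁⟩ := hpure'' x₀ y hy0
    rw [hy, tvec_zero_right, zero_add] at hx₁
    obtain ⟨x₂, rfl⟩ := hCsurj x₁
    rw [← hC'] at hx₁
    have h1 : tvec e P x₀ y = tvec e P x₂ b := by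
      rw [← gl_inv_mulVec g (tvec e P x₀ y), hx₁, gl_inv_mulVec]
    have h2 := congrArg (rc e P γ) h1
    obtain ⟨γ₀, hγ₀⟩ := exists_dot_one hx₀
    have h3 := congrArg (rc e P γ₀) h1
    rw [rc_tvec, rc_tvec, hγ₀, one_smul] at h3
    rw [h3, map_smul, hD0b, smul_eq_zero] at hy
    rw [h3, hy.resolve_right hb'', zero_smul]
  let D0E : (Fin s → F) ≃ₗ[F] (Fin s → F) := LinearEquiv.ofBijective D0 ⟨hD0inj, LinearMap.surjective_of_injective hD0inj⟩
  have hD0sim : ∀ y y', f₂ y b = 0 → f₂ y' b = 0 → f₂ (D0 y) (D0 y') = σ⁻¹ * f₂ y y' := by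
    intro y y' hy hy'
    obtain ⟨a, ha⟩ := exists_partner hf hx₀
    obtain ⟨x₁, hx₁⟩ := hpure'' a y hy
    obtain ⟨x₂, hx₂⟩ := hpure'' x₀ y' hy'
    have h1 := iso_pol (D.le hg) (tvec e P a y) (tvec e P x₀ y')
    rw [hx₁, hx₂] at h1
    simp only [padd_left D.quad, padd_right D.quad, D.pol, hsim, ha, hD0'', hy, hy', fswap hg₂ b'' (D0 y'),
      hg₂.alternating] at h1
    have h2 : σ * f₂ (D0 y) (D0 y') = f₂ y y' := mul_left_cancel₀ D.kne (by linear_combination h1)
    rw [← h2, ← mul_assoc, inv_mul_cancel₀ hσ0, one_mul]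
  -- correct the partner
  let π : (Fin s → F) →ₗ[F] (Fin s → F) := LinearMap.id - (fL hg₂ b).smulRight p
  have hπ : ∀ y, π y = y - f₂ y b • p := fun y => rfl
  have hπb : ∀ y, f₂ (π y) b = 0 := fun y => by rw [hπ, fsub_left hg₂, fsmul_left hg₂, hp]; ring
  let ℓ : (Fin s → F) →ₗ[F] F :=
    { toFun := fun y => σ⁻¹ * f₂ p y - f₂ (D0 p) (D0 y)
      map_add' := fun a c => by rw [map_add, fadd_right hg₂, fadd_right hg₂]; ring
      map_smul' := fun c a => by rw [map_smul, fsmul_right hg₂, fsmul_right hg₂, RingHom.id_apply, smul_eq_mul]; ring }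
  obtain ⟨v₁, hv₁⟩ := exists_rep hg₂ (ℓ ∘ₗ π ∘ₗ D0E.symm.toLinearMap)
  obtain ⟨v₀, hv₀⟩ : ∃ v₀, v₀ = -v₁ := ⟨_, rfl⟩
  have hv₀' : ∀ y, f₂ y b = 0 → f₂ v₀ (D0 y) = σ⁻¹ * f₂ p y - f₂ (D0 p) (D0 y) := by
    intro y hy
    rw [hv₀, fneg_left hg₂, fswap hg₂ v₁, neg_neg, hv₁]
    show ℓ (π (D0E.symm (D0E y))) = _
    rw [LinearEquiv.symm_apply_apply, hπ, hy, zero_smul, sub_zero]
    rfl
  let D' : (Fin s → F) →ₗ[F] (Fin s → F) := D0 + (fL hg₂ b).smulRight v₀
  have hD' : ∀ y, D' y = D0 y + f₂ y b • v₀ := fun y => rfl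
  have hv₀b : f₂ v₀ b'' = 0 := by
    rw [← hD0b, hv₀' b (hg₂.alternating b), hp, hD0b, hD0'' p, hp]
    ring
  have hD'b : D' b = b'' := by rw [hD', hg₂.alternating, zero_smul, add_zero, hD0b]
  have hD'' : ∀ y, f₂ (D' y) b'' = σ⁻¹ * f₂ y b := fun y => by
    rw [hD', fadd_left hg₂, fsmul_left hg₂, hv₀b, mul_zero, add_zero, hD0'']
  have hD0eq : ∀ y, f₂ y b = 0 → D' y = D0 y := fun y hy => by rw [hD', hy, zero_smul, add_zero]
  have hDp : ∀ y, f₂ y b = 0 → f₂ (D' p) (D' y) = σ⁻¹ * f₂ p y := fun y hy => by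
    rw [hD0eq y hy, hD', hp, one_smul, fadd_left hg₂, hv₀' y hy]
    ring
  have hDsim : ∀ y y', f₂ (D' y) (D' y') = σ⁻¹ * f₂ y y' := by
    intro y y'
    have e1 : ∀ y, y = π y + f₂ y b • p := fun y => by rw [hπ, sub_add_cancel]
    conv_lhs => rw [e1 y, e1 y']
    conv_rhs => rw [e1 y, e1 y']
    simp only [map_add, map_smul, fadd_left hg₂, fadd_right hg₂, fsmul_left hg₂, fsmul_right hg₂,
      hg₂.alternating, fswap hg₂ (D' (π y)) (D' p), hDp _ (hπb y), hDp _ (hπb y'), fswap hg₂ (π y) p]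
    rw [hD0eq _ (hπb y), hD0eq _ (hπb y'), hD0sim _ _ (hπb y) (hπb y')]
    ring
  have hD'inj : Function.Injective D' := (injective_iff_map_eq_zero D').2 fun y hy =>
    eq_zero_of_orth hg₂ fun u => by
      have := hDsim u y
      rw [hy, fzero_right hg₂, eq_comm, mul_eq_zero] at this
      exact this.resolve_left (inv_ne_zero hσ0)
  have hD'surj : Function.Surjective D' := LinearMap.surjective_of_injective hD'inj
  -- the tensor element
  have hCu : IsUnit (LinearMap.toMatrix' C') := by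
    rw [← Matrix.mulVec_injective_iff_isUnit]
    rwa [show (LinearMap.toMatrix' C').mulVec = ⇑C' from funext (LinearMap.toMatrix'_mulVec C')]
  have hDu : IsUnit (LinearMap.toMatrix' D') := by
    rw [← Matrix.mulVec_injective_iff_isUnit]
    rwa [show (LinearMap.toMatrix' D').mulVec = ⇑D' from funext (LinearMap.toMatrix'_mulVec D')]
  obtain ⟨Cg, hCg⟩ := hCu
  obtain ⟨Dg, hDg⟩ := hDu
  obtain ⟨h, hh⟩ : ∃ h, h = kg e P Cg Dg := ⟨_, rfl⟩
  have hhT : ∀ x y, (h : Matrix ι ι F) *ᵥ tvec e P x y = tvec e P (C' x) (D' y) := fun x y => by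
    rw [hh, kg_tvec, hCg, hDg, LinearMap.toMatrix'_mulVec, LinearMap.toMatrix'_mulVec]
  have hhiso : h ∈ Cfsg.isometryGroup F Q := iso_of_pure D.quad (fun x y => by rw [hhT, D.pure, D.pure])
    fun x y x' y' => by
      rw [hhT, hhT, D.pol, D.pol, hsim, hDsim]
      field_simp
  obtain ⟨w, hw⟩ : ∃ w, w = g⁻¹ * h := ⟨_, rfl⟩
  have hgw : ∀ z, (g : Matrix ι ι F) *ᵥ ((w : Matrix ι ι F) *ᵥ z) = (h : Matrix ι ι F) *ᵥ z := fun z => by
    rw [← gl_mul_mulVec, hw, mul_inv_cancel_left]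
  have hwL : ∀ x, (w : Matrix ι ι F) *ᵥ tvec e P x b = tvec e P x b := fun x => by
    rw [hw, gl_mul_mulVec, hhT, hD'b, hginv]
  have hhcob : ∀ z, cob D b'' ((h : Matrix ι ι F) *ᵥ z) = σ⁻¹ • C' (cob D b z) := by
    intro z
    induction tvec_span (e := e) (P := P) z using Submodule.span_induction with
    | mem u hu =>
      obtain ⟨x, y, rfl⟩ := hu
      rw [hhT, cob_tvec, cob_tvec, hD'', map_smul, smul_smul]
    | zero => rw [mulVec_zero, map_zero, map_zero, map_zero, smul_zero]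
    | add a c _ _ e1 e2 => rw [mulVec_add, map_add, e1, e2, map_add, map_add, smul_add]
    | smul c a _ e1 => rw [mulVec_smul, map_smul, e1, map_smul, map_smul, smul_comm]
  have hwcob : ∀ z, cob D b ((w : Matrix ι ι F) *ᵥ z) = cob D b z := fun z => by
    have h1 := hCs' ((w : Matrix ι ι F) *ᵥ z)
    rw [hgw, hhcob] at h1
    exact (hCinj (smul_right_injective _ (inv_ne_zero hσ0) h1)).symm
  have hconjM : ∀ t ∈ M, h * t * h⁻¹ ∈ M → t * w * t⁻¹ * w⁻¹ ∈ M := by
    intro t ht hht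
    rw [show t * w * t⁻¹ * w⁻¹ = t * (g⁻¹ * (h * t * h⁻¹)⁻¹ * g) by rw [hw]; group]
    exact M.mul_mem ht (M.mul_mem (M.mul_mem (M.inv_mem hg) (M.inv_mem hht)) hg)
  have hhi : ∀ x y, ((h⁻¹ : GL ι F) : Matrix ι ι F) *ᵥ tvec e P (C' x) (D' y) = tvec e P x y := fun x y => by
    rw [← hhT, gl_inv_mulVec]
  obtain ⟨w₀, σ', hw₀, hwT⟩ := radical_scalar D hΩ hn hr hs hex hb
    (hw ▸ mul_mem (inv_mem (D.le hg)) hhiso) hwL hwcob
    (fun x y hy => by
      obtain ⟨x₁, hx₁⟩ := hpure'' x y hy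
      obtain ⟨x₂, rfl⟩ := hCsurj x₁
      refine ⟨-x₂, ?_⟩
      have h1 : (h : Matrix ι ι F) *ᵥ tvec e P x y =
          (g : Matrix ι ι F) *ᵥ tvec e P x y - (g : Matrix ι ι F) *ᵥ tvec e P x₂ b := by
        rw [hhT, hD0eq y hy, hx₁, hC', add_sub_cancel_right]
      rw [hw, gl_mul_mulVec, h1, mulVec_sub, gl_inv_mulVec, gl_inv_mulVec, tvec_neg_left, sub_eq_add_neg])
    (fun a l t ht htT => hconjM t ht (by
      obtain ⟨t', ht', ht'T⟩ := D.tU (C' a) (l / σ)
      rwa [show h * t * h⁻¹ = t' from gl_ext_tvec (e := e) (P := P) fun x y => by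
        obtain ⟨x', rfl⟩ := hCsurj x
        obtain ⟨y', rfl⟩ := hD'surj y
        rw [gl_mul_mulVec, gl_mul_mulVec, hhi, htT, hhT, ht'T, map_add, map_smul, hsim]
        congr 3
        field_simp]))
    (fun a l t ht htT => hconjM t ht (by
      obtain ⟨t', ht', ht'T⟩ := D.tW (D' a) (l * σ)
      rwa [show h * t * h⁻¹ = t' from gl_ext_tvec (e := e) (P := P) fun x y => by
        obtain ⟨x', rfl⟩ := hCsurj x
        obtain ⟨y', rfl⟩ := hD'surj y
        rw [gl_mul_mulVec, gl_mul_mulVec, hhi, htT, hhT, ht'T, map_add, map_smul, hDsim]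
        congr 3
        field_simp]))
  let B : (Fin s → F) →ₗ[F] (Fin s → F) :=
    LinearMap.id + (fL hg₂ b).smulRight (w₀ + σ' • b) + (fL hg₂ w₀).smulRight b
  have hwB : ∀ x y, (w : Matrix ι ι F) *ᵥ tvec e P x y = tvec e P x (B y) := hwT
  have hBinj : Function.Injective B := (injective_iff_map_eq_zero B).2 fun y hy => by
    have h1 := hwB x₀ y
    rw [hy, tvec_zero_right, gl_mulVec_eq_zero] at h1
    obtain ⟨γ₀, hγ₀⟩ := exists_dot_one hx₀
    have h2 := congrArg (rc e P γ₀) h1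
    rwa [rc_tvec, hγ₀, one_smul, map_zero] at h2
  have hBu : IsUnit (LinearMap.toMatrix' B) := by
    rw [← Matrix.mulVec_injective_iff_isUnit]
    rwa [show (LinearMap.toMatrix' B).mulVec = ⇑B from funext (LinearMap.toMatrix'_mulVec B)]
  obtain ⟨Bg, hBg⟩ := hBu
  have hwk : w = kg e P 1 Bg := gl_ext_tvec (e := e) (P := P) fun x y => by
    rw [hwB, kg_tvec, hBg, LinearMap.toMatrix'_mulVec, Units.val_one, one_mulVec]
  rw [show g = h * w⁻¹ by rw [hw]; group, hh, hwk]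
  exact Subgroup.mul_mem _ (kg_mem _ _) (Subgroup.inv_mem _ (kg_mem _ _))

omit D hΩ hn hr hs in
/-- the stabiliser of a symplectic tensor decomposition is maximal in `Ω` -/
theorem symp_tensor_maximal (hn13 : 12 ≤ Fintype.card ι) (hQ : IsNondegenerateQuadraticForm Q) (hrs : r < s)
    (hex : ¬ (Fintype.card F = 2 ∧ r = 2)) (hf : IsSymplecticForm f₁) (hg : IsSymplecticForm f₂)
    (hT : IsTensorFormStructure id (QuadraticMap.polar Q) f₁ f₂ e P) (hpure : ∀ x y, Q (tvec e P x y) = 0) :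
    IsMaximalIn (omegaGL Q) (tensorProductSubgroup r s e P ⊓ omegaGL Q) := by
  have hcard : r * s = Fintype.card ι := by rw [Fintype.card_congr e]; simp
  obtain ⟨r', hr'⟩ := CfsgLib.Perm.Asch.isSymplecticForm_even hf
  obtain ⟨s', hs'⟩ := CfsgLib.Perm.Asch.isSymplecticForm_even hg
  have hr0 : 1 ≤ r := by
    rcases Nat.eq_zero_or_pos r with h | h
    · rw [h] at hcard; omega
    · exact h
  have hr : 2 ≤ r := by omega
  have hrs2 : r + 2 ≤ s := by omega
  have hs : 5 ≤ s := by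
    by_contra hlt
    have h1 : r * s ≤ 4 * 4 := Nat.mul_le_mul (by omega) (by omega)
    have h2 : r ≤ 2 := by omega
    have h3 : r * s ≤ 2 * 4 := Nat.mul_le_mul h2 (by omega)
    omega
  have hn : 5 ≤ Fintype.card ι := by omega
  have hex' : 3 ≤ r ∨ 3 ≤ Fintype.card F := by
    have := Fintype.one_lt_card (α := F)
    by_contra hcon
    exact hex ⟨by omega, by omega⟩
  refine ⟨lt_of_le_of_ne inf_le_right fun heq => ?_, fun M hHM hM => ?_⟩
  · -- properness
    have hle : omegaGL Q ≤ tensorProductSubgroup r s e P := heq ▸ inf_le_left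
    obtain ⟨k, hk, hpol⟩ := tvec_form (σ := id) (fun a b => rfl) (sesq_of_bilinear hf.bilinear)
      (sesq_of_bilinear hg.bilinear) hT
    obtain ⟨x, hx⟩ : ∃ x : Fin r → F, x ≠ 0 := ⟨Pi.single ⟨0, by omega⟩ 1, by simp⟩
    obtain ⟨a, ha⟩ := exists_partner hf hx
    obtain ⟨b, hb⟩ : ∃ b : Fin s → F, b ≠ 0 := ⟨Pi.single ⟨0, by omega⟩ 1, by simp⟩
    obtain ⟨q, hq⟩ := exists_partner hg hb
    obtain ⟨b', hb'0, hb'b, hb'q⟩ := exists_orth_two hg (by omega) b q
    have hsp : b' ∉ Submodule.span F {b} := fun hm => by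
      obtain ⟨c, rfl⟩ := Submodule.mem_span_singleton.1 hm
      rw [fsmul_left hg, fswap hg b q, hq, mul_neg, mul_one, neg_eq_zero] at hb'q
      exact hb'0 (by rw [hb'q, zero_smul])
    obtain ⟨g, hgΩ, hgE⟩ := ein_omega hQ hn (hpure x b) (a := tvec e P x b')
      (by rw [hpol, hf.alternating]; ring)
    obtain ⟨A, B, hAB⟩ := mem_tensor (hle hgΩ)
    have h1 : tvec e P ((A : Matrix (Fin r) (Fin r) F) *ᵥ a) ((B : Matrix (Fin s) (Fin s) F) *ᵥ q) =
        tvec e P a q + tvec e P (k • x) b' := by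
      rw [← hAB, hgE, hpure x b', hpol, hpol, ha, hq, fswap hg q b', hb'q, tvec_smul_left]
      module
    obtain ⟨δ, hδ⟩ := exists_dot_one (b := q) fun h => by rw [h, fzero_left hg] at hq; exact zero_ne_one hq
    have hcontract := fun v : Fin s → F => congrArg (co e P v) h1
    -- two independent contractions
    have hb'q' : b' ∉ Submodule.span F {q} := fun hm => by
      obtain ⟨c, rfl⟩ := Submodule.mem_span_singleton.1 hm
      rw [fsmul_left hg, hq, mul_one] at hb'b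
      exact hb'0 (by rw [hb'b, zero_smul])
    have hqb' : q ∉ Submodule.span F {b'} := fun hm => by
      obtain ⟨c, hc⟩ := Submodule.mem_span_singleton.1 hm
      rw [← hc, fsmul_left hg, hb'b, mul_zero] at hq
      exact zero_ne_one hq
    obtain ⟨φ, hφ, hφ0⟩ := exists_dual _ hqb'
    obtain ⟨φ', hφ', hφ'0⟩ := exists_dual _ hb'q'
    have e1 := hcontract φ
    have e2 := hcontract φ'
    rw [map_add, co_tvec, co_tvec, co_tvec, hφ, hφ0 b' (Submodule.mem_span_singleton_self b'), one_smul, zero_smul,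
      add_zero] at e1
    rw [map_add, co_tvec, co_tvec, co_tvec, hφ', hφ'0 q (Submodule.mem_span_singleton_self q), one_smul, zero_smul,
      zero_add] at e2
    have e3 : f₁ a (k • x) = 0 := by rw [← e1, ← e2, fsmul_left hf, fsmul_right hf, hf.alternating]; ring
    rw [fsmul_right hf, ha, mul_one] at e3
    exact hk e3
  · by_cases hΩ : omegaGL Q ≤ M
    · exact Or.inr (le_antisymm hM hΩ)
    obtain ⟨k, D⟩ := exists_setting hQ hf hg hT hpure hn hHM hM
    refine Or.inl (le_antisymm (le_inf ?_ hM) hHM)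
    have hR : ∀ b : Fin s → F, b ≠ 0 → ∃ h : fb D b ⬝ᵥ b = 0, rootGL e P b (fb D b) h ∈ M := fun b hb => by
      have h : fb D b ⬝ᵥ b = 0 := by rw [fb_dot, hg.alternating]
      refine ⟨h, ?_⟩
      obtain ⟨t, ht, htT⟩ := D.tW b 1
      rwa [show rootGL e P b (fb D b) h = t from gl_ext_tvec (e := e) (P := P) fun x y => by
        rw [rootGL, kg_tvec, Units.val_one, one_mulVec, tv_mulVec, fb_dot, htT, one_mul]]
    have hfb : ∀ b : Fin s → F, b ≠ 0 → fb D b ≠ 0 := fun b hb h0 => hb (eq_zero_of_orth hg fun y => by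
      rw [← fb_dot D, h0, zero_dotProduct])
    refine descend (by omega) hrs M (fun b β => b ≠ 0 ∧ β = fb D b)
      (fun b β ⟨hb, hβ⟩ => by subst hβ; exact let ⟨h, hm⟩ := hR b hb; ⟨h, hb, hfb b hb, hm⟩)
      ⟨Pi.single ⟨0, by omega⟩ 1, _, by simp, rfl⟩
      (fun b hb => symp_rigid D hΩ hn hr hs hex' hb) ?_
    intro g hgM b₀ hb₀ A hA0 hA1
    obtain ⟨a, -, ha⟩ := SetLike.exists_of_lt hA1.lt_top
    let z := ((g⁻¹ : GL ι F) : Matrix ι ι F) *ᵥ tvec e P a b₀
    let L : (Fin s → F) →ₗ[F] (Fin r → F) × F := LinearMap.prod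
      { toFun := fun b => cob D b z
        map_add' := fun b b' => cob_add D b b' z
        map_smul' := fun c b => cob_smul D c b z }
      { toFun := fun b => f₂ b₀ b
        map_add' := fun b b' => fadd_right hg b b' b₀
        map_smul' := fun c b => fsmul_right hg c b b₀ }
    obtain ⟨b, hb, hb0⟩ := Submodule.exists_mem_ne_zero_of_ne_bot (LinearMap.ker_ne_bot_of_finrank_lt (f := L)
      (by rw [Module.finrank_prod, Module.finrank_self]; simp; omega))
    obtain ⟨h1, h2⟩ := Prod.ext_iff.1 (LinearMap.mem_ker.1 hb)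
    exact ⟨a, ha, b, fb D b, ⟨hb0, rfl⟩, by rw [fb_dot]; exact h2, Or.inl h1⟩

end CfsgLib.Perm.Trans.TensorSymp
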