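import Mathlib
import Cfsg.Agent.Lib.Perm.Trans.TensorSympMax

/-!
# `Sp₂(2) ⊗ Sp_s(2)` is not maximal: it fixes a unitary structure over the field with four elements
-/

set_option autoImplicit false
set_option linter.all false

namespace CfsgLib.Perm.Trans.TensorSympTwo

open scoped Matrix
open Matrix Cfsg.Geo CfsgLib.Perm.Asch CfsgLib.Perm.Trans CfsgLib.Perm.Trans.Quad
open CfsgLib.Perm.Trans.TensorFrame CfsgLib.Perm.Trans.TensorMax CfsgLib.Perm.Trans.TensorSymp

/-- the elements normalising a cyclic group of order at most three -/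
def invPair {G : Type*} [Group G] (S : Subgroup G) (c : G) : Subgroup G where
  carrier := {g | g ∈ S ∧ (g * c * g⁻¹ = c ∨ g * c * g⁻¹ = c⁻¹)}
  one_mem' := ⟨one_mem S, Or.inl (by group)⟩
  mul_mem' := fun {g h} hg hh => by
    refine ⟨mul_mem hg.1 hh.1, ?_⟩
    have h0 : g * h * c * (g * h)⁻¹ = g * (h * c * h⁻¹) * g⁻¹ := by group
    rcases hh.2 with e | e <;> rw [h0, e]
    · exact hg.2
    · rw [show g * c⁻¹ * g⁻¹ = (g * c * g⁻¹)⁻¹ by group]
      rcases hg.2 with e' | e' <;> rw [e']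
      · exact Or.inr rfl
      · exact Or.inl (inv_inv c)
  inv_mem' := fun {g} hg => by
    refine ⟨inv_mem hg.1, ?_⟩
    rcases hg.2 with e | e
    · exact Or.inl (by
        calc g⁻¹ * c * g⁻¹⁻¹ = g⁻¹ * (g * c * g⁻¹) * g⁻¹⁻¹ := by rw [e]
          _ = c := by group)
    · exact Or.inr (by
        calc g⁻¹ * c * g⁻¹⁻¹ = g⁻¹ * (g * c * g⁻¹)⁻¹ * g⁻¹⁻¹ := by rw [e, inv_inv c]
          _ = c⁻¹ := by group)

variable {ι : Type} [Fintype ι] [DecidableEq ι] {F : Type*} [Field F] [Fintype F]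

theorem two_values (hq : Fintype.card F = 2) (x : F) : x = 0 ∨ x = 1 := by
  classical
  have h : ({0, 1} : Finset F) = Finset.univ := by
    apply Finset.eq_univ_of_card
    rw [Finset.card_pair zero_ne_one, hq]
  have hx := Finset.mem_univ x
  rw [← h] at hx
  simpa using hx

theorem one_add_one (hq : Fintype.card F = 2) : (1 : F) + 1 = 0 :=
  (two_values hq _).resolve_right fun h => one_ne_zero (add_eq_right.1 h)

/-- the element of order three -/
def wMat : Matrix (Fin 2) (Fin 2) F := !![0, 1; 1, 1]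

theorem w_conj (hq : Fintype.card F = 2) (a : Matrix (Fin 2) (Fin 2) F) (ha : a.det ≠ 0) :
    a * wMat = wMat * a ∨ a * wMat = wMat * wMat * a := by
  have h2 := one_add_one hq
  rw [Matrix.det_fin_two] at ha
  rw [← Matrix.ext_iff, ← Matrix.ext_iff]
  rcases two_values hq (a 0 0) with h00 | h00 <;> rcases two_values hq (a 0 1) with h01 | h01 <;>
    rcases two_values hq (a 1 0) with h10 | h10 <;> rcases two_values hq (a 1 1) with h11 | h11 <;>
    simp [wMat, Fin.forall_fin_two, Matrix.mul_apply, Fin.sum_univ_two, h00, h01, h10, h11, h2] at ha ⊢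

variable {s : ℕ} {e : ι ≃ Fin 2 × Fin s} {P : GL ι F} {Q : (ι → F) → F}
variable {f₁ : (Fin 2 → F) → (Fin 2 → F) → F} {f₂ : (Fin s → F) → (Fin s → F) → F}

/-- the tensor group is properly contained in a proper subgroup of `Ω` -/
theorem symp_two_not_maximal (hn : 5 ≤ Fintype.card ι) (hq : Fintype.card F = 2) (hs : 3 ≤ s)
    (hQ : IsNondegenerateQuadraticForm Q) (hf : IsSymplecticForm f₁) (hg : IsSymplecticForm f₂)
    (hT : IsTensorFormStructure id (QuadraticMap.polar Q) f₁ f₂ e P) (hpure : ∀ x y, Q (tvec e P x y) = 0) :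
    ∃ K : Subgroup (GL ι F), tensorProductSubgroup 2 s e P ⊓ omegaGL Q < K ∧ K < omegaGL Q := by
  have h2 := one_add_one hq
  have h2' : (2 : F) = 0 := by rw [← one_add_one_eq_two]; exact h2
  obtain ⟨k, hk, hpol⟩ := tvec_form (σ := id) (fun a b => rfl) (sesq_of_bilinear hf.bilinear)
    (sesq_of_bilinear hg.bilinear) hT
  obtain rfl : k = 1 := (two_values hq k).resolve_left hk
  let e0 : Fin 2 → F := ![1, 0]
  let e1 : Fin 2 → F := ![0, 1]
  have hxe : ∀ x : Fin 2 → F, x = x 0 • e0 + x 1 • e1 := fun x => by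
    funext i; fin_cases i <;> simp [e0, e1]
  have hf01 : f₁ e0 e1 = 1 := (two_values hq _).resolve_left fun h => by
    refine absurd (eq_zero_of_orth hf (x := e1) fun y => ?_) (fun h => by simpa [e1] using congrFun h 1)
    rw [hxe y, fadd_left hf, fsmul_left hf, fsmul_left hf, h, hf.alternating]; ring
  have hfx : ∀ x y, f₁ x y = x 0 * y 1 + x 1 * y 0 := fun x y => by
    conv_lhs => rw [hxe x, hxe y]
    simp only [fadd_left hf, fadd_right hf, fsmul_left hf, fsmul_right hf, hf.alternating, hf01, fswap hf e1 e0]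
    linear_combination (-(x 1 * y 0)) * h2'
  -- the element of order three
  let wu : GL (Fin 2) F := ⟨wMat, wMat * wMat,
    by ext i j; fin_cases i <;> fin_cases j <;> simp [wMat, Matrix.mul_apply, Fin.sum_univ_two, h2],
    by ext i j; fin_cases i <;> fin_cases j <;> simp [wMat, Matrix.mul_apply, Fin.sum_univ_two, h2]⟩
  let c : GL ι F := kg e P wu 1
  have hc : ∀ x y, (c : Matrix ι ι F) *ᵥ tvec e P x y = tvec e P (wMat *ᵥ x) y := fun x y => by
    rw [kg_tvec, Units.val_one, one_mulVec]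
  have hc' : ∀ x y, ((c⁻¹ : GL ι F) : Matrix ι ι F) *ᵥ tvec e P x y = tvec e P ((wMat * wMat) *ᵥ x) y := fun x y => by
    have h1 : c * (c * c) = 1 := gl_ext_tvec (e := e) (P := P) fun x y => by
      rw [gl_mul_mulVec, gl_mul_mulVec, hc, hc, hc, Units.val_one, one_mulVec, mulVec_mulVec, mulVec_mulVec]
      rw [show wMat * wMat * wMat = (1 : Matrix (Fin 2) (Fin 2) F) by rw [mul_assoc]; exact wu.val_inv, one_mulVec]
    rw [inv_eq_of_mul_eq_one_right h1, gl_mul_mulVec, hc, hc, mulVec_mulVec]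
  -- vectors of the second factor
  obtain ⟨b, hb⟩ : ∃ b : Fin s → F, b ≠ 0 := ⟨Pi.single ⟨0, by omega⟩ 1, by simp⟩
  obtain ⟨q, hq'⟩ := exists_partner hg hb
  obtain ⟨b', hb'0, hb'b, hb'q⟩ := exists_orth_two hg hs b q
  have hbb' : f₂ b b' = 0 := by rw [fswap hg, hb'b, neg_zero]
  have hqb' : f₂ q b' = 0 := by rw [fswap hg, hb'q, neg_zero]
  have hw0 : wMat *ᵥ e0 = e1 := by funext i; fin_cases i <;> simp [wMat, e0, e1, vecHead, vecTail]
  -- a unitary element
  obtain ⟨g, hgΩ, hgE⟩ := ein_omega hQ hn (u := tvec e P e0 b + tvec e P e1 b')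
    (a := tvec e P e1 b + tvec e P (e0 + e1) b')
    (by rw [qadd hQ, hpure, hpure, hpol, hbb']; ring)
    (by simp only [padd_left hQ, padd_right hQ, hpol, hg.alternating, hbb', hb'b]; ring)
  have hgT : ∀ x y, (g : Matrix ι ι F) *ᵥ tvec e P x y = tvec e P x (y + f₂ y b • b + f₂ y b' • b') +
      f₂ y b' • tvec e P ((wMat * wMat) *ᵥ x) b + f₂ y b • tvec e P (wMat *ᵥ x) b' := by
    intro x y
    have hQa : Q (tvec e P e1 b + tvec e P (e0 + e1) b') = 0 := by rw [qadd hQ, hpure, hpure, hpol, hbb']; ring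
    have e2 : wMat *ᵥ x = x 1 • e0 + (x 0 + x 1) • e1 := by
      funext i; fin_cases i <;> simp [wMat, e0, e1, vecHead, vecTail]
    have e3 : (wMat * wMat) *ᵥ x = (x 0 + x 1) • e0 + x 0 • e1 := by
      funext i
      fin_cases i <;> simp [wMat, e0, e1, vecHead, vecTail, Matrix.mulVec, dotProduct, Fin.sum_univ_two,
        Matrix.mul_apply, h2]
    rw [hgE, hQa, zero_mul, zero_smul, sub_zero, e2, e3]
    simp only [padd_right hQ, hpol, hfx, one_mul, tvec_add_left, tvec_smul_left, tvec_add_right, tvec_smul_right]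
    conv_lhs => rw [hxe x]
    conv_rhs => rw [hxe x]
    simp only [tvec_add_left, tvec_smul_left, smul_add, smul_smul]
    simp [e0, e1]
    match_scalars <;> linear_combination (norm := ring_nf) (0 : F) * h2' <;> simp [h2']
  refine ⟨invPair (omegaGL Q) c, ?_, ?_⟩
  · refine lt_of_le_of_ne (fun h hh => ⟨hh.2, ?_⟩) fun heq => ?_
    · obtain ⟨a, B, hab⟩ := mem_tensor hh.1
      rcases w_conj hq (a : Matrix (Fin 2) (Fin 2) F) ((Matrix.isUnit_iff_isUnit_det _).1 a.isUnit).ne_zero with h1 | h1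
      · refine Or.inl (mul_inv_eq_iff_eq_mul.2 (gl_ext_tvec (e := e) (P := P) fun x y => ?_))
        rw [gl_mul_mulVec, gl_mul_mulVec, hc, hab, hab, hc, mulVec_mulVec, mulVec_mulVec, h1]
      · refine Or.inr (mul_inv_eq_iff_eq_mul.2 (gl_ext_tvec (e := e) (P := P) fun x y => ?_))
        rw [gl_mul_mulVec, gl_mul_mulVec, hc, hab, hab, hc', mulVec_mulVec, mulVec_mulVec, h1]
    · have hgK : g ∈ invPair (omegaGL Q) c := by
        refine ⟨hgΩ, Or.inl (mul_inv_eq_iff_eq_mul.2 (gl_ext_tvec (e := e) (P := P) fun x y => ?_))⟩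
        rw [gl_mul_mulVec, gl_mul_mulVec, hc, hgT, hgT, mulVec_add, mulVec_add, mulVec_smul, mulVec_smul, hc, hc, hc]
        simp only [mulVec_mulVec, mul_assoc]
      rw [← heq] at hgK
      obtain ⟨a, B, hab⟩ := mem_tensor hgK.1
      have h1 := (hab e0 q).symm.trans (hgT e0 q)
      rw [hq', hqb', one_smul, zero_smul, zero_smul, add_zero, add_zero, one_smul, hw0] at h1
      have h3 := congrArg (rc e P e0) h1
      have h4 := congrArg (rc e P e1) h1
      simp only [map_add, rc_tvec, show e0 ⬝ᵥ e0 = 1 by simp [e0, dotProduct], show e0 ⬝ᵥ e1 = 0 by simp [e0, e1, dotProduct],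
        show e1 ⬝ᵥ e0 = 0 by simp [e0, e1, dotProduct], show e1 ⬝ᵥ e1 = 1 by simp [e1, dotProduct], one_smul, zero_smul,
        add_zero, zero_add] at h3 h4
      rcases two_values hq (e1 ⬝ᵥ ((a : Matrix (Fin 2) (Fin 2) F) *ᵥ e0)) with h5 | h5 <;> rw [h5] at h4
      · exact hb'0 (by simpa using h4.symm)
      rw [one_smul] at h4
      rw [h4] at h3
      have h6 := congrArg (fun v => f₂ v b) h3
      simp only [fadd_left hg, fsmul_left hg, hb'b, hq', hg.alternating, mul_zero, add_zero] at h6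
      exact zero_ne_one h6
  · refine lt_of_le_of_ne (fun h hh => hh.1) fun heq => ?_
    obtain ⟨g', hg'Ω, hg'E⟩ := ein_omega hQ hn (hpure e0 b) (a := tvec e P e0 b')
      (by rw [hpol, hbb']; ring)
    have hg'K : g' ∈ invPair (omegaGL Q) c := heq.symm ▸ hg'Ω
    have h01 : f₁ e0 e0 = 0 := hf.alternating _
    have h10 : f₁ e1 e0 = 1 := by rw [hfx]; simp [e0, e1]
    have hg0 : (g' : Matrix ι ι F) *ᵥ tvec e P e0 q = tvec e P e0 q := by
      rw [hg'E, hpure, hpol, hpol, h01]
      simp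
    have hg1 : (g' : Matrix ι ι F) *ᵥ tvec e P e1 q = tvec e P e1 q + tvec e P e0 b' := by
      rw [hg'E, hpure, hpol, hpol, h10, hq', hqb']
      simp
    rcases hg'K.2 with h1 | h1
    · have h3 := congrArg (fun t : GL ι F => (t : Matrix ι ι F) *ᵥ tvec e P e0 q) (mul_inv_eq_iff_eq_mul.1 h1)
      simp only [gl_mul_mulVec, hc, hg0, hw0, hg1, add_eq_left] at h3
      exact tvec_ne_zero (by simp [e0]) hb'0 h3
    · have h3 := congrArg (fun t : GL ι F => (t : Matrix ι ι F) *ᵥ tvec e P e0 q) (mul_inv_eq_iff_eq_mul.1 h1)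
      simp only [gl_mul_mulVec, hc, hc', hg0, hw0, hg1, ← mulVec_mulVec] at h3
      rw [show wMat *ᵥ e1 = e0 + e1 by funext i; fin_cases i <;> simp [wMat, e0, e1, vecHead, vecTail],
        tvec_add_left, add_comm (tvec e P e0 q), add_right_inj] at h3
      have h5 := congrArg (rc e P e0) h3
      rw [rc_tvec, rc_tvec, show e0 ⬝ᵥ e0 = (1 : F) by simp [e0, dotProduct], one_smul, one_smul] at h5
      rw [h5, hq'] at hb'b
      exact one_ne_zero hb'b

end CfsgLib.Perm.Trans.TensorSympTwo
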