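import Cfsg.Agent.Lib.Perm.Trans.Symp

/-!
# Structures over a subfield
-/

set_option autoImplicit false
set_option linter.all false

namespace CfsgLib.Perm.Trans.Subf

open scoped Matrix
open Matrix Cfsg.Geo CfsgLib.Perm.Asch CfsgLib.Perm.Trans

variable {ι : Type} [Fintype ι] [DecidableEq ι] {F : Type*} [Field F]
variable (F₀ : Subfield F) (P : GL ι F)

/-- the rational vectors -/
def em (a : ι → F₀) : ι → F := (P : Matrix ι ι F) *ᵥ fun i => (a i : F)

theorem em_add (a b : ι → F₀) : em F₀ P (a + b) = em F₀ P a + em F₀ P b := by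
  rw [em, em, em, ← mulVec_add]
  rfl

theorem em_zero : em F₀ P 0 = 0 := by
  rw [em, show (fun i => (((0 : ι → F₀) i : F₀) : F)) = 0 from rfl, mulVec_zero]

theorem em_smul (c : F₀) (a : ι → F₀) : em F₀ P (c • a) = (c : F) • em F₀ P a := by
  rw [em, em, ← mulVec_smul]
  rfl

theorem em_neg (a : ι → F₀) : em F₀ P (-a) = -em F₀ P a := by
  rw [em, em, ← mulVec_neg]
  rfl

theorem em_sub (a b : ι → F₀) : em F₀ P (a - b) = em F₀ P a - em F₀ P b := by
  rw [sub_eq_add_neg, em_add, em_neg, sub_eq_add_neg]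

theorem em_sum {β : Type*} (s : Finset β) (a : β → ι → F₀) : em F₀ P (∑ i ∈ s, a i) = ∑ i ∈ s, em F₀ P (a i) := by
  classical
  induction s using Finset.induction_on with
  | empty => simp [em_zero]
  | @insert x s hx ih => rw [Finset.sum_insert hx, Finset.sum_insert hx, em_add, ih]

theorem em_injective : Function.Injective (em F₀ P) := fun a b h => funext fun i => by
  have h1 := congrArg (fun x => ((P⁻¹ : GL ι F) : Matrix ι ι F) *ᵥ x) h
  simp only [em, gl_inv_mulVec] at h1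
  exact Subtype.ext (congrFun h1 i)

theorem em_ne_zero {a : ι → F₀} (h : a ≠ 0) : em F₀ P a ≠ 0 := fun h0 =>
  h (em_injective F₀ P (h0.trans (em_zero F₀ P).symm))

theorem exists_coords (y : ι → F) : ∃ a : ι → F, y = ∑ i, a i • em F₀ P (Pi.single i 1) := by
  refine ⟨((P⁻¹ : GL ι F) : Matrix ι ι F) *ᵥ y, ?_⟩
  have h : ∀ i, em F₀ P (Pi.single i 1) = (P : Matrix ι ι F) *ᵥ Pi.single i 1 := fun i => by
    rw [em]
    congr 1
    funext j
    rcases eq_or_ne j i with rfl | hji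
    · simp
    · simp [hji]
  simp only [h, ← mulVec_smul]
  rw [← mulVec_sum, ← pi_eq_sum_univ', gl_mulVec_inv]

/-- rational linear maps -/
def lift : GL ι F₀ →* GL ι F :=
  (MulAut.conj P).toMonoidHom.comp (Matrix.GeneralLinearGroup.map (F₀.subtype : F₀ →+* F))

theorem lift_mem (g : GL ι F₀) : lift F₀ P g ∈ subfieldSubgroup F₀ P :=
  ⟨_, Subgroup.mem_sup_left ⟨g, rfl⟩, rfl⟩

theorem lift_em (g : GL ι F₀) (a : ι → F₀) :
    (lift F₀ P g : Matrix ι ι F) *ᵥ em F₀ P a = em F₀ P ((g : Matrix ι ι F₀) *ᵥ a) := by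
  show ((P * Matrix.GeneralLinearGroup.map (F₀.subtype : F₀ →+* F) g * P⁻¹ : GL ι F) : Matrix ι ι F) *ᵥ em F₀ P a = _
  rw [gl_mul_mulVec, gl_mul_mulVec, em, em, gl_inv_mulVec]
  congr 1
  funext i
  show ∑ j, ((g : Matrix ι ι F₀) i j : F) * (a j : F) = ((∑ j, (g : Matrix ι ι F₀) i j * a j : F₀) : F)
  push_cast
  rfl

theorem ext_em {g h : GL ι F} (e : ∀ a : ι → F₀, (g : Matrix ι ι F) *ᵥ em F₀ P a = (h : Matrix ι ι F) *ᵥ em F₀ P a) :
    g = h := gl_ext_vec fun x => by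
  obtain ⟨a, rfl⟩ := exists_coords F₀ P x
  simp only [mulVec_sum, mulVec_smul, e]

theorem subfield_image {g : GL ι F} (hg : g ∈ subfieldSubgroup F₀ P) :
    ∃ c : F, ∀ a : ι → F₀, ∃ b : ι → F₀, (g : Matrix ι ι F) *ᵥ em F₀ P a = c • em F₀ P b := by
  obtain ⟨x, hx, rfl⟩ := hg
  rw [SetLike.mem_coe, ← SetLike.mem_coe, Subgroup.mul_normal] at hx
  obtain ⟨y, ⟨g₀, rfl⟩, s, hs, rfl⟩ := Set.mem_mul.1 hx
  obtain ⟨c, hc⟩ := (mem_scalars_iff s).1 hs
  refine ⟨(c : F), fun a => ⟨(g₀ : Matrix ι ι F₀) *ᵥ a, ?_⟩⟩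
  rw [← lift_em, ← mulVec_smul]
  show ((P * (Matrix.GeneralLinearGroup.map (F₀.subtype : F₀ →+* F) g₀ * s) * P⁻¹ : GL ι F) : Matrix ι ι F) *ᵥ em F₀ P a =
    ((P * Matrix.GeneralLinearGroup.map (F₀.subtype : F₀ →+* F) g₀ * P⁻¹ : GL ι F) : Matrix ι ι F) *ᵥ ((c : F) • em F₀ P a)
  simp only [gl_mul_mulVec]
  rw [hc, smul_mulVec, one_mulVec]
  simp only [mulVec_smul]

/-- a map sending rational vectors to multiples of rational vectors by one scalar is in the subfield group -/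
theorem mem_subfieldSubgroup_of_image {g : GL ι F} {c : F} (hc : c ≠ 0)
    (h : ∀ i, ∃ b : ι → F₀, (g : Matrix ι ι F) *ᵥ em F₀ P (Pi.single i 1) = c • em F₀ P b) :
    g ∈ subfieldSubgroup F₀ P := by
  choose b hb using h
  let A : Matrix ι ι F₀ := Matrix.of fun i j => b j i
  have hcol : ∀ a : ι → F₀, (g : Matrix ι ι F) *ᵥ em F₀ P a = c • em F₀ P (A *ᵥ a) := by
    intro a
    conv_lhs => rw [pi_eq_sum_univ' a, em_sum]
    rw [mulVec_sum]
    rw [show A *ᵥ a = ∑ j, a j • b j from funext fun i => by simp [A, Matrix.mulVec, dotProduct, mul_comm],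
      em_sum, Finset.smul_sum]
    refine Finset.sum_congr rfl fun j _ => ?_
    rw [em_smul, mulVec_smul, hb, em_smul, smul_comm]
  have hdet : A.det ≠ 0 := by
    intro h0
    obtain ⟨a, ha, hA⟩ := Matrix.exists_mulVec_eq_zero_iff.2 h0
    have h1 := hcol a
    rw [hA, em_zero, smul_zero, gl_mulVec_eq_zero] at h1
    exact em_ne_zero F₀ P ha h1
  let g₀ : GL ι F₀ := Matrix.GeneralLinearGroup.mkOfDetNeZero A hdet
  obtain ⟨s, hs⟩ : ∃ s : GL ι F, (s : Matrix ι ι F) = c • (1 : Matrix ι ι F) :=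
    ⟨⟨c • 1, c⁻¹ • 1, by simp [hc], by simp [hc]⟩, rfl⟩
  refine ⟨Matrix.GeneralLinearGroup.map (F₀.subtype : F₀ →+* F) g₀ * s,
    Subgroup.mul_mem_sup ⟨g₀, rfl⟩ ((mem_scalars_iff s).2 ⟨Units.mk0 c hc, hs⟩), ?_⟩
  refine ext_em F₀ P fun a => ?_
  rw [hcol]
  show ((P * (Matrix.GeneralLinearGroup.map (F₀.subtype : F₀ →+* F) g₀ * s) * P⁻¹ : GL ι F) : Matrix ι ι F) *ᵥ em F₀ P a = _
  rw [show em F₀ P (A *ᵥ a) = (lift F₀ P g₀ : Matrix ι ι F) *ᵥ em F₀ P a from (lift_em F₀ P g₀ a).symm, ← mulVec_smul]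
  show _ = ((P * Matrix.GeneralLinearGroup.map (F₀.subtype : F₀ →+* F) g₀ * P⁻¹ : GL ι F) : Matrix ι ι F) *ᵥ (c • em F₀ P a)
  simp only [gl_mul_mulVec]
  rw [hs, smul_mulVec, one_mulVec]
  simp only [mulVec_smul]

variable {F₀}

theorem finrank_eq [Fintype F] {r : ℕ} (hcard : Fintype.card F = Nat.card F₀ ^ r) :
    Module.finrank F₀ F = r := by
  have h := Module.natCard_eq_pow_finrank (K := F₀) (V := F)
  rw [Nat.card_eq_fintype_card, hcard] at h
  refine (Nat.pow_right_injective ?_ h).symm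
  exact Finite.one_lt_card

/-- a subring strictly containing the subfield is everything -/
theorem eq_univ_of_closed [Fintype F] {r : ℕ} (hr : r.Prime) (hcard : Fintype.card F = Nat.card F₀ ^ r) {C : Set F}
    (hadd : ∀ x ∈ C, ∀ y ∈ C, x + y ∈ C) (hmul : ∀ x ∈ C, ∀ y ∈ C, x * y ∈ C) (h0 : ∀ x : F₀, (x : F) ∈ C)
    {s : F} (hs : s ∈ C) (hs0 : s ∉ F₀) (x : F) : x ∈ C := by
  let K : Subalgebra F₀ F :=
    { carrier := C
      mul_mem' := fun {a b} ha hb => hmul a ha b hb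
      add_mem' := fun {a b} ha hb => hadd a ha b hb
      algebraMap_mem' := fun a => h0 a }
  haveI := Subalgebra.isSimpleOrder_of_finrank_prime F₀ F (by rw [finrank_eq hcard]; exact hr)
  rcases IsSimpleOrder.eq_bot_or_eq_top K with h | h
  · obtain ⟨a, ha⟩ := Algebra.mem_bot.1 (h ▸ hs : s ∈ (⊥ : Subalgebra F₀ F))
    exact absurd (ha ▸ a.2) hs0
  · exact (h ▸ Algebra.mem_top : x ∈ K)

/-- elements of a quadratic extension -/
theorem mem_of_sq_mem [Fintype F] {r : ℕ} (hr : r.Prime) (hr2 : 2 < r) (hcard : Fintype.card F = Nat.card F₀ ^ r)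
    {p : F} (hp : p * p ∈ F₀) : p ∈ F₀ := by
  by_contra hp0
  have hall : ∀ x : F, x ∈ {x : F | ∃ a b : F₀, x = (a : F) + (b : F) * p} := eq_univ_of_closed hr hcard
    (fun x ⟨a, b, hx⟩ y ⟨a', b', hy⟩ => ⟨a + a', b + b', by rw [hx, hy]; push_cast; ring⟩)
    (fun x ⟨a, b, hx⟩ y ⟨a', b', hy⟩ => ⟨a * a' + b * b' * ⟨_, hp⟩, a * b' + b * a', by
      rw [hx, hy]; push_cast; ring⟩)
    (fun a => ⟨a, 0, by push_cast; ring⟩) (s := p) ⟨0, 1, by push_cast; ring⟩ hp0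
  have hsurj : Function.Surjective fun c : F₀ × F₀ => (c.1 : F) + (c.2 : F) * p := fun x => by
    obtain ⟨a, b, hab⟩ := hall x
    exact ⟨(a, b), hab.symm⟩
  have h1 := Nat.card_le_card_of_surjective _ hsurj
  rw [Nat.card_prod, Nat.card_eq_fintype_card, hcard, ← sq] at h1
  have h2 : 1 < Nat.card F₀ := Finite.one_lt_card
  exact absurd ((Nat.pow_le_pow_iff_right h2).1 h1) (by omega)

end CfsgLib.Perm.Trans.Subf
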