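import Cfsg.Agent.Lib.Perm.Trans.Basic
import Cfsg.Agent.Lib.Perm.ExtField.Matrix

/-!
# Maximal subgroups of the special linear group containing transvections
-/

set_option autoImplicit false
set_option linter.all false

namespace CfsgLib.Perm.Trans

open scoped Matrix
open Matrix Cfsg.Geo CfsgLib.Perm.Asch

variable {F : Type*} [Field F] [Fintype F] {n : ℕ}

theorem eq_SL_of_fullSub {M : Subgroup (GL (Fin n) F)} (hM : M ≤ specialLinear (Fin n) F) (h : fullSub M = ⊤) :
    M = specialLinear (Fin n) F :=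
  CfsgLib.Perm.ExtField.subgroup_eq_SL_of_transvections hM (all_of_fullSub h)

theorem lt_SL_of_not_le {K : Subgroup (GL (Fin n) F)} (h : ¬ specialLinear (Fin n) F ≤ K) :
    K ⊓ specialLinear (Fin n) F < specialLinear (Fin n) F :=
  lt_of_le_of_ne inf_le_right fun e => h (e ▸ inf_le_left)

/-- subspace stabilisers are maximal -/
theorem subspace_maximal {W : Submodule F (Fin n → F)} (hW0 : W ≠ ⊥) (hW1 : W ≠ ⊤) :
    IsMaximalIn (specialLinear (Fin n) F) (subspaceStabilizer W ⊓ specialLinear (Fin n) F) := by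
  refine ⟨lt_SL_of_not_le (not_le_subspaceStabilizer hW0 hW1), fun M hHM hMSL => ?_⟩
  by_cases hMW : M ≤ subspaceStabilizer W
  · exact Or.inl (le_antisymm (le_inf hMW hMSL) hHM)
  refine Or.inr (eq_SL_of_fullSub hMSL ?_)
  obtain ⟨g, hgM, hg⟩ := SetLike.not_le_iff_exists.1 hMW
  obtain ⟨w, hw, hgw⟩ := exists_moved_of_not_stab hg
  have hfull : W ≤ fullSub M := fun u hu φ hφ =>
    ⟨hφ, hHM ⟨tv_mem_stab hφ (Or.inl hu), tv_mem_SL u φ hφ⟩⟩
  have hgw' := fullSub_inv hgM (hfull hw)
  set y := (g : Matrix (Fin n) (Fin n) F) *ᵥ w with hy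
  refine Submodule.eq_top_iff'.2 fun x => ?_
  by_contra hx
  have hy' : y ∉ W ⊔ Submodule.span F {x - y} := by
    intro h
    obtain ⟨w', hw', z, hz, hsum⟩ := Submodule.mem_sup.1 h
    obtain ⟨c, rfl⟩ := Submodule.mem_span_singleton.1 hz
    rcases eq_or_ne c 0 with rfl | hc
    · exact hgw (by rw [← hsum, zero_smul, add_zero]; exact hw')
    · refine hx ?_
      have : x = c⁻¹ • (y - w') + y := by
        rw [show y - w' = c • (x - y) from (eq_sub_of_add_eq' hsum).symm, smul_smul, inv_mul_cancel₀ hc, one_smul,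
          sub_add_cancel]
      rw [this]
      exact Submodule.add_mem _ (Submodule.smul_mem _ _ (Submodule.sub_mem _ hgw' (hfull hw'))) hgw'
  obtain ⟨φ, hφy, hφ0⟩ := exists_dual _ hy'
  have hφu : φ ⬝ᵥ (x - y) = 0 := hφ0 _ (Submodule.mem_sup_right (Submodule.mem_span_singleton_self _))
  have ht : tv (x - y) φ hφu ∈ M :=
    hHM ⟨tv_mem_stab hφu (Or.inr fun v hv => hφ0 v (Submodule.mem_sup_left hv)), tv_mem_SL _ _ _⟩
  have := fullSub_inv ht hgw'
  rw [tv_mulVec, hφy, one_smul, add_sub_cancel] at this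
  exact hx this

section Symplectic

variable {f : (Fin n → F) → (Fin n → F) → F} (hf : IsSymplecticForm f)

/-- `x ↦ f x u` -/
def symFun (hf : IsSymplecticForm f) (u : Fin n → F) : (Fin n → F) →ₗ[F] F where
  toFun x := f x u
  map_add' x y := hf.bilinear.add_left x y u
  map_smul' c x := hf.bilinear.smul_left c x u

/-- the vector of `x ↦ f x u` -/
def sfv (hf : IsSymplecticForm f) (u : Fin n → F) : Fin n → F := fvec (symFun hf u)

theorem sfv_dot (u x : Fin n → F) : sfv hf u ⬝ᵥ x = f x u := fvec_dot (symFun hf u) x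

/-- the vector of a functional as an element `f(·, w)` -/
def sfvLin (hf : IsSymplecticForm f) : (Fin n → F) →ₗ[F] (Fin n → F) where
  toFun := sfv hf
  map_add' a b := funext fun i => hf.bilinear.add_right _ a b
  map_smul' c a := funext fun i => hf.bilinear.smul_right c _ a

theorem sfvLin_surjective : Function.Surjective (sfvLin hf) := by
  refine LinearMap.injective_iff_surjective.1 fun a b hab => ?_
  by_contra hne
  obtain ⟨x, hx⟩ := (hf.nondegenerate (a - b) (sub_ne_zero.2 hne)).1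
  apply hx
  have h1 : f x a = f x b := by rw [← sfv_dot hf, ← sfv_dot hf]; exact congrArg (· ⬝ᵥ x) hab
  have h2 := hf.bilinear.add_right x (a - b) b
  rw [sub_add_cancel, h1] at h2
  exact left_eq_add.1 (h2.trans (add_comm _ _))

theorem stv_similarity (u : Fin n → F) (c : F) (h : (c • sfv hf u) ⬝ᵥ u = 0) :
    tv u (c • sfv hf u) h ∈ similarityGroup f := by
  refine ⟨1, fun x y => ?_⟩
  rw [tv_mulVec, tv_mulVec, smul_dotProduct, smul_dotProduct, sfv_dot, sfv_dot, hf.bilinear.add_left,
    hf.bilinear.add_right, hf.bilinear.add_right, hf.bilinear.smul_left, hf.bilinear.smul_left,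
    hf.bilinear.smul_right, hf.bilinear.smul_right, hf.alternating, hf.skew u y, smul_eq_mul, smul_eq_mul,
    Units.val_one]
  ring

include hf in
/-- a map permuting the transvection groups of `f` is a similarity -/
theorem similarity_of_axes {g : GL (Fin n) F}
    (h : ∀ u : Fin n → F, u ≠ 0 → ∃ c : F, ∀ x,
      f x u = c * f ((g : Matrix (Fin n) (Fin n) F) *ᵥ x) ((g : Matrix (Fin n) (Fin n) F) *ᵥ u)) :
    g ∈ similarityGroup f := by
  classical
  set G : Matrix (Fin n) (Fin n) F := (g : Matrix (Fin n) (Fin n) F)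
  by_cases hall : ∀ u : Fin n → F, u = 0
  · refine ⟨1, fun u v => ?_⟩
    rw [hall (G *ᵥ u), hall u, hall (G *ᵥ v), hall v, Units.val_one, one_mul]
  push Not at hall
  obtain ⟨u₀, hu₀⟩ := hall
  choose c hc using h
  have key : ∀ (u w : Fin n → F) (hu : u ≠ 0) (hw : w ≠ 0), w ∉ Submodule.span F {u} → c u hu = c w hw := by
    intro u w hu hw hind
    have huw : u + w ≠ 0 := fun h0 => hind (Submodule.mem_span_singleton.2
      ⟨-1, by rw [neg_one_smul, eq_neg_of_add_eq_zero_left h0, neg_neg]⟩)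
    have h1 : ∀ x, f x ((c (u + w) huw - c u hu) • (G *ᵥ u) + (c (u + w) huw - c w hw) • (G *ᵥ w)) = 0 := by
      intro x
      have e1 := hc (u + w) huw (((g⁻¹ : GL (Fin n) F) : Matrix (Fin n) (Fin n) F) *ᵥ x)
      rw [hf.bilinear.add_right, hc u hu, hc w hw, mulVec_add, hf.bilinear.add_right, gl_mulVec_inv] at e1
      rw [hf.bilinear.add_right, hf.bilinear.smul_right, hf.bilinear.smul_right]
      linear_combination -e1
    have h2 : (c (u + w) huw - c u hu) • (G *ᵥ u) + (c (u + w) huw - c w hw) • (G *ᵥ w) = 0 := by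
      by_contra hne
      obtain ⟨x, hx⟩ := (hf.nondegenerate _ hne).1
      exact hx (h1 x)
    have h3 := congrArg (fun z => ((g⁻¹ : GL (Fin n) F) : Matrix (Fin n) (Fin n) F) *ᵥ z) h2
    simp only [mulVec_add, mulVec_smul, mulVec_zero, gl_inv_mulVec, G] at h3
    by_cases hb : c (u + w) huw - c w hw = 0
    · rw [hb, zero_smul, add_zero, smul_eq_zero, sub_eq_zero] at h3
      exact (h3.resolve_right hu).symm.trans (sub_eq_zero.1 hb)
    · refine absurd (Submodule.mem_span_singleton.2 ⟨-((c (u + w) huw - c w hw)⁻¹ * (c (u + w) huw - c u hu)), ?_⟩) hind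
      rw [neg_smul, ← smul_smul, eq_neg_of_add_eq_zero_left h3, smul_neg, neg_neg, smul_smul, inv_mul_cancel₀ hb,
        one_smul]
  obtain ⟨x₀, hx₀⟩ := (hf.nondegenerate u₀ hu₀).1
  have hc0 : c u₀ hu₀ ≠ 0 := fun h0 => hx₀ (by rw [hc u₀ hu₀ x₀, h0, zero_mul])
  have hconst : ∀ u hu, c u hu = c u₀ hu₀ := by
    intro u hu
    by_cases hl : u ∈ Submodule.span F {u₀}
    · -- an auxiliary vector
      have hind : x₀ ∉ Submodule.span F {u₀} := fun hm => by
        obtain ⟨a, rfl⟩ := Submodule.mem_span_singleton.1 hm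
        exact hx₀ (by rw [hf.bilinear.smul_left, hf.alternating, mul_zero])
      have hx0 : x₀ ≠ 0 := fun h0 => hind (h0 ▸ Submodule.zero_mem _)
      have hind' : x₀ ∉ Submodule.span F {u} := fun hm =>
        hind ((Submodule.span_singleton_le_iff_mem _ _).2 hl hm)
      rw [key u₀ x₀ hu₀ hx0 hind, key u x₀ hu hx0 hind']
    · exact (key u₀ u hu₀ hu hl).symm
  refine ⟨(Units.mk0 _ hc0)⁻¹, fun x u => ?_⟩
  rcases eq_or_ne u 0 with rfl | hu
  · have hz : ∀ y, f y (0 : Fin n → F) = 0 := fun y => by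
      have := hf.bilinear.smul_right 0 y 0
      simpa using this
    rw [mulVec_zero, hz, hz, mul_zero]
  · rw [Units.val_inv_eq_inv_val, Units.val_mk0, hc u hu x, hconst u hu, ← mul_assoc, inv_mul_cancel₀ hc0, one_mul]

/-- similarity groups of symplectic forms are maximal -/
theorem symplectic_similarity_maximal (hn : 3 ≤ n) (hf : IsSymplecticForm f) :
    IsMaximalIn (specialLinear (Fin n) F) (similarityGroup f ⊓ specialLinear (Fin n) F) := by
  classical
  refine ⟨lt_SL_of_not_le (not_le_similarityGroup hn hf.bilinear.add_left hf.bilinear.smul_left hf.nondegenerate),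
    fun M hHM hMSL => ?_⟩
  by_cases hMf : M ≤ similarityGroup f
  · exact Or.inl (le_antisymm (le_inf hMf hMSL) hHM)
  refine Or.inr (eq_SL_of_fullSub hMSL ?_)
  have horth : ∀ (u : Fin n → F) (c : F), (c • sfv hf u) ⬝ᵥ u = 0 := fun u c => by
    rw [smul_dotProduct, sfv_dot, hf.alternating, smul_zero]
  have hax : ∀ u, sfv hf u ∈ axes M u := fun u c =>
    ⟨horth u c, hHM ⟨stv_similarity hf u c (horth u c), tv_mem_SL _ _ _⟩⟩
  -- symplectic transvections move vectors
  have htz : ∀ z c, tv z (c • sfv hf z) (horth z c) ∈ M := fun z c => (hax z c).2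
  -- a full centre
  obtain ⟨u, w, hu0, hwu, hw⟩ : ∃ u w, u ≠ 0 ∧ w ∉ Submodule.span F {u} ∧ sfv hf w ∈ axes M u := by
    by_contra hcon
    push Not at hcon
    obtain ⟨g, hgM, hg⟩ := SetLike.not_le_iff_exists.1 hMf
    refine hg (similarity_of_axes hf fun u hu => ?_)
    have h1 := axes_conj (hax u) hgM
    obtain ⟨w, hw⟩ := sfvLin_surjective hf (sfv hf u ᵥ* ((g⁻¹ : GL (Fin n) F) : Matrix (Fin n) (Fin n) F))
    have hw' : sfv hf w = sfv hf u ᵥ* ((g⁻¹ : GL (Fin n) F) : Matrix (Fin n) (Fin n) F) := hw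
    rw [← hw'] at h1
    by_cases hl : w ∈ Submodule.span F {(g : Matrix (Fin n) (Fin n) F) *ᵥ u}
    · obtain ⟨d, rfl⟩ := Submodule.mem_span_singleton.1 hl
      refine ⟨d, fun x => ?_⟩
      have h2 := congrArg (· ⬝ᵥ ((g : Matrix (Fin n) (Fin n) F) *ᵥ x)) hw'
      simp only [sfv_dot, ← dotProduct_mulVec, gl_inv_mulVec] at h2
      rw [← h2, hf.bilinear.smul_right]
    · exact absurd h1 (hcon _ w (fun h0 => hu (gl_mulVec_eq_zero.1 h0)) hl)
  have huw : f w u = 0 := by
    have := axes_orth hw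
    rw [sfv_dot] at this
    rw [hf.skew, this, neg_zero]
  have hstep : ∀ z, f u z = 0 → f w z ≠ 0 → sfv hf z ∈ axes M u := by
    intro z hz hwz
    have h1 := axes_conj hw (htz z 1)
    have hfix : (tv z ((1 : F) • sfv hf z) (horth z 1) : Matrix (Fin n) (Fin n) F) *ᵥ u = u := by
      rw [tv_mulVec, one_smul, sfv_dot, hz, zero_smul, add_zero]
    rw [hfix] at h1
    have h2 : sfv hf w ᵥ* (((tv z ((1 : F) • sfv hf z) (horth z 1))⁻¹ : GL (Fin n) F) : Matrix (Fin n) (Fin n) F)
        = sfvLin hf (w + f w z • z) := by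
      refine funext fun i => ?_
      have e : ∀ x, (sfv hf w ᵥ* (((tv z ((1 : F) • sfv hf z) (horth z 1))⁻¹ : GL (Fin n) F) : Matrix (Fin n) (Fin n) F))
          ⬝ᵥ x = sfv hf (w + f w z • z) ⬝ᵥ x := fun x => by
        rw [← dotProduct_mulVec, tv_inv_mulVec, one_smul, sfv_dot, sfv_dot, sfv_dot, sub_eq_add_neg, ← neg_smul,
          hf.bilinear.add_left, hf.bilinear.smul_left, hf.bilinear.add_right, hf.bilinear.smul_right, hf.skew z w]
        ring
      have := e (Pi.single i 1)
      rw [dotProduct_single, dotProduct_single, mul_one, mul_one] at this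
      exact this
    rw [h2, map_add, map_smul] at h1
    have h3 := (axes M u).sub_mem h1 hw
    rw [show sfvLin hf w = sfv hf w from rfl, add_sub_cancel_left] at h3
    exact ((axes M u).smul_mem_iff hwz).1 h3
  have hfull : FullC M u := by
    refine fullC_of_axes fun φ hφ => ?_
    obtain ⟨z, hz⟩ := sfvLin_surjective hf φ
    subst hz
    change sfv hf z ⬝ᵥ u = 0 at hφ
    rw [sfv_dot] at hφ
    show sfv hf z ∈ axes M u
    by_cases hwz : f w z = 0
    · obtain ⟨χ, hχw, hχu⟩ := exists_dual _ hwu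
      obtain ⟨z₀, rfl⟩ := sfvLin_surjective hf χ
      have hw1 : f w z₀ = 1 := by rw [← sfv_dot hf]; exact hχw
      have hu1 : f u z₀ = 0 := by rw [← sfv_dot hf]; exact hχu u (Submodule.mem_span_singleton_self u)
      have h1 := hstep (z + z₀) (by rw [hf.bilinear.add_right, hφ, hu1, add_zero])
        (by rw [hf.bilinear.add_right, hwz, hw1, zero_add]; exact one_ne_zero)
      have h2 := (axes M u).sub_mem h1 (hstep z₀ hu1 (by rw [hw1]; exact one_ne_zero))
      rw [show sfv hf (z + z₀) = sfvLin hf (z + z₀) from rfl, map_add] at h2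
      rw [show sfv hf z₀ = sfvLin hf z₀ from rfl, add_sub_cancel_right] at h2
      exact h2
    · exact hstep z hφ hwz
  -- irreducibility
  refine Submodule.eq_top_iff'.2 fun z => ?_
  have hmove : ∀ z, f u z ≠ 0 → z ∈ fullSub M := by
    intro z hz
    have h1 := fullSub_inv (htz z 1) (show u ∈ fullSub M from hfull)
    rw [tv_mulVec, one_smul, sfv_dot] at h1
    have h2 := (fullSub M).sub_mem h1 (show u ∈ fullSub M from hfull)
    rw [add_sub_cancel_left] at h2
    exact ((fullSub M).smul_mem_iff hz).1 h2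
  by_cases hz : f u z = 0
  · obtain ⟨z₀, hz₀⟩ := (hf.nondegenerate u hu0).2
    have h1 := hmove (z + z₀) (by rw [hf.bilinear.add_right, hz, zero_add]; exact hz₀)
    simpa using (fullSub M).sub_mem h1 (hmove z₀ hz₀)
  · exact hmove z hz

end Symplectic

end CfsgLib.Perm.Trans
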