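import Mathlib

/-!
# Derangements of two-transitive groups

The average of `(n - f) / f` over a two point stabiliser is at least one unless it is trivial.
-/

set_option autoImplicit false
set_option linter.all false

namespace CfsgLib.Perm.DerTwo

open MulAction

universe u v

variable {G : Type u} [Group G] {Ω : Type v} [MulAction G Ω]

/-- two point stabiliser -/
def pst (G : Type u) [Group G] {Ω : Type v} [MulAction G Ω] (x y : Ω) : Subgroup G :=
  stabilizer G x ⊓ stabilizer G y

/-- the line through two points -/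
def line (G : Type u) [Group G] {Ω : Type v} [MulAction G Ω] (x y : Ω) : Set Ω :=
  {z | ∀ g ∈ pst G x y, g • z = z}

theorem mem_pst {g : G} {x y : Ω} : g ∈ pst G x y ↔ g • x = x ∧ g • y = y := Iff.rfl

theorem left_mem_line (x y : Ω) : x ∈ line G x y := fun _ hg => hg.1

theorem right_mem_line (x y : Ω) : y ∈ line G x y := fun _ hg => hg.2

theorem pst_transport {g h : G} {x y : Ω} :
    g * h * g⁻¹ ∈ pst G (g • x) (g • y) ↔ h ∈ pst G x y := by
  simp [mem_pst, mul_smul]

theorem pst_comm (x y : Ω) : pst G x y = pst G y x := inf_comm _ _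

/-- the hypothesis of two-transitivity -/
def Two (G : Type u) [Group G] (Ω : Type v) [MulAction G Ω] : Prop :=
  ∀ a b x y : Ω, a ≠ b → x ≠ y → ∃ g : G, g • a = x ∧ g • b = y

variable [Finite G] [Finite Ω] [FaithfulSMul G Ω]

omit [Finite Ω] [FaithfulSMul G Ω] in
theorem card_pst (h2 : Two G Ω) {a b x y : Ω} (hab : a ≠ b) (hxy : x ≠ y) :
    Nat.card (pst G x y) = Nat.card (pst G a b) := by
  obtain ⟨g, rfl, rfl⟩ := h2 a b x y hab hxy
  exact Nat.card_congr ⟨fun h => ⟨g⁻¹ * h * g, by
      rw [← pst_transport (g := g), show g * (g⁻¹ * h * g) * g⁻¹ = h by group]; exact h.2⟩,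
    fun h => ⟨g * h * g⁻¹, pst_transport.2 h.2⟩, fun h => by ext; simp [mul_assoc], fun h => by ext; simp [mul_assoc]⟩

omit [Finite G] [Finite Ω] [FaithfulSMul G Ω] in
theorem line_transport (g : G) (x y : Ω) : line G (g • x) (g • y) = (fun z => g • z) '' line G x y := by
  ext z
  constructor
  · intro hz
    refine ⟨g⁻¹ • z, fun h hh => ?_, smul_inv_smul g z⟩
    have h1 := hz _ (pst_transport.2 hh)
    rw [mul_smul, mul_smul, smul_eq_iff_eq_inv_smul] at h1
    exact h1
  · rintro ⟨z, hz, rfl⟩ h hh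
    have h1 : g⁻¹ * h * g ∈ pst G x y := by
      rw [← pst_transport (g := g), show g * (g⁻¹ * h * g) * g⁻¹ = h by group]; exact hh
    have h3 := hz _ h1
    rw [mul_smul, mul_smul, inv_smul_eq_iff] at h3
    exact h3

omit [Finite G] [Finite Ω] [FaithfulSMul G Ω] in
theorem ncard_line (h2 : Two G Ω) {a b x y : Ω} (hab : a ≠ b) (hxy : x ≠ y) :
    (line G x y).ncard = (line G a b).ncard := by
  obtain ⟨g, rfl, rfl⟩ := h2 a b x y hab hxy
  rw [line_transport, Set.ncard_image_of_injective _ (MulAction.injective g)]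

omit [Finite Ω] [FaithfulSMul G Ω] in
/-- two points of a line determine it -/
theorem pst_eq_of_mem (h2 : Two G Ω) {x y z w : Ω} (hxy : x ≠ y) (hzw : z ≠ w) (hz : z ∈ line G x y)
    (hw : w ∈ line G x y) : pst G z w = pst G x y := by
  symm
  refine Subgroup.eq_of_le_of_card_ge (fun g hg => ⟨hz g hg, hw g hg⟩) (card_pst h2 hxy hzw).le

omit [Finite Ω] [FaithfulSMul G Ω] in
theorem line_eq_of_mem (h2 : Two G Ω) {x y z w : Ω} (hxy : x ≠ y) (hzw : z ≠ w) (hz : z ∈ line G x y)
    (hw : w ∈ line G x y) : line G z w = line G x y := by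
  simp only [line, pst_eq_of_mem h2 hxy hzw hz hw]

/-- a non-trivial element fixes at most `(n - 1) / (φ - 1)` points -/
theorem fixed_mul_le (h2 : Two G Ω) {a b : Ω} (hab : a ≠ b) {g : G} (hg : g ≠ 1) :
    (fixedBy Ω g).ncard * ((line G a b).ncard - 1) ≤ Nat.card Ω - 1 := by
  classical
  haveI := Fintype.ofFinite Ω
  obtain ⟨y, hy⟩ : ∃ y : Ω, g • y ≠ y := by
    by_contra hcon
    push Not at hcon
    exact hg (eq_of_smul_eq_smul (α := Ω) fun z => by rw [hcon z, one_smul])
  let S := (fixedBy Ω g).toFinset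
  let Lf : Ω → Finset Ω := fun z => (line G y z).toFinset.erase y
  have hcard : ∀ z ∈ S, (Lf z).card = (line G a b).ncard - 1 := fun z hz => by
    have hne : y ≠ z := fun e => hy (by rw [Set.mem_toFinset, mem_fixedBy] at hz; rw [e]; exact hz)
    rw [Finset.card_erase_of_mem (Set.mem_toFinset.2 (left_mem_line y z)), ← Set.ncard_eq_toFinset_card',
      ncard_line h2 hab hne]
  have hdisj : (S : Set Ω).PairwiseDisjoint Lf := by
    intro z hz z' hz' hne
    rw [Function.onFun, Finset.disjoint_left]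
    intro w hw hw'
    simp only [Lf, Finset.mem_erase, Set.mem_toFinset] at hw hw'
    rw [Finset.mem_coe, Set.mem_toFinset, mem_fixedBy] at hz hz'
    have hyz : y ≠ z := fun e => hy (by rw [e]; exact hz)
    have hyz' : y ≠ z' := fun e => hy (by rw [e]; exact hz')
    have e1 := pst_eq_of_mem h2 hyz (Ne.symm hw.1) (left_mem_line y z) hw.2
    have e2 := pst_eq_of_mem h2 hyz' (Ne.symm hw'.1) (left_mem_line y z') hw'.2
    have e3 : z' ∈ line G y z := fun h hh => by
      rw [← e1, e2] at hh
      exact right_mem_line y z' h hh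
    have e4 := pst_eq_of_mem h2 hyz hne (right_mem_line y z) e3
    have : g ∈ pst G y z := e4 ▸ ⟨hz, hz'⟩
    exact hy this.1
  have h1 : (S.biUnion Lf).card ≤ (Finset.univ.erase y).card := Finset.card_le_card fun w hw => by
    obtain ⟨z, -, hw⟩ := Finset.mem_biUnion.1 hw
    exact Finset.mem_erase.2 ⟨(Finset.mem_erase.1 hw).1, Finset.mem_univ _⟩
  rw [Finset.card_biUnion hdisj, Finset.sum_congr rfl hcard, Finset.sum_const, smul_eq_mul,
    Finset.card_erase_of_mem (Finset.mem_univ _), Finset.card_univ, ← Set.ncard_eq_toFinset_card'] at h1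
  rwa [Nat.card_eq_fintype_card]

section Orbits

variable {a b : Ω}

omit [Finite Ω] [FaithfulSMul G Ω] in
theorem mem_line_iff {z : Ω} : z ∈ line G a b ↔ orbit (pst G a b) z = {z} := by
  constructor
  · intro h
    refine Set.eq_singleton_iff_unique_mem.2 ⟨mem_orbit_self z, ?_⟩
    rintro w ⟨g, rfl⟩
    exact h g g.2
  · intro h g hg
    have m : g • z ∈ orbit (pst G a b) z := ⟨⟨g, hg⟩, rfl⟩
    rwa [h] at m

omit [Finite G] [Finite Ω] [FaithfulSMul G Ω] in
theorem smul_mem_orbit_line {g : G} (hg : g ∈ pst G a b) (z : Ω) : g • z ∈ orbit (pst G a b) z := ⟨⟨g, hg⟩, rfl⟩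

theorem preserves_line (h2 : Two G Ω) {a b : Ω} (hab : a ≠ b)
    (hsmall : ∀ z : Ω, (orbit (pst G a b) z).ncard ≤ 2) (hcomm : ∀ g ∈ pst G a b, ∀ h ∈ pst G a b, g * h = h * g)
    (hN : 2 < Nat.card (pst G a b)) {x : Ω} (hx : x ∉ line G a b) : ∀ g ∈ pst G a b, g • x ∈ line G a x := by
  have hxa : x ≠ a := fun e => hx (e.symm ▸ left_mem_line a b)
  set B := pst G a b with hB
  -- all conjugates are commutative
  have hcommx : ∀ u : Ω, u ≠ a → ∀ g ∈ pst G a u, ∀ h ∈ pst G a u, g * h = h * g := by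
    intro u hu g hg h hh
    obtain ⟨t, hta, htu⟩ := h2 a b a u hab (Ne.symm hu)
    have mg : t⁻¹ * g * t ∈ B := by
      rw [hB, ← pst_transport (g := t), show t * (t⁻¹ * g * t) * t⁻¹ = g by group, hta, htu]; exact hg
    have mh : t⁻¹ * h * t ∈ B := by
      rw [hB, ← pst_transport (g := t), show t * (t⁻¹ * h * t) * t⁻¹ = h by group, hta, htu]; exact hh
    have h1 := congrArg (fun z => t * z * t⁻¹) (hcomm _ mg _ mh)
    simpa [mul_assoc] using h1
  have hsmallx : ∀ u : Ω, u ≠ a → ∀ z : Ω, (orbit (pst G a u) z).ncard ≤ 2 := by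
    intro u hu z
    obtain ⟨t, hta, htu⟩ := h2 a b a u hab (Ne.symm hu)
    have : orbit (pst G a u) z = (fun w => t • w) '' orbit B (t⁻¹ • z) := by
      ext w
      constructor
      · rintro ⟨⟨g, hg⟩, rfl⟩
        have mg : t⁻¹ * g * t ∈ B := by
          rw [hB, ← pst_transport (g := t), show t * (t⁻¹ * g * t) * t⁻¹ = g by group, hta, htu]; exact hg
        exact ⟨_, smul_mem_orbit_line mg _, by simp [mul_smul, Subgroup.smul_def]⟩
      · rintro ⟨_, ⟨⟨g, hg⟩, rfl⟩, rfl⟩
        have mg : t * g * t⁻¹ ∈ pst G a u := by rw [← hta, ← htu]; exact pst_transport.2 hg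
        exact ⟨⟨_, mg⟩, by simp [mul_smul, Subgroup.smul_def]⟩
    rw [this, Set.ncard_image_of_injective _ (MulAction.injective t)]
    exact hsmall _
  -- intersections have index at most two
  have hidx : ∀ u v : Ω, u ≠ a → v ≠ a →
      Nat.card B ≤ 2 * Nat.card (pst G a u ⊓ pst G a v : Subgroup G) := by
    intro u v hu hv
    rw [← card_pst h2 hab (Ne.symm hu)]
    have e : (stabilizer (pst G a u) v).map (pst G a u).subtype = pst G a u ⊓ pst G a v := by
      ext g
      constructor
      · rintro ⟨⟨g, hg⟩, hgv, rfl⟩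
        exact ⟨hg, hg.1, hgv⟩
      · rintro ⟨hg, -, hgv⟩
        exact ⟨⟨g, hg⟩, hgv, rfl⟩
    rw [← e, Subgroup.card_map_of_injective (pst G a u).subtype_injective,
      ← Subgroup.card_mul_index (stabilizer (pst G a u) v), index_stabilizer, mul_comm 2]
    exact Nat.mul_le_mul_left _ (hsmallx u hu v)
  set I := B ⊓ pst G a x with hI
  by_cases hall : ∀ u : Ω, u ≠ a → I ≤ pst G a u
  · exfalso
    have hIbot : I = ⊥ := (Subgroup.eq_bot_iff_forall _).2 fun g hg =>
      eq_of_smul_eq_smul (α := Ω) fun z => by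
        rw [one_smul]
        by_cases hz : z = a
        · rw [hz]; exact hg.1.1
        · exact (hall z hz hg).2
    have h1 := hidx b x hab.symm hxa
    rw [← hB, ← hI, hIbot, Subgroup.card_bot] at h1
    omega
  push Not at hall
  obtain ⟨u, hu, hIu⟩ := hall
  have hne : pst G a x ≠ B := fun e => hx fun g hg => (e.symm ▸ hg : g ∈ pst G a x).2
  -- the two halves generate
  have gen : ∀ (P Q R : Subgroup G), Nat.card P = Nat.card B → P ≠ Q → Nat.card Q = Nat.card B →
      Nat.card B ≤ 2 * Nat.card (P ⊓ Q : Subgroup G) → Nat.card B ≤ 2 * Nat.card (P ⊓ R : Subgroup G) →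
      ¬ P ⊓ Q ≤ R → P ⊓ R ≤ Q → False := by
    intro P Q R hP hPQ hQ h1 h2' h3 h4
    have hlt : Nat.card (P ⊓ Q : Subgroup G) < Nat.card B := by
      rw [← hP]
      refine lt_of_le_of_ne (Nat.le_of_dvd Nat.card_pos (Subgroup.card_dvd_of_le inf_le_left)) fun e => hPQ ?_
      have h5 : P ⊓ Q = P := Subgroup.eq_of_le_of_card_ge inf_le_left e.ge
      exact Subgroup.eq_of_le_of_card_ge (inf_eq_left.1 h5) (hQ.trans hP.symm).le
    obtain ⟨k, hk⟩ := Subgroup.card_dvd_of_le (inf_le_left : P ⊓ Q ≤ P)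
    have hk2 : k = 2 := by
      rw [hP] at hk
      rw [hk] at h1 hlt
      rcases k with _ | _ | _ | k
      · simp at hlt
      · simp at hlt
      · rfl
      · exfalso
        have hpos : 0 < Nat.card (P ⊓ Q : Subgroup G) := Nat.card_pos
        nlinarith
    have h6 : P ⊓ R = P ⊓ Q := Subgroup.eq_of_le_of_card_ge (le_inf inf_le_left h4) (by
      rw [hP, hk2] at hk
      omega)
    exact h3 (h6.symm.le.trans inf_le_right)
  -- elements of the stabiliser commute with those of the conjugate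
  have hgen : ∀ (P Q : Ω), P ≠ a → Q ≠ a → ¬ pst G a P ⊓ pst G a Q ≤ pst G a u → pst G a P ≠ pst G a Q →
      ∀ h ∈ pst G a P, ∃ i ∈ pst G a P ⊓ pst G a Q, ∃ j ∈ pst G a P ⊓ pst G a u, h = i * j := by
    intro P Q hP hQ hn hPQ h hh
    set K := pst G a P ⊓ pst G a Q with hK
    set K' := pst G a P ⊓ pst G a u with hK'
    obtain ⟨j0, hj0, hj0n⟩ : ∃ j ∈ K', j ∉ K := by
      by_contra hcon
      push Not at hcon
      exact gen (pst G a P) (pst G a Q) (pst G a u) (card_pst h2 hab (Ne.symm hP)) hPQ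
        (card_pst h2 hab (Ne.symm hQ)) (hidx P Q hP hQ) (hidx P u hP hu) hn
        fun g hg => (hcon g hg).2
    by_cases hhK : h ∈ K
    · exact ⟨h, hhK, 1, one_mem _, (mul_one h).symm⟩
    refine ⟨h * j0⁻¹, ?_, j0, hj0, by group⟩
    have h1 := hidx P Q hP hQ
    rw [← card_pst h2 hab (Ne.symm hP), ← hK] at h1
    have hrel : (K.subgroupOf (pst G a P)).index = 2 := by
      have h2'' := Subgroup.card_mul_index (K.subgroupOf (pst G a P))
      rw [Nat.card_congr (Subgroup.subgroupOfEquivOfLe (inf_le_left : K ≤ pst G a P)).toEquiv] at h2''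
      have hne' : (K.subgroupOf (pst G a P)).index ≠ 1 := fun e =>
        hhK (Subgroup.relIndex_eq_one.1 e hh)
      have h0 : (K.subgroupOf (pst G a P)).index ≠ 0 := Subgroup.index_ne_zero_of_finite
      have hpos : 0 < Nat.card K := Nat.card_pos
      by_contra hcon
      have h3 : 3 ≤ (K.subgroupOf (pst G a P)).index := by omega
      have h4 := Nat.mul_le_mul_left (Nat.card K) h3
      have h5 : Nat.card K * (K.subgroupOf (pst G a P)).index = Nat.card (pst G a P) := h2''
      have h6 : Nat.card (pst G a P) ≤ 2 * Nat.card K := h1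
      omega
    have := (Subgroup.mul_mem_iff_of_index_two hrel (a := ⟨h, hh⟩) (b := ⟨j0⁻¹, inv_mem hj0.1⟩)).2 ?_
    · exact this
    · simp only [Subgroup.mem_subgroupOf]
      exact iff_of_false hhK fun hc => hj0n ((inv_mem_iff).1 hc)
  have hswap : ¬ pst G a x ⊓ pst G a b ≤ pst G a u := by rw [inf_comm]; exact hIu
  have hBx : ∀ g ∈ B, ∀ h ∈ pst G a x, g * h = h * g := by
    intro g hg h hh
    obtain ⟨i, hi, j, hj, rfl⟩ := hgen x b hxa hab.symm hswap hne h hh
    have hi' : g * i = i * g := hcomm g hg i hi.2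
    -- the second factor
    obtain ⟨i', hi'', j', hj', rfl⟩ := hgen b x hab.symm hxa hIu (Ne.symm hne) g hg
    have e1 : i' * j = j * i' := hcommx x hxa _ hi''.2 _ hj.1
    have e2 : j' * j = j * j' := hcommx u hu _ hj'.2 _ hj.2
    calc i' * j' * (i * j) = (i' * j' * i) * j := by group
      _ = i * i' * (j' * j) := by rw [hi']; group
      _ = i * (i' * j) * j' := by rw [e2]; group
      _ = i * j * (i' * j') := by rw [e1]; group
  intro g hg h hh
  rw [← mul_smul, ← hBx g hg h hh, mul_smul, hh.2]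

/-- small orbits only: the two point stabiliser has order two -/
theorem card_le_two (h2 : Two G Ω) (hab : a ≠ b) (hsmall : ∀ z : Ω, (orbit (pst G a b) z).ncard ≤ 2) :
    Nat.card (pst G a b) ≤ 2 := by
  classical
  by_contra hN
  set B := pst G a b with hB
  -- elementary abelian
  have hsq : ∀ g ∈ B, g * g = 1 := by
    intro g hg
    refine eq_of_smul_eq_smul (α := Ω) fun z => ?_
    rw [one_smul, mul_smul]
    by_cases h1 : g • z = z
    · rw [h1, h1]
    have hsub : ({z, g • z} : Set Ω) ⊆ orbit B z :=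
      Set.insert_subset (mem_orbit_self z) (Set.singleton_subset_iff.2 (smul_mem_orbit_line hg z))
    have he := Set.eq_of_subset_of_ncard_le hsub (by rw [Set.ncard_pair (Ne.symm h1)]; exact hsmall z) (Set.toFinite _)
    have h3 : g • (g • z) ∈ orbit B z := by
      rw [← mul_smul]; exact smul_mem_orbit_line (mul_mem hg hg) z
    rw [← he] at h3
    rcases h3 with h3 | h3
    · exact h3
    · exact absurd (MulAction.injective g h3) h1
  have hcomm : ∀ g ∈ B, ∀ h ∈ B, g * h = h * g := by
    intro g hg h hh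
    have e1 : g⁻¹ = g := inv_eq_of_mul_eq_one_right (hsq g hg)
    have e2 : h⁻¹ = h := inv_eq_of_mul_eq_one_right (hsq h hh)
    have e3 : (g * h)⁻¹ = g * h := inv_eq_of_mul_eq_one_right (hsq _ (mul_mem hg hh))
    rw [← e3, mul_inv_rev, e1, e2]
  -- every other point lies in a pair of lines forcing it to be fixed
  obtain ⟨x, hx⟩ : ∃ x, x ∉ line G a b := by
    by_contra hcon
    push Not at hcon
    refine hN ?_
    have : B = ⊥ := (Subgroup.eq_bot_iff_forall _).2 fun g hg =>
      eq_of_smul_eq_smul (α := Ω) fun z => by rw [one_smul]; exact hcon z g hg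
    rw [this, Subgroup.card_bot]
    norm_num
  have hcomm' : ∀ g ∈ pst G b a, ∀ h ∈ pst G b a, g * h = h * g := by rw [pst_comm]; exact hcomm
  have hsmall' : ∀ z : Ω, (orbit (pst G b a) z).ncard ≤ 2 := by rw [pst_comm]; exact hsmall
  have hN' : 2 < Nat.card (pst G b a) := by rw [pst_comm, ← hB]; omega
  have hx' : x ∉ line G b a := by simpa only [line, pst_comm b a] using hx
  refine hx fun g hg => ?_
  by_contra hne
  have h1 := preserves_line h2 hab hsmall hcomm (by rw [← hB]; omega) hx g hg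
  have h3 := preserves_line h2 hab.symm hsmall' hcomm' hN' hx' g (by rw [pst_comm]; exact hg)
  have hxa : x ≠ a := fun e => hx (e.symm ▸ left_mem_line a b)
  have hxb : x ≠ b := fun e => hx (e.symm ▸ right_mem_line a b)
  have e1 := line_eq_of_mem h2 (Ne.symm hxa) (Ne.symm hne) (right_mem_line a x) h1
  have e2 := line_eq_of_mem h2 (Ne.symm hxb) (Ne.symm hne) (right_mem_line b x) h3
  have hbL : b ∈ line G a x := by rw [← e1, e2]; exact left_mem_line b x
  have e3 := pst_eq_of_mem h2 (Ne.symm hxa) hab (left_mem_line a x) hbL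
  refine hx fun h hh => ?_
  have hh' : h ∈ pst G a x := by rw [← e3]; exact hh
  exact hh'.2

end Orbits

end CfsgLib.Perm.DerTwo
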