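import Cfsg.Agent.Lib.Perm.Trans.DerangementTwo

/-!
# The average over a two point stabiliser
-/

set_option autoImplicit false
set_option linter.all false

namespace CfsgLib.Perm.DerTwo

open MulAction

universe u v

variable {G : Type u} [Group G] {Ω : Type v} [MulAction G Ω] [Finite G] [Finite Ω] [FaithfulSMul G Ω]

omit [Finite G] [Finite Ω] [FaithfulSMul G Ω] in
theorem transitive_of_two (h2 : Two G Ω) : IsPretransitive G Ω :=
  haveI : IsMultiplyPretransitive G Ω 2 := is_two_pretransitive_iff.2 fun {a b c d} h h' => h2 a b c d h h'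
  isPretransitive_of_is_two_pretransitive

/-- there is no group of order 84 transitive on seven points -/
theorem not_seven (h2 : Two G Ω) {a b : Ω} (hab : a ≠ b) (h7 : Nat.card Ω = 7) :
    Nat.card (pst G a b) ≠ 2 := by
  classical
  intro hN
  haveI := Fintype.ofFinite Ω
  haveI := transitive_of_two h2
  -- the order of a point stabiliser
  have hGa : Nat.card (stabilizer G a) = 12 := by
    have h1 : (pst G a b).relIndex (stabilizer G a) = 6 := by
      have e : (pst G a b).subgroupOf (stabilizer G a) = stabilizer (stabilizer G a) b := by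
        ext g
        show ((g : G) ∈ pst G a b) ↔ g • b = b
        exact ⟨fun h => h.2, fun h => ⟨g.2, h⟩⟩
      rw [Subgroup.relIndex, e, index_stabilizer]
      have : orbit (stabilizer G a) b = {a}ᶜ := by
        ext z
        refine ⟨?_, fun hz => ?_⟩
        · rintro ⟨g, rfl⟩ hga
          exact hab (MulAction.injective (g : G) (g.2.trans (Set.mem_singleton_iff.1 hga).symm))
        · obtain ⟨g, hga, hgb⟩ := h2 a b a z hab (Ne.symm hz)
          exact ⟨⟨g, hga⟩, hgb⟩
      rw [this, Set.ncard_compl, Set.ncard_singleton, h7]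
    have h3 : pst G a b ≤ stabilizer G a := inf_le_left
    rw [← Subgroup.card_mul_index ((pst G a b).subgroupOf (stabilizer G a)),
      Nat.card_congr (Subgroup.subgroupOfEquivOfLe h3).toEquiv, hN]
    rw [show ((pst G a b).subgroupOf (stabilizer G a)).index = 6 from h1]
  have hG : Nat.card G = 84 := by
    rw [← Subgroup.card_mul_index (stabilizer G a), index_stabilizer_of_transitive, hGa, h7]
  haveI : Fact (Nat.Prime 7) := ⟨by norm_num⟩
  obtain ⟨P⟩ : Nonempty (Sylow 7 G) := inferInstance
  have hP : Nat.card (P : Subgroup G) = 7 := by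
    rw [Sylow.card_eq_multiplicity, hG, Nat.factorization_def _ (by norm_num : Nat.Prime 7)]
    haveI : Fact (Nat.Prime 7) := ⟨by norm_num⟩
    rw [show (84 : ℕ) = 7 * 12 from rfl, padicValNat.mul (by norm_num) (by norm_num), padicValNat.self (by norm_num),
      padicValNat.eq_zero_of_not_dvd (by norm_num)]
    norm_num
  have huniq : Nat.card (Sylow 7 G) = 1 := by
    have h1 : Nat.card (Sylow 7 G) ≡ 1 [MOD 7] := card_sylow_modEq_one 7 G
    have h3 := P.card_dvd_index
    have hidx : (P : Subgroup G).index = 12 := by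
      have := Subgroup.card_mul_index (P : Subgroup G)
      rw [hP, hG] at this
      omega
    rw [hidx] at h3
    have := Nat.le_of_dvd (by norm_num) h3
    rw [Nat.ModEq] at h1
    interval_cases hc : Nat.card (Sylow 7 G) <;> first | rfl | omega | (norm_num at h3; done)
  haveI : Subsingleton (Sylow 7 G) := (Nat.card_eq_one_iff_unique.1 huniq).1
  haveI hPn : (P : Subgroup G).Normal := Sylow.normal_of_subsingleton P
  -- transitive
  obtain ⟨x0, hx0⟩ := exists_prime_orderOf_dvd_card' (G := (P : Subgroup G)) 7 (by rw [hP])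
  have hx1 : (x0 : G) ≠ 1 := fun e => by
    rw [show x0 = 1 from Subtype.ext e, orderOf_one] at hx0
    norm_num at hx0
  have hfree : ∀ x ∈ (P : Subgroup G), x ≠ 1 → x • a ≠ a := by
    intro x hx hx1 hxa
    have h1 : orderOf x = 7 := (by norm_num : Nat.Prime 7).eq_one_or_self_of_dvd _
      (hP ▸ Subgroup.orderOf_dvd_natCard _ hx) |>.resolve_left fun e => hx1 (orderOf_eq_one_iff.1 e)
    have h3 := Subgroup.orderOf_dvd_natCard (stabilizer G a) hxa
    rw [h1, hGa] at h3
    norm_num at h3
  -- the stabiliser acts faithfully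
  have hinj : Function.Injective fun h : stabilizer G a =>
      (⟨(h : G) * (x0 : G) * (h : G)⁻¹, hPn.conj_mem _ x0.2 _, fun e => hx1 (by
        rwa [conj_eq_one_iff] at e)⟩ : {x : G // x ∈ (P : Subgroup G) ∧ x ≠ 1}) := by
    intro h k hk
    simp only [Subtype.mk.injEq] at hk
    set u := (k : G)⁻¹ * (h : G) with hu
    have hc : u * (x0 : G) = (x0 : G) * u := by
      have h5 := congrArg (fun z => (k : G)⁻¹ * z * (h : G)) hk
      simpa [hu, mul_assoc] using h5
    have hua : u • a = a := by
      rw [hu, mul_smul, show (h : G) • a = a from h.2, inv_smul_eq_iff, show (k : G) • a = a from k.2]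
    have hall : ∀ z : Ω, u • z = z := by
      have hzp : ∀ i : ℕ, u • ((x0 : G) ^ i • a) = (x0 : G) ^ i • a := fun i => by
        rw [← mul_smul, (Commute.pow_right hc i).eq, mul_smul, hua]
      have hbij : Function.Bijective fun i : Fin 7 => (x0 : G) ^ (i : ℕ) • a := by
        rw [Fintype.bijective_iff_injective_and_card]
        refine ⟨fun i j hij => ?_, by rw [Fintype.card_fin, ← Nat.card_eq_fintype_card, h7]⟩
        by_contra hne
        wlog hlt : i < j generalizing i j
        · exact this j i hij.symm (Ne.symm hne) (lt_of_le_of_ne (not_lt.1 hlt) (Ne.symm hne))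
        have h4 : ((x0 : G) ^ ((j : ℕ) - i)) • a = a := by
          have h5 : (x0 : G) ^ (i : ℕ) • ((x0 : G) ^ ((j : ℕ) - i) • a) = (x0 : G) ^ (i : ℕ) • a := by
            rw [← mul_smul, ← pow_add, Nat.add_sub_cancel' (le_of_lt (Fin.lt_def.1 hlt))]
            exact hij.symm
          exact MulAction.injective _ h5
        refine hfree _ (pow_mem x0.2 _) (fun e => ?_) h4
        have h5 := orderOf_dvd_of_pow_eq_one e
        rw [Subgroup.orderOf_coe, hx0] at h5
        have h6 := Nat.le_of_dvd (Nat.sub_pos_of_lt (Fin.lt_def.1 hlt)) h5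
        have := j.2
        omega
      intro z
      obtain ⟨i, rfl⟩ := hbij.2 z
      exact hzp _
    have hu1 : u = 1 := eq_of_smul_eq_smul (α := Ω) fun z => by rw [one_smul]; exact hall z
    rw [hu, inv_mul_eq_one] at hu1
    exact (Subtype.ext hu1).symm
  have h1 := Nat.card_le_card_of_injective _ hinj
  rw [hGa] at h1
  have h3 : Nat.card {x : G // x ∈ (P : Subgroup G) ∧ x ≠ 1} ≤ Nat.card (P : Subgroup G) :=
    Nat.card_le_card_of_injective (fun x => (⟨x.1, x.2.1⟩ : (P : Subgroup G)))
      fun x y e => Subtype.ext (congrArg (fun z : (P : Subgroup G) => (z : G)) e)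
  omega

/-- a three-cycle forces large orbits -/
theorem no_three_cycle (h2 : Two G Ω) {a b : Ω} (hab : a ≠ b) (hn : 7 ≤ Nat.card Ω) {x : G}
    (hsup : (fixedBy Ω x).ncard + 3 = Nat.card Ω) (hsmall : ∀ z : Ω, (orbit (pst G a b) z).ncard ≤ 3) : False := by
  classical
  haveI := Fintype.ofFinite Ω
  let H := (MulAction.toPermHom G Ω).range
  haveI : IsPreprimitive H Ω := by
    refine isPreprimitive_of_is_two_pretransitive (is_two_pretransitive_iff.2 fun {p q r s} hpq hrs => ?_)
    obtain ⟨g, h1, h3⟩ := h2 p q r s hpq hrs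
    exact ⟨⟨_, g, rfl⟩, h1, h3⟩
  have h3c : (MulAction.toPermHom G Ω x).IsThreeCycle := by
    rw [← card_support_eq_three_iff]
    have e : (MulAction.toPermHom G Ω x).support = (fixedBy Ω x).toFinsetᶜ := by
      ext z
      simp [Equiv.Perm.mem_support, mem_fixedBy]
    rw [e, Finset.card_compl, ← Set.ncard_eq_toFinset_card', ← Nat.card_eq_fintype_card]
    omega
  have halt := Equiv.Perm.alternatingGroup_le_of_isPreprimitive_of_isThreeCycle_mem ‹IsPreprimitive H Ω› h3c ⟨x, rfl⟩
  obtain ⟨c, hca, hcb⟩ : ∃ c, c ≠ a ∧ c ≠ b := by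
    by_contra hcon
    push Not at hcon
    have h1 : Fintype.card Ω ≤ ({a, b} : Finset Ω).card := Finset.card_le_card fun z _ => by
      by_cases hz : z = a
      · simp [hz]
      · simp [hcon z hz]
    have := Finset.card_le_two (a := a) (b := b)
    rw [Nat.card_eq_fintype_card] at hn
    omega
  have hsub : ({a, b} : Set Ω)ᶜ ⊆ orbit (pst G a b) c := by
    intro d hd
    simp only [Set.mem_compl_iff, Set.mem_insert_iff, Set.mem_singleton_iff, not_or] at hd
    by_cases hdc : d = c
    · rw [hdc]; exact mem_orbit_self c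
    obtain ⟨e, hea, heb, hec, hed⟩ : ∃ e, e ≠ a ∧ e ≠ b ∧ e ≠ c ∧ e ≠ d := by
      by_contra hcon
      push Not at hcon
      have h1 : Fintype.card Ω ≤ ({a, b, c, d} : Finset Ω).card := Finset.card_le_card fun z _ => by
        by_cases hz1 : z = a
        · simp [hz1]
        by_cases hz2 : z = b
        · simp [hz2]
        by_cases hz3 : z = c
        · simp [hz3]
        simp [hcon z hz1 hz2 hz3]
      have := Finset.card_le_four (a := a) (b := b) (c := c) (d := d)
      rw [Nat.card_eq_fintype_card] at hn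
      omega
    obtain ⟨g, hg⟩ := halt (show Equiv.swap c e * Equiv.swap c d ∈ alternatingGroup Ω by
      rw [Equiv.Perm.mem_alternatingGroup, map_mul, Equiv.Perm.sign_swap (Ne.symm hec), Equiv.Perm.sign_swap (Ne.symm hdc)]
      norm_num)
    have hgz : ∀ z, g • z = (Equiv.swap c e * Equiv.swap c d) z := fun z => by rw [← hg]; rfl
    refine ⟨⟨g, ?_, ?_⟩, ?_⟩
    · show g • a = a
      rw [hgz, Equiv.Perm.mul_apply, Equiv.swap_apply_of_ne_of_ne (Ne.symm hca) (Ne.symm hd.1),
        Equiv.swap_apply_of_ne_of_ne (Ne.symm hca) (Ne.symm hea)]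
    · show g • b = b
      rw [hgz, Equiv.Perm.mul_apply, Equiv.swap_apply_of_ne_of_ne (Ne.symm hcb) (Ne.symm hd.2),
        Equiv.swap_apply_of_ne_of_ne (Ne.symm hcb) (Ne.symm heb)]
    · show g • c = d
      rw [hgz, Equiv.Perm.mul_apply, Equiv.swap_apply_left, Equiv.swap_apply_of_ne_of_ne hdc (Ne.symm hed)]
  have h1 := Set.ncard_le_ncard hsub (Set.toFinite _)
  rw [Set.ncard_compl, Set.ncard_pair hab] at h1
  have := hsmall c
  omega

theorem jensen (s : Finset G) (f : G → ℕ) (hf : ∀ g ∈ s, 0 < f g) {n N O : ℕ} (hN : 2 ≤ N) (hs : s.card = N - 1)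
    (hsum : ∑ g ∈ s, f g + n = N * O) (hO : O * (2 * N - 1) ≤ n * N) :
    (N : ℚ) ≤ ∑ g ∈ s, ((n : ℚ) - f g) / f g := by
  obtain ⟨M, rfl⟩ : ∃ M, N = M + 1 := ⟨N - 1, by omega⟩
  simp only [Nat.add_sub_cancel] at hs
  rw [show 2 * (M + 1) - 1 = 2 * M + 1 by omega] at hO
  have hpos : ∀ g ∈ s, (0 : ℚ) < (f g : ℚ) := fun g hg => by exact_mod_cast hf g hg
  have h1 := Finset.sq_sum_div_le_sum_sq_div s (fun _ => (1 : ℚ)) hpos
  rw [Finset.sum_const, hs, nsmul_eq_mul, mul_one] at h1
  simp only [one_pow] at h1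
  have hne : s.Nonempty := Finset.card_pos.1 (by omega)
  have hS : (0 : ℚ) < ∑ g ∈ s, (f g : ℚ) := Finset.sum_pos hpos hne
  rw [div_le_iff₀ hS] at h1
  have h2 : ∑ g ∈ s, ((n : ℚ) - f g) / f g = n * ∑ g ∈ s, 1 / (f g : ℚ) - M := by
    rw [Finset.mul_sum, Finset.sum_congr rfl (g := fun g => (n : ℚ) * (1 / f g) - 1) fun g hg => by
      rw [sub_div, div_self (hpos g hg).ne', mul_one_div], Finset.sum_sub_distrib, Finset.sum_const, hs,
      nsmul_eq_mul, mul_one]
  have e1 : ∑ g ∈ s, (f g : ℚ) + n = (M + 1) * O := by exact_mod_cast hsum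
  have e2 : (O : ℚ) * (2 * M + 1) ≤ n * (M + 1) := by exact_mod_cast hO
  rw [h2]
  push_cast
  set T := ∑ g ∈ s, 1 / (f g : ℚ) with hT
  set S := ∑ g ∈ s, (f g : ℚ) with hSdef
  suffices hs' : (2 * (M : ℚ) + 1) ≤ n * T by linarith
  refine le_of_mul_le_mul_right ?_ hS
  have h3 : (n : ℚ) * (M : ℚ) ^ 2 ≤ n * (T * S) := mul_le_mul_of_nonneg_left h1 (Nat.cast_nonneg n)
  nlinarith [mul_le_mul_of_nonneg_left e2 (show (0 : ℚ) ≤ M + 1 by positivity)]

set_option maxHeartbeats 1000000 in
open scoped Classical in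
/-- the average is at least one -/
theorem two_point_sum [Fintype G] (h2 : Two G Ω) {a b : Ω} (hab : a ≠ b) (hn : 7 ≤ Nat.card Ω)
    (hN : 2 ≤ Nat.card (pst G a b)) :
    (Nat.card (pst G a b) : ℚ) ≤ ∑ g ∈ (Finset.univ.filter (· ∈ pst G a b)).erase 1,
      ((Nat.card Ω : ℚ) - (fixedBy Ω g).ncard) / (fixedBy Ω g).ncard := by
  classical
  haveI := Fintype.ofFinite Ω
  set B := pst G a b with hB
  set n := Nat.card Ω with hndef
  set N := Nat.card B with hNdef
  set s := (Finset.univ.filter (· ∈ pst G a b)).erase 1 with hsdef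
  set f : G → ℕ := fun g => (fixedBy Ω g).ncard with hfdef
  set φ := (line G a b).ncard with hφdef
  show (N : ℚ) ≤ ∑ g ∈ s, ((n : ℚ) - (f g : ℚ)) / (f g : ℚ)
  have hmem : ∀ g ∈ s, g ≠ 1 ∧ g ∈ B := fun g hg => by
    rw [hsdef, Finset.mem_erase, Finset.mem_filter] at hg
    exact ⟨hg.1, hg.2.2⟩
  have hpos : ∀ g ∈ s, 0 < f g := fun g hg => by
    rw [hfdef]
    exact (Set.ncard_pos (Set.toFinite _)).2 ⟨a, (hmem g hg).2.1⟩
  have hcardf : (Finset.univ.filter (· ∈ pst G a b)).card = N := by
    rw [hNdef, Nat.card_eq_fintype_card, ← Fintype.card_subtype]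
  have hs : s.card = N - 1 := by
    rw [hsdef, Finset.card_erase_of_mem (Finset.mem_filter.2 ⟨Finset.mem_univ _, one_mem _⟩), hcardf]
  have hφ2 : 2 ≤ φ := by
    rw [← Set.ncard_pair hab]
    exact Set.ncard_le_ncard (Set.insert_subset (left_mem_line a b) (Set.singleton_subset_iff.2 (right_mem_line a b)))
      (Set.toFinite _)
  have hbound : ∀ g ∈ s, f g * (φ - 1) ≤ n - 1 := fun g hg => fixed_mul_le h2 hab (hmem g hg).1
  have hge : ∀ (k : ℕ) (g : G), g ∈ s → k * f g ≤ n → ((k : ℚ) - 1) ≤ ((n : ℚ) - f g) / f g := fun k g hg hk => by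
    have h1 : (0 : ℚ) < f g := by exact_mod_cast hpos g hg
    rw [le_div_iff₀ h1]
    have : (k : ℚ) * f g ≤ n := by exact_mod_cast hk
    linarith
  have hs1 : (s.card : ℚ) = (N : ℚ) - 1 := by rw [hs, Nat.cast_sub (by omega), Nat.cast_one]
  have hN2 : (2 : ℚ) ≤ N := by exact_mod_cast hN
  -- large lines
  by_cases hφ4 : 4 ≤ φ
  · refine le_trans ?_ (Finset.card_nsmul_le_sum s _ 2 fun g hg => ?_)
    · rw [nsmul_eq_mul, hs1]
      linarith
    · have h1 := hbound g hg
      have h3 : f g * 3 ≤ f g * (φ - 1) := Nat.mul_le_mul_left _ (by omega)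
      have := hge 3 g hg (by omega)
      push_cast at this
      linarith
  -- orbit counting
  haveI : Fintype (orbitRel.Quotient B Ω) := Fintype.ofFinite _
  set O := Fintype.card (orbitRel.Quotient B Ω) with hOdef
  have hsum : ∑ g ∈ s, f g + n = N * O := by
    have h1 := sum_card_fixedBy_eq_card_orbits_mul_card_group B Ω
    have hone : f 1 = n := by rw [hfdef, hndef]; simp [fixedBy_one_eq_univ, Set.ncard_univ]
    have h3 : ∑ g ∈ s, f g + n = ∑ g ∈ Finset.univ.filter (· ∈ pst G a b), f g := by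
      rw [hsdef, ← hone, Finset.sum_erase_add _ _ (Finset.mem_filter.2 ⟨Finset.mem_univ _, one_mem _⟩)]
    rw [h3, Finset.sum_subtype (p := (· ∈ B)) _ (fun g => by simp [hB]) f, mul_comm]
    rw [hOdef, hNdef, Nat.card_eq_fintype_card]
    refine Eq.trans (Finset.sum_congr rfl fun g _ => ?_) h1
    rw [hfdef]
    simp only
    rw [← Nat.card_coe_set_eq, Nat.card_eq_fintype_card]
    rfl
  set w : orbitRel.Quotient B Ω → ℕ := fun q => (orbit B q.out).ncard with hwdef
  have hw : ∀ z : Ω, (orbit B z).ncard = w ⟦z⟧ := fun z => by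
    rw [hwdef]
    congr 1
    exact orbit_eq_iff.2 (orbitRel_apply.1 (Quotient.exact (Quotient.out_eq (⟦z⟧ : orbitRel.Quotient B Ω)).symm))
  have hwpos : ∀ q, 0 < w q := fun q => (Set.ncard_pos (Set.toFinite _)).2 ⟨_, mem_orbit_self _⟩
  have hwsum : ∑ q, w q = n := by
    rw [hndef, Nat.card_congr (selfEquivSigmaOrbits B Ω), Nat.card_sigma]
    exact Finset.sum_congr rfl fun q _ => (Nat.card_coe_set_eq _).symm
  have hw1 : (Finset.univ.filter fun q => w q = 1).card = φ := by
    rw [hφdef, Set.ncard_eq_toFinset_card']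
    symm
    refine Finset.card_bij (fun z _ => (⟦z⟧ : orbitRel.Quotient B Ω)) (fun z hz => ?_) (fun z hz z' hz' e => ?_)
      (fun q hq => ?_)
    · rw [Finset.mem_filter, ← hw, (mem_line_iff.1 (Set.mem_toFinset.1 hz) : orbit B z = {z}), Set.ncard_singleton]
      exact ⟨Finset.mem_univ _, rfl⟩
    · have h1 : z ∈ orbit B z' := orbitRel_apply.1 (Quotient.exact e)
      rw [(mem_line_iff.1 (Set.mem_toFinset.1 hz') : orbit B z' = {z'})] at h1
      exact h1
    · refine ⟨q.out, Set.mem_toFinset.2 (mem_line_iff.2 ?_), Quotient.out_eq q⟩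
      obtain ⟨y, hy⟩ := Set.ncard_eq_one.1 (Finset.mem_filter.1 hq).2
      have : q.out ∈ orbit B q.out := mem_orbit_self _
      rw [hy, Set.mem_singleton_iff] at this
      show orbit B q.out = {q.out}
      rw [hy, this]
  set σ := ∑ q, (w q - 2) with hσdef
  have hcount : 2 * O + σ = n + φ := by
    have h1 : ∀ q, 2 + (w q - 2) = w q + if w q = 1 then 1 else 0 := fun q => by
      have := hwpos q
      split_ifs <;> omega
    have h3 := Finset.sum_congr (s₁ := Finset.univ) rfl fun q _ => h1 q
    rw [Finset.sum_add_distrib, Finset.sum_add_distrib, Finset.sum_const, Finset.card_univ, ← hσdef, hwsum,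
      ← Finset.card_filter, hw1, smul_eq_mul] at h3
    rw [← hOdef] at h3
    omega
  have hjen : ∀ m, 2 * O ≤ m → (2 * N - 1) * m ≤ 2 * n * N → (N : ℚ) ≤ ∑ g ∈ s, ((n : ℚ) - (f g : ℚ)) / (f g : ℚ) := by
    intro m h1 h3
    refine jensen s f hpos hN hs hsum ?_
    have h4 := Nat.mul_le_mul_left (2 * N - 1) h1
    have h5 : (2 * N - 1) * (2 * O) = 2 * (O * (2 * N - 1)) := by ring
    have h6 : 2 * n * N = 2 * (n * N) := by ring
    omega
  by_cases hσ : 2 ≤ σ
  · rcases Nat.lt_or_ge φ 3 with h23 | h23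
    · refine hjen n (by omega) ?_
      calc (2 * N - 1) * n ≤ (2 * N) * n := Nat.mul_le_mul_right _ (Nat.sub_le _ _)
        _ = 2 * n * N := by ring
    · by_cases h2N : 2 * N ≤ n + 1
      · refine hjen (n + 1) (by omega) ?_
        obtain ⟨M, hM⟩ : ∃ M, N = M + 1 := ⟨N - 1, by omega⟩
        rw [hM, show 2 * (M + 1) - 1 = 2 * M + 1 by omega]
        nlinarith
      · have hterm : ∀ g ∈ s, ((n : ℚ) + 1) / ((n : ℚ) - 1) ≤ ((n : ℚ) - f g) / f g := by
          intro g hg
          have h1 : (0 : ℚ) < f g := by exact_mod_cast hpos g hg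
          have hn1 : (0 : ℚ) < (n : ℚ) - 1 := by
            have : (7 : ℚ) ≤ n := by exact_mod_cast hn
            linarith
          rw [div_le_div_iff₀ hn1 h1]
          have h3 : f g * 2 ≤ n - 1 := by
            have := hbound g hg
            rwa [show φ - 1 = 2 by omega] at this
          have h4 : (f g : ℚ) * 2 + 1 ≤ n := by exact_mod_cast (show f g * 2 + 1 ≤ n by omega)
          nlinarith
        refine le_trans ?_ (Finset.card_nsmul_le_sum s _ _ hterm)
        rw [nsmul_eq_mul, hs1]
        have hn1 : (0 : ℚ) < (n : ℚ) - 1 := by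
          have : (7 : ℚ) ≤ n := by exact_mod_cast hn
          linarith
        rw [mul_div_assoc', le_div_iff₀ hn1]
        have : (n : ℚ) + 2 ≤ 2 * N := by exact_mod_cast (show n + 2 ≤ 2 * N by omega)
        nlinarith
  have hsmall3 : ∀ z : Ω, (orbit B z).ncard ≤ 2 + σ := fun z => by
    rw [hw]
    have := Finset.single_le_sum (f := fun q => w q - 2) (fun q _ => Nat.zero_le _) (Finset.mem_univ (⟦z⟧ : orbitRel.Quotient B Ω))
    simp only [← hσdef] at this
    omega
  by_cases hσ1 : σ = 1
  · exfalso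
    obtain ⟨q, hq⟩ : ∃ q, 3 ≤ w q := by
      by_contra hcon
      push Not at hcon
      have : σ = 0 := Finset.sum_eq_zero fun q _ => by have := hcon q; omega
      omega
    have hq3 : w q = 3 := by
      have := hsmall3 q.out
      rw [hσ1] at this
      exact le_antisymm this hq
    have hothers : ∀ q', q' ≠ q → w q' ≤ 2 := by
      intro q' hne
      have h1 := Finset.add_le_sum (f := fun q => w q - 2) (fun q _ => Nat.zero_le _) (Finset.mem_univ q)
        (Finset.mem_univ q') (Ne.symm hne)
      simp only [← hσdef] at h1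
      omega
    haveI : Fact (Nat.Prime 3) := ⟨by norm_num⟩
    have h3 : 3 ∣ Nat.card B := by
      have h1 : (orbit B q.out).ncard ∣ Nat.card B := by
        rw [← index_stabilizer]; exact Subgroup.index_dvd_card _
      rwa [show (orbit B q.out).ncard = 3 from hq3] at h1
    obtain ⟨x, hx⟩ := exists_prime_orderOf_dvd_card' (G := B) 3 h3
    have hx3 : (x : G) ^ 3 = 1 := by
      rw [← Subgroup.coe_pow, ← hx, pow_orderOf_eq_one]; rfl
    have hx1 : (x : G) ≠ 1 := fun e => by
      rw [show x = 1 from Subtype.ext e, orderOf_one] at hx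
      norm_num at hx
    have hcube : ∀ z : Ω, (x : G) • ((x : G) • ((x : G) • z)) = z := fun z => by
      rw [← mul_smul, ← mul_smul, show (x : G) * x * x = x ^ 3 by rw [pow_succ, pow_two], hx3, one_smul]
    have hout : ∀ z : Ω, z ∉ orbit B q.out → (x : G) • z = z := by
      intro z hz
      by_contra hne
      have hsub : ({z, (x : G) • z} : Set Ω) ⊆ orbit B z :=
        Set.insert_subset (mem_orbit_self z) (Set.singleton_subset_iff.2 ⟨x, rfl⟩)
      have hle : (orbit B z).ncard ≤ 2 := by
        rw [hw]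
        refine hothers _ fun e => hz ?_
        refine orbitRel_apply.1 (Quotient.exact (?_ : (⟦z⟧ : orbitRel.Quotient B Ω) = ⟦q.out⟧))
        rw [e, Quotient.out_eq]
      have he := Set.eq_of_subset_of_ncard_le hsub (by rw [Set.ncard_pair (Ne.symm hne)]; exact hle) (Set.toFinite _)
      have h4 : (x : G) • ((x : G) • z) ∈ orbit B z := ⟨x * x, by simp [mul_smul, Subgroup.smul_def]⟩
      rw [← he] at h4
      rcases h4 with h4 | h4
      · have := hcube z
        rw [h4] at this
        exact hne this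
      · exact hne (MulAction.injective (x : G) h4)
    have hmoved : ∀ z ∈ orbit B q.out, (x : G) • z ≠ z := by
      intro z hz hfix
      refine hx1 (eq_of_smul_eq_smul (α := Ω) fun y => ?_)
      rw [one_smul]
      by_cases hy : y ∈ orbit B q.out
      · by_contra hne
        have hclosed : ∀ y ∈ orbit B q.out, (x : G) • y ∈ orbit B q.out := fun y hy => by
          obtain ⟨g, rfl⟩ := hy
          exact ⟨x * g, mul_smul _ _ _⟩
        have h5 : ({z, y, (x : G) • y, (x : G) • ((x : G) • y)} : Set Ω) ⊆ orbit B q.out :=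
          Set.insert_subset hz (Set.insert_subset hy (Set.insert_subset (hclosed y hy)
            (Set.singleton_subset_iff.2 (hclosed _ (hclosed y hy)))))
        have h6 := Set.ncard_le_ncard h5 (Set.toFinite _)
        rw [show (orbit B q.out).ncard = 3 from hq3] at h6
        have n1 : (x : G) • ((x : G) • y) ≠ y := fun e => hne (by
          have := hcube y
          rwa [e] at this)
        have n2 : z ≠ y := fun e => hne (e ▸ hfix)
        have n3 : z ≠ (x : G) • y := fun e => n2 (MulAction.injective (x : G) (hfix.trans e))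
        have n4 : z ≠ (x : G) • ((x : G) • y) := fun e => n3 (MulAction.injective (x : G) (hfix.trans e))
        have n5 : (x : G) • y ≠ (x : G) • ((x : G) • y) := fun e => hne (MulAction.injective (x : G) e).symm
        rw [Set.ncard_insert_of_notMem (by simp [n2, n3, n4]) (Set.toFinite _),
          Set.ncard_insert_of_notMem (by simp [Ne.symm hne, Ne.symm n1]) (Set.toFinite _),
          Set.ncard_pair n5] at h6
        omega
      · exact hout y hy
    have hfx : fixedBy Ω (x : G) = (orbit B q.out)ᶜ := by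
      ext z
      simp only [mem_fixedBy, Set.mem_compl_iff]
      exact ⟨fun h hz => hmoved z hz h, hout z⟩
    have hfc : (fixedBy Ω (x : G)).ncard + 3 = n := by
      rw [hfx, Set.ncard_compl, show (orbit B q.out).ncard = 3 from hq3]
      omega
    rcases Nat.lt_or_ge φ 3 with h23 | h23
    · exact no_three_cycle h2 hab hn hfc fun z => by have := hsmall3 z; rwa [hσ1] at this
    · have h1 := hbound x (by
        rw [hsdef, Finset.mem_erase, Finset.mem_filter]
        exact ⟨hx1, Finset.mem_univ _, x.2⟩)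
      rw [show φ - 1 = 2 by omega] at h1
      rw [hfdef] at h1
      simp only at h1
      omega
  -- all orbits small
  have hσ0 : σ = 0 := by omega
  have hsmall2 : ∀ z : Ω, (orbit B z).ncard ≤ 2 := fun z => by have := hsmall3 z; omega
  have hN2' : N = 2 := le_antisymm (card_le_two h2 hab hsmall2) hN
  have h1 : ∀ g ∈ s, f g = φ := by
    intro g hg
    rw [hfdef, hφdef]
    refine congrArg Set.ncard (Set.ext fun z => ⟨fun hz h hh => ?_, fun hz => hz g (hmem g hg).2⟩)
    by_cases hh1 : h = 1
    · rw [hh1, one_smul]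
    · have hc : s.card = 1 := by omega
      obtain ⟨t, ht⟩ := Finset.card_eq_one.1 hc
      have e1 : g = t := Finset.mem_singleton.1 (ht ▸ hg)
      have e2 : h = t := Finset.mem_singleton.1 (ht ▸ (by
        rw [hsdef, Finset.mem_erase, Finset.mem_filter]; exact ⟨hh1, Finset.mem_univ _, hh⟩))
      rw [e2, ← e1]
      exact hz
  rw [Finset.sum_congr rfl fun g hg => by rw [h1 g hg], Finset.sum_const, nsmul_eq_mul, hs1, hN2']
  have hpar : 2 * O = n + φ := by omega
  have hbig : 3 * φ ≤ n := by
    by_contra hlt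
    have hn7 : n = 7 := by omega
    exact not_seven h2 hab hn7 hN2'
  have hφq : (0 : ℚ) < φ := by exact_mod_cast (show 0 < φ by omega)
  norm_num
  rw [le_div_iff₀ hφq]
  have : (3 : ℚ) * φ ≤ n := by exact_mod_cast hbig
  linarith

end CfsgLib.Perm.DerTwo
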