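import Cfsg.Agent.Lib.Perm.Trans.QuadDecompPairs

/-!
# Stabilisers of orthogonal decompositions are maximal in `Ω`
-/

set_option autoImplicit false
set_option linter.all false

namespace CfsgLib.Perm.Trans.Quad

open scoped Matrix
open Matrix Cfsg.Geo CfsgLib.Perm.Asch CfsgLib.Perm.Trans

variable {ι : Type} [Fintype ι] [DecidableEq ι] {F : Type*} [Field F] [Fintype F]
variable {Q : (ι → F) → F}

local notation "pol" => QuadraticMap.polar

omit [Fintype F] [DecidableEq ι] in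
theorem mdecomposition_card {t m : ℕ} {D : Fin t → Submodule F (ι → F)} (hD : IsMDecomposition m D) :
    t * m = Fintype.card ι := by
  classical
  have hint : DirectSum.IsInternal D :=
    DirectSum.isInternal_submodule_of_iSupIndep_of_iSup_eq_top hD.indep hD.iSup_eq_top
  let bs : (i : Fin t) → Module.Basis (Fin m) F (D i) := fun i => Module.finBasisOfFinrankEq F (D i) (hD.finrank_eq i)
  have h := Module.finrank_eq_card_basis (hint.collectedBasis bs)
  rw [Module.finrank_fintype_fun_eq_card] at h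
  simpa using h.symm

variable (hQ : IsNondegenerateQuadraticForm Q) {t k : ℕ} {D : Fin t → Submodule F (ι → F)}
  (hD : IsOrthogonalMDecomposition Q k D)
include hQ hD

/-- an isometry between two members extends to an isometry exchanging them and fixing their common orthogonal -/
theorem exists_swap_iso {a b : Fin t} (hab : a ≠ b) (e : D a ≃ₗ[F] D b) (he : ∀ u, Q (e u : ι → F) = Q (u : ι → F)) :
    ∃ h ∈ Cfsg.isometryGroup F Q, (∀ l, ∀ u ∈ D l, (h : Matrix ι ι F) *ᵥ u ∈ D (Equiv.swap a b l)) ∧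
      (∀ u (hu : u ∈ D a), (h : Matrix ι ι F) *ᵥ u = (e ⟨u, hu⟩ : ι → F)) ∧
      (∀ u (hu : u ∈ D b), (h : Matrix ι ι F) *ᵥ u = (e.symm ⟨u, hu⟩ : ι → F)) ∧
      ∀ y, qcomp hQ hD.decomp a y = 0 → qcomp hQ hD.decomp b y = 0 → (h : Matrix ι ι F) *ᵥ y = y := by
  have hd := hD.decomp
  obtain ⟨B, hBQ, hB⟩ := exists_bundled hQ
  subst hBQ
  let ea : (ι → F) →ₗ[F] (ι → F) :=
    { toFun := fun x => (e ⟨qcomp hQ hd a x, qcomp_mem hQ hd a x⟩ : ι → F)
      map_add' := fun x y => by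
        rw [← Submodule.coe_add, ← map_add]
        exact congrArg (fun z => (e z : ι → F)) (Subtype.ext (qcomp_add hQ hd a x y))
      map_smul' := fun c x => by
        rw [RingHom.id_apply, ← Submodule.coe_smul, ← map_smul]
        exact congrArg (fun z => (e z : ι → F)) (Subtype.ext (qcomp_smul hQ hd a c x)) }
  let eb : (ι → F) →ₗ[F] (ι → F) :=
    { toFun := fun x => (e.symm ⟨qcomp hQ hd b x, qcomp_mem hQ hd b x⟩ : ι → F)
      map_add' := fun x y => by
        rw [← Submodule.coe_add, ← map_add]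
        exact congrArg (fun z => (e.symm z : ι → F)) (Subtype.ext (qcomp_add hQ hd b x y))
      map_smul' := fun c x => by
        rw [RingHom.id_apply, ← Submodule.coe_smul, ← map_smul]
        exact congrArg (fun z => (e.symm z : ι → F)) (Subtype.ext (qcomp_smul hQ hd b c x)) }
  let ca : (ι → F) →ₗ[F] (ι → F) :=
    { toFun := qcomp hQ hd a, map_add' := qcomp_add hQ hd a, map_smul' := fun c x => qcomp_smul hQ hd a c x }
  let cb : (ι → F) →ₗ[F] (ι → F) :=
    { toFun := qcomp hQ hd b, map_add' := qcomp_add hQ hd b, map_smul' := fun c x => qcomp_smul hQ hd b c x }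
  let T : (ι → F) →ₗ[F] (ι → F) := LinearMap.id - ca - cb + ea + eb
  have hT : ∀ x, T x = (x - qcomp hQ hd a x - qcomp hQ hd b x) + ea x + eb x := fun x => rfl
  have hea : ∀ x, ea x ∈ D b := fun x => (e ⟨qcomp hQ hd a x, qcomp_mem hQ hd a x⟩).2
  have heb : ∀ x, eb x ∈ D a := fun x => (e.symm ⟨qcomp hQ hd b x, qcomp_mem hQ hd b x⟩).2
  have hsum : ∀ r ∈ qperp hQ (D a) ⊓ qperp hQ (D b), ∀ p ∈ D a, ∀ q ∈ D b, B (r + p + q) = B r + B p + B q := by
    intro r hr p hp q hq
    rw [qadd hQ, qadd hQ, padd_left hQ, hr.2 q hq, hd.orthogonal a b hab p hp q hq, hr.1 p hp]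
    ring
  obtain ⟨g, hgi, hgT⟩ := Witt.exists_equiv B T (fun x => by
    have hr : x - qcomp hQ hd a x - qcomp hQ hd b x ∈ qperp hQ (D a) ⊓ qperp hQ (D b) := by
      refine ⟨(qperp hQ (D a)).sub_mem (qcomp_perp hQ hd a x)
        (mem_qperp_other hQ hd hab.symm (qcomp_mem hQ hd b x)), ?_⟩
      rw [show x - qcomp hQ hd a x - qcomp hQ hd b x = (x - qcomp hQ hd b x) - qcomp hQ hd a x by abel]
      exact (qperp hQ (D b)).sub_mem (qcomp_perp hQ hd b x) (mem_qperp_other hQ hd hab (qcomp_mem hQ hd a x))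
    rw [hT, add_assoc, add_comm (ea x), ← add_assoc, hsum _ hr _ (heb x) _ (hea x)]
    conv_rhs => rw [show x = (x - qcomp hQ hd a x - qcomp hQ hd b x) + qcomp hQ hd a x + qcomp hQ hd b x by abel,
      hsum _ hr _ (qcomp_mem hQ hd a x) _ (qcomp_mem hQ hd b x)]
    have h1 : B (ea x) = B (qcomp hQ hd a x) := he _
    have h2 : B (eb x) = B (qcomp hQ hd b x) := by
      have := he (e.symm ⟨qcomp hQ hd b x, qcomp_mem hQ hd b x⟩)
      rw [LinearEquiv.apply_symm_apply] at this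
      exact this.symm
    rw [h1, h2]
    ring) hB
  obtain ⟨h, hh, hhg⟩ := exists_iso_of_equiv (Q := ⇑B) g hgi
  have hmaps : ∀ l, ∀ u ∈ D l, (h : Matrix ι ι F) *ᵥ u ∈ D (Equiv.swap a b l) := by
    intro l u hu
    rw [hhg, hgT, hT]
    rcases eq_or_ne l a with rfl | hla
    · have : eb u = 0 := by
        show (e.symm ⟨qcomp hQ hd b u, qcomp_mem hQ hd b u⟩ : ι → F) = 0
        rw [show (⟨qcomp hQ hd b u, qcomp_mem hQ hd b u⟩ : D b) = 0 from Subtype.ext (qcomp_other hQ hd hab hu),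
          map_zero, Submodule.coe_zero]
      rw [qcomp_self hQ hd hu, qcomp_other hQ hd hab hu, sub_self, sub_zero, zero_add, this, add_zero,
        Equiv.swap_apply_left]
      exact hea u
    have hca := qcomp_other hQ hd hla hu
    have hea0 : ea u = 0 := by
      show (e ⟨qcomp hQ hd a u, qcomp_mem hQ hd a u⟩ : ι → F) = 0
      rw [show (⟨qcomp hQ hd a u, qcomp_mem hQ hd a u⟩ : D a) = 0 from Subtype.ext hca, map_zero, Submodule.coe_zero]
    rcases eq_or_ne l b with rfl | hlb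
    · rw [hca, qcomp_self hQ hd hu, sub_zero, sub_self, zero_add, hea0, zero_add, Equiv.swap_apply_right]
      exact heb u
    have : eb u = 0 := by
      show (e.symm ⟨qcomp hQ hd b u, qcomp_mem hQ hd b u⟩ : ι → F) = 0
      rw [show (⟨qcomp hQ hd b u, qcomp_mem hQ hd b u⟩ : D b) = 0 from Subtype.ext (qcomp_other hQ hd hlb hu),
        map_zero, Submodule.coe_zero]
    rw [hca, qcomp_other hQ hd hlb hu, sub_zero, sub_zero, hea0, this, add_zero, add_zero,
      Equiv.swap_apply_of_ne_of_ne hla hlb]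
    exact hu
  refine ⟨h, hh, hmaps, fun u hu => ?_, fun u hu => ?_, fun y ha hb => ?_⟩
  · have h1 : eb u = 0 := by
      show (e.symm ⟨qcomp hQ hd b u, qcomp_mem hQ hd b u⟩ : ι → F) = 0
      rw [show (⟨qcomp hQ hd b u, qcomp_mem hQ hd b u⟩ : D b) = 0 from Subtype.ext (qcomp_other hQ hd hab hu),
        map_zero, Submodule.coe_zero]
    have h2 : ea u = (e ⟨u, hu⟩ : ι → F) :=
      congrArg (fun z => (e z : ι → F)) (Subtype.ext (qcomp_self hQ hd hu))
    rw [hhg, hgT, hT, h1, h2, qcomp_self hQ hd hu, qcomp_other hQ hd hab hu, sub_self, sub_zero, zero_add, add_zero]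
  · have h1 : ea u = 0 := by
      show (e ⟨qcomp hQ hd a u, qcomp_mem hQ hd a u⟩ : ι → F) = 0
      rw [show (⟨qcomp hQ hd a u, qcomp_mem hQ hd a u⟩ : D a) = 0 from Subtype.ext (qcomp_other hQ hd hab.symm hu),
        map_zero, Submodule.coe_zero]
    have h2 : eb u = (e.symm ⟨u, hu⟩ : ι → F) :=
      congrArg (fun z => (e.symm z : ι → F)) (Subtype.ext (qcomp_self hQ hd hu))
    rw [hhg, hgT, hT, h1, h2, qcomp_self hQ hd hu, qcomp_other hQ hd hab.symm hu, sub_zero, sub_self, zero_add,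
      zero_add]
  · have h1 : eb y = 0 := by
      show (e.symm ⟨qcomp hQ hd b y, qcomp_mem hQ hd b y⟩ : ι → F) = 0
      rw [show (⟨qcomp hQ hd b y, qcomp_mem hQ hd b y⟩ : D b) = 0 from Subtype.ext hb, map_zero, Submodule.coe_zero]
    have h2 : ea y = 0 := by
      show (e ⟨qcomp hQ hd a y, qcomp_mem hQ hd a y⟩ : ι → F) = 0
      rw [show (⟨qcomp hQ hd a y, qcomp_mem hQ hd a y⟩ : D a) = 0 from Subtype.ext ha, map_zero, Submodule.coe_zero]
    rw [hhg, hgT, hT, h1, h2, ha, hb, sub_zero, sub_zero, add_zero, add_zero]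

/-- two members are exchanged inside the stabiliser -/
theorem exists_dec_swap (hn : 5 ≤ Fintype.card ι) (hk : 2 ≤ k) (a b : Fin t) :
    ∃ s ∈ decompositionStabilizer D ⊓ omegaGL Q,
      ∀ l, ∀ u ∈ D l, (s : Matrix ι ι F) *ᵥ u ∈ D (Equiv.swap a b l) := by
  have hd := hD.decomp
  rcases eq_or_ne a b with rfl | hab
  · refine ⟨1, one_mem _, fun l u hu => ?_⟩
    rw [Equiv.swap_self, Units.val_one, one_mulVec]
    exact hu
  obtain ⟨e, he⟩ := hD.isometric a b
  obtain ⟨h, hh, hmaps, -, -, -⟩ := exists_swap_iso hQ hD hab e he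
  obtain ⟨G₀, hG₀⟩ : ∃ G₀ : Subgroup (GL ι F), ∀ g : GL ι F, g ∈ G₀ ↔ ∀ j, g ∈ subspaceStabilizer (D j) :=
    ⟨⨅ j, subspaceStabilizer (D j), fun g => Subgroup.mem_iInf⟩
  obtain ⟨s, hsG, -, hsΩ⟩ := exists_omega_mul hQ hn G₀ (fun c hc => by
    obtain ⟨w, hw, hQw⟩ := exists_value_two hQ (hd.nondegenerate a) (by rw [hd.decomp.finrank_eq]; exact hk) c
    obtain ⟨r, hr, hrw⟩ := exists_refl hQ (v := w) (by rw [hQw]; exact hc)
    exact ⟨w, r, hQw, hr, (hG₀ r).2 fun j => mem_stab_of_maps (refl_maps hQ hd hw hrw j), hrw⟩) hh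
  have hall : ∀ l, ∀ u ∈ D l, ((s * h : GL ι F) : Matrix ι ι F) *ᵥ u ∈ D (Equiv.swap a b l) := fun l u hu => by
    rw [gl_mul_mulVec]
    exact (mem_subspaceStabilizer_iff.1 ((hG₀ s).1 hsG _) _).1 (hmaps l u hu)
  exact ⟨s * h, ⟨dec_of_maps hQ hd fun l => ⟨_, hall l⟩, hsΩ⟩, hall⟩

/-- an isometry sending the vectors of one value to components preserves the decomposition -/
theorem dec_of_values (hk : 3 ≤ k) (hk3q : k = 3 → 5 ≤ Fintype.card F)
    (h2s : Fintype.card F = 2 → k = 4 → ∀ i, ¬ IsPlusTypeOn Q (D i)) {g : GL ι F}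
    (hg : g ∈ Cfsg.isometryGroup F Q) {c : F} (hc : c ≠ 0)
    (h : ∀ j, ∀ v ∈ D j, Q v = c → ∃ l, (g : Matrix ι ι F) *ᵥ v ∈ D l) : g ∈ decompositionStabilizer D := by
  have hd := hD.decomp
  refine dec_of_maps hQ hd fun i => ?_
  have hdim : Module.finrank F (D i) = k := hd.decomp.finrank_eq i
  obtain ⟨v₀, hv₀, hQv₀⟩ := exists_qvalue hQ (hd.nondegenerate i) (by omega) c
  obtain ⟨l₀, hl₀⟩ := h i v₀ hv₀ hQv₀
  have hnear : ∀ v ∈ D i, ∀ w ∈ D i, Q v = c → Q w = c → ∀ l, (g : Matrix ι ι F) *ᵥ v ∈ D l →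
      pol Q v w ≠ 0 → (g : Matrix ι ι F) *ᵥ w ∈ D l := by
    intro v hv w hw hQv hQw l hl hvw
    obtain ⟨l', hl'⟩ := h i w hw hQw
    rcases eq_or_ne l l' with rfl | hne
    · exact hl'
    · exact absurd (by rw [← iso_pol hg, hd.orthogonal l l' hne _ hl _ hl']) hvw
  refine ⟨l₀, fun x hx => ?_⟩
  refine le_of_value_mem hQ (P := D i) (S := (D l₀).comap (Matrix.mulVecLin (g : Matrix ι ι F)))
    (hd.nondegenerate i) (by omega) c (fun v hv hQv => ?_) hx
  show (g : Matrix ι ι F) *ᵥ v ∈ D l₀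
  by_cases hsp : v ∈ Submodule.span F {v₀}
  · obtain ⟨s, rfl⟩ := Submodule.mem_span_singleton.1 hsp
    rw [mulVec_smul]
    exact (D l₀).smul_mem _ hl₀
  by_cases hvv : pol Q v₀ v = 0
  swap
  · exact hnear v₀ hv₀ v hv hQv₀ hQv l₀ hl₀ hvv
  obtain ⟨y, hy, hQy, hyv₀, hyv⟩ := exists_connect hQ (hd.nondegenerate i) (by omega) (fun h3 => by
      by_contra h4
      have := hk3q (by omega)
      omega) (fun hq hd4 => h2s hq (by omega) i) hc hv₀ hv hQv₀ hQv hvv hsp
  exact hnear y hy v hv hQy hQv l₀ (hnear v₀ hv₀ y hy hQv₀ hQy l₀ hl₀ (by rw [pcomm]; exact hyv₀)) hyv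

/-- stabilisers of orthogonal decompositions are maximal -/
theorem orth_decomp_maximal (hn : 5 ≤ Fintype.card ι) (hk : 3 ≤ k) (hk3q : k = 3 → 5 ≤ Fintype.card F)
    (h2s : Fintype.card F = 2 → k = 4 → ∀ i, ¬ IsPlusTypeOn Q (D i)) :
    IsMaximalIn (omegaGL Q) (decompositionStabilizer D ⊓ omegaGL Q) := by
  classical
  have hd := hD.decomp
  have hdim : ∀ l, Module.finrank F (D l) = k := hd.decomp.finrank_eq
  refine ⟨lt_of_le_of_ne inf_le_right fun heq => ?_, fun M hHM hMΩ => ?_⟩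
  · let i0 : Fin t := ⟨0, by have := hd.decomp.two_le; omega⟩
    let i1 : Fin t := ⟨1, by have := hd.decomp.two_le; omega⟩
    have h01 : i0 ≠ i1 := by simp [i0, i1]
    obtain ⟨v, hv, hQv⟩ := exists_qvalue hQ (hd.nondegenerate i0) (by rw [hdim]; exact hk) 1
    obtain ⟨a, ha, ha0, hQa⟩ := exists_qsingular hQ (hd.nondegenerate i0) (by rw [hdim]; exact hk)
    obtain ⟨b, hb, hQb⟩ := exists_qvalue hQ (hd.nondegenerate i1) (by rw [hdim]; exact hk) 1
    have hQab : Q (a + b) = 1 := by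
      rw [qadd hQ, hQa, hQb, hd.orthogonal i0 i1 h01 a ha b hb]; ring
    obtain ⟨g, hg, hgv⟩ := exists_move_value hQ hn (v := v) (w := a + b) (by rw [hQv]; exact one_ne_zero)
      (hQv.trans hQab.symm)
    have hgH : g ∈ decompositionStabilizer D := by
      have : g ∈ decompositionStabilizer D ⊓ omegaGL Q := by rw [heq]; exact eGroup_le_omega hQ hn hg
      exact this.1
    obtain ⟨l, hl⟩ := mem_dec_maps hd hgH i0
    have h1 := hl v hv
    rw [hgv] at h1
    have hb0 : b ≠ 0 := fun h => by rw [h, qzero hQ] at hQb; exact zero_ne_one hQb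
    by_cases hl0 : l = i0
    · refine hb0 ?_
      have := qcomp_other hQ hd (hl0 ▸ h01 : l ≠ i1) h1
      rwa [qcomp_add, qcomp_other hQ hd h01 ha, qcomp_self hQ hd hb, zero_add] at this
    · refine ha0 ?_
      have := qcomp_other hQ hd hl0 h1
      rwa [qcomp_add, qcomp_self hQ hd ha, qcomp_other hQ hd h01.symm hb, add_zero] at this
  by_cases hMD : M ≤ decompositionStabilizer D
  · exact Or.inl (le_antisymm (le_inf hMD hMΩ) hHM)
  refine Or.inr (le_antisymm hMΩ ?_)
  have hM : M ≤ Cfsg.isometryGroup F Q := hMΩ.trans omegaGL_le_iso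
  -- an outside element preserving one class finishes the proof
  have hfinish : ∀ e ∈ M, e ∉ decompositionStabilizer D → ∀ l, ∀ w₀ ∈ D l, Q w₀ ≠ 0 →
      ∀ l', (e : Matrix ι ι F) *ᵥ w₀ ∈ D l' → omegaGL Q ≤ M := by
    intro e he hne l w₀ hw₀ hQw₀ l' hl'
    have hex : ∃ j, ∃ v ∈ D j, Q v = Q w₀ ∧ ∀ l, (e : Matrix ι ι F) *ᵥ v ∉ D l := by
      by_contra hcon
      push Not at hcon
      exact hne (dec_of_values hQ hD hk hk3q h2s (hM he) hQw₀ hcon)
    obtain ⟨j, v, hv, hQv, hvne⟩ := hex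
    have hex' : (e : Matrix ι ι F) *ᵥ v ∈ rclass Q D M (Q w₀) :=
      rclass_conj hQ hd hn hM hHM hQw₀ he hw₀ rfl
        (comp_mem_rclass hQ hd hn hM hHM hl' hQw₀ (mem_iso.1 (hM he) w₀))
        (comp_mem_rclass hQ hd hn hM hHM hv hQw₀ hQv)
    have hperm : ∀ a b : Fin t, ∃ s ∈ M, ∀ l, ∀ u ∈ D l, (s : Matrix ι ι F) *ᵥ u ∈ D (Equiv.swap a b l) :=
      fun a b => by
      obtain ⟨s, hs, hsD⟩ := exists_dec_swap hQ hD hn (by omega) a b
      exact ⟨s, hHM hs, hsD⟩
    exact omega_le_of_value hQ hn hQw₀ fun p q hp hq => rclass_rel hQ hd hn hM hHM hQw₀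
      (rclass_all hQ hd hn hM hHM hk hk3q hperm hQw₀ hex' hvne hp)
      (rclass_all hQ hd hn hM hHM hk hk3q hperm hQw₀ hex' hvne hq)
  obtain ⟨g, hg, hgD⟩ := SetLike.not_le_iff_exists.1 hMD
  -- a vector fixed by an outside element
  have hfixed : ∀ e ∈ M, e ∉ decompositionStabilizer D → ∀ l, ∀ z ∈ D l, z ≠ 0 →
      (e : Matrix ι ι F) *ᵥ z = z → omegaGL Q ≤ M := by
    intro e he hne l z hz hz0 hez
    by_cases hQz : Q z = 0
    swap
    · exact hfinish e he hne l z hz hQz l (by rw [hez]; exact hz)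
    obtain ⟨p, hp, hQp, hpz⟩ := exists_nonsingular_perp hQ (hd.nondegenerate l) (by rw [hdim]; exact hk) hz
    by_cases hep : (e : Matrix ι ι F) *ᵥ p ∈ D l
    · exact hfinish e he hne l p hp hQp l hep
    obtain ⟨a', ha'⟩ : ∃ a', a' = (e : Matrix ι ι F) *ᵥ p + -p := ⟨_, rfl⟩
    have hzp : pol Q z p = 0 := by rw [pcomm]; exact hpz
    have hzep : pol Q z ((e : Matrix ι ι F) *ᵥ p) = 0 := by
      conv_lhs => rw [← hez, iso_pol (hM he)]
      exact hzp
    have hzn : pol Q z (-p) = 0 := by rw [pneg_right hQ, hzp, neg_zero]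
    have hzE : ∀ b ∈ D l, pol Q z b = 0 → EIn Q M z b := by
      intro b hb hzb
      obtain ⟨f, hf, hfE⟩ := ein_omega hQ hn hQz hzb
      refine ⟨f, hHM ⟨dec_of_maps hQ hd fun j => ⟨j, fun x hx => ?_⟩, hf⟩, hfE⟩
      rw [hfE]
      rcases eq_or_ne j l with rfl | hjl
      · exact (D j).sub_mem ((D j).sub_mem ((D j).add_mem hx ((D j).smul_mem _ hb)) ((D j).smul_mem _ hz))
          ((D j).smul_mem _ hz)
      · rw [hd.orthogonal j l hjl x hx z hz, hd.orthogonal j l hjl x hx b hb]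
        simpa using hx
    have h1 := EIn.conj (k := e) (hzE p hp hzp) (hM he) he
    rw [hez] at h1
    obtain ⟨f, hf, hfE⟩ := EIn.add hQ hQz hzep hzn h1 (hzE (-p) ((D l).neg_mem hp) hzn)
    rw [← ha'] at hfE
    have ha'l : a' ∉ D l := fun h => hep (by
      have := (D l).add_mem h hp
      rwa [ha', neg_add_cancel_right] at this)
    obtain ⟨m, hml, hm⟩ : ∃ m, m ≠ l ∧ qcomp hQ hd m a' ≠ 0 := by
      by_contra hcon
      push Not at hcon
      refine ha'l ?_
      have : a' = qcomp hQ hd l a' := qext_comp hQ hd fun j => by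
        rcases eq_or_ne j l with rfl | hj
        · rw [qcomp_self hQ hd (qcomp_mem hQ hd j a')]
        · rw [hcon j hj, qcomp_other hQ hd hj.symm (qcomp_mem hQ hd l a')]
      rw [this]
      exact qcomp_mem hQ hd l a'
    obtain ⟨z', hz', hQz', hz'a⟩ := exists_nonsingular_perp hQ (hd.nondegenerate m) (by rw [hdim]; exact hk)
      (qcomp_mem hQ hd m a')
    have hfz' : (f : Matrix ι ι F) *ᵥ z' = z' := by
      rw [hfE, hd.orthogonal m l hml z' hz' z hz, show pol Q z' a' = 0 from by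
        rw [pcomm, qcomp_pol hQ hd hz', pcomm]; exact hz'a]
      simp
    refine hfinish f hf (fun hfD => ?_) m z' hz' hQz' m (by rw [hfz']; exact hz')
    obtain ⟨j, hj⟩ := mem_dec_maps hd hfD m
    have hjm : j = m := qcomp_disjoint hQ hd (hfz' ▸ hj z' hz') hz' (fun h => hQz' (by rw [h]; exact qzero hQ))
    obtain ⟨x, hx, hxa⟩ := ((hd.nondegenerate m) _ (qcomp_mem hQ hd m a') hm).2
    have h3 := hj x hx
    rw [hfE, hd.orthogonal m l hml x hx z hz, hjm] at h3
    simp only [zero_smul, add_zero, mul_zero, sub_zero] at h3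
    rw [(D m).sub_mem_iff_right hx, (D m).smul_mem_iff (by rw [pcomm, qcomp_pol hQ hd hx]; exact hxa)] at h3
    exact hml (qcomp_disjoint hQ hd h3 hz hz0)
  by_cases hA : ∃ i, ∃ v ∈ D i, ∃ w ∈ D i, Q v = 1 ∧ Q w = 1 ∧ ∃ r s, r ∈ Cfsg.isometryGroup F Q ∧
      s ∈ Cfsg.isometryGroup F Q ∧ IsRefl Q ((g : Matrix ι ι F) *ᵥ v) r ∧ IsRefl Q ((g : Matrix ι ι F) *ᵥ w) s ∧
        r * s ∈ M ∧ r * s ∉ decompositionStabilizer D
  · obtain ⟨i, v, hv, w, hw, -, -, r, s, -, -, hrv, hsw, hrsM, hrsD⟩ := hA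
    let l : Fin t := ⟨0, by have := hd.decomp.two_le; omega⟩
    obtain ⟨z, hz, hz0⟩ := Submodule.exists_mem_ne_zero_of_ne_bot
      (p := D l ⊓ LinearMap.ker (pfl hQ ((g : Matrix ι ι F) *ᵥ v)) ⊓ LinearMap.ker (pfl hQ ((g : Matrix ι ι F) *ᵥ w)))
      (fun h => by
        have h1 := finrank_inf_pfl hQ (D l) ((g : Matrix ι ι F) *ᵥ v)
        have h2 := finrank_inf_pfl hQ (D l ⊓ LinearMap.ker (pfl hQ ((g : Matrix ι ι F) *ᵥ v)))
          ((g : Matrix ι ι F) *ᵥ w)
        rw [h, finrank_bot] at h2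
        rw [hdim] at h1
        omega)
    refine hfixed _ hrsM hrsD l z hz.1.1 hz0 ?_
    rw [gl_mul_mulVec, refl_fix hQ hsw hz.2, refl_fix hQ hrv hz.1.2]
  exfalso
  push Not at hA
  refine hgD (dec_of_values hQ hD hk hk3q h2s (hM hg) one_ne_zero fun i v hv hQv => ?_)
  obtain ⟨a, hadef⟩ : ∃ a, a = (g : Matrix ι ι F) *ᵥ v := ⟨_, rfl⟩
  rw [← hadef]
  have ha0 : a ≠ 0 := fun h => by
    have : v = 0 := gl_mulVec_eq_zero.1 (hadef.symm.trans h)
    rw [this, qzero hQ] at hQv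
    exact zero_ne_one hQv
  have hQa : Q a = 1 := by rw [hadef, mem_iso.1 (hM hg), hQv]
  obtain ⟨l, hl⟩ := exists_qcomp_ne hQ hd ha0
  by_cases hsingle : ∀ m, m ≠ l → qcomp hQ hd m a = 0
  · refine ⟨l, ?_⟩
    have : a = qcomp hQ hd l a := qext_comp hQ hd fun j => by
      rcases eq_or_ne j l with rfl | hj
      · rw [qcomp_self hQ hd (qcomp_mem hQ hd j a)]
      · rw [hsingle j hj, qcomp_other hQ hd hj.symm (qcomp_mem hQ hd l a)]
    rw [this]
    exact qcomp_mem hQ hd l a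
  exfalso
  push Not at hsingle
  obtain ⟨m, hml, hm⟩ := hsingle
  obtain ⟨al, hal⟩ : ∃ al, al = qcomp hQ hd l a := ⟨_, rfl⟩
  obtain ⟨am, ham⟩ : ∃ am, am = qcomp hQ hd m a := ⟨_, rfl⟩
  have key : ∀ w ∈ D i, Q w = 1 → (g : Matrix ι ι F) *ᵥ w ∉ Submodule.span F {a} →
      (g : Matrix ι ι F) *ᵥ w ∈ Submodule.span F ({al, am} : Set (ι → F)) ∧
        a ∈ Submodule.span F ({al, am} : Set (ι → F)) := by
    intro w hw hQw hind
    obtain ⟨b, hbdef⟩ : ∃ b, b = (g : Matrix ι ι F) *ᵥ w := ⟨_, rfl⟩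
    rw [← hbdef] at hind ⊢
    have hrel := (comp_rel hQ hd hn hM hHM hv hw (by rw [hQv]; exact one_ne_zero) (hQv.trans hQw.symm)).conj
      (hM hg) hg
    obtain ⟨r, hr, s, hs, hra, hsb, hrs⟩ := hrel
    have hrsD := hA i v hv w hw hQv hQw r s hr hs hra hsb hrs
    rw [← hadef] at hra
    rw [← hbdef] at hsb
    have hQb : Q b = 1 := by rw [hbdef, mem_iso.1 (hM hg), hQw]
    have hplane : ∀ j, qcomp hQ hd j a ≠ 0 → ∃ d ∈ D j, d ≠ 0 ∧ d ∈ Submodule.span F ({a, b} : Set (ι → F)) := by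
      intro j hja
      obtain ⟨j', hj'⟩ := mem_dec_maps hd hrsD j
      obtain ⟨z, hz, hz0⟩ := Submodule.exists_mem_ne_zero_of_ne_bot
        (p := D j ⊓ LinearMap.ker (pfl hQ a) ⊓ LinearMap.ker (pfl hQ b))
        (fun h => by
          have h1 := finrank_inf_pfl hQ (D j) a
          have h2 := finrank_inf_pfl hQ (D j ⊓ LinearMap.ker (pfl hQ a)) b
          rw [h, finrank_bot] at h2
          rw [hdim] at h1
          omega)
      have hzfix : ((r * s : GL ι F) : Matrix ι ι F) *ᵥ z = z := by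
        rw [gl_mul_mulVec, refl_fix hQ hsb hz.2, refl_fix hQ hra hz.1.2]
      have hjj : j' = j := qcomp_disjoint hQ hd (hzfix ▸ hj' z hz.1.1) hz.1.1 hz0
      obtain ⟨x, hx, hxa⟩ := ((hd.nondegenerate j) _ (qcomp_mem hQ hd j a) hja).2
      have hxa' : pol Q x a ≠ 0 := by rw [pcomm, qcomp_pol hQ hd hx]; exact hxa
      refine ⟨((r * s : GL ι F) : Matrix ι ι F) *ᵥ x - x, (D j).sub_mem (hjj ▸ hj' x hx) hx, fun h => ?_, ?_⟩
      · rw [gl_mul_mulVec, hsb, hra, hQa, hQb, inv_one, one_mul, one_mul, psub_left hQ, psmul_left hQ] at h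
        have h' : (pol Q x a - pol Q x b * pol Q b a) • a + pol Q x b • b = 0 := by
          linear_combination (norm := module) -h
        by_cases hxb : pol Q x b = 0
        · rw [hxb, zero_mul, sub_zero, zero_smul, add_zero, smul_eq_zero] at h'
          exact hxa' (h'.resolve_right ha0)
        · refine hind ((Submodule.smul_mem_iff _ hxb).1 ?_)
          rw [eq_neg_of_add_eq_zero_right h']
          exact Submodule.neg_mem _ (Submodule.smul_mem _ _ (Submodule.mem_span_singleton_self a))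
      · rw [gl_mul_mulVec, hsb, hra, hQa, hQb, inv_one, one_mul, one_mul, psub_left hQ, psmul_left hQ,
          Submodule.mem_span_pair]
        exact ⟨-(pol Q x a - pol Q x b * pol Q b a), -pol Q x b, by module⟩
    obtain ⟨dl, hdl, hdl0, hdls⟩ := hplane l hl
    obtain ⟨dm, hdm, hdm0, hdms⟩ := hplane m hm
    have hspan : Submodule.span F ({dl, dm} : Set (ι → F)) = Submodule.span F ({a, b} : Set (ι → F)) := by
      refine Submodule.eq_of_le_of_finrank_le (Submodule.span_le.2 (by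
        rintro x (rfl | rfl)
        exacts [hdls, hdms])) ?_
      have hli : LinearIndependent F ![dl, dm] := LinearIndependent.pair_iff.2 fun s₁ s₂ hst => by
        have e1 := congrArg (qcomp hQ hd l) hst
        have e2 := congrArg (qcomp hQ hd m) hst
        rw [qcomp_add, qcomp_smul, qcomp_smul, qcomp_self hQ hd hdl, qcomp_other hQ hd hml hdm, smul_zero, add_zero,
          qcomp_zero, smul_eq_zero] at e1
        rw [qcomp_add, qcomp_smul, qcomp_smul, qcomp_self hQ hd hdm, qcomp_other hQ hd hml.symm hdl, smul_zero,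
          zero_add, qcomp_zero, smul_eq_zero] at e2
        exact ⟨e1.resolve_right hdl0, e2.resolve_right hdm0⟩
      have h1 := finrank_span_eq_card hli
      rw [Fintype.card_fin, Matrix.range_cons, Matrix.range_cons, Matrix.range_empty, Set.union_empty,
        Set.singleton_union] at h1
      rw [h1, ← show (↑({a, b} : Finset (ι → F)) : Set (ι → F)) = {a, b} by simp]
      exact (finrank_span_finset_le_card _).trans Finset.card_le_two
    have ha2 : a ∈ Submodule.span F ({dl, dm} : Set (ι → F)) := hspan ▸ Submodule.subset_span (Or.inl rfl)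
    have hb2 : b ∈ Submodule.span F ({dl, dm} : Set (ι → F)) := hspan ▸ Submodule.subset_span (Or.inr rfl)
    obtain ⟨γ, ε, hγ⟩ := Submodule.mem_span_pair.1 ha2
    have hal' : al = γ • dl := by
      rw [hal, ← hγ, qcomp_add, qcomp_smul, qcomp_smul, qcomp_self hQ hd hdl, qcomp_other hQ hd hml hdm, smul_zero,
        add_zero]
    have ham' : am = ε • dm := by
      rw [ham, ← hγ, qcomp_add, qcomp_smul, qcomp_smul, qcomp_self hQ hd hdm, qcomp_other hQ hd hml.symm hdl,
        smul_zero, zero_add]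
    have hγ0 : γ ≠ 0 := fun h => hl (by rw [← hal, hal', h, zero_smul])
    have hε0 : ε ≠ 0 := fun h => hm (by rw [← ham, ham', h, zero_smul])
    have hle : Submodule.span F ({dl, dm} : Set (ι → F)) ≤ Submodule.span F ({al, am} : Set (ι → F)) :=
      Submodule.span_le.2 (by
        rintro x (rfl | rfl)
        · exact (Submodule.smul_mem_iff _ hγ0).1 (hal' ▸ Submodule.subset_span (Or.inl rfl))
        · exact (Submodule.smul_mem_iff _ hε0).1 (ham' ▸ Submodule.subset_span (Or.inr rfl)))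
    exact ⟨hle hb2, hle ha2⟩
  have hinj : Function.Injective (Matrix.mulVecLin (g : Matrix ι ι F)) := fun x y hxy => by
    have := congrArg (fun z => ((g⁻¹ : GL ι F) : Matrix ι ι F) *ᵥ z) hxy
    simpa [gl_inv_mulVec] using this
  obtain ⟨w₁, hw₁, hQw₁, hw₁a⟩ : ∃ w ∈ D i, Q w = 1 ∧ (g : Matrix ι ι F) *ᵥ w ∉ Submodule.span F {a} := by
    by_contra hcon
    push Not at hcon
    have h1 : (D i).map (Matrix.mulVecLin (g : Matrix ι ι F)) ≤ Submodule.span F {a} := by
      rintro _ ⟨x, hx, rfl⟩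
      exact le_of_value_mem hQ (P := D i)
        (S := (Submodule.span F {a}).comap (Matrix.mulVecLin (g : Matrix ι ι F))) (hd.nondegenerate i)
        (by rw [hdim]; exact hk) 1 hcon hx
    have h2 := Submodule.finrank_mono h1
    rw [← (Submodule.equivMapOfInjective _ hinj _).finrank_eq, finrank_span_singleton ha0, hdim] at h2
    omega
  have haS := (key w₁ hw₁ hQw₁ hw₁a).2
  have h1 : (D i).map (Matrix.mulVecLin (g : Matrix ι ι F)) ≤ Submodule.span F ({al, am} : Set (ι → F)) := by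
    rintro _ ⟨x, hx, rfl⟩
    refine le_of_value_mem hQ (P := D i)
      (S := (Submodule.span F ({al, am} : Set (ι → F))).comap (Matrix.mulVecLin (g : Matrix ι ι F)))
      (hd.nondegenerate i) (by rw [hdim]; exact hk) 1 (fun w hw hQw => ?_) hx
    show (g : Matrix ι ι F) *ᵥ w ∈ Submodule.span F ({al, am} : Set (ι → F))
    by_cases hwa : (g : Matrix ι ι F) *ᵥ w ∈ Submodule.span F {a}
    · exact (Submodule.span_singleton_le_iff_mem _ _).2 haS hwa
    · exact (key w hw hQw hwa).1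
  have h2 := Submodule.finrank_mono h1
  rw [← (Submodule.equivMapOfInjective _ hinj _).finrank_eq, hdim] at h2
  have h3 : Module.finrank F (Submodule.span F ({al, am} : Set (ι → F))) ≤ 2 := by
    rw [← show (↑({al, am} : Finset (ι → F)) : Set (ι → F)) = {al, am} by simp]
    exact (finrank_span_finset_le_card _).trans Finset.card_le_two
  omega

end CfsgLib.Perm.Trans.Quad
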