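import Cfsg.Agent.Lib.Perm.Trans.QuadPlane
import Cfsg.Agent.Lib.Perm.Trans.QuadDecompMax

/-!
# Decompositions into planes: a class leaving the members gives all of `Ω`
-/

set_option autoImplicit false
set_option linter.all false

namespace CfsgLib.Perm.Trans.Quad

open scoped Matrix
open Matrix Cfsg.Geo CfsgLib.Perm.Asch CfsgLib.Perm.Trans

variable {ι : Type} [Fintype ι] [DecidableEq ι] {F : Type*} [Field F] [Fintype F]
variable {Q : (ι → F) → F}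

local notation "pol" => QuadraticMap.polar

variable (hQ : IsNondegenerateQuadraticForm Q)
include hQ

omit [Fintype F] in
/-- reflections of orthogonal vectors commute -/
theorem refl_comm {a b : ι → F} (h : pol Q a b = 0) {r s : GL ι F} (hr : IsRefl Q a r) (hs : IsRefl Q b s) :
    r * s = s * r := gl_ext_vec fun x => by
  rw [gl_mul_mulVec, gl_mul_mulVec, hs, hr, hr, hs]
  simp only [psub_left hQ, psmul_left hQ, h, pcomm b a, mul_zero, sub_zero]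
  abel

theorem refl_pair_omega' (hn : 5 ≤ Fintype.card ι) {a b : ι → F} (ha : Q a ≠ 0) (hb : Q b ≠ 0)
    (h : IsSquare (Q b / Q a)) {r s : GL ι F} (hr : r ∈ Cfsg.isometryGroup F Q) (hs : s ∈ Cfsg.isometryGroup F Q)
    (hra : IsRefl Q a r) (hsb : IsRefl Q b s) : r * s ∈ omegaGL Q := by
  obtain ⟨d, hd⟩ := h
  have hd0 : d ≠ 0 := fun h => div_ne_zero hb ha (by rw [hd, h, mul_zero])
  have hval : Q (d • a) = Q b := by
    rw [qsmul hQ, sq, ← hd, div_mul_cancel₀ _ ha]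
  exact refl_pair_omega hQ hn (a := d • a) (b := b) (by rw [hval]; exact hb) hval hr hs (hra.smul hQ hd0) hsb

omit [Fintype F] in
theorem IsE.smul_left {u a : ι → F} {g : GL ι F} {c : F} (hg : IsE Q (c • u) a g) (hc : c ≠ 0) :
    IsE Q u (c • a) g := fun x => by
  rw [hg, qsmul hQ, psmul_right hQ, psmul_right hQ]
  match_scalars <;> ring

omit [Fintype F] in
theorem EIn.neg {M : Subgroup (GL ι F)} {u a : ι → F} (hu : Q u = 0) (ha : pol Q u a = 0) (h : EIn Q M u a) :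
    EIn Q M u (-a) := by
  obtain ⟨g, hg, hgE⟩ := h
  obtain ⟨k, -, hkE⟩ := exists_E hQ hu (a := -a) (by rw [pneg_right hQ, ha, neg_zero])
  refine ⟨k, ?_, hkE⟩
  have h1 := IsE.mul hQ hu ha (by rw [pneg_right hQ, ha, neg_zero]) hgE hkE
  rw [add_neg_cancel, ← zero_smul F u] at h1
  rw [← inv_eq_of_mul_eq_one_right (h1.unique (IsE.one hQ hu 0))]
  exact inv_mem hg

theorem ein_zero (M : Subgroup (GL ι F)) {u : ι → F} (hu : Q u = 0) : EIn Q M u 0 := by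
  have := EIn.smul_self hQ M hu 0
  rwa [zero_smul] at this

omit [Fintype F] in
/-- two reflections of one class give an Eichler transformation -/
theorem ein_of_rrel {M : Subgroup (GL ι F)} {u a : ι → F} {c : F} (hc : c ≠ 0) (hu : Q u = 0) (hua : pol Q u a = 0)
    (hQa : Q a = c) (h : RRel Q M a (a + c • u)) : EIn Q M u a := by
  have hau : pol Q a u = 0 := by rw [pcomm, hua]
  have hQb : Q (a + c • u) = c := by
    rw [qadd hQ, qsmul hQ, hu, psmul_right hQ, hau, hQa]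
    ring
  obtain ⟨r, -, s, -, hra, hsb, hm⟩ := h
  refine ⟨r * s, hm, fun x => ?_⟩
  rw [gl_mul_mulVec, hra, hsb, hQb, hQa]
  simp only [psub_left hQ, psmul_left hQ, padd_left hQ, padd_right hQ, psmul_right hQ, pself hQ a, hua, hQa]
  match_scalars <;> field_simp <;> ring

omit [Fintype F] in
/-- two orthogonal reflections of opposite values translate by a singular vector -/
theorem refl_pair_move {x a a' : ι → F} {b : F} (hxa : pol Q x a = 1) (hxa' : pol Q x a' = 1)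
    (haa' : pol Q a a' = 0) (hQa : Q a = b) (hQa' : Q a' = -b) {r s : GL ι F} (hr : IsRefl Q a r)
    (hs : IsRefl Q a' s) :
    ((r * s : GL ι F) : Matrix ι ι F) *ᵥ x = x + b⁻¹ • (a' - a) := by
  rw [gl_mul_mulVec, hs, hr]
  simp only [psub_left hQ, psmul_left hQ, pcomm a' a, haa', hxa, hxa', hQa, hQa', inv_neg, mul_one, mul_zero, sub_zero]
  module

/-- as `exists_valSet_ne`, avoiding two values -/
theorem exists_valSet_ne2 {P : Submodule F (ι → F)} (hP : NdOn Q P) (hd : Module.finrank F P = 2) (hok : PlaneOK Q P)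
    {x : ι → F} (hx : x ∈ P) (hx0 : x ≠ 0) (d d' : F) (h2 : (2 : F) = 0 → d = 0 ∧ d' = 0) :
    ∃ v ∈ valSet Q P x, v ≠ 0 ∧ v ≠ d ∧ v ≠ d' := by
  by_contra hcon
  push Not at hcon
  have h5 := hok.1
  have h6 := Fintype.one_lt_card (α := F)
  have h3 : valSet Q P x \ {0} ⊆ {d, d'} := fun v hv => by
    by_cases h : v = d
    · exact Or.inl h
    · exact Or.inr (hcon v hv.1 (fun h' => hv.2 (by rw [h']; rfl)) h)
  have h4 := Set.ncard_le_ncard h3 (Set.toFinite _)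
  have h7 := (Set.ncard_insert_le d ({d'} : Set F)).trans (by rw [Set.ncard_singleton])
  rcases valSet_nonzero_card hQ hP hd hx hx0 with ⟨h1, hiso⟩ | ⟨h1, hiso⟩
  · rw [Nat.card_coe_set_eq] at h1
    have hF : Fintype.card F = 2 ∨ Fintype.card F = 4 := by omega
    have h20 : (2 : F) = 0 := by
      have h8 := FiniteField.cast_card_eq_zero F
      rcases hF with h | h <;> rw [h] at h8
      · simpa using h8
      · push_cast at h8
        exact mul_self_eq_zero.1 (show (2 : F) * 2 = 0 by linear_combination h8)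
    obtain ⟨rfl, rfl⟩ := h2 h20
    have h9 : valSet Q P x \ {0} = ∅ := Set.eq_empty_iff_forall_notMem.2 fun v hv => hv.2 (by
      rcases h3 hv with h | h <;> exact h)
    rw [h9, Set.ncard_empty] at h1
    omega
  · rw [Nat.card_coe_set_eq] at h1
    have := hok.2 hiso
    omega

/-- a reflection moves a vector off its line and off its orthogonal -/
theorem exists_refl_shift {P : Submodule F (ι → F)} (hP : NdOn Q P) (hd : Module.finrank F P = 2) (hok : PlaneOK Q P)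
    {x : ι → F} (hx : x ∈ P) (hx0 : x ≠ 0) :
    ∃ a ∈ P, Q a ≠ 0 ∧ ∀ r : GL ι F, IsRefl Q a r → pol Q ((r : Matrix ι ι F) *ᵥ x) x ≠ 0 ∧
      (r : Matrix ι ι F) *ᵥ x ∉ Submodule.span F {x} := by
  obtain ⟨v, ⟨a, ha, hxa, hQa⟩, hv0, hv1, hv2⟩ := exists_valSet_ne2 hQ hP hd hok hx hx0
    (2 * Q x)⁻¹ ((2 * Q x)⁻¹ ^ 2 * Q x) (fun h2 => by rw [h2]; simp)
  refine ⟨a, ha, by rw [hQa]; exact hv0, fun r hr => ?_⟩
  have hrx : (r : Matrix ι ι F) *ᵥ x = x - v⁻¹ • a := by rw [hr, hxa, hQa, mul_one]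
  rw [hrx]
  refine ⟨fun h => ?_, fun h => ?_⟩
  · rw [psub_left hQ, psmul_left hQ, pself hQ, pcomm a x, hxa, mul_one, sub_eq_zero] at h
    exact hv1 (by rw [h, inv_inv])
  · rw [Submodule.sub_mem_iff_right _ (Submodule.mem_span_singleton_self x),
      Submodule.smul_mem_iff _ (inv_ne_zero hv0)] at h
    obtain ⟨m, rfl⟩ := Submodule.mem_span_singleton.1 h
    rw [psmul_right hQ, pself hQ] at hxa
    exact hv2 (by rw [← hQa, qsmul hQ, eq_inv_of_mul_eq_one_left hxa])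

omit [Fintype F] in
/-- isometric planes have one discriminant -/
theorem plane_gram {P P' : Submodule F (ι → F)} (h2 : (2 : F) ≠ 0) (hd' : Module.finrank F P' = 2)
    (e : P ≃ₗ[F] P') (he : ∀ x, Q (e x : ι → F) = Q (x : ι → F)) {a z a' z' : ι → F} (ha : a ∈ P) (hz : z ∈ P)
    (ha' : a' ∈ P') (hz' : z' ∈ P') (haz : pol Q a z = 0) (haz' : pol Q a' z' = 0) (hQa' : Q a' ≠ 0)
    (hQz' : Q z' ≠ 0) : IsSquare (Q a * Q z * (Q a' * Q z')) := by
  have hli : LinearIndependent F ![a', z'] := LinearIndependent.pair_iff.2 fun s₁ s₂ hst => by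
    have e1 := congrArg (fun w => pol Q w a') hst
    have e2 := congrArg (fun w => pol Q w z') hst
    simp only [padd_left hQ, psmul_left hQ, pself hQ, pcomm z' a', haz', pzero_left hQ, mul_zero, add_zero,
      zero_add, mul_eq_zero, h2, hQa', hQz', false_or, or_false] at e1 e2
    exact ⟨e1, e2⟩
  have hspan : Submodule.span F ({a', z'} : Set (ι → F)) = P' := by
    refine Submodule.eq_of_le_of_finrank_le (Submodule.span_le.2 (by rintro w (rfl | rfl); exacts [ha', hz'])) ?_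
    have h1 := finrank_span_eq_card hli
    rw [Fintype.card_fin, Matrix.range_cons, Matrix.range_cons, Matrix.range_empty, Set.union_empty,
      Set.singleton_union] at h1
    rw [h1, hd']
  obtain ⟨α, β, hea⟩ := Submodule.mem_span_pair.1 (hspan.ge (e ⟨a, ha⟩).2)
  obtain ⟨γ, δ, hez⟩ := Submodule.mem_span_pair.1 (hspan.ge (e ⟨z, hz⟩).2)
  have hA := he ⟨a, ha⟩
  have hZ := he ⟨z, hz⟩
  have hAZ := he (⟨a, ha⟩ + ⟨z, hz⟩)
  rw [map_add, Submodule.coe_add, qadd hQ, hA, hZ, Submodule.coe_add, qadd hQ, haz, ← hea, ← hez] at hAZ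
  rw [← hea] at hA
  rw [← hez] at hZ
  simp only [qadd hQ, qsmul hQ, padd_left hQ, padd_right hQ, psmul_left hQ, psmul_right hQ, pself hQ,
    pcomm z' a', haz'] at hA hZ hAZ
  refine ⟨Q a' * Q z' * (α * δ - β * γ), ?_⟩
  rw [← hA, ← hZ]
  have h0 : α * γ * Q a' + β * δ * Q z' = 0 := mul_left_cancel₀ h2 (by linear_combination hAZ)
  linear_combination Q a' * Q z' * (α * γ * Q a' + β * δ * Q z') * h0

variable {t : ℕ} {D : Fin t → Submodule F (ι → F)}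

omit [Fintype F] hQ in
theorem type_iff (hD : IsOrthogonalMDecomposition Q 2 D) (i j : Fin t) :
    (∃ e ∈ D i, e ≠ 0 ∧ Q e = 0) ↔ ∃ e ∈ D j, e ≠ 0 ∧ Q e = 0 := by
  have key : ∀ i j, (∃ e ∈ D i, e ≠ 0 ∧ Q e = 0) → ∃ e ∈ D j, e ≠ 0 ∧ Q e = 0 := by
    rintro i j ⟨u, hu, hu0, hQu⟩
    obtain ⟨e, he⟩ := hD.isometric i j
    refine ⟨e ⟨u, hu⟩, (e ⟨u, hu⟩).2, fun h => hu0 ?_, by rw [he]; exact hQu⟩
    have h1 : e ⟨u, hu⟩ = 0 := Subtype.ext h
    exact congrArg Subtype.val (e.map_eq_zero_iff.1 h1)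
  exact ⟨key i j, key j i⟩

variable (hD : IsOrthogonalMDecomposition Q 2 D) (hn : 5 ≤ Fintype.card ι)
include hD hn

/-- lifting to the stabiliser, compensating inside one member -/
theorem exists_fix_lift (p : Fin t) {h : GL ι F} (hh : h ∈ Cfsg.isometryGroup F Q)
    (hhD : h ∈ decompositionStabilizer D) :
    ∃ s ∈ decompositionStabilizer D ⊓ omegaGL Q,
      ∀ y, qcomp hQ hD.decomp p ((h : Matrix ι ι F) *ᵥ y) = 0 → (s : Matrix ι ι F) *ᵥ y = (h : Matrix ι ι F) *ᵥ y := by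
  obtain ⟨G₀, hG₀⟩ : ∃ G₀ : Subgroup (GL ι F), ∀ g : GL ι F, g ∈ G₀ ↔
      g ∈ decompositionStabilizer D ∧ ∀ y, qcomp hQ hD.decomp p y = 0 → (g : Matrix ι ι F) *ᵥ y = y :=
    ⟨{ carrier := {g | g ∈ decompositionStabilizer D ∧
          ∀ y, qcomp hQ hD.decomp p y = 0 → (g : Matrix ι ι F) *ᵥ y = y}
       one_mem' := ⟨one_mem _, fun y _ => by rw [Units.val_one, one_mulVec]⟩
       mul_mem' := fun {g g'} hg hg' => ⟨mul_mem hg.1 hg'.1, fun y hy => by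
        rw [gl_mul_mulVec, hg'.2 y hy, hg.2 y hy]⟩
       inv_mem' := fun {g} hg => ⟨inv_mem hg.1, fun y hy => by
        conv_lhs => rw [← hg.2 y hy, gl_inv_mulVec]⟩ }, fun g => Iff.rfl⟩
  obtain ⟨s, hsG, -, hsΩ⟩ := exists_omega_mul hQ hn G₀ (fun c hc => by
    obtain ⟨w, hw, hQw⟩ := exists_value_two hQ (hD.decomp.nondegenerate p)
      (hD.decomp.decomp.finrank_eq p).ge c
    obtain ⟨r, hr, hrw⟩ := exists_refl hQ (v := w) (by rw [hQw]; exact hc)
    exact ⟨w, r, hQw, hr, (hG₀ r).2 ⟨dec_of_maps hQ hD.decomp fun l => ⟨l, refl_maps hQ hD.decomp hw hrw l⟩,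
      fun y hy => refl_fix hQ hrw (by rw [qcomp_pol hQ hD.decomp hw, hy, pzero_left hQ])⟩, hrw⟩) hh
  obtain ⟨hsD, hsfix⟩ := (hG₀ s).1 hsG
  exact ⟨s * h, ⟨mul_mem hsD hhD, hsΩ⟩, fun y hy => by rw [gl_mul_mulVec, hsfix _ hy]⟩

/-- lifting a reflection along a component vector -/
theorem exists_refl_lift (p : Fin t) {i : Fin t} {a : ι → F} (ha : a ∈ D i) (hQa : Q a ≠ 0) :
    ∃ r, IsRefl Q a r ∧ ∃ s ∈ decompositionStabilizer D ⊓ omegaGL Q,
      ∀ y, qcomp hQ hD.decomp p ((r : Matrix ι ι F) *ᵥ y) = 0 → (s : Matrix ι ι F) *ᵥ y = (r : Matrix ι ι F) *ᵥ y := by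
  obtain ⟨r, hr, hra⟩ := exists_refl hQ hQa
  exact ⟨r, hra, exists_fix_lift hQ hD hn p hr (dec_of_maps hQ hD.decomp fun l => ⟨l, refl_maps hQ hD.decomp ha hra l⟩)⟩

omit [Fintype F] hn in
theorem qcomp_refl_other {i p : Fin t} (hip : i ≠ p) {a : ι → F} (ha : a ∈ D i) {r : GL ι F} (hr : IsRefl Q a r)
    (y : ι → F) : qcomp hQ hD.decomp p ((r : Matrix ι ι F) *ᵥ y) = qcomp hQ hD.decomp p y := by
  rw [hr, qcomp_sub, qcomp_smul, qcomp_other hQ hD.decomp hip ha, smul_zero, sub_zero]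

variable {M : Subgroup (GL ι F)} (hM : M ≤ Cfsg.isometryGroup F Q)
  (hHM : decompositionStabilizer D ⊓ omegaGL Q ≤ M)
include hM hHM

/-- the class is invariant under the stabiliser -/
theorem rclass_stab {c : F} (hc : c ≠ 0) {s : GL ι F} (hs : s ∈ decompositionStabilizer D ⊓ omegaGL Q) (i : Fin t)
    {x : ι → F} (hx : x ∈ rclass Q D M c) : (s : Matrix ι ι F) *ᵥ x ∈ rclass Q D M c := by
  obtain ⟨w, hw, hQw⟩ := exists_value_two hQ (hD.decomp.nondegenerate i) (hD.decomp.decomp.finrank_eq i).ge c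
  obtain ⟨j, hj⟩ := mem_dec_maps hD.decomp hs.1 i
  exact rclass_conj hQ hD.decomp hn hM hHM hc (hHM hs) hw hQw
    (comp_mem_rclass hQ hD.decomp hn hM hHM (hj w hw) hc (by rw [mem_iso.1 (hM (hHM hs)), hQw])) hx

variable (hok : ∀ i, PlaneOK Q (D i)) (ht : 5 ≤ t)
include hok ht

/-- a member with at least three nonzero components -/
theorem exists_wide {c : F} (hc : c ≠ 0) {x : ι → F} (hx : x ∈ rclass Q D M c) (hxD : ∀ j, x ∉ D j) :
    ∃ z ∈ rclass Q D M c, ∃ i j l, i ≠ j ∧ i ≠ l ∧ j ≠ l ∧ qcomp hQ hD.decomp i z ≠ 0 ∧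
      qcomp hQ hD.decomp j z ≠ 0 ∧ qcomp hQ hD.decomp l z ≠ 0 := by
  classical
  have hd := hD.decomp
  have hx0 : x ≠ 0 := fun h => hxD ⟨0, by omega⟩ (by rw [h]; exact zero_mem _)
  obtain ⟨i, hi⟩ := exists_qcomp_ne hQ hd hx0
  obtain ⟨j, hji, hj⟩ : ∃ j, j ≠ i ∧ qcomp hQ hd j x ≠ 0 := by
    by_contra hcon
    push Not at hcon
    refine hxD i ?_
    have : x = qcomp hQ hd i x := qext_comp hQ hd fun l => by
      rcases eq_or_ne l i with rfl | hl
      · rw [qcomp_self hQ hd (qcomp_mem hQ hd l x)]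
      · rw [hcon l hl, qcomp_other hQ hd hl.symm (qcomp_mem hQ hd i x)]
    rw [this]
    exact qcomp_mem hQ hd i x
  by_cases hthree : ∃ l, l ≠ i ∧ l ≠ j ∧ qcomp hQ hd l x ≠ 0
  · obtain ⟨l, hli, hlj, hl⟩ := hthree
    exact ⟨x, hx, i, j, l, hji.symm, hli.symm, hlj.symm, hi, hj, hl⟩
  push Not at hthree
  obtain ⟨l, hl⟩ := Finset.exists_mem_notMem_of_card_lt_card (s := {i, j}) (t := (Finset.univ : Finset (Fin t)))
    (by rw [Finset.card_univ, Fintype.card_fin]; exact lt_of_le_of_lt Finset.card_le_two (by omega))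
  obtain ⟨p, hp⟩ := Finset.exists_mem_notMem_of_card_lt_card (s := {i, j, l}) (t := (Finset.univ : Finset (Fin t)))
    (by rw [Finset.card_univ, Fintype.card_fin]; exact lt_of_le_of_lt Finset.card_le_three (by omega))
  simp only [Finset.mem_insert, Finset.mem_singleton, not_or] at hl hp
  obtain ⟨-, hli, hlj⟩ := hl
  obtain ⟨-, hpi, hpj, hpl⟩ := hp
  obtain ⟨e, he⟩ := hD.isometric j l
  obtain ⟨h, hh, hmaps, hhj, -, hfix⟩ := exists_swap_iso hQ hD (Ne.symm hlj) e he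
  obtain ⟨a, ha, hQa, hshift⟩ := exists_refl_shift hQ (hd.nondegenerate i) (hd.decomp.finrank_eq i) (hok i)
    (qcomp_mem hQ hd i x) hi
  obtain ⟨r, hr, hra⟩ := exists_refl hQ hQa
  obtain ⟨hyx, hysp⟩ := hshift r hra
  obtain ⟨y, hy⟩ : ∃ y, y = (r : Matrix ι ι F) *ᵥ qcomp hQ hd i x := ⟨_, rfl⟩
  rw [← hy] at hyx hysp
  have hyD : y ∈ D i := hy ▸ refl_maps hQ hd ha hra i _ (qcomp_mem hQ hd i x)
  obtain ⟨w, hw⟩ : ∃ w, w = (e ⟨qcomp hQ hd j x, qcomp_mem hQ hd j x⟩ : ι → F) := ⟨_, rfl⟩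
  have hwD : w ∈ D l := hw ▸ (e _).2
  have hw0 : w ≠ 0 := fun h0 => hj (congrArg Subtype.val (e.map_eq_zero_iff.1 (Subtype.ext (hw.symm.trans h0))))
  have hxsum : x = qcomp hQ hd i x + qcomp hQ hd j x := qext_comp hQ hd fun m => by
    rw [qcomp_add]
    rcases eq_or_ne m i with rfl | hmi
    · rw [qcomp_self hQ hd (qcomp_mem hQ hd m x), qcomp_other hQ hd hji (qcomp_mem hQ hd j x), add_zero]
    rcases eq_or_ne m j with rfl | hmj
    · rw [qcomp_self hQ hd (qcomp_mem hQ hd m x), qcomp_other hQ hd hmi.symm (qcomp_mem hQ hd i x), zero_add]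
    rw [hthree m hmi hmj, qcomp_other hQ hd hmi.symm (qcomp_mem hQ hd i x),
      qcomp_other hQ hd hmj.symm (qcomp_mem hQ hd j x), add_zero]
  have hrh : ((r * h : GL ι F) : Matrix ι ι F) *ᵥ x = y + w := by
    rw [gl_mul_mulVec]
    conv_lhs => rw [hxsum]
    rw [mulVec_add, hhj _ (qcomp_mem hQ hd j x), ← hw, hfix _ (qcomp_other hQ hd hji.symm (qcomp_mem hQ hd i x))
      (qcomp_other hQ hd (Ne.symm hli) (qcomp_mem hQ hd i x)), mulVec_add, ← hy,
      refl_fix hQ hra (hd.orthogonal l i hli w hwD a ha)]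
  have hrhD : r * h ∈ decompositionStabilizer D := mul_mem
    (dec_of_maps hQ hd fun m => ⟨m, refl_maps hQ hd ha hra m⟩) (dec_of_maps hQ hd fun m => ⟨_, hmaps m⟩)
  obtain ⟨s, hs, hsy⟩ := exists_fix_lift hQ hD hn p (mul_mem hr hh) hrhD
  have hsx : (s : Matrix ι ι F) *ᵥ x = y + w := by
    rw [hsy x (by rw [hrh, qcomp_add, qcomp_other hQ hd (Ne.symm hpi) hyD, qcomp_other hQ hd (Ne.symm hpl) hwD,
      add_zero]), hrh]
  have hyw : y + w ∈ rclass Q D M c := hsx ▸ rclass_stab hQ hD hn hM hHM hc hs i hx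
  obtain ⟨μ, hμ⟩ : ∃ μ, μ = c⁻¹ * pol Q (y + w) x := ⟨_, rfl⟩
  have hμ0 : μ ≠ 0 := by
    rw [hμ]
    refine mul_ne_zero (inv_ne_zero hc) ?_
    rw [padd_left hQ, pcomm y x, qcomp_pol hQ hd hyD, pcomm w x, qcomp_pol hQ hd hwD, hthree l hli hlj,
      pzero_left hQ, add_zero, pcomm]
    exact hyx
  refine ⟨y + w - μ • x, hμ ▸ rclass_closed hQ hd hn hM hHM hc hx hyw, i, j, l, hji.symm, (Ne.symm hli), (Ne.symm hlj),
    ?_, ?_, ?_⟩
  · rw [qcomp_sub, qcomp_add, qcomp_smul, qcomp_self hQ hd hyD, qcomp_other hQ hd hli hwD, add_zero]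
    exact fun h0 => hysp (Submodule.mem_span_singleton.2 ⟨μ, (sub_eq_zero.1 h0).symm⟩)
  · rw [qcomp_sub, qcomp_add, qcomp_smul, qcomp_other hQ hd hji.symm hyD, qcomp_other hQ hd hlj hwD, add_zero,
      zero_sub, neg_ne_zero]
    exact smul_ne_zero hμ0 hj
  · rw [qcomp_sub, qcomp_add, qcomp_smul, qcomp_other hQ hd (Ne.symm hli) hyD, qcomp_self hQ hd hwD,
      hthree l hli hlj, smul_zero, sub_zero, zero_add]
    exact hw0

/-- a member transported to a member by reflections fixing a singular vector -/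
theorem outer_member {u x : ι → F} (hQu : Q u = 0) (hux : pol Q u x = 0) (hE : EIn Q M u x) {l : Fin t}
    (hul : qcomp hQ hD.decomp l u = 0) (hxl : qcomp hQ hD.decomp l x ≠ 0)
    (hlift : ∀ a ∈ D l, Q a ≠ 0 → ∃ r, IsRefl Q a r ∧ ∃ s ∈ decompositionStabilizer D ⊓ omegaGL Q,
      (s : Matrix ι ι F) *ᵥ u = u ∧ ∀ y ∈ D l, (s : Matrix ι ι F) *ᵥ y = (r : Matrix ι ι F) *ᵥ y) :
    ∀ y ∈ D l, EIn Q M u y := by
  classical
  have hd := hD.decomp
  have huD : ∀ w ∈ D l, pol Q u w = 0 := fun w hw => by rw [qcomp_pol hQ hd hw, hul, pzero_left hQ]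
  let S : AddSubgroup (ι → F) :=
    { carrier := {a | pol Q u a = 0 ∧ EIn Q M u a}
      zero_mem' := ⟨pzero_right hQ u, ein_zero hQ M hQu⟩
      add_mem' := fun {a b} ha hb =>
        ⟨by rw [padd_right hQ, ha.1, hb.1, add_zero], EIn.add hQ hQu ha.1 hb.1 ha.2 hb.2⟩
      neg_mem' := fun {a} ha => ⟨by rw [pneg_right hQ, ha.1, neg_zero], EIn.neg hQ hQu ha.1 ha.2⟩ }
  have hinv : ∀ a ∈ D l, Q a ≠ 0 → ∀ y ∈ D l, y ∈ S → y - ((Q a)⁻¹ * pol Q y a) • a ∈ S := by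
    intro a ha hQa y hy hyS
    obtain ⟨r, hra, s, hs, hsu, hsy⟩ := hlift a ha hQa
    have hry : (r : Matrix ι ι F) *ᵥ y ∈ D l := refl_maps hQ hd ha hra l y hy
    have hsy' : (s : Matrix ι ι F) *ᵥ y = (r : Matrix ι ι F) *ᵥ y := hsy y hy
    have h1 := EIn.conj hyS.2 (hM (hHM hs)) (hHM hs)
    rw [hsu, hsy'] at h1
    rw [← hra y]
    exact ⟨huD _ hry, h1⟩
  -- a first vector of the member
  obtain ⟨a, ha, b, hb, hQa, hQb, hrot⟩ := plane_rotation hQ (hd.nondegenerate l) (hd.decomp.finrank_eq l) (hok l)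
  obtain ⟨r, hr, hra⟩ := exists_refl hQ hQa
  obtain ⟨s, hs, hsb⟩ := exists_refl hQ hQb
  obtain ⟨ρ, hρ⟩ : ∃ ρ, ρ = r * s * (r * s) := ⟨_, rfl⟩
  have hrD : r ∈ decompositionStabilizer D := dec_of_maps hQ hd fun m => ⟨m, refl_maps hQ hd ha hra m⟩
  have hsD : s ∈ decompositionStabilizer D := dec_of_maps hQ hd fun m => ⟨m, refl_maps hQ hd hb hsb m⟩
  have hρH : ρ ∈ decompositionStabilizer D ⊓ omegaGL Q := by
    refine ⟨hρ ▸ mul_mem (mul_mem hrD hsD) (mul_mem hrD hsD), ?_⟩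
    have h1 := mem_omegaGL_comm hr hs
    rw [mul_eq_one_iff_inv_eq.1 (refl_mul_self hQ hQa hra), mul_eq_one_iff_inv_eq.1 (refl_mul_self hQ hQb hsb),
      mul_assoc (r * s), ← hρ] at h1
    exact h1
  have hfixl : ∀ w, (∀ z ∈ D l, pol Q w z = 0) → (ρ : Matrix ι ι F) *ᵥ w = w := fun w hw => by
    rw [hρ, gl_mul_mulVec, gl_mul_mulVec, gl_mul_mulVec, refl_fix hQ hsb (hw b hb), refl_fix hQ hra (hw a ha),
      refl_fix hQ hsb (hw b hb), refl_fix hQ hra (hw a ha)]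
  have hρl : ∀ z ∈ D l, (ρ : Matrix ι ι F) *ᵥ z ∈ D l := fun z hz => by
    rw [hρ, gl_mul_mulVec, gl_mul_mulVec, gl_mul_mulVec]
    exact refl_maps hQ hd ha hra l _ (refl_maps hQ hd hb hsb l _
      (refl_maps hQ hd ha hra l _ (refl_maps hQ hd hb hsb l _ hz)))
  obtain ⟨xl, hxldef⟩ : ∃ xl, xl = qcomp hQ hd l x := ⟨_, rfl⟩
  have hxlD : xl ∈ D l := hxldef ▸ qcomp_mem hQ hd l x
  have hρu : (ρ : Matrix ι ι F) *ᵥ u = u := hfixl u huD
  have hρx : (ρ : Matrix ι ι F) *ᵥ x = x + ((ρ : Matrix ι ι F) *ᵥ xl - xl) := by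
    conv_lhs => rw [show x = (x - xl) + xl by abel]
    rw [mulVec_add, hfixl (x - xl) (fun z hz => by rw [hxldef]; exact qcomp_perp hQ hd l x z hz)]
    abel
  have h1 := EIn.conj hE (hM (hHM hρH)) (hHM hρH)
  rw [hρu, hρx] at h1
  have hs₀D : (ρ : Matrix ι ι F) *ᵥ xl - xl ∈ D l := (D l).sub_mem (hρl xl hxlD) hxlD
  have h2 := EIn.add hQ hQu (by rw [padd_right hQ, hux, huD _ hs₀D, add_zero]) (by rw [pneg_right hQ, hux, neg_zero])
    h1 (EIn.neg hQ hQu hux hE)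
  rw [← sub_eq_add_neg, add_sub_cancel_left] at h2
  have hfull := plane_line_full hQ (hd.nondegenerate l) (hd.decomp.finrank_eq l) (hok l) S hinv hs₀D
    (fun h => hxl (by
      rw [← hxldef]
      exact hrot r s hra hsb xl hxlD (by rw [← hρ]; exact sub_eq_zero.1 h)))
    ⟨huD _ hs₀D, h2⟩
  exact fun y hy => (hfull y hy).2

/-- a first Eichler transformation -/
theorem exists_first {c : F} (hc : c ≠ 0) {x : ι → F} (hx : x ∈ rclass Q D M c) {i j l : Fin t} (hij : i ≠ j)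
    (hil : i ≠ l) (hjl : j ≠ l) (hi : qcomp hQ hD.decomp i x ≠ 0) (hj : qcomp hQ hD.decomp j x ≠ 0)
    (hl : qcomp hQ hD.decomp l x ≠ 0) :
    ∃ T : Finset (Fin t), T.card ≤ 2 ∧ ∃ u x₁ i₀, Q u = 0 ∧ pol Q u x₁ = 0 ∧ EIn Q M u x₁ ∧
      qcomp hQ hD.decomp i₀ u ≠ 0 ∧ (∀ m, m ∉ T → qcomp hQ hD.decomp m u = 0) ∧
      ∃ m, m ∉ T ∧ qcomp hQ hD.decomp m x₁ ≠ 0 := by
  classical
  have hd := hD.decomp
  have hein : ∀ {v : ι → F}, Q v = 0 → pol Q v x = 0 → x + v ∈ rclass Q D M c → EIn Q M (c⁻¹ • v) x :=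
    fun {v} hv hvx hmem => ein_of_rrel hQ hc (by rw [qsmul hQ, hv, mul_zero])
      (by rw [psmul_left hQ, hvx, mul_zero]) hx.1
      (by rw [smul_smul, mul_inv_cancel₀ hc, one_smul]; exact rclass_rel hQ hd hn hM hHM hc hx hmem)
  have hpair : ∀ {p q : Fin t}, p ≠ q → qcomp hQ hd p x ≠ 0 → qcomp hQ hd q x ≠ 0 →
      ∃ b, b ≠ 0 ∧ ∃ a ∈ D p, ∃ a' ∈ D q, pol Q x a = 1 ∧ pol Q x a' = 1 ∧ Q a = b ∧ Q a' = -b := by
    intro p q hpq hp hq
    obtain ⟨b, hb0, ⟨a, ha, hxa, hQa⟩, ⟨a', ha', hxa', hQa'⟩⟩ := exists_valSet_pair hQ (hd.nondegenerate p)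
      (hd.decomp.finrank_eq p) (hok p) (hd.nondegenerate q) (hd.decomp.finrank_eq q) (hok q) (type_iff hD p q)
      (qcomp_mem hQ hd p x) hp (qcomp_mem hQ hd q x) hq
    exact ⟨b, hb0, a, ha, a', ha', by rw [qcomp_pol hQ hd ha]; exact hxa, by rw [qcomp_pol hQ hd ha']; exact hxa',
      hQa, hQa'⟩
  obtain ⟨b, hb0, a, ha, a', ha', hxa, hxa', hQa, hQa'⟩ := hpair hij hi hj
  have haa' : pol Q a a' = 0 := hd.orthogonal i j hij a ha a' ha'
  obtain ⟨r, hr, hra⟩ := exists_refl hQ (v := a) (by rw [hQa]; exact hb0)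
  obtain ⟨r', hr', hra'⟩ := exists_refl hQ (v := a') (by rw [hQa']; exact neg_ne_zero.2 hb0)
  have hstab : ∀ {q : Fin t} {w : ι → F} {g : GL ι F}, w ∈ D q → IsRefl Q w g → g ∈ decompositionStabilizer D :=
    fun hw hg => dec_of_maps hQ hd fun m => ⟨m, refl_maps hQ hd hw hg m⟩
  obtain ⟨v, hv⟩ : ∃ v, v = b⁻¹ • (a' - a) := ⟨_, rfl⟩
  have hQv : Q v = 0 := by rw [hv, qsmul hQ, qsub hQ, hQa, hQa', pcomm a' a, haa']; ring
  have hvx : pol Q v x = 0 := by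
    rw [hv, psmul_left hQ, psub_left hQ, pcomm a' x, hxa', pcomm a x, hxa, sub_self, mul_zero]
  have hvi : qcomp hQ hd i v ≠ 0 := by
    rw [hv, qcomp_smul, qcomp_sub, qcomp_other hQ hd hij.symm ha', qcomp_self hQ hd ha, zero_sub]
    exact smul_ne_zero (inv_ne_zero hb0) (neg_ne_zero.2 fun h => hb0 (by rw [← hQa, h, qzero hQ]))
  have hvsupp : ∀ m, m ≠ i → m ≠ j → qcomp hQ hd m v = 0 := fun m hmi hmj => by
    rw [hv, qcomp_smul, qcomp_sub, qcomp_other hQ hd hmj.symm ha', qcomp_other hQ hd hmi.symm ha, sub_zero, smul_zero]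
  have hmove := refl_pair_move hQ hxa hxa' haa' hQa hQa' hra hra'
  rw [← hv] at hmove
  have htwo : (∃ s ∈ decompositionStabilizer D ⊓ omegaGL Q, (s : Matrix ι ι F) *ᵥ x = x + v) →
      ∃ T : Finset (Fin t), T.card ≤ 2 ∧ ∃ u x₁ i₀, Q u = 0 ∧ pol Q u x₁ = 0 ∧ EIn Q M u x₁ ∧
        qcomp hQ hd i₀ u ≠ 0 ∧ (∀ m, m ∉ T → qcomp hQ hd m u = 0) ∧ ∃ m, m ∉ T ∧ qcomp hQ hd m x₁ ≠ 0 := by
    rintro ⟨s, hs, hsx⟩
    refine ⟨{i, j}, Finset.card_le_two, c⁻¹ • v, x, i, by rw [qsmul hQ, hQv, mul_zero],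
      by rw [psmul_left hQ, hvx, mul_zero], hein hQv hvx (hsx ▸ rclass_stab hQ hD hn hM hHM hc hs i hx),
      by rw [qcomp_smul]; exact smul_ne_zero (inv_ne_zero hc) hvi, fun m hm => ?_,
      l, by simp [hil.symm, hjl.symm], hl⟩
    simp only [Finset.mem_insert, Finset.mem_singleton, not_or] at hm
    rw [qcomp_smul, hvsupp m hm.1 hm.2, smul_zero]
  have hQa0 : Q a ≠ 0 := by rw [hQa]; exact hb0
  have hQa'0 : Q a' ≠ 0 := by rw [hQa']; exact neg_ne_zero.2 hb0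
  by_cases hspare : ∃ p, qcomp hQ hd p x = 0
  · obtain ⟨p, hp⟩ := hspare
    have hpi : p ≠ i := fun h => hi (h ▸ hp)
    have hpj : p ≠ j := fun h => hj (h ▸ hp)
    obtain ⟨s, hs, hsy⟩ := exists_fix_lift hQ hD hn p (mul_mem hr hr') (mul_mem (hstab ha hra) (hstab ha' hra'))
    exact htwo ⟨s, hs, by rw [hsy x (by rw [hmove, qcomp_add, hp, hvsupp p hpi hpj, add_zero]), hmove]⟩
  by_cases hm1 : IsSquare (-1 : F)
  · exact htwo ⟨r * r', ⟨mul_mem (hstab ha hra) (hstab ha' hra'),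
      refl_pair_omega' hQ hn hQa0 hQa'0 (by rw [hQa', hQa, neg_div, div_self hb0]; exact hm1) hr hr' hra hra'⟩,
      hmove⟩
  push Not at hspare
  obtain ⟨i', hi'⟩ := Finset.exists_mem_notMem_of_card_lt_card (s := {i, j}) (t := (Finset.univ : Finset (Fin t)))
    (by rw [Finset.card_univ, Fintype.card_fin]; exact lt_of_le_of_lt Finset.card_le_two (by omega))
  obtain ⟨j', hj'⟩ := Finset.exists_mem_notMem_of_card_lt_card (s := {i, j, i'}) (t := (Finset.univ : Finset (Fin t)))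
    (by rw [Finset.card_univ, Fintype.card_fin]; exact lt_of_le_of_lt Finset.card_le_three (by omega))
  obtain ⟨m₀, hm₀⟩ := Finset.exists_mem_notMem_of_card_lt_card (s := {i, j, i', j'})
    (t := (Finset.univ : Finset (Fin t)))
    (by rw [Finset.card_univ, Fintype.card_fin]; exact lt_of_le_of_lt Finset.card_le_four (by omega))
  simp only [Finset.mem_insert, Finset.mem_singleton, not_or] at hi' hj' hm₀
  obtain ⟨-, hi'i, hi'j⟩ := hi'
  obtain ⟨-, hj'i, hj'j, hj'i'⟩ := hj'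
  obtain ⟨b', hb'0, a₁, ha₁, a₂, ha₂, hxa₁, hxa₂, hQa₁, hQa₂⟩ := hpair (Ne.symm hj'i') (hspare i') (hspare j')
  have h12 : pol Q a₁ a₂ = 0 := hd.orthogonal i' j' (Ne.symm hj'i') a₁ ha₁ a₂ ha₂
  obtain ⟨r₁, hr₁, hra₁⟩ := exists_refl hQ (v := a₁) (by rw [hQa₁]; exact hb'0)
  obtain ⟨r₂, hr₂, hra₂⟩ := exists_refl hQ (v := a₂) (by rw [hQa₂]; exact neg_ne_zero.2 hb'0)
  have hQa₁0 : Q a₁ ≠ 0 := by rw [hQa₁]; exact hb'0
  have hQa₂0 : Q a₂ ≠ 0 := by rw [hQa₂]; exact neg_ne_zero.2 hb'0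
  have hΩ : r * r' * (r₁ * r₂) ∈ omegaGL Q := by
    have c1 : r' * r₁ = r₁ * r' := refl_comm hQ (hd.orthogonal j i' (Ne.symm hi'j) a' ha' a₁ ha₁) hra' hra₁
    have c2 : r' * r₂ = r₂ * r' := refl_comm hQ (hd.orthogonal j j' (Ne.symm hj'j) a' ha' a₂ ha₂) hra' hra₂
    have c3 : r₁ * r₂ = r₂ * r₁ := refl_comm hQ h12 hra₁ hra₂
    rcases square_ratio b b' (-b) hb0 hb'0 (neg_ne_zero.2 hb0) with h | h | h
    · rw [show r * r' * (r₁ * r₂) = r * r₁ * (r' * r₂) by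
        rw [mul_assoc, ← mul_assoc r', c1, mul_assoc, mul_assoc]]
      exact mul_mem (refl_pair_omega' hQ hn hQa0 hQa₁0 (by rw [hQa₁, hQa]; exact h) hr hr₁ hra hra₁)
        (refl_pair_omega' hQ hn hQa'0 hQa₂0 (by rw [hQa₂, hQa', neg_div_neg_eq]; exact h) hr' hr₂ hra' hra₂)
    · exact mul_mem (refl_pair_omega' hQ hn hQa0 hQa'0 (by rw [hQa', hQa]; exact h) hr hr' hra hra')
        (refl_pair_omega' hQ hn hQa₁0 hQa₂0
          (by rw [hQa₂, hQa₁, show -b' / b' = -b / b by field_simp]; exact h) hr₁ hr₂ hra₁ hra₂)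
    · rw [show r * r' * (r₁ * r₂) = r * r₂ * (r' * r₁) by
        rw [mul_assoc, c3, ← mul_assoc r', c2, mul_assoc, mul_assoc]]
      exact mul_mem (refl_pair_omega' hQ hn hQa0 hQa₂0
          (by rw [hQa₂, hQa, show -b' / b = (-b / b')⁻¹ by field_simp]; exact h.inv) hr hr₂ hra hra₂)
        (refl_pair_omega' hQ hn hQa'0 hQa₁0
          (by rw [hQa₁, hQa', show b' / -b = (-b / b')⁻¹ by field_simp]; exact h.inv) hr' hr₁ hra' hra₁)
  obtain ⟨v', hv'⟩ : ∃ v', v' = b'⁻¹ • (a₂ - a₁) := ⟨_, rfl⟩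
  have hperp : ∀ w ∈ D i, pol Q w v' = 0 := fun w hw => by
    rw [hv', psmul_right hQ, psub_right hQ, hd.orthogonal i j' (Ne.symm hj'i) w hw a₂ ha₂,
      hd.orthogonal i i' (Ne.symm hi'i) w hw a₁ ha₁, sub_self, mul_zero]
  have hperp' : ∀ w ∈ D j, pol Q w v' = 0 := fun w hw => by
    rw [hv', psmul_right hQ, psub_right hQ, hd.orthogonal j j' (Ne.symm hj'j) w hw a₂ ha₂,
      hd.orthogonal j i' (Ne.symm hi'j) w hw a₁ ha₁, sub_self, mul_zero]
  have hfix : ((r * r' : GL ι F) : Matrix ι ι F) *ᵥ v' = v' := by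
    rw [gl_mul_mulVec, refl_fix hQ hra' (by rw [pcomm]; exact hperp' a' ha'),
      refl_fix hQ hra (by rw [pcomm]; exact hperp a ha)]
  have hmove' : ((r * r' * (r₁ * r₂) : GL ι F) : Matrix ι ι F) *ᵥ x = x + (v + v') := by
    rw [gl_mul_mulVec (r * r'), refl_pair_move hQ hxa₁ hxa₂ h12 hQa₁ hQa₂ hra₁ hra₂, ← hv', mulVec_add,
      hmove, hfix, add_assoc]
  have hs : r * r' * (r₁ * r₂) ∈ decompositionStabilizer D ⊓ omegaGL Q :=
    ⟨mul_mem (mul_mem (hstab ha hra) (hstab ha' hra')) (mul_mem (hstab ha₁ hra₁) (hstab ha₂ hra₂)), hΩ⟩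
  have hv'i : qcomp hQ hd i v' = 0 := by
    rw [hv', qcomp_smul, qcomp_sub, qcomp_other hQ hd hj'i ha₂, qcomp_other hQ hd hi'i ha₁, sub_zero, smul_zero]
  have hv'supp : ∀ m, m ≠ i' → m ≠ j' → qcomp hQ hd m v' = 0 := fun m h1 h2' => by
    rw [hv', qcomp_smul, qcomp_sub, qcomp_other hQ hd h2'.symm ha₂, qcomp_other hQ hd h1.symm ha₁, sub_zero,
      smul_zero]
  have hQv' : Q v' = 0 := by rw [hv', qsmul hQ, qsub hQ, hQa₁, hQa₂, pcomm a₂ a₁, h12]; ring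
  have hvv' : pol Q v v' = 0 := by
    rw [hv, psmul_left hQ, psub_left hQ, hperp' a' ha', hperp a ha, sub_self, mul_zero]
  have hv'x : pol Q v' x = 0 := by
    rw [hv', psmul_left hQ, psub_left hQ, pcomm a₂ x, hxa₂, pcomm a₁ x, hxa₁, sub_self, mul_zero]
  obtain ⟨U, hU⟩ : ∃ U, U = c⁻¹ • (v + v') := ⟨_, rfl⟩
  have hQU : Q U = 0 := by rw [hU, qsmul hQ, qadd hQ, hQv, hQv', hvv', add_zero, add_zero, mul_zero]
  have hUx : pol Q U x = 0 := by rw [hU, psmul_left hQ, padd_left hQ, hvx, hv'x, add_zero, mul_zero]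
  have hEU : EIn Q M U x := hU ▸ hein (by rw [qadd hQ, hQv, hQv', hvv', add_zero, add_zero])
    (by rw [padd_left hQ, hvx, hv'x, add_zero]) (hmove' ▸ rclass_stab hQ hD hn hM hHM hc hs i hx)
  obtain ⟨-, hm₀i, hm₀j, hm₀i', hm₀j'⟩ := hm₀
  have hUm : qcomp hQ hd m₀ U = 0 := by
    rw [hU, qcomp_smul, qcomp_add, hvsupp m₀ hm₀i hm₀j, hv'supp m₀ hm₀i' hm₀j', add_zero, smul_zero]
  -- reflections of the free member are compensated inside the support
  have hlift : ∀ a₀ ∈ D m₀, Q a₀ ≠ 0 → ∃ r₀, IsRefl Q a₀ r₀ ∧ ∃ s ∈ decompositionStabilizer D ⊓ omegaGL Q,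
      (s : Matrix ι ι F) *ᵥ U = U ∧ ∀ y ∈ D m₀, (s : Matrix ι ι F) *ᵥ y = (r₀ : Matrix ι ι F) *ᵥ y := by
    intro a₀ ha₀ hQa₀
    obtain ⟨z, hz, hQz, hza⟩ := plane_nonsingular_perp hQ (hd.nondegenerate i) (hd.decomp.finrank_eq i) ha hQa0
    obtain ⟨z', hz', hQz', hza'⟩ :=
      plane_nonsingular_perp hQ (hd.nondegenerate j) (hd.decomp.finrank_eq j) ha' hQa'0
    obtain ⟨r₀, hr₀, hra₀⟩ := exists_refl hQ hQa₀
    have key : ∀ {q : Fin t} {w : ι → F}, w ∈ D q → q ≠ m₀ → Q w ≠ 0 → pol Q U w = 0 → IsSquare (Q w / Q a₀) →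
        ∃ s ∈ decompositionStabilizer D ⊓ omegaGL Q,
          (s : Matrix ι ι F) *ᵥ U = U ∧ ∀ y ∈ D m₀, (s : Matrix ι ι F) *ᵥ y = (r₀ : Matrix ι ι F) *ᵥ y := by
      intro q w hw hq hQw hUw hsq
      obtain ⟨rw', hrw, hrww⟩ := exists_refl hQ hQw
      refine ⟨r₀ * rw', ⟨mul_mem (hstab ha₀ hra₀) (hstab hw hrww),
        refl_pair_omega' hQ hn hQa₀ hQw hsq hr₀ hrw hra₀ hrww⟩, ?_, fun y hy => ?_⟩
      · rw [gl_mul_mulVec, refl_fix hQ hrww hUw, refl_fix hQ hra₀]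
        rw [qcomp_pol hQ hd ha₀, hUm, pzero_left hQ]
      · rw [gl_mul_mulVec, refl_fix hQ hrww (hd.orthogonal m₀ q (Ne.symm hq) y hy w hw)]
    have hUz : pol Q U z = 0 := by
      rw [hU, psmul_left hQ, padd_left hQ, hv, psmul_left hQ, psub_left hQ, hd.orthogonal j i hij.symm a' ha' z hz,
        pcomm a z, hza, pcomm v' z, hperp z hz]
      ring
    have hUz' : pol Q U z' = 0 := by
      rw [hU, psmul_left hQ, padd_left hQ, hv, psmul_left hQ, psub_left hQ, hd.orthogonal i j hij a ha z' hz',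
        pcomm a' z', hza', pcomm v' z', hperp' z' hz']
      ring
    refine ⟨r₀, hra₀, ?_⟩
    rcases square_ratio (Q a₀) (Q z) (Q z') hQa₀ hQz hQz' with h | h | h
    · exact key hz (Ne.symm hm₀i) hQz hUz h
    · exact key hz' (Ne.symm hm₀j) hQz' hUz' h
    · exfalso
      obtain ⟨e, he⟩ := hD.isometric i j
      obtain ⟨w, hw⟩ := plane_gram hQ (fun h2 => hm1 ⟨1, by linear_combination -h2⟩) (hd.decomp.finrank_eq j) e he
        ha hz ha' hz' (by rw [pcomm]; exact hza) (by rw [pcomm]; exact hza') hQa'0 hQz'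
      obtain ⟨d, hd2⟩ := h
      rw [div_eq_iff hQz] at hd2
      rw [hQa, hQa', hd2] at hw
      have hd0 : d ≠ 0 := fun h0 => hQz' (by rw [hd2, h0]; ring)
      refine hm1 ⟨w / (b * Q z * d), ?_⟩
      field_simp
      linear_combination hw
  have hfull : ∀ y ∈ D m₀, EIn Q M U y :=
    outer_member hQ hD hn hM hHM hok ht hQU hUx hEU hUm (hspare m₀) hlift
  -- the sign of one half
  obtain ⟨k, hk, hky⟩ := exists_fix_lift hQ hD hn m₀ (mul_mem hr₁ hr₂) (mul_mem (hstab ha₁ hra₁) (hstab ha₂ hra₂))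
  obtain ⟨W, hW⟩ : ∃ W, W = c⁻¹ • (v - v') := ⟨_, rfl⟩
  have hpv : ∀ {q}, q ≠ i → q ≠ j → ∀ w ∈ D q, pol Q v w = 0 := fun {q} h1 h2' w hw => by
    rw [qcomp_pol hQ hd hw, hvsupp q h1 h2', pzero_left hQ]
  have hh : ((r₁ * r₂ : GL ι F) : Matrix ι ι F) *ᵥ v = v ∧ ((r₁ * r₂ : GL ι F) : Matrix ι ι F) *ᵥ v' = -v' := by
    refine ⟨by rw [gl_mul_mulVec, refl_fix hQ hra₂ (hpv hj'i hj'j a₂ ha₂), refl_fix hQ hra₁ (hpv hi'i hi'j a₁ ha₁)],
      ?_⟩
    rw [hv', gl_mul_mulVec, hra₂, hra₁]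
    simp only [psmul_left hQ, psub_left hQ, pself hQ, h12, pcomm a₂ a₁, hQa₁, hQa₂]
    match_scalars <;> field_simp <;> ring
  have hkU : (k : Matrix ι ι F) *ᵥ U = W := by
    have h1 : ((r₁ * r₂ : GL ι F) : Matrix ι ι F) *ᵥ U = W := by
      rw [hU, hW, mulVec_smul, mulVec_add, hh.1, hh.2, sub_eq_add_neg]
    rw [hky U (by rw [h1, hW, qcomp_smul, qcomp_sub, hvsupp m₀ hm₀i hm₀j, hv'supp m₀ hm₀i' hm₀j', sub_zero,
      smul_zero]), h1]
  have hkW : (k : Matrix ι ι F) *ᵥ W = U := by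
    have h1 : ((r₁ * r₂ : GL ι F) : Matrix ι ι F) *ᵥ W = U := by
      rw [hU, hW, mulVec_smul, mulVec_sub, hh.1, hh.2, sub_neg_eq_add]
    rw [hky W (by rw [h1, hUm]), h1]
  have hki := hM (hHM hk)
  have hUy : ∀ y ∈ D m₀, pol Q U y = 0 := fun y hy => by rw [qcomp_pol hQ hd hy, hUm, pzero_left hQ]
  have hWy : ∀ y ∈ D m₀, pol Q W y = 0 := fun y hy => by
    rw [hW, psmul_left hQ, psub_left hQ, hpv hm₀i hm₀j y hy, qcomp_pol hQ hd hy, hv'supp m₀ hm₀i' hm₀j',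
      pzero_left hQ, sub_zero, mul_zero]
  obtain ⟨y, hy, y', hy', hlam⟩ : ∃ y ∈ D m₀, ∃ y' ∈ D m₀, pol Q y' ((k : Matrix ι ι F) *ᵥ y) ≠ 0 := by
    obtain ⟨y, hy, hy0⟩ := Submodule.exists_mem_ne_zero_of_ne_bot (p := D m₀)
      (fun h0 => by have := hd.decomp.finrank_eq m₀; rw [h0, finrank_bot] at this; omega)
    obtain ⟨q, hq⟩ := mem_dec_maps hd hk.1 m₀
    have hky0 : (k : Matrix ι ι F) *ᵥ y ≠ 0 := fun h0 => hy0 (gl_mulVec_eq_zero.1 h0)
    rcases eq_or_ne q m₀ with rfl | hqm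
    · obtain ⟨y', hy', hne⟩ := ((hd.nondegenerate q) _ (hq y hy) hky0).2
      exact ⟨y, hy, y', hy', by rw [pcomm]; exact hne⟩
    · exfalso
      obtain ⟨w, hw⟩ : ∃ w, w = ((r₂ * r₁ : GL ι F) : Matrix ι ι F) *ᵥ ((k : Matrix ι ι F) *ᵥ y) := ⟨_, rfl⟩
      have hwD : w ∈ D q := by
        rw [hw, gl_mul_mulVec]
        exact refl_maps hQ hd ha₂ hra₂ q _ (refl_maps hQ hd ha₁ hra₁ q _ (hq y hy))
      have hhw : ((r₁ * r₂ : GL ι F) : Matrix ι ι F) *ᵥ w = (k : Matrix ι ι F) *ᵥ y := by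
        rw [hw, ← gl_mul_mulVec, mul_assoc r₁, ← mul_assoc r₂ r₂, refl_mul_self hQ hQa₂0 hra₂, one_mul,
          refl_mul_self hQ hQa₁0 hra₁, Units.val_one, one_mulVec]
      have hkw : (k : Matrix ι ι F) *ᵥ w = (k : Matrix ι ι F) *ᵥ y := by
        rw [hky w (by rw [hhw]; exact qcomp_other hQ hd hqm (hq y hy)), hhw]
      have hwy : w = y := by
        rw [← gl_inv_mulVec k w, hkw, gl_inv_mulVec]
      exact hqm (qcomp_disjoint hQ hd (hwy ▸ hwD) hy hy0)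
  obtain ⟨g₁, hg₁, hg₁E⟩ := EIn.conj (hfull y hy) hki (hHM hk)
  rw [hkU] at hg₁E
  obtain ⟨z, hz⟩ : ∃ z, z = (k : Matrix ι ι F) *ᵥ y := ⟨_, rfl⟩
  rw [← hz] at hg₁E hlam
  have hUz : pol Q U z = 0 := by rw [hz, ← hkW, iso_pol hki]; exact hWy y hy
  have hUW : pol Q U W = 0 := by
    rw [hU, hW, psmul_left hQ, psmul_right hQ, psub_right hQ, padd_left hQ, padd_left hQ, pself hQ, pself hQ,
      hvv', pcomm v' v, hvv', hQv, hQv']
    ring
  have hgU : (g₁ : Matrix ι ι F) *ᵥ U = U := by rw [hg₁E, hUW, hUz]; simp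
  have hgy : (g₁ : Matrix ι ι F) *ᵥ y' = y' + (-(pol Q y' z)) • W := by
    rw [hg₁E, pcomm y' W, hWy y' hy']
    module
  have h1 := EIn.conj (hfull y' hy') (hM hg₁) hg₁
  rw [hgU, hgy] at h1
  have h2 := EIn.add hQ hQU (by rw [padd_right hQ, psmul_right hQ, hUW, hUy y' hy']; ring)
    (by rw [pneg_right hQ, hUy y' hy', neg_zero]) h1 (EIn.neg hQ hQU (hUy y' hy') (hfull y' hy'))
  rw [add_neg_cancel_comm] at h2
  obtain ⟨g, hg, hgE⟩ := EIn.add hQ hQU (by rw [psmul_right hQ, hUW, mul_zero])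
    (by rw [psmul_right hQ, pself hQ, hQU, mul_zero, mul_zero]) h2 (EIn.smul_self hQ M hQU (pol Q y' z))
  obtain ⟨κ, hκ⟩ : ∃ κ, κ = 2 * pol Q y' z * (c⁻¹ * c⁻¹) := ⟨_, rfl⟩
  have hκ0 : κ ≠ 0 := hκ ▸ mul_ne_zero (mul_ne_zero (fun h2' => hm1 ⟨1, by linear_combination -h2'⟩) hlam)
    (mul_ne_zero (inv_ne_zero hc) (inv_ne_zero hc))
  refine ⟨{i, j}, Finset.card_le_two, v, κ • v', i, hQv, by rw [psmul_right hQ, hvv', mul_zero],
    ⟨g, hg, fun w => ?_⟩, hvi, fun m hm => ?_, i', by simp [hi'i, hi'j], ?_⟩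
  · rw [hgE, hU, hW, hκ]
    simp only [qadd hQ, qsub hQ, qsmul hQ, psmul_left hQ, psmul_right hQ, padd_left hQ, padd_right hQ, psub_left hQ,
      psub_right hQ, hQv, hQv', hvv', pcomm v' v, pself hQ]
    match_scalars <;> ring
  · simp only [Finset.mem_insert, Finset.mem_singleton, not_or] at hm
    exact hvsupp m hm.1 hm.2
  · rw [qcomp_smul, hv', qcomp_smul, qcomp_sub, qcomp_other hQ hd hj'i' ha₂, qcomp_self hQ hd ha₁, zero_sub]
    exact smul_ne_zero hκ0 (smul_ne_zero (inv_ne_zero hb'0) (neg_ne_zero.2 fun h0 => hQa₁0 (by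
      rw [h0]; exact qzero hQ)))

/-- one member transported to all members outside a support -/
theorem ein_spread {T : Finset (Fin t)} (hT : T.card + 3 ≤ t) {u : ι → F}
    (hsupp : ∀ m, m ∉ T → qcomp hQ hD.decomp m u = 0) {l : Fin t} (hl : l ∉ T)
    (hle : ∀ y ∈ D l, EIn Q M u y) {m : Fin t} (hm : m ∉ T) : ∀ y ∈ D m, EIn Q M u y := by
  classical
  intro y hy
  rcases eq_or_ne m l with rfl | hml
  · exact hle y hy
  obtain ⟨p, hp⟩ := Finset.exists_mem_notMem_of_card_lt_card (s := insert l (insert m T))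
    (t := (Finset.univ : Finset (Fin t))) (by
      have h1 := Finset.card_insert_le l (insert m T)
      have h2 := Finset.card_insert_le m T
      rw [Finset.card_univ, Fintype.card_fin]
      omega)
  simp only [Finset.mem_insert, not_or] at hp
  obtain ⟨-, hpl, hpm, hpT⟩ := hp
  obtain ⟨e, he⟩ := hD.isometric l m
  obtain ⟨h, hh, hmaps, hhl, -, hfix⟩ := exists_swap_iso hQ hD (Ne.symm hml) e he
  obtain ⟨s, hs, hsy⟩ := exists_fix_lift hQ hD hn p hh (dec_of_maps hQ hD.decomp fun k => ⟨_, hmaps k⟩)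
  have hsu : (s : Matrix ι ι F) *ᵥ u = u := by
    have hu : (h : Matrix ι ι F) *ᵥ u = u := hfix u (hsupp l hl) (hsupp m hm)
    rw [hsy u (by rw [hu]; exact hsupp p hpT), hu]
  obtain ⟨z, hz⟩ : ∃ z, z = (e.symm ⟨y, hy⟩ : ι → F) := ⟨_, rfl⟩
  have hzD : z ∈ D l := hz ▸ (e.symm _).2
  have hhz : (h : Matrix ι ι F) *ᵥ z = y := by
    rw [hhl z hzD, show (⟨z, hzD⟩ : D l) = e.symm ⟨y, hy⟩ from Subtype.ext hz, LinearEquiv.apply_symm_apply]
  have hsz : (s : Matrix ι ι F) *ᵥ z = y := by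
    rw [hsy z (by rw [hhz]; exact qcomp_other hQ hD.decomp (Ne.symm hpm) hy), hhz]
  have h1 := EIn.conj (hle z hzD) (hM (hHM hs)) (hHM hs)
  rwa [hsu, hsz] at h1

/-- a singular vector with Eichler transformations on the members outside its support -/
theorem exists_outer {T : Finset (Fin t)} (hT : T.card ≤ 2) {u x : ι → F} (hQu : Q u = 0)
    (hux : pol Q u x = 0) (hE : EIn Q M u x) (hsupp : ∀ m, m ∉ T → qcomp hQ hD.decomp m u = 0)
    {l : Fin t} (hl : l ∉ T) (hxl : qcomp hQ hD.decomp l x ≠ 0) :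
    ∀ m, m ∉ T → ∀ y ∈ D m, EIn Q M u y := by
  classical
  have hd := hD.decomp
  obtain ⟨p, hp⟩ := Finset.exists_mem_notMem_of_card_lt_card (s := insert l T)
    (t := (Finset.univ : Finset (Fin t))) (by
      have h1 := Finset.card_insert_le l T
      rw [Finset.card_univ, Fintype.card_fin]
      omega)
  simp only [Finset.mem_insert, not_or] at hp
  obtain ⟨-, hpl, hpT⟩ := hp
  have hle := outer_member hQ hD hn hM hHM hok ht hQu hux hE (hsupp l hl) hxl fun a ha hQa => by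
    obtain ⟨r, hra, s, hs, hsy⟩ := exists_refl_lift hQ hD hn p ha hQa
    have hru : (r : Matrix ι ι F) *ᵥ u = u :=
      refl_fix hQ hra (by rw [qcomp_pol hQ hd ha, hsupp l hl, pzero_left hQ])
    exact ⟨r, hra, s, hs, by rw [hsy u (by rw [hru]; exact hsupp p hpT), hru],
      fun y hy => hsy y (qcomp_other hQ hd (Ne.symm hpl) (refl_maps hQ hd ha hra l y hy))⟩
  exact fun m hm => ein_spread hQ hD hn hM hHM hok ht (by omega) hsupp hl hle hm

/-- singular vectors in two members outside the support are centres -/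
theorem exists_centre {T : Finset (Fin t)} (hT : T.card ≤ 2) {u f : ι → F} (hQu : Q u = 0) (hQf : Q f = 0)
    (huf : pol Q u f = 1) (hsu : ∀ m, m ∉ T → qcomp hQ hD.decomp m u = 0)
    (hsf : ∀ m, m ∉ T → qcomp hQ hD.decomp m f = 0) (hEu : ∀ m, m ∉ T → ∀ y ∈ D m, EIn Q M u y)
    (hEf : ∀ m, m ∉ T → ∀ y ∈ D m, EIn Q M f y) {m n : Fin t} (hm : m ∉ T) (hn' : n ∉ T) (hmn : m ≠ n)
    {w : ι → F} (hw : ∀ q, q ≠ m → q ≠ n → qcomp hQ hD.decomp q w = 0) (hwn : qcomp hQ hD.decomp n w ≠ 0)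
    (hQw : Q w = 0) : w ∈ eCentres Q M := by
  classical
  have hd := hD.decomp
  have hwsum : w = qcomp hQ hd m w + qcomp hQ hd n w := qext_comp hQ hd fun q => by
    rw [qcomp_add]
    rcases eq_or_ne q m with rfl | hqm
    · rw [qcomp_self hQ hd (qcomp_mem hQ hd q w), qcomp_other hQ hd hmn.symm (qcomp_mem hQ hd n w), add_zero]
    rcases eq_or_ne q n with rfl | hqn
    · rw [qcomp_self hQ hd (qcomp_mem hQ hd q w), qcomp_other hQ hd hmn (qcomp_mem hQ hd m w), zero_add]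
    rw [hw q hqm hqn, qcomp_other hQ hd hqm.symm (qcomp_mem hQ hd m w),
      qcomp_other hQ hd hqn.symm (qcomp_mem hQ hd n w), add_zero]
  have hout : ∀ {v : ι → F}, (∀ q, q ∉ T → qcomp hQ hd q v = 0) → ∀ {q}, q ∉ T → ∀ z ∈ D q, pol Q v z = 0 :=
    fun {v} hv {q} hq z hz => by rw [qcomp_pol hQ hd hz, hv q hq, pzero_left hQ]
  have hwperp : ∀ {q}, q ≠ m → q ≠ n → ∀ z ∈ D q, pol Q w z = 0 := fun {q} hqm hqn z hz => by
    rw [qcomp_pol hQ hd hz, hw q hqm hqn, pzero_left hQ]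
  have hvw : ∀ {v : ι → F}, (∀ q, q ∉ T → qcomp hQ hd q v = 0) → pol Q v w = 0 := fun hv => by
    rw [hwsum, padd_right hQ, hout hv hm _ (qcomp_mem hQ hd m w), hout hv hn' _ (qcomp_mem hQ hd n w), add_zero]
  obtain ⟨b₀, hb₀, hwb₀⟩ := ((hd.nondegenerate n) _ (qcomp_mem hQ hd n w) hwn).2
  obtain ⟨b, hb⟩ : ∃ b, b = (pol Q w b₀)⁻¹ • b₀ := ⟨_, rfl⟩
  have hbD : b ∈ D n := hb ▸ (D n).smul_mem _ hb₀
  have hwb : pol Q w b = 1 := by
    rw [hb, psmul_right hQ, inv_mul_cancel₀]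
    rw [qcomp_pol hQ hd hb₀]
    exact hwb₀
  obtain ⟨k₁, hk₁, hk₁E⟩ := EIn.add hQ hQf (hout hsf hm _ (qcomp_mem hQ hd m w))
    (hout hsf hn' _ (qcomp_mem hQ hd n w)) (hEf m hm _ (qcomp_mem hQ hd m w)) (hEf n hn' _ (qcomp_mem hQ hd n w))
  rw [← hwsum] at hk₁E
  obtain ⟨k₂, hk₂, hk₂E⟩ := hEu n hn' b hbD
  have hku : ((k₂ * k₁ : GL ι F) : Matrix ι ι F) *ᵥ u = w := by
    rw [gl_mul_mulVec, hk₁E, huf, hvw hsu, hQw]
    simp only [one_smul, zero_smul, zero_mul, sub_zero]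
    rw [hk₂E]
    simp only [padd_left hQ, pself hQ u, hQu, pcomm w u, hvw hsu, hout hsu hn' b hbD, hwb]
    module
  obtain ⟨p, hp⟩ := Finset.exists_mem_notMem_of_card_lt_card (s := insert m (insert n T))
    (t := (Finset.univ : Finset (Fin t))) (by
      have h1 := Finset.card_insert_le m (insert n T)
      have h2 := Finset.card_insert_le n T
      rw [Finset.card_univ, Fintype.card_fin]
      omega)
  simp only [Finset.mem_insert, not_or] at hp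
  obtain ⟨-, hpm, hpn, hpT⟩ := hp
  have hwp : ∀ y ∈ D p, EIn Q M w y := fun y hy => by
    have hky : ((k₂ * k₁ : GL ι F) : Matrix ι ι F) *ᵥ y = y := by
      have h1 : pol Q y f = 0 := by rw [pcomm]; exact hout hsf hpT y hy
      have h2 : pol Q y w = 0 := by rw [pcomm]; exact hwperp hpm hpn y hy
      have h3 : pol Q y u = 0 := by rw [pcomm]; exact hout hsu hpT y hy
      rw [gl_mul_mulVec, hk₁E, h1, h2]
      simp only [zero_smul, mul_zero, sub_zero, add_zero]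
      rw [hk₂E, h3, hd.orthogonal p n hpn y hy b hbD]
      simp only [zero_smul, mul_zero, sub_zero, add_zero]
    have h4 := EIn.conj (hEu p hpT y hy) (hM (mul_mem hk₂ hk₁)) (mul_mem hk₂ hk₁)
    rwa [hku, hky] at h4
  have hwall : ∀ q, q ≠ m → q ≠ n → ∀ y ∈ D q, EIn Q M w y := fun q hqm hqn =>
    ein_spread hQ hD hn hM hHM hok ht (T := {m, n}) (by
        have := Finset.card_le_two (a := m) (b := n)
        omega)
      (fun r hr => by
        simp only [Finset.mem_insert, Finset.mem_singleton, not_or] at hr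
        exact hw r hr.1 hr.2)
      (l := p) (by simp [hpm, hpn]) hwp (m := q) (by simp [hqm, hqn])
  let S : AddSubgroup (ι → F) :=
    { carrier := {a | pol Q w a = 0 ∧ EIn Q M w a}
      zero_mem' := ⟨pzero_right hQ w, ein_zero hQ M hQw⟩
      add_mem' := fun {a b} ha hb =>
        ⟨by rw [padd_right hQ, ha.1, hb.1, add_zero], EIn.add hQ hQw ha.1 hb.1 ha.2 hb.2⟩
      neg_mem' := fun {a} ha => ⟨by rw [pneg_right hQ, ha.1, neg_zero], EIn.neg hQ hQw ha.1 ha.2⟩ }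
  have hmem : ∀ v, qcomp hQ hd m v = 0 → qcomp hQ hd n v = 0 → v ∈ S := fun v hvm hvn => by
    have hsum : v = ∑ q, qcomp hQ hd q v := qext_comp hQ hd fun q => by
      rw [qcomp_sum, Finset.sum_eq_single q]
      · rw [qcomp_self hQ hd (qcomp_mem hQ hd q v)]
      · exact fun r _ hrq => qcomp_other hQ hd hrq (qcomp_mem hQ hd r v)
      · simp
    rw [hsum]
    refine S.sum_mem fun q _ => ?_
    rcases eq_or_ne q m with rfl | hqm
    · rw [hvm]; exact S.zero_mem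
    rcases eq_or_ne q n with rfl | hqn
    · rw [hvn]; exact S.zero_mem
    exact ⟨hwperp hqm hqn _ (qcomp_mem hQ hd q v), hwall q hqm hqn _ (qcomp_mem hQ hd q v)⟩
  refine ⟨hQw, fun a hwa => ?_⟩
  obtain ⟨d, hd'⟩ : ∃ d, d = qcomp hQ hd m a + qcomp hQ hd n a := ⟨_, rfl⟩
  have hrest : a - d ∈ S := hmem _
    (by rw [qcomp_sub, hd', qcomp_add, qcomp_self hQ hd (qcomp_mem hQ hd m a),
      qcomp_other hQ hd hmn.symm (qcomp_mem hQ hd n a), add_zero, sub_self])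
    (by rw [qcomp_sub, hd', qcomp_add, qcomp_self hQ hd (qcomp_mem hQ hd n a),
      qcomp_other hQ hd hmn (qcomp_mem hQ hd m a), zero_add, sub_self])
  suffices hdS : d ∈ S by
    have := S.add_mem hrest hdS
    rw [sub_add_cancel] at this
    exact this.2
  have hwd : pol Q w d = 0 := by
    have := hrest.1
    rwa [psub_right hQ, hwa, zero_sub, neg_eq_zero] at this
  have hu0 : u ≠ 0 := fun h => by rw [h, pzero_left hQ] at huf; exact zero_ne_one huf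
  obtain ⟨i, hi⟩ := exists_qcomp_ne hQ hd hu0
  have hiT : i ∈ T := by_contra fun h => hi (hsu i h)
  have him : i ≠ m := fun h => hm (h ▸ hiT)
  have hin : i ≠ n := fun h => hn' (h ▸ hiT)
  obtain ⟨z₀, hz₀, huz₀⟩ := ((hd.nondegenerate i) _ (qcomp_mem hQ hd i u) hi).2
  obtain ⟨z, hz⟩ : ∃ z, z = (pol Q u z₀)⁻¹ • z₀ := ⟨_, rfl⟩
  have hzD : z ∈ D i := hz ▸ (D i).smul_mem _ hz₀
  have hzu : pol Q z u = 1 := by
    rw [pcomm, hz, psmul_right hQ, inv_mul_cancel₀]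
    rw [qcomp_pol hQ hd hz₀]
    exact huz₀
  have hzd : pol Q z d = 0 := by
    rw [hd', padd_right hQ, hd.orthogonal i m him z hzD _ (qcomp_mem hQ hd m a),
      hd.orthogonal i n hin z hzD _ (qcomp_mem hQ hd n a), add_zero]
  obtain ⟨g, hg, hgE⟩ := EIn.add hQ hQu (hout hsu hm _ (qcomp_mem hQ hd m a)) (hout hsu hn' _ (qcomp_mem hQ hd n a))
    (hEu m hm _ (qcomp_mem hQ hd m a)) (hEu n hn' _ (qcomp_mem hQ hd n a))
  rw [← hd'] at hgE
  have hgw : (g : Matrix ι ι F) *ᵥ w = w := by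
    rw [hgE, pcomm w u, hvw hsu, hwd]
    simp
  have hgz : (g : Matrix ι ι F) *ᵥ z = z + d - Q d • u := by
    rw [hgE, hzu, hzd]
    module
  have hwz : pol Q w z = 0 := hwperp him hin z hzD
  have h4 := EIn.conj (hwall i him hin z hzD) (hM hg) hg
  rw [hgw, hgz] at h4
  have hwu : pol Q w u = 0 := by rw [pcomm]; exact hvw hsu
  have h5 : z + d - Q d • u ∈ S :=
    ⟨by rw [psub_right hQ, padd_right hQ, psmul_right hQ, hwz, hwd, hwu]; ring, h4⟩
  have h6 : z - Q d • u ∈ S := hmem _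
    (by rw [qcomp_sub, qcomp_smul, qcomp_other hQ hd him hzD, hsu m hm, smul_zero, sub_zero])
    (by rw [qcomp_sub, qcomp_smul, qcomp_other hQ hd hin hzD, hsu n hn', smul_zero, sub_zero])
  have h7 := S.sub_mem h5 h6
  rwa [show z + d - Q d • u - (z - Q d • u) = d by abel] at h7

/-- a class leaving the members gives all of `Ω` -/
theorem plane_class_omega {c : F} (hc : c ≠ 0) {x : ι → F} (hx : x ∈ rclass Q D M c) (hxD : ∀ j, x ∉ D j) :
    omegaGL Q ≤ M := by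
  classical
  have hd := hD.decomp
  obtain ⟨z, hz, i, j, l, hij, hil, hjl, hi, hj, hl⟩ := exists_wide hQ hD hn hM hHM hok ht hc hx hxD
  obtain ⟨T, hT, u, z₁, i₀, hQu, huz, hE, hi₀, hsupp, l₀, hl₀, hzl₀⟩ :=
    exists_first hQ hD hn hM hHM hok ht hc hz hij hil hjl hi hj hl
  have hEu := exists_outer hQ hD hn hM hHM hok ht hT hQu huz hE hsupp hl₀ hzl₀
  -- a second vector of the same support
  obtain ⟨v₁, ⟨a, ha, hua, hQav⟩, hv₁0, -⟩ := exists_valSet_ne hQ (hd.nondegenerate i₀) (hd.decomp.finrank_eq i₀)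
    (hok i₀) (qcomp_mem hQ hd i₀ u) hi₀ 0 (fun _ => rfl)
  have hQa : Q a ≠ 0 := by rw [hQav]; exact hv₁0
  have hi₀T : i₀ ∈ T := by_contra fun h => hi₀ (hsupp i₀ h)
  have hua' : pol Q u a = 1 := by rw [qcomp_pol hQ hd ha]; exact hua
  obtain ⟨f, hf⟩ : ∃ f, f = -Q a • u + a := ⟨_, rfl⟩
  have hQf : Q f = 0 := by
    rw [hf, qadd hQ, qsmul hQ, hQu, psmul_left hQ, hua']
    ring
  have huf : pol Q u f = 1 := by
    rw [hf, padd_right hQ, psmul_right hQ, pself hQ, hQu, hua']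
    ring
  have hsf : ∀ m, m ∉ T → qcomp hQ hd m f = 0 := fun m hm => by
    rw [hf, qcomp_add, qcomp_smul, hsupp m hm, qcomp_other hQ hd (fun h : i₀ = m => hm (h ▸ hi₀T)) ha, smul_zero, add_zero]
  have hEf : ∀ m, m ∉ T → ∀ y ∈ D m, EIn Q M f y := by
    intro m hm y hy
    obtain ⟨p, hp⟩ := Finset.exists_mem_notMem_of_card_lt_card (s := insert m T)
      (t := (Finset.univ : Finset (Fin t))) (by
        have h1 := Finset.card_insert_le m T
        rw [Finset.card_univ, Fintype.card_fin]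
        omega)
    simp only [Finset.mem_insert, not_or] at hp
    obtain ⟨-, hpm, hpT⟩ := hp
    obtain ⟨r, hra, s, hs, hsy⟩ := exists_refl_lift hQ hD hn p ha hQa
    have hip : i₀ ≠ p := fun h => hpT (h ▸ hi₀T)
    have him : i₀ ≠ m := fun h => hm (h ▸ hi₀T)
    have hru : (r : Matrix ι ι F) *ᵥ u = (-(Q a)⁻¹) • f := by
      rw [hra, hua', hf]
      match_scalars <;> field_simp
    have hsu : (s : Matrix ι ι F) *ᵥ u = (r : Matrix ι ι F) *ᵥ u :=
      hsy u (by rw [qcomp_refl_other hQ hD hip ha hra]; exact hsupp p hpT)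
    obtain ⟨y', hy'⟩ : ∃ y', y' = (-(Q a)⁻¹)⁻¹ • y := ⟨_, rfl⟩
    have hy'D : y' ∈ D m := hy' ▸ (D m).smul_mem _ hy
    have hry : (r : Matrix ι ι F) *ᵥ y' = y' := refl_fix hQ hra (hd.orthogonal m i₀ him.symm y' hy'D a ha)
    have hsy' : (s : Matrix ι ι F) *ᵥ y' = y' := by
      rw [hsy y' (by rw [hry]; exact qcomp_other hQ hd (Ne.symm hpm) hy'D), hry]
    obtain ⟨g, hg, hgE⟩ := EIn.conj (hEu m hm y' hy'D) (hM (hHM hs)) (hHM hs)
    rw [hsu, hru, hsy'] at hgE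
    obtain ⟨k, -, hkE⟩ := exists_E hQ hQf (a := y) (by rw [qcomp_pol hQ hd hy, hsf m hm, pzero_left hQ])
    refine ⟨g, hg, ?_⟩
    have hc0 : (-(Q a)⁻¹) ≠ 0 := neg_ne_zero.2 (inv_ne_zero hQa)
    have h1 := IsE.smul_left hQ hgE hc0
    rwa [hy', smul_smul, mul_inv_cancel₀ hc0, one_smul] at h1
  -- two centres
  obtain ⟨m, hm⟩ := Finset.exists_mem_notMem_of_card_lt_card (s := T) (t := (Finset.univ : Finset (Fin t)))
    (by rw [Finset.card_univ, Fintype.card_fin]; omega)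
  obtain ⟨n, hn'⟩ := Finset.exists_mem_notMem_of_card_lt_card (s := insert m T) (t := (Finset.univ : Finset (Fin t)))
    (by
      have h1 := Finset.card_insert_le m T
      rw [Finset.card_univ, Fintype.card_fin]
      omega)
  simp only [Finset.mem_insert, not_or] at hn'
  obtain ⟨-, hnm, hnT⟩ := hn'
  obtain ⟨y, hy, hQy⟩ := exists_value_two hQ (hd.nondegenerate m) (hd.decomp.finrank_eq m).ge 1
  obtain ⟨y', hy', hQy'⟩ := exists_value_two hQ (hd.nondegenerate n) (hd.decomp.finrank_eq n).ge (-1)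
  have hy0 : y ≠ 0 := fun h => by rw [h, qzero hQ] at hQy; exact zero_ne_one hQy
  have hy'0 : y' ≠ 0 := fun h => by rw [h, qzero hQ] at hQy'; exact one_ne_zero (neg_eq_zero.1 hQy'.symm)
  obtain ⟨w, hw⟩ : ∃ w, w = y + y' := ⟨_, rfl⟩
  have hQw : Q w = 0 := by rw [hw, qadd hQ, hQy, hQy', hd.orthogonal m n (Ne.symm hnm) y hy y' hy']; ring
  have hwsupp : ∀ q, q ≠ m → q ≠ n → qcomp hQ hd q w = 0 := fun q hqm hqn => by
    rw [hw, qcomp_add, qcomp_other hQ hd hqm.symm hy, qcomp_other hQ hd hqn.symm hy', add_zero]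
  have hwn : qcomp hQ hd n w = y' := by
    rw [hw, qcomp_add, qcomp_other hQ hd (Ne.symm hnm) hy, qcomp_self hQ hd hy', zero_add]
  obtain ⟨v₂, ⟨a₂, ha₂, hya, hQa₂⟩, hv₂0, -⟩ := exists_valSet_ne hQ (hd.nondegenerate m) (hd.decomp.finrank_eq m)
    (hok m) hy hy0 0 (fun _ => rfl)
  obtain ⟨w', hw'⟩ : ∃ w', w' = w - (v₂⁻¹) • a₂ := ⟨_, rfl⟩
  have hwa₂ : pol Q w a₂ = 1 := by
    rw [hw, padd_left hQ, hya, hd.orthogonal n m hnm y' hy' a₂ ha₂, add_zero]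
  have hQw' : Q w' = 0 := by
    rw [hw', qsub hQ, qsmul hQ, hQw, hQa₂, psmul_right hQ, hwa₂]
    field_simp
    ring
  have hww' : pol Q w w' ≠ 0 := by
    rw [hw', psub_right hQ, pself hQ, hQw, psmul_right hQ, hwa₂, mul_zero, zero_sub, mul_one, neg_ne_zero]
    exact inv_ne_zero hv₂0
  have hw'supp : ∀ q, q ≠ m → q ≠ n → qcomp hQ hd q w' = 0 := fun q hqm hqn => by
    rw [hw', qcomp_sub, qcomp_smul, hwsupp q hqm hqn, qcomp_other hQ hd hqm.symm ha₂, smul_zero, sub_zero]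
  have hw'n : qcomp hQ hd n w' = y' := by
    rw [hw', qcomp_sub, qcomp_smul, hwn, qcomp_other hQ hd (Ne.symm hnm) ha₂, smul_zero, sub_zero]
  have hC := exists_centre hQ hD hn hM hHM hok ht hT hQu hQf huf hsupp hsf hEu hEf hm.2 hnT (Ne.symm hnm) hwsupp
    (by rw [hwn]; exact hy'0) hQw
  have hC' := exists_centre hQ hD hn hM hHM hok ht hT hQu hQf huf hsupp hsf hEu hEf hm.2 hnT (Ne.symm hnm) hw'supp
    (by rw [hw'n]; exact hy'0) hQw'
  exact omega_le_of_eCentres hQ hn fun v hv => eCentres_all hQ hM hC hC' hww' hv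

end CfsgLib.Perm.Trans.Quad
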