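import Cfsg.Agent.Lib.Perm.Trans.QuadNondegCases
import Cfsg.Agent.Lib.Perm.Trans.QuadPlaneClass

/-!
# Stabilisers of nondegenerate subspaces whose orthogonal has dimension four
-/

set_option autoImplicit false
set_option linter.all false

namespace CfsgLib.Perm.Trans.Quad

open scoped Matrix
open Matrix Cfsg.Geo CfsgLib.Perm.Asch CfsgLib.Perm.Trans

variable {ι : Type} [Fintype ι] [DecidableEq ι] {F : Type*} [Field F] [Fintype F]
variable {Q : (ι → F) → F}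

local notation "pol" => QuadraticMap.polar

variable (hQ : IsNondegenerateQuadraticForm Q) (h2 : (2 : F) ≠ 0)
include hQ

/-- an isometry stabilising a subspace agrees there with an element of `Ω` stabilising it -/
theorem exists_stab_agree (hn : 5 ≤ Fintype.card ι) {W : Submodule F (ι → F)} (hW : NdOn Q W)
    (hd : 2 ≤ Module.finrank F W) {h : GL ι F} (hh : h ∈ Cfsg.isometryGroup F Q)
    (hP : ∀ x ∈ qperp hQ W, (h : Matrix ι ι F) *ᵥ x ∈ qperp hQ W) :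
    ∃ s ∈ subspaceStabilizer W ⊓ omegaGL Q, ∀ x ∈ qperp hQ W, (s : Matrix ι ι F) *ᵥ x = (h : Matrix ι ι F) *ᵥ x := by
  obtain ⟨s, hs, hsh⟩ := exists_omega_agree hQ hn hW hd hh
  refine ⟨s, ⟨?_, hs⟩, hsh⟩
  have := stab_qperp hQ (qperp_nd hQ hW) (omegaGL_le_iso hs)
    (mem_stab_of_maps fun x hx => by rw [hsh x hx]; exact hP x hx)
  rwa [qperp_qperp hQ hW] at this

include h2 in
/-- a singular vector common to the orthogonal and its translate gives a pair of centres -/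
theorem nd_pair_of_common (hn : 5 ≤ Fintype.card ι) {W : Submodule F (ι → F)} (hW : NdOn Q W)
    (hP4 : 4 ≤ Module.finrank F (qperp hQ W))
    (hirr : Module.finrank F W = 2 → (∃ e ∈ W, e ≠ 0 ∧ Q e = 0) → 4 ≤ Fintype.card F) {M : Subgroup (GL ι F)}
    (hHM : subspaceStabilizer W ⊓ omegaGL Q ≤ M) (hM : M ≤ Cfsg.isometryGroup F Q) {g : GL ι F} (hg : g ∈ M)
    (hgW : g ∉ subspaceStabilizer W) {u : ι → F} (hu : u ∈ qperp hQ W) (hu0 : u ≠ 0) (hQu : Q u = 0)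
    (hgu : (g : Matrix ι ι F) *ᵥ u ∈ qperp hQ W) :
    ∃ e ∈ eCentres Q M, ∃ f ∈ eCentres Q M, pol Q e f ≠ 0 := by
  have hPnd := qperp_nd hQ hW
  obtain ⟨v, hv⟩ : ∃ v, v = (g : Matrix ι ι F) *ᵥ u := ⟨_, rfl⟩
  rw [← hv] at hgu
  have hv0 : v ≠ 0 := fun h => hu0 (gl_mulVec_eq_zero.1 (hv.symm.trans h))
  have hQv : Q v = 0 := by rw [hv, mem_iso.1 (hM hg), hQu]
  by_cases hmix : ∃ p ∈ qperp hQ W, pol Q u p = 0 ∧ (g : Matrix ι ι F) *ᵥ p ∉ qperp hQ W
  · obtain ⟨p, hp, hup, hgp⟩ := hmix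
    refine nd_pair_of_mixed hQ hn hW hP4 hirr hHM hM hgu hv0 hQv (a := (g : Matrix ι ι F) *ᵥ p)
      (by rw [hv, iso_pol (hM hg), hup]) hgp ?_
    obtain ⟨e, he, heE⟩ := ein_omega hQ hn hQu hup
    rw [hv]
    exact EIn.conj ⟨e, hHM ⟨mem_stab_of_maps fun x hx => by
      rw [heE, pcomm x u, hu x hx, pcomm x p, hp x hx]
      simpa using hx, he⟩, heE⟩ (hM hg) hg
  push Not at hmix
  obtain ⟨u', hu', hQu', huu'⟩ := exists_qpartner hQ hPnd hu hu0 hQu
  obtain ⟨w, hw, hwp⟩ := qperp_decomp hQ hW ((g : Matrix ι ι F) *ᵥ u')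
  have hvw : pol Q v w = 0 := hgu w hw
  have hQv' := hQv
  obtain ⟨e, he, heE⟩ := exists_E hQ hQv hvw
  obtain ⟨h, hh⟩ : ∃ h, h = e⁻¹ * g := ⟨_, rfl⟩
  have hhi : h ∈ Cfsg.isometryGroup F Q := hh ▸ mul_mem (inv_mem he) (hM hg)
  have hback : ∀ x y, (e : Matrix ι ι F) *ᵥ y = (g : Matrix ι ι F) *ᵥ x → (h : Matrix ι ι F) *ᵥ x = y :=
    fun x y hy => by rw [hh, gl_mul_mulVec, ← hy, gl_inv_mulVec]
  have hU₀ : ∀ x ∈ qperp hQ W, pol Q u x = 0 → (h : Matrix ι ι F) *ᵥ x ∈ qperp hQ W := by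
    intro x hx hux
    have h1 := hmix x hx hux
    rw [hback x ((g : Matrix ι ι F) *ᵥ x) ?_]
    · exact h1
    · rw [heE, show pol Q ((g : Matrix ι ι F) *ᵥ x) v = 0 by rw [hv, iso_pol (hM hg), pcomm, hux],
        show pol Q ((g : Matrix ι ι F) *ᵥ x) w = 0 from h1 w hw]
      simp
  have hhu' : (h : Matrix ι ι F) *ᵥ u' ∈ qperp hQ W := by
    rw [hback u' ((g : Matrix ι ι F) *ᵥ u' - w + Q w • v) ?_]
    · exact (qperp hQ W).add_mem hwp ((qperp hQ W).smul_mem _ hgu)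
    · rw [heE]
      have h1 : pol Q ((g : Matrix ι ι F) *ᵥ u' - w + Q w • v) v = 1 := by
        rw [padd_left hQ, psub_left hQ, psmul_left hQ, pself hQ v, hQv, pcomm w v, hvw, hv, iso_pol (hM hg),
          pcomm, huu']
        ring
      have h2' : pol Q ((g : Matrix ι ι F) *ᵥ u' - w + Q w • v) w = 0 := by
        rw [padd_left hQ, psmul_left hQ, hvw, mul_zero, add_zero]
        exact hwp w hw
      rw [h1, h2']
      module
  have hhP : ∀ x ∈ qperp hQ W, (h : Matrix ι ι F) *ᵥ x ∈ qperp hQ W := fun x hx => by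
    rw [← sub_add_cancel x (pol Q u x • u'), mulVec_add, mulVec_smul]
    exact (qperp hQ W).add_mem (hU₀ _ ((qperp hQ W).sub_mem hx ((qperp hQ W).smul_mem _ hu'))
      (by rw [psub_right hQ, psmul_right hQ, huu', mul_one, sub_self])) ((qperp hQ W).smul_mem _ hhu')
  have hhst : h ∈ subspaceStabilizer W := by
    have := stab_qperp hQ hPnd hhi (mem_stab_of_maps hhP)
    rwa [qperp_qperp hQ hW] at this
  have hw0 : w ≠ 0 := fun h0 => hgW (by
    have h1 : e = 1 := heE.unique (by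
      rw [h0]
      have := IsE.one hQ hQv (0 : F)
      rwa [zero_smul] at this)
    have h2' : h = g := by rw [hh, h1, inv_one, one_mul]
    rwa [← h2'])
  -- an element fixing `W` and negating `v`
  obtain ⟨v', hv', hQv'', hvv'⟩ := exists_qpartner hQ hPnd hgu hv0 hQv
  have hR := pair_nd hQ hgu hv' hQv hQv'' hvv' hPnd
  have hRd : 2 ≤ Module.finrank F (pairPerp hQ (qperp hQ W) v v') := by
    have := pair_finrank hQ hgu hv' hQv hQv'' hvv' (P := qperp hQ W)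
    omega
  have q1 : Q (v - v') ≠ 0 := by rw [qsub hQ, hQv, hQv'', hvv']; simp
  have q2 : Q (v' - -v) ≠ 0 := by rw [sub_neg_eq_add, qadd hQ, hQv, hQv'', pcomm, hvv']; simp
  obtain ⟨r₁, hr₁, hr₁E⟩ := exists_refl hQ q1
  obtain ⟨r₂, hr₂, hr₂E⟩ := exists_refl hQ q2
  obtain ⟨s, hs, hsk⟩ := exists_omega_agree hQ hn hR hRd (mul_mem hr₂ hr₁)
  have hsW : ∀ x ∈ W, (s : Matrix ι ι F) *ᵥ x = x := fun x hx => by
    have e1 : pol Q x v = 0 := by rw [pcomm]; exact hgu x hx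
    have e2 : pol Q x v' = 0 := by rw [pcomm]; exact hv' x hx
    rw [hsk x (fun r hr => by rw [pcomm]; exact ((mem_pairPerp hQ).1 hr).1 x hx), gl_mul_mulVec,
      refl_fix hQ hr₁E (by rw [psub_right hQ, e1, e2, sub_zero]),
      refl_fix hQ hr₂E (by rw [psub_right hQ, pneg_right hQ, e1, e2, neg_zero, sub_zero])]
  have hsv : (s : Matrix ι ι F) *ᵥ v = -v := by
    rw [hsk v (fun r hr => by rw [pcomm]; exact ((mem_pairPerp hQ).1 hr).2.1), gl_mul_mulVec,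
      refl_moves hQ (hQv.trans hQv''.symm) q1 hr₁E,
      refl_moves hQ (by rw [qneg hQ, hQv, hQv'']) q2 hr₂E]
  have hsst : s ∈ subspaceStabilizer W := mem_stab_of_maps fun x hx => by rw [hsW x hx]; exact hx
  have hsi := omegaGL_le_iso hs
  -- its conjugate differs from it by a mixed transformation
  have hs' : h⁻¹ * s * h ∈ subspaceStabilizer W ⊓ omegaGL Q := by
    refine ⟨(subspaceStabilizer W).mul_mem ((subspaceStabilizer W).mul_mem ((subspaceStabilizer W).inv_mem hhst) hsst) hhst, ?_⟩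
    have h1 := mul_mem (mem_omegaGL_comm (inv_mem hhi) hsi) hs
    rwa [inv_inv, inv_mul_cancel_right] at h1
  have hm : g * (h⁻¹ * s * h) * g⁻¹ * s⁻¹ ∈ M :=
    mul_mem (mul_mem (mul_mem hg (hHM hs')) (inv_mem hg)) (inv_mem (hHM ⟨hsst, hs⟩))
  have heq : g * (h⁻¹ * s * h) * g⁻¹ * s⁻¹ = e * s * e⁻¹ * s⁻¹ := by rw [hh]; group
  have hconj := heE.conj hsi
  rw [hsv, hsW w hw] at hconj
  have hconj' : IsE Q v (-w) (s * e * s⁻¹) := by
    have h1 := IsE.smul_left hQ (c := (-1 : F)) (by rwa [neg_one_smul]) (neg_ne_zero.2 one_ne_zero)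
    rwa [neg_one_smul] at h1
  have hone : e * (s * e * s⁻¹) = 1 := by
    have h1 := heE.mul hQ hQv hvw (by rw [pneg_right hQ, hvw, neg_zero]) hconj'
    rw [add_neg_cancel] at h1
    refine h1.unique ?_
    have := IsE.one hQ hQv (0 : F)
    rwa [zero_smul] at this
  have hee : e * s * e⁻¹ * s⁻¹ = e * e := by
    rw [show e * s * e⁻¹ * s⁻¹ = e * (s * e * s⁻¹)⁻¹ by group, ← eq_inv_of_mul_eq_one_left hone]
  refine nd_pair_of_mixed hQ hn hW hP4 hirr hHM hM hgu hv0 hQv (a := w + w)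
    (by rw [padd_right hQ, hvw, add_zero]) (fun hmem => ?_) ⟨_, hm, by
      rw [heq, hee]; exact heE.mul hQ hQv hvw hvw heE⟩
  have h3 : w + w ∈ W := W.add_mem hw hw
  obtain ⟨t, ht, hwt⟩ := (hW (w + w) h3 (by rw [← two_smul F w]; exact smul_ne_zero h2 hw0)).2
  exact hwt (hmem t ht)

include h2 in
/-- stabilisers of nondegenerate subspaces with orthogonal of dimension at least four and above half -/
theorem nd_subspace_maximal_four (hn : 5 ≤ Fintype.card ι) {W : Submodule F (ι → F)} (hW : NdOn Q W)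
    (hW3 : 3 ≤ Module.finrank F W) (hP4 : 4 ≤ Module.finrank F (qperp hQ W))
    (hbig : Fintype.card ι < 2 * Module.finrank F (qperp hQ W)) :
    IsMaximalIn (omegaGL Q) (subspaceStabilizer W ⊓ omegaGL Q) := by
  have hPnd := qperp_nd hQ hW
  refine isMaximalIn_of_pair hQ hn (fun hle => ?_) fun M hHM hM hMH => ?_
  · obtain ⟨w, hw, hw0⟩ := Submodule.exists_mem_ne_zero_of_ne_bot
      (show W ≠ ⊥ from fun h => by rw [h, finrank_bot] at hW3; omega)
    obtain ⟨u, hu, hu0, hQu⟩ := exists_qsingular hQ hPnd (by omega)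
    obtain ⟨w', hw', hww'⟩ := (hW w hw hw0).2
    obtain ⟨g, hg, hgE⟩ := ein_omega hQ hn hQu (hu w hw)
    have h1 : (g : Matrix ι ι F) *ᵥ w' ∈ W := (mem_subspaceStabilizer_iff.1 (hle hg) w').1 hw'
    rw [hgE, pcomm w' u, hu w' hw', zero_smul, add_zero, mul_zero, zero_smul, sub_zero, W.sub_mem_iff_right hw',
      W.smul_mem_iff (by rwa [pcomm])] at h1
    obtain ⟨t, ht, hut⟩ := (hW u h1 hu0).2
    exact hut (hu t ht)
  have hMi : M ≤ Cfsg.isometryGroup F Q := hM.trans omegaGL_le_iso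
  have hirr : Module.finrank F W = 2 → (∃ e ∈ W, e ≠ 0 ∧ Q e = 0) → 4 ≤ Fintype.card F := fun h => by omega
  obtain ⟨g, hg, hgW⟩ := SetLike.not_le_iff_exists.1 hMH
  -- a vector of the orthogonal mapped into it
  obtain ⟨y, hy, hy0⟩ := Submodule.exists_mem_ne_zero_of_ne_bot
    (show qperp hQ W ⊓ (qperp hQ W).map (Matrix.mulVecLin (g : Matrix ι ι F)) ≠ ⊥ from fun h => by
      have h1 := Submodule.finrank_sup_add_finrank_inf_eq (qperp hQ W)
        ((qperp hQ W).map (Matrix.mulVecLin (g : Matrix ι ι F)))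
      have hinj : Function.Injective (Matrix.mulVecLin (g : Matrix ι ι F)) := fun a b hab => by
        have := congrArg (fun x => ((g⁻¹ : GL ι F) : Matrix ι ι F) *ᵥ x) hab
        simpa [gl_inv_mulVec] using this
      rw [← (Submodule.equivMapOfInjective _ hinj _).finrank_eq, h, finrank_bot] at h1
      have h3 := Submodule.finrank_le
        (qperp hQ W ⊔ (qperp hQ W).map (Matrix.mulVecLin (g : Matrix ι ι F)))
      rw [Module.finrank_fintype_fun_eq_card] at h3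
      omega)
  obtain ⟨hyP, x, hx, hgx⟩ := hy
  rw [Matrix.mulVecLin_apply] at hgx
  have hx0 : x ≠ 0 := fun h => hy0 (by rw [← hgx, h, mulVec_zero])
  by_cases hQx : Q x = 0
  · exact nd_pair_of_common hQ h2 hn hW hP4 hirr hHM hMi hg hgW hx hx0 hQx (by rw [hgx]; exact hyP)
  have hQy : Q y = Q x := by rw [← hgx, mem_iso.1 (hMi hg)]
  -- normalise to fix the line of `x`
  obtain ⟨ε, hε, h, hh, hhy, hhP⟩ : ∃ ε : F, ε ≠ 0 ∧ ∃ h ∈ Cfsg.isometryGroup F Q,
      (h : Matrix ι ι F) *ᵥ y = ε • x ∧ ∀ z ∈ qperp hQ W, (h : Matrix ι ι F) *ᵥ z ∈ qperp hQ W := by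
    have key : ∀ x' ∈ qperp hQ W, Q (y - x') ≠ 0 → Q y = Q x' → ∃ h ∈ Cfsg.isometryGroup F Q,
        (h : Matrix ι ι F) *ᵥ y = x' ∧ ∀ z ∈ qperp hQ W, (h : Matrix ι ι F) *ᵥ z ∈ qperp hQ W := by
      intro x' hx' hne hval
      obtain ⟨r, hr, hrE⟩ := exists_refl hQ hne
      exact ⟨r, hr, refl_moves hQ hval hne hrE, fun z hz => by
        rw [hrE]
        exact (qperp hQ W).sub_mem hz ((qperp hQ W).smul_mem _ ((qperp hQ W).sub_mem hyP hx'))⟩
    by_cases hd : Q (y - x) = 0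
    · obtain ⟨h, hh, h1, h2'⟩ := key (-x) ((qperp hQ W).neg_mem hx) (fun h0 => by
        rw [sub_neg_eq_add, qadd hQ] at h0
        rw [qsub hQ] at hd
        refine mul_ne_zero (mul_ne_zero h2 h2) hQx ?_
        linear_combination hd + h0 - 2 * hQy) (by rw [qneg hQ, hQy])
      exact ⟨-1, neg_ne_zero.2 one_ne_zero, h, hh, by rw [neg_one_smul]; exact h1, h2'⟩
    · obtain ⟨h, hh, h1, h2'⟩ := key x hx hd hQy
      exact ⟨1, one_ne_zero, h, hh, by rw [one_smul]; exact h1, h2'⟩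
  obtain ⟨s, hs, hsh⟩ := exists_stab_agree hQ hn hW (by omega) hh hhP
  obtain ⟨g₁, hg₁⟩ : ∃ g₁, g₁ = s * g := ⟨_, rfl⟩
  have hg₁M : g₁ ∈ M := hg₁ ▸ mul_mem (hHM hs) hg
  have hg₁W : g₁ ∉ subspaceStabilizer W := fun hh' => hgW (by
    have := (subspaceStabilizer W).mul_mem ((subspaceStabilizer W).inv_mem hs.1) (hg₁ ▸ hh')
    rwa [inv_mul_cancel_left] at this)
  have hg₁x : (g₁ : Matrix ι ι F) *ᵥ x = ε • x := by rw [hg₁, gl_mul_mulVec, hgx, hsh y hyP, hhy]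
  -- a singular vector perpendicular to `x` and its image
  obtain ⟨P', hP'⟩ : ∃ P', P' = qperp hQ W ⊓ LinearMap.ker (pfl hQ x) := ⟨_, rfl⟩
  have hP'nd : NdOn Q P' := hP' ▸ nd_inf_perp hQ hPnd hx h2 hQx
  have hP'd : 3 ≤ Module.finrank F P' := by
    have := finrank_inf_pfl hQ (qperp hQ W) x
    rw [hP']
    omega
  have hP'm : ∀ z ∈ P', z ∈ qperp hQ W ∧ pol Q z x = 0 := fun z hz => by
    rw [hP'] at hz
    exact ⟨hz.1, hz.2⟩
  obtain ⟨u₁, hu₁, hu₁0, hQu₁⟩ := exists_qsingular hQ hP'nd hP'd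
  obtain ⟨u', hu', hQu', huu'⟩ := exists_qpartner hQ hP'nd hu₁ hu₁0 hQu₁
  obtain ⟨hu₁P, hu₁x⟩ := hP'm u₁ hu₁
  obtain ⟨hu'P, hu'x⟩ := hP'm u' hu'
  have hu'0 : u' ≠ 0 := fun h => by rw [h, pzero_right hQ] at huu'; exact zero_ne_one huu'
  obtain ⟨a, ha⟩ : ∃ a, a = (g₁ : Matrix ι ι F) *ᵥ u₁ := ⟨_, rfl⟩
  by_cases haP : a ∈ qperp hQ W
  · exact nd_pair_of_common hQ h2 hn hW hP4 hirr hHM hMi hg₁M hg₁W hu₁P hu₁0 hQu₁ (ha ▸ haP)
  have hQa : Q a = 0 := by rw [ha, mem_iso.1 (hMi hg₁M), hQu₁]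
  have hax : pol Q a x = 0 := by
    have h1 := iso_pol (hMi hg₁M) u₁ x
    rw [← ha, hg₁x, psmul_right hQ, hu₁x] at h1
    exact (mul_eq_zero.1 h1).resolve_left hε
  -- the transformations along `a`
  have fin : ∀ u ∈ qperp hQ W, u ≠ 0 → Q u = 0 → ∀ c : F, c ≠ 0 →
      c * pol Q u x + c ^ 2 * Q x * pol Q u a = 0 → ∃ e ∈ eCentres Q M, ∃ f ∈ eCentres Q M, pol Q e f ≠ 0 := by
    intro u hu hu0 hQu c hc hcu
    have hperp : pol Q u₁ ((c * ε⁻¹) • x) = 0 := by rw [psmul_right hQ, hu₁x, mul_zero]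
    obtain ⟨k, hk, hkE⟩ := ein_omega hQ hn hQu₁ hperp
    have h1 := EIn.conj (k := g₁) ⟨k, hHM ⟨mem_stab_of_maps fun z hz => by
      rw [hkE, show pol Q z u₁ = 0 by rw [pcomm]; exact hu₁P z hz,
        show pol Q z ((c * ε⁻¹) • x) = 0 by rw [pcomm, psmul_left hQ, hx z hz, mul_zero]]
      simpa using hz, hk⟩, hkE⟩ (hMi hg₁M) hg₁M
    rw [mulVec_smul, hg₁x, smul_smul, mul_assoc, inv_mul_cancel₀ hε, mul_one, ← ha] at h1
    obtain ⟨m, hm, hmE⟩ := h1
    refine nd_pair_of_common hQ h2 hn hW hP4 hirr hHM hMi hm (fun hst => haP ?_) hu hu0 hQu ?_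
    · have h3 := (mem_subspaceStabilizer_iff.1 (stab_qperp hQ hW (hMi hm) hst) x).1 hx
      rw [hmE, pcomm x a, hax, zero_smul, add_zero, mul_zero, zero_smul, sub_zero, psmul_right hQ, pself hQ,
        (qperp hQ W).sub_mem_iff_right hx] at h3
      exact ((qperp hQ W).smul_mem_iff (mul_ne_zero hc (mul_ne_zero h2 hQx))).1 h3
    · have h3 : (m : Matrix ι ι F) *ᵥ u = u + (pol Q u a * c) • x := by
        rw [hmE, qsmul hQ, psmul_right hQ, smul_smul, sub_sub, ← add_smul,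
          show c * pol Q u x + c ^ 2 * Q x * pol Q u a = 0 from hcu, zero_smul, sub_zero]
      rw [h3]
      exact (qperp hQ W).add_mem hu ((qperp hQ W).smul_mem _ hx)
  by_cases hA : pol Q u₁ a = 0
  · exact fin u₁ hu₁P hu₁0 hQu₁ 1 one_ne_zero (by rw [hu₁x, hA]; ring)
  by_cases hA' : pol Q u' a = 0
  · exact fin u' hu'P hu'0 hQu' 1 one_ne_zero (by rw [hu'x, hA']; ring)
  obtain ⟨z, hz, hQz⟩ := exists_nonsingular hQ (pair_nd hQ hu₁ hu' hQu₁ hQu' huu' hP'nd) (fun h => by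
    have := pair_finrank hQ hu₁ hu' hQu₁ hQu' huu' (P := P')
    rw [h, finrank_bot] at this
    omega)
  obtain ⟨hzP', hzu, hzu'⟩ := (mem_pairPerp hQ).1 hz
  obtain ⟨hzP, hzx⟩ := hP'm z hzP'
  obtain ⟨sc, t, ht, hne⟩ : ∃ sc t : F, t ≠ 0 ∧
      sc * pol Q z a + t * pol Q u₁ a - (Q x + sc ^ 2 * Q z) / t * pol Q u' a ≠ 0 := by
    by_contra hcon
    push Not at hcon
    have e0 := hcon 0 1 one_ne_zero
    have e1 := hcon 1 1 one_ne_zero
    have e2 := hcon 1 (-1) (neg_ne_zero.2 one_ne_zero)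
    simp only [div_neg, div_one, zero_mul, zero_add, one_mul, one_pow, neg_mul] at e0 e1 e2
    refine mul_ne_zero (mul_ne_zero h2 hQz) hA' ?_
    linear_combination e2 - e1 + 2 * e0
  obtain ⟨u, hu⟩ : ∃ u, u = x + sc • z + t • u₁ - ((Q x + sc ^ 2 * Q z) / t) • u' := ⟨_, rfl⟩
  have huP : u ∈ qperp hQ W := hu ▸ (qperp hQ W).sub_mem ((qperp hQ W).add_mem ((qperp hQ W).add_mem hx
    ((qperp hQ W).smul_mem _ hzP)) ((qperp hQ W).smul_mem _ hu₁P)) ((qperp hQ W).smul_mem _ hu'P)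
  have hux : pol Q u x = 2 * Q x := by
    rw [hu]
    simp only [padd_left hQ, psub_left hQ, psmul_left hQ, pself hQ, hzx, hu₁x, hu'x]
    ring
  have hu0 : u ≠ 0 := fun h => mul_ne_zero h2 hQx (by rw [← hux, h, pzero_left hQ])
  have hQu : Q u = 0 := by
    rw [hu]
    simp only [qsub hQ, qadd hQ, qsmul hQ, padd_left hQ, psub_left hQ, psmul_left hQ, psmul_right hQ, hQu₁, hQu',
      pcomm x z, hzx, pcomm x u₁, hu₁x, pcomm x u', hu'x, hzu, hzu', huu']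
    field_simp
    ring
  have hua : pol Q u a ≠ 0 := by
    rw [hu]
    simp only [padd_left hQ, psub_left hQ, psmul_left hQ, pcomm x a, hax, zero_add]
    exact hne
  refine fin u huP hu0 hQu (-(2 * Q x) / (Q x * pol Q u a)) (div_ne_zero (neg_ne_zero.2 (mul_ne_zero h2 hQx))
    (mul_ne_zero hQx hua)) ?_
  rw [hux]
  field_simp
  ring

end CfsgLib.Perm.Trans.Quad
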