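import Cfsg.Agent.Lib.Perm.Trans.UnitSubf

/-!
# Overgroups of unitary subfield groups with small transvection groups

An argument with involutions shows that an overgroup all of whose transvection groups at rational
points are rational is the subfield group.
-/

set_option autoImplicit false
set_option linter.all false

namespace CfsgLib.Perm.Trans.Unit

open scoped Matrix
open Matrix Cfsg.Geo CfsgLib.Perm.Asch CfsgLib.Perm.Trans
open CfsgLib.Perm.Trans.Subf (em lift em_add em_neg em_sub em_smul em_sum em_zero em_injective em_ne_zero exists_coords lift_em lift_mem ext_em)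

attribute [local instance] subfieldFintype

variable {ι : Type} [Fintype ι] [DecidableEq ι] {F : Type*} [Field F] [Fintype F]
variable {σ : F ≃+* F} {f : (ι → F) → (ι → F) → F} {F₀ : Subfield F} {P : GL ι F} {r : ℕ}
variable (D : HermRat σ f F₀ P r) {M : Subgroup (GL ι F)}
include D

/-- the transvection groups at rational points are rational -/
def Tight (D : HermRat σ f F₀ P r) (M : Subgroup (GL ι F)) : Prop :=
  ∀ a : ι → F₀, a ≠ 0 → hrForm D a a = 0 → ∀ c : F, σ c = -c → UT f M (em F₀ P a) c → c ∈ F₀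

variable (hHM : subfieldSubgroup F₀ P ⊓ (isoU f ⊓ specialLinear ι F) ≤ M)
variable (hM : M ≤ isoU f ⊓ specialLinear ι F) (hT : Tight D M)
include hHM hM

/-- a shear of rational vectors -/
theorem hr_shear {x y : ι → F₀} (hxx : hrForm D x x = 0) (hyy : hrForm D y y = 0) (hxy : hrForm D x y = 0)
    (μ : F₀) :
    ∃ g ∈ M, ∀ z, (g : Matrix ι ι F) *ᵥ z =
      z + ((μ : F) * f z (em F₀ P y)) • em F₀ P x - (σ (μ : F) * f z (em F₀ P x)) • em F₀ P y := by
  have hf' := hrForm_unitary D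
  obtain ⟨δ, hδ, hδσ⟩ := exists_trace_zero hf'
  have hμ : σ ((μ / δ : F₀) : F) = -(σ (μ : F) / (δ : F)) := by
    rw [Subfield.coe_div, map_div₀, ← hrBar_coe D δ, hδσ]
    push_cast
    rw [div_neg]
  obtain ⟨ν, hν⟩ : ∃ ν, ν = μ / δ := ⟨_, rfl⟩
  rw [← hν] at hμ
  have hiso : hrForm D (y + ν • x) (y + ν • x) = 0 := by
    rw [herm_line hf' y x ν, hyy, hxx, herm_swap_zero hf' hxy, hxy]
    ring
  obtain ⟨t₁, ht₁, h₁⟩ := hr_rat_tv D hHM hiso hδσ
  obtain ⟨t₂, ht₂, h₂⟩ := UT.neg D (hr_em_iso D hyy) (hr_rat_tv D hHM hyy hδσ)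
  obtain ⟨t₃, ht₃, h₃⟩ := UT.neg D (hr_em_iso D hxx)
    (UT.smul_iff D |>.1 (show UT f M ((ν : F) • em F₀ P x) (δ : F) from (em_smul F₀ P ν x) ▸
      hr_rat_tv D hHM (by rw [hf'.smul_left, herm_smul_right hf', hxx, mul_zero, mul_zero]) hδσ))
  refine ⟨t₁ * t₂ * t₃, M.mul_mem (M.mul_mem ht₁ ht₂) ht₃, fun z => ?_⟩
  have hxy' := hr_em_zero D hxy
  have hδ' : (δ : F) ≠ 0 := fun h => hδ (Subtype.ext h)
  simp only [gl_mul_mulVec, h₁, h₂, h₃, em_add, em_smul, D.form.add_left, herm_add_right D.form, D.form.smul_left,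
    herm_smul_right D.form, hr_em_iso D hxx, hr_em_iso D hyy, hxy', herm_swap_zero D.form hxy', mul_zero, add_zero]
  rw [hμ]
  have : (ν : F) = (μ : F) / (δ : F) := by rw [hν]; push_cast; rfl
  rw [this]
  match_scalars <;> field_simp <;> ring

theorem hr_conj_centre {g : GL ι F} (hg : g ∈ M) {a : ι → F₀} (ha : hrForm D a a = 0) {c : F₀}
    (hc : hrBar D c = -c) : UT f M ((g : Matrix ι ι F) *ᵥ em F₀ P a) (c : F) :=
  (hr_rat_tv D hHM ha hc).conj (hM.trans inf_le_left) hg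

omit hHM hM in
theorem hr_isotropic_partner (hn : 4 ≤ Fintype.card ι) {x : ι → F₀} (hxx : hrForm D x x = 0) {e : ι → F₀}
    (hee : hrForm D e e = 0) (hex : hrForm D e x = 0) (hind : e ∉ Submodule.span F₀ ({x} : Set (ι → F₀))) :
    ∃ w, hrForm D w w = 0 ∧ hrForm D x w = 0 ∧ hrForm D e w = 1 := by
  have hf' := hrForm_unitary D
  obtain ⟨φ, hφe, hφx⟩ := exists_dual _ hind
  obtain ⟨y, hy⟩ := exists_rep hf' φ
  obtain ⟨w, hw, hww, hew, -⟩ := exists_partner hf' (X := perpOf hf' x) (mem_perpOf hf' |>.2 hex) hee (y := y)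
    (mem_perpOf hf' |>.2 (herm_swap_zero hf' (by rw [hy, hφx x (Submodule.mem_span_singleton_self x)])))
    (by rw [hy, hφe]; exact one_ne_zero)
  exact ⟨w, hww, herm_swap_zero hf' hw, hew⟩

include hT

/-- a centre orthogonal to a rational isotropic vector is rational -/
theorem centre_rational (hn : 4 ≤ Fintype.card ι) {v : ι → F} (hvv : f v v = 0) {δ : F₀}
    (hδ : δ ≠ 0) (hδσ : hrBar D δ = -δ) (hv : UT f M v (δ : F)) {x : ι → F₀} (hx : x ≠ 0)
    (hxx : hrForm D x x = 0) (hvx : f v (em F₀ P x) = 0) :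
    ∃ (t : F) (d : ι → F₀), v = t • em F₀ P d := by
  have hf' := hrForm_unitary D
  have hMiso : M ≤ isoU f := hM.trans inf_le_left
  have hδ' : (δ : F) ≠ 0 := fun h => hδ (Subtype.ext h)
  have hδσ' : σ (δ : F) = -(δ : F) := by rw [← hrBar_coe D, hδσ]; rfl
  obtain ⟨z, hz⟩ := (hf'.nondegenerate x hx).2
  obtain ⟨h, -, hhh, hxh, hhx⟩ := exists_partner hf' (X := ⊤) Submodule.mem_top hxx (y := z) Submodule.mem_top hz
  by_cases hy : ∃ y, hrForm D y y = 0 ∧ hrForm D x y = 0 ∧ f v (em F₀ P y) ≠ 0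
  swap
  · -- `v` is orthogonal to the perpendicular space of `x`
    push Not at hy
    let S : Submodule F₀ (ι → F₀) :=
      { carrier := {a | f v (em F₀ P a) = 0}
        add_mem' := fun {a b} ha hb => by
          show f v (em F₀ P (a + b)) = 0
          rw [em_add, herm_add_right D.form, show f v (em F₀ P a) = 0 from ha,
            show f v (em F₀ P b) = 0 from hb, add_zero]
        zero_mem' := by show f v (em F₀ P 0) = 0; rw [em_zero, herm_zero_right D.form]
        smul_mem' := fun c a ha => by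
          show f v (em F₀ P (c • a)) = 0
          rw [em_smul, herm_smul_right D.form, show f v (em F₀ P a) = 0 from ha, mul_zero] }
    obtain ⟨e, hez, he0, hee⟩ := exists_isotropic hf' (W := perpOf hf' x ⊓ perpOf hf' h) (by
      have h1 := finrank_perp hf' x
      have h2 := finrank_inf_perp hf' (perpOf hf' x) h
      omega)
    have hex : hrForm D e x = 0 := hez.1
    have heh : hrForm D e h = 0 := hez.2
    have hind : e ∉ Submodule.span F₀ ({x} : Set (ι → F₀)) := fun hm => by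
      obtain ⟨c, rfl⟩ := Submodule.mem_span_singleton.1 hm
      rw [hf'.smul_left, hxh, mul_one] at heh
      exact he0 (by rw [heh, zero_smul])
    obtain ⟨w, hww, hxw, hew⟩ := hr_isotropic_partner D (by omega) hxx hee hex hind
    have hle : perpOf hf' x ≤ S := subspace_le_of_pair hf' (X := perpOf hf' x) (mem_perpOf hf' |>.2 hex) hee
      (mem_perpOf hf' |>.2 (herm_swap_zero hf' hxw)) hww hew (hy e hee (herm_swap_zero hf' hex))
      (fun q hq hqq _ => hy q hqq (herm_swap_zero hf' hq))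
    refine ⟨f v (em F₀ P h), x, ?_⟩
    refine eq_of_herm D.form fun q => ?_
    obtain ⟨a, rfl⟩ := exists_coords F₀ P q
    have key : ∀ b : ι → F₀, f (em F₀ P b) v = f (em F₀ P b) (f v (em F₀ P h) • em F₀ P x) := by
      intro b
      have hmem : b - hrForm D b x • h ∈ perpOf hf' x := by
        rw [mem_perpOf, herm_sub_left hf', hf'.smul_left, hhx, mul_one, sub_self]
      have h1 : f v (em F₀ P (b - hrForm D b x • h)) = 0 := hle hmem
      rw [em_sub, em_smul, herm_sub_right D.form, herm_smul_right D.form, sub_eq_zero, hrForm_coe] at h1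
      rw [D.form.herm (em F₀ P b) v, h1, map_mul, D.form.involutive, herm_smul_right D.form, mul_comm]
    induction (Finset.univ : Finset ι) using Finset.induction_on with
    | empty => simp [herm_zero_left D.form]
    | @insert i s hi ih =>
      rw [Finset.sum_insert hi, D.form.add_left, D.form.add_left, ih, D.form.smul_left, D.form.smul_left, key]
  obtain ⟨y, hyy, hxy, hφ⟩ := hy
  obtain ⟨φ, hφdef⟩ : ∃ φ, φ = f v (em F₀ P y) := ⟨_, rfl⟩
  rw [← hφdef] at hφ
  have hxx' := hr_em_iso D hxx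
  obtain ⟨v', hv'def⟩ : ∃ v', v' = v + φ • em F₀ P x := ⟨_, rfl⟩
  have hv' : UT f M v' (δ : F) := by
    obtain ⟨g, hg, hgz⟩ := hr_shear D hHM hM hxx hyy hxy 1
    have h1 := hv.conj hMiso hg
    rw [hgz, hvx, ← hφdef] at h1
    push_cast at h1
    rw [mul_zero, zero_smul, sub_zero, one_mul, ← hv'def] at h1
    exact h1
  have hv'v' : f v' v' = 0 := by
    simp only [hv'def, D.form.add_left, herm_add_right D.form, D.form.smul_left, herm_smul_right D.form, hvv, hvx,
      hxx', herm_swap_zero D.form hvx, mul_zero, add_zero]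
  obtain ⟨t₁, ht₁, h₁⟩ := hv'
  obtain ⟨t₂, ht₂, h₂⟩ := UT.neg D hvv hv
  -- the coefficient of the moved vectors is rational
  have hγ : ∀ e : ι → F₀, hrForm D e e = 0 → hrForm D e x = 0 → (δ : F) * f (em F₀ P e) v * φ ∈ F₀ := by
    intro e hee hex
    by_cases hind : e ∈ Submodule.span F₀ ({x} : Set (ι → F₀))
    · obtain ⟨c, rfl⟩ := Submodule.mem_span_singleton.1 hind
      rw [em_smul, D.form.smul_left, herm_swap_zero D.form hvx, mul_zero, mul_zero, zero_mul]
      exact F₀.zero_mem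
    obtain ⟨γ, hγdef⟩ : ∃ γ, γ = (δ : F) * f (em F₀ P e) v * φ := ⟨_, rfl⟩
    rw [← hγdef]
    have hex' := hr_em_zero D hex
    have hee' := hr_em_iso D hee
    have him : ((t₁ * t₂ : GL ι F) : Matrix ι ι F) *ᵥ em F₀ P e = em F₀ P e + γ • em F₀ P x := by
      simp only [gl_mul_mulVec, h₁, h₂, hv'def, hγdef, D.form.add_left, herm_add_right D.form, D.form.smul_left,
        herm_smul_right D.form, hvv, hvx, hex', mul_zero, add_zero]
      module
    have hbase : UT f M (em F₀ P e + γ • em F₀ P x) (δ : F) := by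
      rw [← him]
      exact hr_conj_centre D hHM hM (M.mul_mem ht₁ ht₂) hee hδσ
    obtain ⟨w, hww, hxw, hew⟩ := hr_isotropic_partner D (by omega) hxx hee hex hind
    have hshift : ∀ μ : F₀, UT f M (em F₀ P e + (γ + μ) • em F₀ P x) (δ : F) := by
      intro μ
      obtain ⟨g, hg, hgz⟩ := hr_shear D hHM hM hxx hww hxw μ
      have h1 := hbase.conj hMiso hg
      rw [hgz] at h1
      simp only [D.form.add_left, D.form.smul_left, hr_em_one D hew, hex', hxx', hr_em_zero D hxw, mul_one,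
        mul_zero, add_zero, zero_smul, sub_zero] at h1
      rwa [add_smul, ← add_assoc]
    have htr : ∀ μ : F₀, γ * σ (μ : F) + (μ : F) * σ γ ∈ F₀ := by
      intro μ
      have h1 := UT.bilin D hee' hxx' hex' (hr_rat_tv D hHM hee hδσ) hbase (b := (μ : F)) (by
        have hiso : hrForm D (e + μ • x) (e + μ • x) = 0 := by
          rw [herm_line hf' e x μ, hee, hxx, hex, herm_swap_zero hf' hex]; ring
        have := hr_rat_tv D hHM hiso hδσ
        rwa [em_add, em_smul] at this) (hshift μ)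
      have h2 := hT x hx hxx _ (by
        rw [map_mul, hδσ', map_add, map_mul, map_mul, D.form.involutive, D.form.involutive]; ring) h1
      have h3 := F₀.div_mem h2 δ.2
      rwa [mul_div_cancel_left₀ _ hδ'] at h3
    obtain ⟨θ, hθ⟩ := hr_not_fixed D
    have h1 := htr 1
    have h2 := htr θ
    push_cast at h1
    rw [map_one, mul_one, one_mul] at h1
    have hne : σ (θ : F) - θ ≠ 0 := sub_ne_zero.2 hθ
    rw [show γ = ((γ * σ (θ : F) + θ * σ γ) - θ * (γ + σ γ)) / (σ (θ : F) - θ) by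
      rw [eq_div_iff hne]; ring]
    exact F₀.div_mem (F₀.sub_mem h2 (F₀.mul_mem θ.2 h1)) (F₀.sub_mem (hr_bar_mem D θ.2) θ.2)
  -- so `v` is in a rational plane
  have hN : φ * σ φ ∈ F₀ := by
    have h1 := hγ y hyy (herm_swap_zero hf' hxy)
    rw [D.form.herm (em F₀ P y) v, ← hφdef] at h1
    have h2 := F₀.div_mem h1 δ.2
    rwa [mul_assoc, mul_div_cancel_left₀ _ hδ', mul_comm] at h2
  have hσφ : σ φ ≠ 0 := by simpa using hφ
  obtain ⟨u, u', huu'⟩ : ∃ (u : ι → F₀) (u' : F), v = φ • em F₀ P u + u' • em F₀ P x := by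
    -- the rational functional
    obtain ⟨e, hez, he0, hee⟩ := exists_isotropic hf' (W := perpOf hf' x ⊓ perpOf hf' h) (by
      have h1 := finrank_perp hf' x
      have h2 := finrank_inf_perp hf' (perpOf hf' x) h
      omega)
    have hex : hrForm D e x = 0 := hez.1
    have heh : hrForm D e h = 0 := hez.2
    have hind : e ∉ Submodule.span F₀ ({x} : Set (ι → F₀)) := fun hm => by
      obtain ⟨c, rfl⟩ := Submodule.mem_span_singleton.1 hm
      rw [hf'.smul_left, hxh, mul_one] at heh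
      exact he0 (by rw [heh, zero_smul])
    obtain ⟨w, hww, hxw, hew⟩ := hr_isotropic_partner D (by omega) hxx hee hex hind
    let S : Submodule F₀ (ι → F₀) :=
      { carrier := {a | f (em F₀ P a) v / σ φ ∈ F₀}
        add_mem' := fun {a b} ha hb => by
          show f (em F₀ P (a + b)) v / σ φ ∈ F₀
          rw [em_add, D.form.add_left, add_div]
          exact F₀.add_mem ha hb
        zero_mem' := by
          show f (em F₀ P 0) v / σ φ ∈ F₀
          rw [em_zero, herm_zero_left D.form, zero_div]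
          exact F₀.zero_mem
        smul_mem' := fun c a ha => by
          show f (em F₀ P (c • a)) v / σ φ ∈ F₀
          rw [em_smul, D.form.smul_left, mul_div_assoc]
          exact F₀.mul_mem c.2 ha }
    have hiso : ∀ q, hrForm D q q = 0 → hrForm D q x = 0 → q ∈ S := fun q hqq hqx => by
      show f (em F₀ P q) v / σ φ ∈ F₀
      have h1 := F₀.div_mem (F₀.div_mem (hγ q hqq hqx) δ.2) hN
      rwa [mul_assoc, mul_div_cancel_left₀ _ hδ', mul_comm φ (σ φ), mul_div_mul_right _ _ hφ] at h1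
    have hle : perpOf hf' x ≤ S := subspace_le_of_pair hf' (X := perpOf hf' x) (mem_perpOf hf' |>.2 hex) hee
      (mem_perpOf hf' |>.2 (herm_swap_zero hf' hxw)) hww hew (hiso e hee hex) (fun q hq hqq _ => hiso q hqq hq)
    have hmem : ∀ b, b - hrForm D b x • h ∈ perpOf hf' x := fun b => by
      rw [mem_perpOf, herm_sub_left hf', hf'.smul_left, hhx, mul_one, sub_self]
    let L : (ι → F₀) →ₗ[F₀] F₀ :=
      { toFun := fun b => ⟨_, hle (hmem b)⟩
        map_add' := fun a b => Subtype.ext (by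
          push_cast
          rw [hf'.add_left, add_smul, add_sub_add_comm, em_add, D.form.add_left, add_div])
        map_smul' := fun c b => Subtype.ext (by
          push_cast [RingHom.id_apply, smul_eq_mul]
          rw [hf'.smul_left, mul_smul, ← smul_sub, em_smul, D.form.smul_left, mul_div_assoc]) }
    obtain ⟨u, hu⟩ := exists_rep hf' (fvec L)
    refine ⟨u, σ (f (em F₀ P h) v), eq_of_herm D.form fun q => ?_⟩
    obtain ⟨a, rfl⟩ := exists_coords F₀ P q
    have key : ∀ b : ι → F₀,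
        f (em F₀ P b) v = f (em F₀ P b) (φ • em F₀ P u + σ (f (em F₀ P h) v) • em F₀ P x) := by
      intro b
      rw [herm_add_right D.form, herm_smul_right D.form, herm_smul_right D.form, D.form.involutive,
        ← hrForm_coe D b u, ← hrForm_coe D b x, hu, fvec_dot]
      show _ = σ φ * (f (em F₀ P (b - hrForm D b x • h)) v / σ φ) + _
      rw [mul_div_cancel₀ _ hσφ, em_sub, em_smul, herm_sub_left D.form, D.form.smul_left]
      ring
    induction (Finset.univ : Finset ι) using Finset.induction_on with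
    | empty => simp [herm_zero_left D.form]
    | @insert i s hi ih =>
      rw [Finset.sum_insert hi, D.form.add_left, D.form.add_left, ih, D.form.smul_left, D.form.smul_left, key]
  have hux' : f (em F₀ P u) (em F₀ P x) = 0 := by
    have h1 := hvx
    rw [huu', D.form.add_left, D.form.smul_left, D.form.smul_left, hxx', mul_zero, add_zero] at h1
    exact (mul_eq_zero.1 h1).resolve_left hφ
  have hux : hrForm D u x = 0 := Subtype.ext hux'
  have huu : hrForm D u u = 0 := by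
    refine Subtype.ext ?_
    rw [hrForm_coe]
    have h1 := hvv
    simp only [huu', D.form.add_left, herm_add_right D.form, D.form.smul_left, herm_smul_right D.form, hxx', hux',
      herm_swap_zero D.form hux', mul_zero, add_zero] at h1
    exact ((mul_eq_zero.1 h1).resolve_left hφ |> mul_eq_zero.1).resolve_left hσφ
  by_cases hind : u ∈ Submodule.span F₀ ({x} : Set (ι → F₀))
  · obtain ⟨c, hc⟩ := Submodule.mem_span_singleton.1 hind
    exact ⟨φ * c + u', x, by rw [huu', ← hc, em_smul, smul_smul, add_smul]⟩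
  obtain ⟨γ, hγdef⟩ : ∃ γ, γ = u' / φ := ⟨_, rfl⟩
  have hvγ : v = φ • (em F₀ P u + γ • em F₀ P x) := by
    rw [smul_add, smul_smul, hγdef, mul_div_cancel₀ _ hφ]
    exact huu'
  obtain ⟨k, hkdef⟩ : ∃ k : F₀, k = δ * ⟨_, hN⟩ := ⟨_, rfl⟩
  have hkσ : hrBar D k = -k := by
    refine Subtype.ext ?_
    rw [hrBar_coe, hkdef]
    push_cast
    rw [map_mul, hδσ', map_mul, D.form.involutive]
    ring
  have hbase : UT f M (em F₀ P u + γ • em F₀ P x) (k : F) := by
    have h1 := hv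
    rw [hvγ, UT.smul_iff D] at h1
    rw [hkdef]
    push_cast
    exact h1
  have hk' : (k : F) ≠ 0 := by
    rw [hkdef]
    push_cast
    exact mul_ne_zero hδ' (mul_ne_zero hφ hσφ)
  obtain ⟨w, hww, hxw, huw⟩ := hr_isotropic_partner D (by omega) hxx huu hux hind
  have htr : ∀ μ : F₀, γ * σ (μ : F) + (μ : F) * σ γ ∈ F₀ := by
    intro μ
    have hiso : hrForm D (u + μ • x) (u + μ • x) = 0 := by
      rw [herm_line hf' u x μ, huu, hxx, hux, herm_swap_zero hf' hux]; ring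
    have hshift : UT f M (em F₀ P u + (γ + μ) • em F₀ P x) (k : F) := by
      obtain ⟨g, hg, hgz⟩ := hr_shear D hHM hM hxx hww hxw μ
      have h1 := hbase.conj hMiso hg
      rw [hgz] at h1
      simp only [D.form.add_left, D.form.smul_left, hr_em_one D huw, hux', hxx', hr_em_zero D hxw, mul_one,
        mul_zero, add_zero, zero_smul, sub_zero] at h1
      rwa [add_smul, ← add_assoc]
    have h1 := UT.bilin D (hr_em_iso D huu) hxx' hux' (hr_rat_tv D hHM huu hkσ) hbase (b := (μ : F)) (by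
      have := hr_rat_tv D hHM hiso hkσ
      rwa [em_add, em_smul] at this) hshift
    have hkσ' : σ (k : F) = -(k : F) := by rw [← hrBar_coe D, hkσ]; rfl
    have h2 := hT x hx hxx _ (by
      rw [map_mul, hkσ', map_add, map_mul, map_mul, D.form.involutive, D.form.involutive]; ring) h1
    have h3 := F₀.div_mem h2 k.2
    rwa [mul_div_cancel_left₀ _ hk'] at h3
  obtain ⟨θ, hθ⟩ := hr_not_fixed D
  have h1 := htr 1
  have h2 := htr θ
  push_cast at h1
  rw [map_one, mul_one, one_mul] at h1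
  have hγF : γ ∈ F₀ := by
    rw [show γ = ((γ * σ (θ : F) + θ * σ γ) - θ * (γ + σ γ)) / (σ (θ : F) - θ) by
      rw [eq_div_iff (sub_ne_zero.2 hθ)]; ring]
    exact F₀.div_mem (F₀.sub_mem h2 (F₀.mul_mem θ.2 h1)) (F₀.sub_mem (hr_bar_mem D θ.2) θ.2)
  exact ⟨φ, u + (⟨γ, hγF⟩ : F₀) • x, by rw [hvγ, em_add, em_smul]⟩

/-- an element fixing a rational isotropic line is in the subfield group -/
theorem mem_subfield_of_point (hn : 4 ≤ Fintype.card ι) {g : GL ι F} (hg : g ∈ M) {x : ι → F₀} (hx : x ≠ 0)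
    (hxx : hrForm D x x = 0) {t : F} {x' : ι → F₀} (hgx : (g : Matrix ι ι F) *ᵥ em F₀ P x = t • em F₀ P x') :
    g ∈ subfieldSubgroup F₀ P ⊓ (isoU f ⊓ specialLinear ι F) := by
  have hf' := hrForm_unitary D
  obtain ⟨δ, hδ, hδσ⟩ := exists_trace_zero hf'
  have hgiso := mem_isoU.1 (hM hg).1
  have step : ∀ {x : ι → F₀}, x ≠ 0 → hrForm D x x = 0 → ∀ {t : F} {x' : ι → F₀},
      (g : Matrix ι ι F) *ᵥ em F₀ P x = t • em F₀ P x' → ∀ a : ι → F₀, hrForm D a a = 0 → hrForm D a x = 0 →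
      ∃ (t : F) (b : ι → F₀), (g : Matrix ι ι F) *ᵥ em F₀ P a = t • em F₀ P b := by
    intro x hx hxx t x' hgx a haa hax
    have ht : t ≠ 0 := fun h0 => em_ne_zero F₀ P hx (gl_mulVec_eq_zero.1 (by rw [hgx, h0, zero_smul]))
    have hx'0 : x' ≠ 0 := fun h0 => em_ne_zero F₀ P hx (gl_mulVec_eq_zero.1 (by
      rw [hgx, h0, em_zero, smul_zero]))
    have hx'x' : hrForm D x' x' = 0 := by
      have h1 := hgiso (em F₀ P x) (em F₀ P x)
      rw [hgx, hr_em_iso D hxx, D.form.smul_left, herm_smul_right D.form] at h1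
      exact Subtype.ext (((mul_eq_zero.1 h1).resolve_left ht |> mul_eq_zero.1).resolve_left (by simpa using ht))
    have hvx : f ((g : Matrix ι ι F) *ᵥ em F₀ P a) (em F₀ P x') = 0 := by
      have h1 := hgiso (em F₀ P a) (em F₀ P x)
      rw [hgx, hr_em_zero D hax, herm_smul_right D.form] at h1
      exact (mul_eq_zero.1 h1).resolve_left (by simpa using ht)
    exact centre_rational D hHM hM hT hn (by rw [hgiso, hr_em_iso D haa]) hδ hδσ
      (hr_conj_centre D hHM hM hg haa hδσ) hx'0 hx'x' hvx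
  refine ⟨hr_subfield_of_iso_lines D (by omega) fun a haa => ?_, hM hg⟩
  obtain ⟨y, hy0, hyy, hyx, hya⟩ := hr_exists_orth D (by omega) x a
  obtain ⟨s, y', hgy⟩ := step hx hxx hgx y hyy hyx
  exact step hy0 hyy hgy a haa (herm_swap_zero hf' hya)

omit hT in
/-- an element with a rational isotropic fixed vector and a rational isotropic vector orthogonal to its fixed space -/
def Anchored (D : HermRat σ f F₀ P r) (z : GL ι F) : Prop :=
  ∃ x y : ι → F₀, x ≠ 0 ∧ y ≠ 0 ∧ hrForm D x x = 0 ∧ hrForm D y y = 0 ∧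
    (z : Matrix ι ι F) *ᵥ em F₀ P x = em F₀ P x ∧
    ∀ w, (z : Matrix ι ι F) *ᵥ w = w → f w (em F₀ P y) = 0

theorem mem_of_conj_anchored (hn : 4 ≤ Fintype.card ι) {g z z' : GL ι F} (hg : g ∈ M) (hz : Anchored D z)
    (hz' : Anchored D z') (hconj : g * z * g⁻¹ = z') : g ∈ subfieldSubgroup F₀ P ⊓ (isoU f ⊓ specialLinear ι F) := by
  obtain ⟨x, -, hx, -, hxx, -, hzx, -⟩ := hz
  obtain ⟨-, y', -, hy', -, hy'y', -, hfix⟩ := hz'
  obtain ⟨δ, hδ, hδσ⟩ := exists_trace_zero (hrForm_unitary D)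
  have h1 : (z' : Matrix ι ι F) *ᵥ ((g : Matrix ι ι F) *ᵥ em F₀ P x) = (g : Matrix ι ι F) *ᵥ em F₀ P x := by
    rw [← hconj, gl_mul_mulVec, gl_mul_mulVec, gl_inv_mulVec, hzx]
  obtain ⟨t, x', hgx⟩ := centre_rational D hHM hM hT hn (by rw [mem_isoU.1 (hM hg).1, hr_em_iso D hxx]) hδ hδσ
    (hr_conj_centre D hHM hM hg hxx hδσ) hy' hy'y' (hfix _ h1)
  exact mem_subfield_of_point D hHM hM hT hn hg hx hxx hgx

omit hT hHM hM in
/-- `z` moves vectors inside a subspace of dimension at most `k` -/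
def Narrow (k : ℕ) (z : GL ι F) : Prop :=
  ∃ S : Submodule F (ι → F), Module.finrank F S ≤ k ∧ ∀ w, (z : Matrix ι ι F) *ᵥ w - w ∈ S

omit hT hHM hM D in
theorem Narrow.fixed {k : ℕ} {z : GL ι F} (h : Narrow k z) :
    ∃ K : Submodule F (ι → F), Fintype.card ι ≤ Module.finrank F K + k ∧
      ∀ w ∈ K, (z : Matrix ι ι F) *ᵥ w = w := by
  obtain ⟨S, hS, hzS⟩ := h
  let L : (ι → F) →ₗ[F] (ι → F) :=
    { toFun := fun w => (z : Matrix ι ι F) *ᵥ w - w
      map_add' := fun a b => by rw [mulVec_add, add_sub_add_comm]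
      map_smul' := fun c a => by rw [mulVec_smul, ← smul_sub]; rfl }
  refine ⟨LinearMap.ker L, ?_, fun w hw => sub_eq_zero.1 (LinearMap.mem_ker.1 hw)⟩
  have h1 := LinearMap.finrank_range_add_finrank_ker L
  have h2 : Module.finrank F (LinearMap.range L) ≤ k :=
    (Submodule.finrank_mono (show LinearMap.range L ≤ S by rintro _ ⟨w, rfl⟩; exact hzS w)).trans hS
  rw [Module.finrank_fintype_fun_eq_card] at h1
  omega

omit hT hHM hM D in
theorem Narrow.conj {k : ℕ} {z : GL ι F} (h : Narrow k z) (g : GL ι F) : Narrow k (g * z * g⁻¹) := by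
  obtain ⟨S, hS, hzS⟩ := h
  refine ⟨S.map (Matrix.mulVecLin (g : Matrix ι ι F)), (Submodule.finrank_map_le _ _).trans hS, fun w => ?_⟩
  refine ⟨_, hzS (((g⁻¹ : GL ι F) : Matrix ι ι F) *ᵥ w), ?_⟩
  rw [Matrix.mulVecLin_apply, mulVec_sub, gl_mul_mulVec, gl_mul_mulVec, gl_mulVec_inv]

omit hT in
/-- small involutions of the subfield group are anchored -/
theorem anchored_of_fixed {i : GL ι F} (hi : i ∈ subfieldSubgroup F₀ P) (hiM : i ∈ M) (hi2 : i * i = 1) (hi1 : i ≠ 1)
    {K : Submodule F (ι → F)} (hK : 2 ≤ Module.finrank F K) (hKi : ∀ w ∈ K, (i : Matrix ι ι F) *ᵥ w = w) :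
    Anchored D i := by
  have hf' := hrForm_unitary D
  have hiso := mem_isoU.1 (hM hiM).1
  obtain ⟨c, hc⟩ := Subf.subfield_image F₀ P hi
  choose b hb using hc
  have hii : ∀ w, (i : Matrix ι ι F) *ᵥ ((i : Matrix ι ι F) *ᵥ w) = w := fun w => by
    rw [← gl_mul_mulVec, hi2, Units.val_one, one_mulVec]
  have hcF : c ∈ F₀ := by
    refine hr_mem_of_quad D (t := 0) (n := c * c) F₀.zero_mem ?_ (by ring)
    obtain ⟨j⟩ : Nonempty ι := by
      by_contra h
      rw [not_nonempty_iff] at h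
      exact hi1 (gl_ext_vec fun w => funext fun j => (IsEmpty.false j).elim)
    obtain ⟨a, ha⟩ : ∃ a, a = (Pi.single j 1 : ι → F₀) := ⟨_, rfl⟩
    have h1 := hii (em F₀ P a)
    rw [hb, mulVec_smul, hb, smul_smul] at h1
    have h2 := congrArg (Subf.extFun F₀ P a) h1
    rw [map_smul, Subf.extFun_em, Subf.extFun_em, ha, dotProduct_single, Pi.single_eq_same, mul_one, smul_eq_mul]
      at h2
    push_cast at h2
    obtain ⟨d, hd⟩ : ∃ d : F₀, d = Pi.single j 1 ⬝ᵥ b (b (Pi.single j 1)) := ⟨_, rfl⟩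
    rw [← hd] at h2
    rw [eq_inv_of_mul_eq_one_left h2]
    exact F₀.inv_mem d.2
  obtain ⟨p, hp⟩ : ∃ p : (ι → F₀) → (ι → F₀), ∀ a, (i : Matrix ι ι F) *ᵥ em F₀ P a = em F₀ P (p a) :=
    ⟨fun a => (⟨c, hcF⟩ : F₀) • b a, fun a => by rw [hb, em_smul]⟩
  have hpp : ∀ a, p (p a) = a := fun a => em_injective F₀ P (by rw [← hp, ← hp, hii])
  have hfixR : ∀ w, (i : Matrix ι ι F) *ᵥ w = w → ∀ a, f w (em F₀ P (p a - a)) = 0 := fun w hw a => by
    rw [em_sub, ← hp, herm_sub_right D.form]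
    nth_rw 1 [← hw]
    rw [hiso, sub_self]
  by_cases h2 : (2 : F) = 0
  · obtain ⟨a, ha⟩ : ∃ a, p a ≠ a := by
      by_contra hcon
      push Not at hcon
      exact hi1 (ext_em F₀ P fun a => by rw [hp, hcon, Units.val_one, one_mulVec])
    have hfix : (i : Matrix ι ι F) *ᵥ em F₀ P (p a - a) = em F₀ P (p a - a) := by
      rw [em_sub, mulVec_sub, hp, hp, hpp]
      ext j
      simp only [Pi.sub_apply]
      linear_combination ((em F₀ P a) j - (em F₀ P (p a)) j) * h2
    have hiso' : hrForm D (p a - a) (p a - a) = 0 := Subtype.ext (hfixR _ hfix a)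
    exact ⟨p a - a, p a - a, sub_ne_zero.2 ha, sub_ne_zero.2 ha, hiso', hiso', hfix, fun w hw => hfixR w hw a⟩
  have hpadd : ∀ a a', p (a + a') = p a + p a' := fun a a' => em_injective F₀ P (by
    rw [← hp, em_add, mulVec_add, hp, hp, em_add])
  have hpsmul : ∀ (s : F₀) a, p (s • a) = s • p a := fun s a => em_injective F₀ P (by
    rw [← hp, em_smul, mulVec_smul, hp, em_smul])
  let Lp : (ι → F₀) →ₗ[F₀] (ι → F₀) :=
    { toFun := fun a => p a + a
      map_add' := fun a a' => by rw [hpadd]; abel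
      map_smul' := fun s a => by rw [hpsmul, smul_add]; rfl }
  let Lm : (ι → F₀) →ₗ[F₀] (ι → F₀) :=
    { toFun := fun a => p a - a
      map_add' := fun a a' => by rw [hpadd]; abel
      map_smul' := fun s a => by rw [hpsmul, smul_sub]; rfl }
  have hfixP : ∀ a ∈ LinearMap.range Lp, (i : Matrix ι ι F) *ᵥ em F₀ P a = em F₀ P a := by
    rintro _ ⟨a, rfl⟩
    show (i : Matrix ι ι F) *ᵥ em F₀ P (p a + a) = em F₀ P (p a + a)
    rw [em_add, mulVec_add, hp, hp, hpp, add_comm]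
  have hP : 2 ≤ Module.finrank F₀ (LinearMap.range Lp) := by
    let bP := Module.finBasis F₀ (LinearMap.range Lp)
    have hle : K ≤ Submodule.span F (Set.range fun k => em F₀ P (bP k : ι → F₀)) := by
      intro w hw
      have h3 : w = (2 : F)⁻¹ • (w + (i : Matrix ι ι F) *ᵥ w) := by
        rw [hKi w hw, ← two_smul F w, smul_smul, inv_mul_cancel₀ h2, one_smul]
      rw [h3]
      refine Submodule.smul_mem _ _ ?_
      obtain ⟨a, rfl⟩ := exists_coords F₀ P w
      rw [mulVec_sum, ← Finset.sum_add_distrib]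
      refine Submodule.sum_mem _ fun k _ => ?_
      rw [mulVec_smul, ← smul_add, hp, add_comm, ← em_add]
      refine Submodule.smul_mem _ _ ?_
      obtain ⟨z, hz⟩ : ∃ z : LinearMap.range Lp, z = ⟨_, LinearMap.mem_range_self Lp (Pi.single k 1)⟩ := ⟨_, rfl⟩
      show em F₀ P (Lp (Pi.single k 1)) ∈ _
      rw [show Lp (Pi.single k 1) = ((∑ q, bP.repr z q • bP q : LinearMap.range Lp) : ι → F₀) by
        rw [bP.sum_repr, hz], Submodule.coe_sum, em_sum]
      refine Submodule.sum_mem _ fun q _ => ?_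
      rw [Submodule.coe_smul, em_smul]
      exact Submodule.smul_mem _ _ (Submodule.subset_span ⟨q, rfl⟩)
    have h4 := (Submodule.finrank_mono hle).trans (finrank_range_le_card _)
    rw [Fintype.card_fin] at h4
    omega
  have hR : 2 ≤ Module.finrank F₀ (LinearMap.range Lm) := by
    by_contra hlt
    obtain ⟨q, hq⟩ : ∃ q : ι → F₀, LinearMap.range Lm ≤ Submodule.span F₀ {q} := by
      rcases eq_or_ne (LinearMap.range Lm) ⊥ with h | h
      · exact ⟨0, by rw [h]; exact bot_le⟩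
      obtain ⟨q, hq, hq0⟩ := Submodule.exists_mem_ne_zero_of_ne_bot h
      refine ⟨q, le_of_eq (Submodule.eq_of_le_of_finrank_le ((Submodule.span_singleton_le_iff_mem q _).2 hq) ?_).symm⟩
      rw [finrank_span_singleton hq0]
      omega
    have hline : ∀ w, ∃ s : F, (i : Matrix ι ι F) *ᵥ w = w + s • em F₀ P q := by
      intro w
      obtain ⟨a, rfl⟩ := exists_coords F₀ P w
      have hk : ∀ k, ∃ s : F₀, p (Pi.single k 1) - Pi.single k 1 = s • q := fun k => by
        obtain ⟨s, hs⟩ := Submodule.mem_span_singleton.1 (hq ⟨Pi.single k 1, rfl⟩)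
        exact ⟨s, hs.symm⟩
      choose s hs using hk
      refine ⟨∑ k, a k * (s k : F), ?_⟩
      rw [mulVec_sum, Finset.sum_smul, ← Finset.sum_add_distrib]
      refine Finset.sum_congr rfl fun k _ => ?_
      rw [mulVec_smul, hp, sub_eq_iff_eq_add'.1 (hs k), em_add, em_smul, smul_add, smul_smul]
    choose s hs using hline
    obtain ⟨ψ, hψ⟩ : ∃ ψ : ι → F, ψ = fun k => s (Pi.single k 1) := ⟨_, rfl⟩
    have hmat : (i : Matrix ι ι F) = 1 + vecMulVec (em F₀ P q) ψ := by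
      ext j k
      have h3 := congrFun (hs (Pi.single k 1)) j
      rw [Matrix.mulVec_single_one, Matrix.col_apply] at h3
      rw [h3, hψ, Matrix.add_apply, Matrix.vecMulVec_apply, Pi.add_apply, Pi.smul_apply, Pi.single_apply,
        Matrix.one_apply, smul_eq_mul, mul_comm]
    have hq0 : em F₀ P q ≠ 0 := fun h => hi1 (Units.ext (by
      rw [hmat, h, Units.val_one]; ext j k; simp [Matrix.vecMulVec_apply]))
    have happ : ∀ w, (i : Matrix ι ι F) *ᵥ w = w + (ψ ⬝ᵥ w) • em F₀ P q := fun w => by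
      rw [hmat, add_mulVec, one_mulVec, vecMulVec_mulVec, op_smul_eq_smul]
    obtain ⟨k, hk⟩ : ∃ k, ψ k ≠ 0 := by
      by_contra hcon
      push Not at hcon
      exact hi1 (Units.ext (by rw [hmat, Units.val_one]; ext j k; simp [Matrix.vecMulVec_apply, hcon]))
    have h4 := hii (Pi.single k 1)
    rw [happ, happ, dotProduct_add, dotProduct_smul, dotProduct_single, mul_one, smul_eq_mul, add_assoc,
      add_eq_left, ← add_smul] at h4
    have h5 : 2 + ψ ⬝ᵥ em F₀ P q = 0 := by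
      have h6 := (smul_eq_zero.1 h4).resolve_right hq0
      exact (mul_eq_zero.1 (show ψ k * (2 + ψ ⬝ᵥ em F₀ P q) = 0 by linear_combination h6)).resolve_left hk
    have hdet : (i : Matrix ι ι F).det = 1 := congrArg Units.val (hM hiM).2
    rw [hmat, vecMulVec_eq Unit, det_one_add_replicateCol_mul_replicateRow] at hdet
    exact h2 (by linear_combination h5 - hdet)
  obtain ⟨x, hx, hx0, hxx⟩ := exists_isotropic hf' hP
  obtain ⟨y, hy, hy0, hyy⟩ := exists_isotropic hf' hR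
  obtain ⟨a, rfl⟩ := hy
  exact ⟨x, Lm a, hx0, hy0, hxx, hyy, hfixP x hx, fun w hw => hfixR w hw a⟩

omit D hT hHM hM in
/-- two involutions are conjugate or commute with a third one -/
theorem dihedral_cases {G : Type*} [Group G] [Finite G] {z z' : G} (hz : z * z = 1) (hz' : z' * z' = 1) :
    (∃ k : ℕ, (z * z') ^ k * z * ((z * z') ^ k)⁻¹ = z') ∨
      ∃ k : ℕ, (z * z') ^ k ≠ 1 ∧ (z * z') ^ k * (z * z') ^ k = 1 ∧
        z * (z * z') ^ k = (z * z') ^ k * z ∧ z' * (z * z') ^ k = (z * z') ^ k * z' := by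
  obtain ⟨p, hp⟩ : ∃ p, p = z * z' := ⟨_, rfl⟩
  rw [← hp]
  have hzinv : z⁻¹ = z := inv_eq_of_mul_eq_one_left hz
  have hz'inv : z'⁻¹ = z' := inv_eq_of_mul_eq_one_left hz'
  have hpinv : p⁻¹ = z' * z := by rw [hp, _root_.mul_inv_rev, hzinv, hz'inv]
  have hflip : ∀ k : ℕ, z * p ^ k = (p ^ k)⁻¹ * z := fun k => by
    have h1 : MulAut.conj z p = p⁻¹ := by
      rw [MulAut.conj_apply, hpinv, hzinv, hp, ← mul_assoc z z z', hz, one_mul]
    have h2 := congrArg (fun x => x ^ k) h1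
    rw [← map_pow, MulAut.conj_apply, inv_pow, hzinv] at h2
    calc z * p ^ k = z * p ^ k * z * z := by rw [mul_assoc (z * p ^ k), hz, mul_one]
      _ = _ := by rw [h2]
  have hflip' : ∀ k : ℕ, z' * p ^ k = (p ^ k)⁻¹ * z' := fun k => by
    have h1 : MulAut.conj z' p = p⁻¹ := by
      rw [MulAut.conj_apply, hpinv, hz'inv, hp, mul_assoc, mul_assoc, hz', mul_one]
    have h2 := congrArg (fun x => x ^ k) h1
    rw [← map_pow, MulAut.conj_apply, inv_pow, hz'inv] at h2
    calc z' * p ^ k = z' * p ^ k * z' * z' := by rw [mul_assoc (z' * p ^ k), hz', mul_one]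
      _ = _ := by rw [h2]
  have hpos := orderOf_pos p
  rcases Nat.even_or_odd (orderOf p) with ⟨k, hk⟩ | ⟨k, hk⟩
  · refine Or.inr ⟨k, pow_ne_one_of_lt_orderOf (by omega) (by omega), ?_, ?_, ?_⟩
    · rw [← pow_add, ← hk, pow_orderOf_eq_one]
    · rw [hflip, inv_eq_of_mul_eq_one_left (by rw [← pow_add, ← hk, pow_orderOf_eq_one] : p ^ k * p ^ k = 1)]
    · rw [hflip', inv_eq_of_mul_eq_one_left (by rw [← pow_add, ← hk, pow_orderOf_eq_one] : p ^ k * p ^ k = 1)]
  · refine Or.inl ⟨k, ?_⟩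
    have h1 : p ^ (k + k) * p = 1 := by rw [← pow_succ, show k + k + 1 = orderOf p by omega, pow_orderOf_eq_one]
    have h2 : z * (p ^ k)⁻¹ = p ^ k * z := by
      calc z * (p ^ k)⁻¹ = z * ((p ^ k)⁻¹ * z) * z := by rw [mul_assoc, mul_assoc, hz, mul_one]
        _ = z * (z * p ^ k) * z := by rw [hflip]
        _ = p ^ k * z := by rw [← mul_assoc z z, hz, one_mul]
    rw [mul_assoc, h2, ← mul_assoc, ← pow_add, eq_inv_of_mul_eq_one_left h1, hpinv, mul_assoc, hz, mul_one]

/-- two kinds of small involutions force rationality -/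
theorem tight_le {k₁ k₂ : ℕ} (hn5 : 4 ≤ Fintype.card ι) (hn : k₁ + k₂ + 2 ≤ Fintype.card ι) {i₁ i₂ : GL ι F}
    (h₁ : i₁ ∈ subfieldSubgroup F₀ P ⊓ (isoU f ⊓ specialLinear ι F))
    (h₂ : i₂ ∈ subfieldSubgroup F₀ P ⊓ (isoU f ⊓ specialLinear ι F))
    (h₁₂ : i₁ * i₁ = 1) (h₂₂ : i₂ * i₂ = 1) (h₁1 : i₁ ≠ 1) (h₂1 : i₂ ≠ 1)
    (hn₁ : Narrow k₁ i₁) (hn₂ : Narrow k₂ i₂) (hnc : ∀ g : GL ι F, g * i₁ * g⁻¹ ≠ i₂) :
    M ≤ subfieldSubgroup F₀ P ⊓ (isoU f ⊓ specialLinear ι F) := by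
  intro g hg
  by_contra hgH
  obtain ⟨K₁, hK₁, hK₁f⟩ := hn₁.fixed
  obtain ⟨K₂, hK₂, hK₂f⟩ := hn₂.fixed
  have ha₁ := anchored_of_fixed D hHM hM h₁.1 (hHM h₁) h₁₂ h₁1 (K := K₁) (by omega) hK₁f
  have ha₂ := anchored_of_fixed D hHM hM h₂.1 (hHM h₂) h₂₂ h₂1 (K := K₂) (by omega) hK₂f
  obtain ⟨z', hz'def⟩ : ∃ z', z' = g * i₂ * g⁻¹ := ⟨_, rfl⟩
  have hz'M : z' ∈ M := hz'def ▸ M.mul_mem (M.mul_mem hg (hHM h₂)) (M.inv_mem hg)
  have hz'2 : z' * z' = 1 := by
    rw [hz'def, show g * i₂ * g⁻¹ * (g * i₂ * g⁻¹) = g * (i₂ * i₂) * g⁻¹ by group, h₂₂, mul_one, mul_inv_cancel]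
  obtain ⟨K₃, hK₃, hK₃f⟩ := (hn₂.conj g).fixed
  rw [← hz'def] at hK₃f
  have hz'out : z' ∉ subfieldSubgroup F₀ P ⊓ (isoU f ⊓ specialLinear ι F) := fun hz'H => by
    have hz'1 : z' ≠ 1 := fun h => h₂1 (by
      rw [hz'def, mul_inv_eq_one] at h
      exact mul_left_cancel (h.trans (mul_one g).symm))
    exact hgH (mem_of_conj_anchored D hHM hM hT hn5 hg ha₂
      (anchored_of_fixed D hHM hM hz'H.1 hz'M hz'2 hz'1 (K := K₃) (by omega) hK₃f) hz'def.symm)
  rcases dihedral_cases h₁₂ hz'2 with ⟨k, hk⟩ | ⟨k, hk1, hk2, hkz, hkz'⟩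
  · refine hnc (g⁻¹ * (i₁ * z') ^ k) ?_
    rw [show g⁻¹ * (i₁ * z') ^ k * i₁ * (g⁻¹ * (i₁ * z') ^ k)⁻¹ =
      g⁻¹ * ((i₁ * z') ^ k * i₁ * ((i₁ * z') ^ k)⁻¹) * g by group, hk, hz'def]
    group
  obtain ⟨j, hj⟩ : ∃ j, j = (i₁ * z') ^ k := ⟨_, rfl⟩
  rw [← hj] at hk1 hk2 hkz hkz'
  have hjM : j ∈ M := hj ▸ M.pow_mem (M.mul_mem (hHM h₁) hz'M) k
  have hjH := mem_of_conj_anchored D hHM hM hT hn5 hjM ha₁ ha₁ (by rw [← hkz, mul_inv_cancel_right])
  have hK : 2 ≤ Module.finrank F ↥(K₁ ⊓ K₃) := by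
    have h1 := Submodule.finrank_sup_add_finrank_inf_eq K₁ K₃
    have h2 : Module.finrank F ↥(K₁ ⊔ K₃) ≤ Fintype.card ι :=
      (Submodule.finrank_le _).trans (Module.finrank_fintype_fun_eq_card F).le
    omega
  have hKj : ∀ w ∈ K₁ ⊓ K₃, (j : Matrix ι ι F) *ᵥ w = w := by
    intro w hw
    rw [hj]
    clear hj
    induction k with
    | zero => rw [pow_zero, Units.val_one, one_mulVec]
    | succ k ih => rw [pow_succ, gl_mul_mulVec, gl_mul_mulVec, hK₃f w hw.2, hK₁f w hw.1, ih]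
  have haj := anchored_of_fixed D hHM hM hjH.1 hjM hk2 hk1 hK hKj
  exact hz'out (mem_of_conj_anchored D hHM hM hT hn5 hz'M haj haj (by rw [hkz', mul_inv_cancel_right]))

omit hHM hM hT D in
/-- an involution in characteristic two fixes at least half of the space -/
theorem exists_fixed_half (h2 : (2 : F) = 0) {z : GL ι F} (hz : z * z = 1) :
    ∃ K : Submodule F (ι → F), Fintype.card ι ≤ 2 * Module.finrank F K ∧
      ∀ w ∈ K, (z : Matrix ι ι F) *ᵥ w = w := by
  let L : (ι → F) →ₗ[F] (ι → F) := Matrix.mulVecLin (z : Matrix ι ι F) - LinearMap.id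
  have hL : ∀ w, L w = (z : Matrix ι ι F) *ᵥ w - w := fun w => by
    simp only [L, LinearMap.sub_apply, Matrix.mulVecLin_apply, LinearMap.id_apply]
  refine ⟨LinearMap.ker L, ?_, fun w hw => sub_eq_zero.1 ((hL w).symm.trans (LinearMap.mem_ker.1 hw))⟩
  have hle : LinearMap.range L ≤ LinearMap.ker L := by
    rintro _ ⟨w, rfl⟩
    rw [LinearMap.mem_ker, hL, hL, mulVec_sub, ← gl_mul_mulVec, hz, Units.val_one, one_mulVec]
    funext j
    simp only [Pi.sub_apply, Pi.zero_apply]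
    linear_combination (w j - ((z : Matrix ι ι F) *ᵥ w) j) * h2
  have h1 := LinearMap.finrank_range_add_finrank_ker L
  rw [Module.finrank_fintype_fun_eq_card] at h1
  have := Submodule.finrank_mono hle
  omega

/-- in characteristic two two classes of rational involutions force rationality from dimension four on -/
theorem tight_le_of_two (h2 : (2 : F) = 0) (hn : 4 ≤ Fintype.card ι) {i₁ i₂ : GL ι F}
    (h₁ : i₁ ∈ subfieldSubgroup F₀ P ⊓ (isoU f ⊓ specialLinear ι F))
    (h₂' : i₂ ∈ subfieldSubgroup F₀ P ⊓ (isoU f ⊓ specialLinear ι F))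
    (h₁₂ : i₁ * i₁ = 1) (h₂₂ : i₂ * i₂ = 1) (h₁1 : i₁ ≠ 1) (h₂1 : i₂ ≠ 1)
    (hnc : ∀ g : GL ι F, g * i₁ * g⁻¹ ≠ i₂) :
    M ≤ subfieldSubgroup F₀ P ⊓ (isoU f ⊓ specialLinear ι F) := by
  have anc : ∀ z ∈ M, z ∈ subfieldSubgroup F₀ P → z * z = 1 → z ≠ 1 → Anchored D z := by
    intro z hzM hzH hz2 hz1
    obtain ⟨K, hK, hKf⟩ := exists_fixed_half h2 hz2
    exact anchored_of_fixed D hHM hM hzH hzM hz2 hz1 (K := K) (by omega) hKf
  intro g hg
  by_contra hgH
  have ha₁ := anc _ (hHM h₁) h₁.1 h₁₂ h₁1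
  have ha₂ := anc _ (hHM h₂') h₂'.1 h₂₂ h₂1
  obtain ⟨z', hz'def⟩ : ∃ z', z' = g * i₂ * g⁻¹ := ⟨_, rfl⟩
  have hz'M : z' ∈ M := hz'def ▸ M.mul_mem (M.mul_mem hg (hHM h₂')) (M.inv_mem hg)
  have hz'2 : z' * z' = 1 := by
    rw [hz'def, show g * i₂ * g⁻¹ * (g * i₂ * g⁻¹) = g * (i₂ * i₂) * g⁻¹ by group, h₂₂, mul_one, mul_inv_cancel]
  have hz'1 : z' ≠ 1 := fun h => h₂1 (by
    rw [hz'def, mul_inv_eq_one] at h
    exact mul_left_cancel (h.trans (mul_one g).symm))
  have hz'out : z' ∉ subfieldSubgroup F₀ P ⊓ (isoU f ⊓ specialLinear ι F) := fun hz'H =>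
    hgH (mem_of_conj_anchored D hHM hM hT hn hg ha₂ (anc _ hz'M hz'H.1 hz'2 hz'1) hz'def.symm)
  rcases dihedral_cases h₁₂ hz'2 with ⟨k, hk⟩ | ⟨k, hk1, hk2, hkz, hkz'⟩
  · refine hnc (g⁻¹ * (i₁ * z') ^ k) ?_
    rw [show g⁻¹ * (i₁ * z') ^ k * i₁ * (g⁻¹ * (i₁ * z') ^ k)⁻¹ =
      g⁻¹ * ((i₁ * z') ^ k * i₁ * ((i₁ * z') ^ k)⁻¹) * g by group, hk, hz'def]
    group
  obtain ⟨j, hj⟩ : ∃ j, j = (i₁ * z') ^ k := ⟨_, rfl⟩
  rw [← hj] at hk1 hk2 hkz hkz'
  have hjM : j ∈ M := hj ▸ M.pow_mem (M.mul_mem (hHM h₁) hz'M) k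
  have hjH := mem_of_conj_anchored D hHM hM hT hn hjM ha₁ ha₁ (by rw [← hkz, mul_inv_cancel_right])
  have haj := anc _ hjM hjH.1 hk2 hk1
  exact hz'out (mem_of_conj_anchored D hHM hM hT hn hz'M haj haj (by rw [hkz', mul_inv_cancel_right]))

end CfsgLib.Perm.Trans.Unit
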