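import Cfsg.Agent.Lib.Perm.Trans.QuadSubfInvol
import Cfsg.Agent.Lib.Perm.Trans.UnitSubfEmb

/-!
# Orthogonal groups over a subfield: maximality
-/

set_option autoImplicit false
set_option linter.all false

namespace CfsgLib.Perm.Trans.Quad

open scoped Matrix
open Matrix Cfsg.Geo CfsgLib.Perm.Asch CfsgLib.Perm.Trans
open CfsgLib.Perm.Trans.Subf (em lift em_add em_neg em_sub em_smul em_sum em_zero em_injective em_ne_zero exists_coords lift_em lift_mem ext_em)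
open CfsgLib.Orth (disp disp_apply moved fixd wrk)

attribute [local instance] subfieldFin

variable {ι : Type} [Fintype ι] [DecidableEq ι] {F : Type*} [Field F] [Fintype F]
variable {Q : (ι → F) → F} {F₀ : Subfield F} {P : GL ι F}

local notation "pol" => QuadraticMap.polar

omit [Fintype F] in
theorem fixd_add_wrk (g : GL ι F) : Module.finrank F (fixd g) + wrk g = Fintype.card ι := by
  have h := LinearMap.finrank_range_add_finrank_ker (disp g)
  rw [Module.finrank_fintype_fun_eq_card] at h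
  exact (add_comm _ _).trans h

omit [Fintype F] in
theorem mem_fixd_iff {g : GL ι F} {x : ι → F} : x ∈ fixd g ↔ (g : Matrix ι ι F) *ᵥ x = x := by
  rw [LinearMap.mem_ker, disp_apply, sub_eq_zero, eq_comm]

omit [Fintype F] in
/-- an involution of the subfield group with fixed space inside that of a nontrivial rational map is rational -/
theorem rational_of_invol_fix {i i₁ : GL ι F}
    (hi : i ∈ subfieldSubgroup F₀ P) (hi2 : i * i = 1) (hR₁ : RatMap F₀ P i₁) (hne : i₁ ≠ 1)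
    (hle : fixd i ≤ fixd i₁) : RatMap F₀ P i := by
  classical
  obtain ⟨c, hc⟩ := Subf.subfield_image F₀ P hi
  choose b hb using hc
  suffices hcF : c ∈ F₀ from fun a => ⟨(⟨c, hcF⟩ : F₀) • b a, by rw [hb, em_smul]⟩
  by_contra hcF
  refine hne (Subf.ext_em F₀ P fun a => ?_)
  have hv : em F₀ P a + c • em F₀ P (b a) ∈ fixd i := by
    have h1 : (i : Matrix ι ι F) *ᵥ em F₀ P (b a) = c⁻¹ • em F₀ P a := by
      have h2 : (i : Matrix ι ι F) *ᵥ ((i : Matrix ι ι F) *ᵥ em F₀ P a) = em F₀ P a := by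
        rw [← gl_mul_mulVec, hi2, Units.val_one, one_mulVec]
      rw [hb a, mulVec_smul] at h2
      have hc0 : c ≠ 0 := fun h => hcF (h ▸ F₀.zero_mem)
      conv_rhs => rw [← h2, inv_smul_smul₀ hc0]
    have hc0 : c ≠ 0 := fun h => hcF (h ▸ F₀.zero_mem)
    rw [mem_fixd_iff, mulVec_add, mulVec_smul, h1, smul_inv_smul₀ hc0, hb a, add_comm]
  have h3 := mem_fixd_iff.1 (hle hv)
  obtain ⟨p, hp⟩ := hR₁ a
  obtain ⟨p', hp'⟩ := hR₁ (b a)
  rw [mulVec_add, mulVec_smul, hp, hp'] at h3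
  suffices p = a by rw [Units.val_one, one_mulVec, hp, this]
  funext k
  have h4 := congrArg (Subf.extFun F₀ P (Pi.single k 1)) h3
  simp only [map_add, map_smul, Subf.extFun_em, single_dotProduct, one_mul, smul_eq_mul] at h4
  by_cases hk : b a k = p' k
  · rw [hk] at h4
    exact Subtype.ext (add_right_cancel h4)
  · refine absurd ?_ hcF
    rw [show c = ((p k : F) - (a k : F)) / ((b a k : F) - (p' k : F)) by
      rw [eq_div_iff (sub_ne_zero.2 fun h => hk (Subtype.ext h))]; linear_combination -h4]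
    exact F₀.div_mem (F₀.sub_mem (p k).2 (a k).2) (F₀.sub_mem (b a k).2 (p' k).2)

omit [Fintype F] in
/-- commuting maps preserve each other's moved space -/
theorem moved_commute {g j : GL ι F} (h : g * j = j * g) {x : ι → F} (hx : x ∈ moved j) :
    (g : Matrix ι ι F) *ᵥ x ∈ moved j := by
  obtain ⟨v, rfl⟩ := hx
  refine ⟨(g : Matrix ι ι F) *ᵥ v, ?_⟩
  rw [disp_apply, disp_apply, mulVec_sub, ← gl_mul_mulVec, ← gl_mul_mulVec, h]

omit [Fintype F] in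
theorem fixd_commute {g j : GL ι F} (h : g * j = j * g) {x : ι → F} (hx : x ∈ fixd j) :
    (g : Matrix ι ι F) *ᵥ x ∈ fixd j := by
  rw [mem_fixd_iff] at hx ⊢
  rw [← gl_mul_mulVec, ← h, gl_mul_mulVec, hx]

/-- an involution of the subfield group moving a rational singular vector -/
def GoodInv (Q : (ι → F) → F) (hrat : ∀ a : ι → F₀, Q (em F₀ P a) ∈ F₀) (i : GL ι F) (w : ℕ) : Prop :=
  i ∈ subfieldSubgroup F₀ P ⊓ omegaGL Q ∧ RatMap F₀ P i ∧ i * i = 1 ∧ wrk i = w ∧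
    ∃ y : ι → F₀, y ≠ 0 ∧ qr hrat y = 0 ∧ em F₀ P y ∈ moved i

variable (hQ : IsNondegenerateQuadraticForm Q) (hrat : ∀ a : ι → F₀, Q (em F₀ P a) ∈ F₀)
include hQ hrat

/-- two small involutions inside a non-degenerate rational subspace -/
theorem exists_small_invols (hn : 10 ≤ Fintype.card ι) {r : ℕ} (hr : r.Prime)
    (hcard : Fintype.card F = Nat.card F₀ ^ r) {U : Submodule F₀ (ι → F₀)} (hU : NdOn (qr hrat) U)
    (hUd : 9 ≤ Module.finrank F₀ U) :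
    ∃ (i₁ i₂ : GL ι F) (w₁ w₂ : ℕ), GoodInv Q hrat i₁ w₁ ∧ GoodInv Q hrat i₂ w₂ ∧ w₁ < w₂ ∧ w₂ ≤ 6 ∧ 4 ≤ w₂ ∧
      w₁ + w₂ ≤ 10 ∧ (IsSquare (-1 : F) → w₁ + w₂ ≤ 6) ∧ ((∀ p : F, p * p ∈ F₀ → p ∈ F₀) ∨ w₁ + w₂ ≤ 6) ∧
      ∀ p : ι → F₀, (∀ u ∈ U, pol (qr hrat) p u = 0) →
        (i₁ : Matrix ι ι F) *ᵥ em F₀ P p = em F₀ P p ∧ (i₂ : Matrix ι ι F) *ᵥ em F₀ P p = em F₀ P p := by
  have hq := qr_nd hQ hrat
  have hwrap : ∀ {g : GL ι F} {A : Submodule F₀ (ι → F₀)}, ReflInv Q F₀ P g A → A ≤ U → g ∈ omegaGL Q →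
      ∀ {k : ℕ}, Module.finrank F₀ A = k → (∃ y ∈ A, y ≠ 0 ∧ qr hrat y = 0) →
      GoodInv Q hrat g k ∧ ∀ p : ι → F₀, (∀ u ∈ U, pol (qr hrat) p u = 0) →
        (g : Matrix ι ι F) *ᵥ em F₀ P p = em F₀ P p := by
    intro g A hgA hAU hgΩ k hk hy
    obtain ⟨hgi, hgR, hg2, hgM⟩ := hgA
    obtain ⟨y, hyA, hy0, hQy⟩ := hy
    refine ⟨⟨Subgroup.mem_inf.2 ⟨hgR.mem, hgΩ⟩, hgR, hg2, ?_, y, hy0, hQy,
      hgM ▸ Submodule.subset_span ⟨y, hyA, rfl⟩⟩, fun p hp => fix_of_perp_moved hQ hgi fun v hv => ?_⟩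
    · show Module.finrank F (moved g) = k
      rw [hgM, finrank_span_em, hk]
    · rw [hgM] at hv
      induction hv using Submodule.span_induction with
      | mem x hx => obtain ⟨b, hb, rfl⟩ := hx; exact qr_perp hQ hrat (hp b (hAU hb))
      | zero => exact pzero_right hQ _
      | add x y _ _ hx hy => rw [padd_right hQ, hx, hy, add_zero]
      | smul c x _ hx => rw [psmul_right hQ, hx, mul_zero]
  have hone : IsSquare (((1 : F₀) : F) / ((1 : F₀) : F)) := ⟨1, by push_cast; simp⟩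
  by_cases hneg : IsSquare (-1 : F)
  · have hsq : IsSquare (((-1 : F₀) : F) / ((1 : F₀) : F)) := by push_cast; rwa [div_one]
    obtain ⟨g₁, A₁, hA₁, hA₁U, hg₁Ω, hA₁d, hwit⟩ :=
      exists_refl_inv hQ hrat (by omega) (c := 1) (c' := -1) one_ne_zero (neg_ne_zero.2 one_ne_zero) hsq 1 U hU
        (by omega) (fun _ => by omega)
    obtain ⟨a, ha, a', ha', hQa, hQa', haa', hne⟩ := hwit one_pos
    obtain ⟨hG₁, hF₁⟩ := hwrap hA₁ hA₁U hg₁Ω hA₁d ⟨a + a', A₁.add_mem ha ha', by simpa using hne 1,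
      by rw [qadd hq, hQa, hQa', haa']; ring⟩
    obtain ⟨g₂, A₂, hA₂, hA₂U, hg₂Ω, hA₂d, -⟩ :=
      exists_refl_inv hQ hrat (by omega) (c := 1) (c' := 1) one_ne_zero one_ne_zero hone 2 U hU (by omega)
        (fun _ => by omega)
    obtain ⟨hG₂, hF₂⟩ := hwrap hA₂ hA₂U hg₂Ω hA₂d (exists_singular_mem hq A₂ (by omega))
    exact ⟨g₁, g₂, _, _, hG₁, hG₂, by omega, by omega, by omega, by omega, fun _ => by omega,
      Or.inr (by omega), fun p hp => ⟨hF₁ p hp, hF₂ p hp⟩⟩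
  · have h2 : (2 : F₀) ≠ 0 := fun h => hneg ⟨1, by
      have h' : (2 : F) = 0 := (map_ofNat F₀.subtype 2).symm.trans ((congrArg F₀.subtype h).trans (map_zero F₀.subtype))
      linear_combination -h'⟩
    have hr2 : 2 < r := by
      rcases hr.two_le.lt_or_eq with h | h
      · exact h
      refine absurd (FiniteField.isSquare_neg_one_iff.2 ?_) hneg
      rw [hcard, ← h, sq, Nat.mul_mod]
      have : Nat.card F₀ % 4 < 4 := Nat.mod_lt _ (by norm_num)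
      interval_cases (Nat.card F₀ % 4) <;> norm_num
    obtain ⟨g₁, A₁, hA₁, hA₁U, hg₁Ω, hA₁d, -⟩ :=
      exists_refl_inv hQ hrat (by omega) (c := 1) (c' := 1) one_ne_zero one_ne_zero hone 2 U hU (by omega)
        (fun h => absurd h h2)
    obtain ⟨hG₁, hF₁⟩ := hwrap hA₁ hA₁U hg₁Ω hA₁d (exists_singular_mem hq A₁ (by omega))
    obtain ⟨g₂, A₂, hA₂, hA₂U, hg₂Ω, hA₂d, -⟩ :=
      exists_refl_inv hQ hrat (by omega) (c := 1) (c' := 1) one_ne_zero one_ne_zero hone 3 U hU (by omega)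
        (fun h => absurd h h2)
    obtain ⟨hG₂, hF₂⟩ := hwrap hA₂ hA₂U hg₂Ω hA₂d (exists_singular_mem hq A₂ (by omega))
    exact ⟨g₁, g₂, _, _, hG₁, hG₂, by omega, by omega, by omega, by omega, fun h => absurd h hneg,
      Or.inl fun p hp => Subf.mem_of_sq_mem hr hr2 hcard hp, fun p hp => ⟨hF₁ p hp, hF₂ p hp⟩⟩

variable {M : Subgroup (GL ι F)} (hn : 10 ≤ Fintype.card ι) (hMΩ : M ≤ omegaGL Q)
  (hHM : subfieldSubgroup F₀ P ⊓ omegaGL Q ≤ M) (hT : QTight hrat M)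
include hn hMΩ hHM hT

/-- an involution of the subfield group commuting with a small involution and a conjugate of another -/
theorem exists_bridge {r : ℕ} (hr : r.Prime) (hcard : Fintype.card F = Nat.card F₀ ^ r) {i₁ i₂ : GL ι F}
    {w₁ w₂ : ℕ} (hi₁ : i₁ ∈ subfieldSubgroup F₀ P ⊓ omegaGL Q) (h₁₂ : i₁ * i₁ = 1) (hw₁ : wrk i₁ = w₁)
    (hR₁ : RatMap F₀ P i₁) (hw₁0 : 0 < w₁)
    (h₂ : GoodInv Q hrat i₂ w₂) (hne : w₁ < w₂)
    (hdim : (∀ p : F, p * p ∈ F₀ → p ∈ F₀) ∨ w₁ + w₂ ≤ 6) {g : GL ι F}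
    (hg : g ∈ M)
    (hin : ∀ j ∈ M, j * i₁ = i₁ * j → fixd i₁ ⊓ fixd (g * i₂ * g⁻¹) ≤ fixd j →
      j ∈ subfieldSubgroup F₀ P ⊓ omegaGL Q) :
    ∃ j ∈ subfieldSubgroup F₀ P ⊓ omegaGL Q, RatMap F₀ P j ∧ j * j = 1 ∧ j ≠ 1 ∧
      (g * i₂ * g⁻¹) * j = j * (g * i₂ * g⁻¹) ∧ fixd i₁ ⊓ fixd (g * i₂ * g⁻¹) ≤ fixd j ∧
      wrk j ≤ w₁ + w₂ := by
  classical
  obtain ⟨hi₂, hR₂, h₂₂, hw₂, y₂, hy₂0, hQy₂, hy₂m⟩ := h₂
  obtain ⟨z', hz'⟩ : ∃ z', z' = g * i₂ * g⁻¹ := ⟨_, rfl⟩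
  rw [← hz'] at hin ⊢
  have hz'2 : z' * z' = 1 := by
    rw [hz', show g * i₂ * g⁻¹ * (g * i₂ * g⁻¹) = g * (i₂ * i₂) * g⁻¹ by group, h₂₂]; group
  have hz'M : z' ∈ M := hz' ▸ mul_mem (mul_mem hg (hHM hi₂)) (inv_mem hg)
  have hwz' : wrk z' = w₂ := by rw [hz', wrk_conj, hw₂]
  rcases Unit.dihedral_cases h₁₂ hz'2 with ⟨k, hk⟩ | ⟨k, hk1, hk2, hkz, hkz'⟩
  · have := congrArg wrk hk
    rw [wrk_conj, hw₁, hwz'] at this
    omega
  obtain ⟨j, hj⟩ : ∃ j, j = (i₁ * z') ^ k := ⟨_, rfl⟩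
  rw [← hj] at hk1 hk2 hkz hkz'
  have hjM : j ∈ M := hj ▸ M.pow_mem (M.mul_mem (hHM hi₁) hz'M) k
  have hfix : fixd i₁ ⊓ fixd z' ≤ fixd j := by
    intro v hv
    have hv₁ := mem_fixd_iff.1 hv.1
    have hv₂ := mem_fixd_iff.1 hv.2
    rw [mem_fixd_iff, hj]
    clear hj
    induction k with
    | zero => rw [pow_zero, Units.val_one, one_mulVec]
    | succ k ih => rw [pow_succ, gl_mul_mulVec, gl_mul_mulVec, hv₂, hv₁, ih]
  have hjH := hin j hjM hkz.symm hfix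
  have hfd : Fintype.card ι ≤ Module.finrank F (fixd j) + (w₁ + w₂) := by
    have h1 := Submodule.finrank_sup_add_finrank_inf_eq (fixd i₁) (fixd z')
    have h2 : Module.finrank F ↥(fixd i₁ ⊔ fixd z') ≤ Fintype.card ι :=
      (Submodule.finrank_le _).trans (Module.finrank_fintype_fun_eq_card F).le
    have h3 := Submodule.finrank_mono hfix
    have h4 := fixd_add_wrk i₁
    have h5 := fixd_add_wrk z'
    omega
  refine ⟨j, hjH, ?_, hk2, hk1, hkz', hfix, ?_⟩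
  · rcases hdim with h | h
    · exact rational_of_invol hr hcard hjH.1 hk2 (Or.inl h)
    · by_cases hlt : Fintype.card ι < 2 * Module.finrank F (fixd j)
      · exact rational_of_invol hr hcard hjH.1 hk2 (Or.inr hlt)
      -- otherwise the fixed space of `j` is the intersection of the two fixed spaces
      have h6 := fixd_add_wrk j
      obtain ⟨e, he⟩ := wrk_even hQ (by omega) hjH.2
      have h1 := Submodule.finrank_sup_add_finrank_inf_eq (fixd i₁) (fixd z')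
      have h2 : Module.finrank F ↥(fixd i₁ ⊔ fixd z') ≤ Fintype.card ι :=
        (Submodule.finrank_le _).trans (Module.finrank_fintype_fun_eq_card F).le
      have h4 := fixd_add_wrk i₁
      have h5 := fixd_add_wrk z'
      refine rational_of_invol_fix hjH.1 hk2 hR₁ (fun h1' => ?_) ?_
      · have : fixd i₁ = ⊤ := eq_top_iff.2 fun v _ => by rw [mem_fixd_iff, h1', Units.val_one, one_mulVec]
        rw [this, finrank_top, Module.finrank_fintype_fun_eq_card] at h4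
        omega
      · rw [← Submodule.eq_of_le_of_finrank_le hfix (by omega)]
        exact inf_le_left
  · have := fixd_add_wrk j
    omega

/-- the hypothesis of the bridge for a good involution -/
theorem good_bridge {i₁ : GL ι F} {w₁ : ℕ} (h₁ : GoodInv Q hrat i₁ w₁) (hw₁5 : w₁ ≤ 5) {j : GL ι F} (hjM : j ∈ M)
    (hkz : j * i₁ = i₁ * j) : j ∈ subfieldSubgroup F₀ P ⊓ omegaGL Q := by
  obtain ⟨hi₁, hR₁, -, hw₁, y₁, hy₁0, hQy₁, hy₁m⟩ := h₁
  exact qconj_fix_mem hQ hrat (by omega) hMΩ hHM hT hjM (i := i₁) (i' := i₁) (by rw [hkz, mul_inv_cancel_right])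
    (omegaGL_le_iso hi₁.2) (by have := (rat_dims hR₁).1; omega) hy₁0 hQy₁ hy₁m

/-- elements commuting with a rational involution -/
theorem commute_mem {j z : GL ι F} (hj : j ∈ subfieldSubgroup F₀ P ⊓ omegaGL Q) (hjR : RatMap F₀ P j)
    (hj2 : j * j = 1) (hj1 : j ≠ 1) (hjw : wrk j ≤ 6) (hz : z ∈ M) (hcomm : z * j = j * z) :
    z ∈ subfieldSubgroup F₀ P ⊓ omegaGL Q ∨ ∃ P₀ : Submodule F₀ (ι → F₀), (2 : F) ≠ 0 ∧
      Module.finrank F₀ P₀ = 2 ∧ (∀ y ∈ P₀, qr hrat y = 0 → y = 0) ∧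
      (∀ x ∈ Submodule.span F (em F₀ P '' ↑P₀), (z : Matrix ι ι F) *ᵥ x ∈ Submodule.span F (em F₀ P '' ↑P₀)) ∧
      P₀ = ratPart F₀ P (moved j) := by
  have hq := qr_nd hQ hrat
  have hji := omegaGL_le_iso hj.2
  obtain ⟨hfd, hmd⟩ := rat_dims hjR
  have hconj : z * j * z⁻¹ = j := by rw [hcomm, mul_inv_cancel_right]
  have hev := wrk_even hQ (by omega) hj.2
  have hpos : wrk j ≠ 0 := fun h => hj1 (CfsgLib.Orth.eq_one_of_wrk_zero hQ hji h)
  have hmovj : moved j = Submodule.span F (em F₀ P '' ↑(ratPart F₀ P (moved j))) := by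
    refine (Submodule.eq_of_le_of_finrank_eq (Submodule.span_le.2 ?_) ?_).symm
    · rintro _ ⟨b, hb, rfl⟩
      exact hb
    · rw [finrank_span_em, hmd]
      rfl
  have hfixj : fixd j = Submodule.span F (em F₀ P '' ↑(ratPart F₀ P (fixd j))) := by
    refine (Submodule.eq_of_le_of_finrank_eq (Submodule.span_le.2 ?_) ?_).symm
    · rintro _ ⟨b, hb, rfl⟩
      exact hb
    · have := fixd_add_wrk j
      rw [finrank_span_em]
      omega
  -- in characteristic two the moved space is fixed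
  have hchar : (2 : F) = 0 → moved j ≤ fixd j := by
    rintro h2 _ ⟨v, rfl⟩
    rw [mem_fixd_iff, disp_apply, mulVec_sub, ← gl_mul_mulVec, hj2, Units.val_one, one_mulVec]
    linear_combination (norm := module) h2 • ((j : Matrix ι ι F) *ᵥ v - v)
  by_cases hbig : Fintype.card ι < wrk j + 5
  · -- a large moved space and a singular fixed vector
    obtain ⟨y, hy, hy0, hQy⟩ := exists_singular_mem hq (ratPart F₀ P (fixd j))
      (by have := fixd_add_wrk j; omega)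
    exact Or.inl (qconj_moved_mem hQ hrat (by omega) hMΩ hHM hT hz hconj hji
      (by have := fixd_add_wrk j; omega) hy0 hQy hy)
  by_cases hs : ∃ y ∈ ratPart F₀ P (moved j), y ≠ 0 ∧ qr hrat y = 0
  · obtain ⟨y, hy, hy0, hQy⟩ := hs
    exact Or.inl (qconj_fix_mem hQ hrat (by omega) hMΩ hHM hT hz hconj hji (by omega) hy0 hQy hy)
  push Not at hs
  have hd : Module.finrank F₀ (ratPart F₀ P (moved j)) = 2 := by
    obtain ⟨k, hk⟩ := hev
    by_contra hne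
    obtain ⟨y, hy, hy0, hQy⟩ := exists_singular_mem hq (ratPart F₀ P (moved j)) (by omega)
    exact hs y hy hy0 hQy
  have hani : ∀ y ∈ ratPart F₀ P (moved j), qr hrat y = 0 → y = 0 := fun y hy hQy => by
    by_contra hy0
    exact hs y hy hy0 hQy
  refine Or.inr ⟨_, fun h2' => ?_, hd, hani, fun x hx => by rw [← hmovj] at hx ⊢; exact moved_commute hcomm hx,
    rfl⟩
  -- an anisotropic plane in the fixed space forces odd characteristic
  obtain ⟨a, ha, ha0⟩ := Submodule.exists_mem_ne_zero_of_ne_bot (p := ratPart F₀ P (moved j))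
    (fun h => by rw [h, finrank_bot] at hd; omega)
  have hnotle : ¬ ratPart F₀ P (moved j) ≤ Submodule.span F₀ {a} := fun h => by
    have := Submodule.finrank_mono h
    rw [finrank_span_singleton ha0, hd] at this
    omega
  obtain ⟨b, hb, hba⟩ := SetLike.not_le_iff_exists.1 hnotle
  have hpol : pol (qr hrat) a b = 0 := by
    have hfix : em F₀ P a ∈ fixd j := hchar h2' ha
    obtain ⟨v, hv⟩ := hb
    refine Subtype.ext ?_
    rw [qr_pol hrat, ← hv, CfsgLib.Orth.pol_fix_disp hQ hji hfix]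
    rfl
  have h2 : (2 : F₀) = 0 := Subtype.ext ((map_ofNat F₀.subtype 2).trans h2')
  haveI : CharP F₀ 2 := (CharTwo.of_one_ne_zero_of_two_eq_zero one_ne_zero h2)
  obtain ⟨s, hs'⟩ := FiniteField.isSquare_of_char_two (CharP.ringChar_of_prime_eq_zero Nat.prime_two (by simpa using h2))
    (-qr hrat b / qr hrat a)
  have hQa : qr hrat a ≠ 0 := fun h => ha0 (hani a ha h)
  have h0 : qr hrat (b + s • a) = 0 := by
    rw [qadd hq, qsmul hq, psmul_right hq, pcomm b a, hpol, sq, ← hs']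
    field_simp
    ring
  refine hba ?_
  rw [eq_neg_of_add_eq_zero_left (hani _ (Submodule.add_mem _ hb (Submodule.smul_mem _ _ ha)) h0)]
  exact Submodule.neg_mem _ (Submodule.smul_mem _ _ (Submodule.mem_span_singleton_self a))

/-- a conjugate of a good involution determines the conjugating element -/
theorem finish_mem {r : ℕ} (hr : r.Prime) (hcard : Fintype.card F = Nat.card F₀ ^ r) {i₂ : GL ι F} {w₁ w₂ : ℕ} (hw₁0 : 0 < w₁)
    (h₂ : GoodInv Q hrat i₂ w₂) (hw : w₂ ≤ 5) (hw4 : 4 ≤ w₂)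
    (hdim : (∀ p : F, p * p ∈ F₀ → p ∈ F₀) ∨ w₁ + w₂ ≤ 6)
    {g : GL ι F} (hg : g ∈ M) (hz : g * i₂ * g⁻¹ ∈ subfieldSubgroup F₀ P ⊓ omegaGL Q) :
    g ∈ subfieldSubgroup F₀ P ⊓ omegaGL Q := by
  obtain ⟨hi₂, hR₂, h₂₂, hw₂, -⟩ := h₂
  have hz2 : g * i₂ * g⁻¹ * (g * i₂ * g⁻¹) = 1 := by
    rw [show g * i₂ * g⁻¹ * (g * i₂ * g⁻¹) = g * (i₂ * i₂) * g⁻¹ by group, h₂₂]; group
  have hwz : wrk (g * i₂ * g⁻¹) = w₂ := by rw [wrk_conj, hw₂]
  have hzR : RatMap F₀ P (g * i₂ * g⁻¹) := by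
    rcases hdim with h | h
    · exact rational_of_invol hr hcard hz.1 hz2 (Or.inl h)
    · have := fixd_add_wrk (g * i₂ * g⁻¹)
      obtain ⟨e, he⟩ := wrk_even hQ (by omega) hz.2
      exact rational_of_invol hr hcard hz.1 hz2 (Or.inr (by omega))
  obtain ⟨-, hmd⟩ := rat_dims hzR
  obtain ⟨y, hy, hy0, hQy⟩ := exists_singular_mem (qr_nd hQ hrat) (ratPart F₀ P (moved (g * i₂ * g⁻¹))) (by omega)
  exact qconj_fix_mem hQ hrat (by omega) hMΩ hHM hT hg (i := i₂) rfl (omegaGL_le_iso hz.2)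
    (by have := (rat_dims hR₂).1; omega) hy0 hQy hy

/-- elements keeping a rational anisotropic plane -/
theorem qspecial {r : ℕ} (hr : r.Prime)
    (hcard : Fintype.card F = Nat.card F₀ ^ r) {P₀ : Submodule F₀ (ι → F₀)} (h2F : (2 : F) ≠ 0)
    (hd : Module.finrank F₀ P₀ = 2) (hani : ∀ y ∈ P₀, qr hrat y = 0 → y = 0) {g : GL ι F} (hg : g ∈ M)
    (hgP : ∀ x ∈ Submodule.span F (em F₀ P '' ↑P₀), (g : Matrix ι ι F) *ᵥ x ∈ Submodule.span F (em F₀ P '' ↑P₀)) :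
    g ∈ subfieldSubgroup F₀ P ⊓ omegaGL Q := by
  classical
  have hq := qr_nd hQ hrat
  have hdd : ∀ {i : GL ι F}, i * i = 1 → ∀ x ∈ moved i, x ∈ fixd i → (2 : F) • x = 0 := by
    intro i hi x hx hxf
    obtain ⟨v, rfl⟩ := hx
    have h1 : disp i (disp i v) = 0 := hxf
    rw [← h1, disp_apply, disp_apply, mulVec_sub, ← gl_mul_mulVec, hi, Units.val_one, one_mulVec]
    module
  have h2 : (2 : F₀) ≠ 0 := fun h =>
    h2F ((map_ofNat F₀.subtype 2).symm.trans ((congrArg F₀.subtype h).trans (map_zero F₀.subtype)))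
  have hP₀nd : NdOn (qr hrat) P₀ := by
    intro v hv hv0
    have hQv : qr hrat v ≠ 0 := fun h => hv0 (hani v hv h)
    have h3 : pol (qr hrat) v v ≠ 0 := by rw [pself hq]; exact mul_ne_zero h2 hQv
    exact ⟨⟨v, hv, h3⟩, v, hv, h3⟩
  obtain ⟨S, hS⟩ : ∃ S, S = Submodule.span F (em F₀ P '' ↑P₀) := ⟨_, rfl⟩
  rw [← hS] at hgP
  -- the inverse keeps the plane
  have hgS' : ∀ x ∈ S, ((g⁻¹ : GL ι F) : Matrix ι ι F) *ᵥ x ∈ S := by
    have h1 : S.map (Matrix.mulVecLin (g : Matrix ι ι F)) = S :=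
      Submodule.eq_of_le_of_finrank_eq (by rintro _ ⟨x, hx, rfl⟩; exact hgP x hx)
        (Submodule.equivMapOfInjective _ (fun a b hab => by
          have := congrArg (fun y => ((g⁻¹ : GL ι F) : Matrix ι ι F) *ᵥ y) hab
          simpa only [Matrix.mulVecLin_apply, gl_inv_mulVec] using this) S).finrank_eq.symm
    intro x hx
    rw [← h1] at hx
    obtain ⟨y, hy, rfl⟩ := hx
    rw [Matrix.mulVecLin_apply, gl_inv_mulVec]
    exact hy
  have hUd := finrank_qperp_add hq P₀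
  have hone : IsSquare (((1 : F₀) : F) / ((1 : F₀) : F)) := ⟨1, by push_cast; simp⟩
  obtain ⟨U, hU⟩ : ∃ U, U = qperp hq P₀ := ⟨_, rfl⟩
  have hUnd : NdOn (qr hrat) U := hU ▸ qperp_nd hq hP₀nd
  rw [← hU] at hUd
  obtain ⟨i₁, A₁, hA₁, hA₁U, hi₁Ω, hA₁d, -⟩ :=
    exists_refl_inv hQ hrat (by omega) (c := 1) (c' := 1) one_ne_zero one_ne_zero hone 1 U hUnd (by omega)
      (fun h => absurd h h2)
  obtain ⟨i₂, A₂, hA₂, hA₂U, hi₂Ω, hA₂d, -⟩ :=
    exists_refl_inv hQ hrat (by omega) (c := 1) (c' := 1) one_ne_zero one_ne_zero hone 2 U hUnd (by omega)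
      (fun h => absurd h h2)
  obtain ⟨hi₁i, hR₁, h₁₁, hm₁⟩ := hA₁
  obtain ⟨hi₂i, hR₂, h₂₂, hm₂⟩ := hA₂
  have hw₁ : wrk i₁ = 2 := by show Module.finrank F (moved i₁) = 2; rw [hm₁, finrank_span_em, hA₁d]
  have hw₂ : wrk i₂ = 4 := by show Module.finrank F (moved i₂) = 4; rw [hm₂, finrank_span_em, hA₂d]
  have hG₂ : GoodInv Q hrat i₂ 4 := by
    obtain ⟨y, hy, hy0, hQy⟩ := exists_singular_mem hq A₂ (by omega)
    exact ⟨Subgroup.mem_inf.2 ⟨hR₂.mem, hi₂Ω⟩, hR₂, h₂₂, hw₂, y, hy0, hQy, hm₂ ▸ Submodule.subset_span ⟨y, hy, rfl⟩⟩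
  have hperpA : ∀ {A : Submodule F₀ (ι → F₀)}, A ≤ U → ∀ p ∈ P₀,
      ∀ x ∈ Submodule.span F (em F₀ P '' ↑A), pol Q (em F₀ P p) x = 0 := by
    intro A hA p hp x hx
    induction hx using Submodule.span_induction with
    | mem x hx =>
      obtain ⟨b, hb, rfl⟩ := hx
      refine qr_perp hQ hrat ?_
      rw [pcomm]
      have := hA hb
      rw [hU] at this
      exact this p hp
    | zero => exact pzero_right hQ _
    | add x y _ _ hx hy => rw [padd_right hQ, hx, hy, add_zero]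
    | smul c x _ hx => rw [psmul_right hQ, hx, mul_zero]
  have hfix₁ : ∀ p ∈ P₀, (i₁ : Matrix ι ι F) *ᵥ em F₀ P p = em F₀ P p := fun p hp =>
    fix_of_perp_moved hQ hi₁i fun v hv => hperpA hA₁U p hp v (hm₁ ▸ hv)
  have hfix₂ : ∀ x ∈ S, (i₂ : Matrix ι ι F) *ᵥ x = x := by
    intro x hx
    rw [hS] at hx
    induction hx using Submodule.span_induction with
    | mem x hx =>
      obtain ⟨p, hp, rfl⟩ := hx
      exact fix_of_perp_moved hQ hi₂i fun v hv => hperpA hA₂U p hp v (hm₂ ▸ hv)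
    | zero => rw [mulVec_zero]
    | add x y _ _ hx hy => rw [mulVec_add, hx, hy]
    | smul c x _ hx => rw [mulVec_smul, hx]
  obtain ⟨z, hz⟩ : ∃ z, z = g * i₂ * g⁻¹ := ⟨_, rfl⟩
  have hzM : z ∈ M := hz ▸ mul_mem (mul_mem hg (hHM hG₂.1)) (inv_mem hg)
  have hzP : ∀ p ∈ P₀, (z : Matrix ι ι F) *ᵥ em F₀ P p = em F₀ P p := by
    intro p hp
    rw [hz, gl_mul_mulVec, gl_mul_mulVec, hfix₂ _ (hgS' _ (hS ▸ Submodule.subset_span ⟨p, hp, rfl⟩)), gl_mulVec_inv]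
  have hperp : ∀ (k : GL ι F), k ∈ Cfsg.isometryGroup F Q → ∀ (K : Submodule F₀ (ι → F₀)),
      (∀ v ∈ K, ∀ p ∈ P₀, pol (qr hrat) v p = 0) → (∀ p ∈ P₀, (k : Matrix ι ι F) *ᵥ em F₀ P p = em F₀ P p) →
      ∀ v ∈ K, ∀ p ∈ P₀, pol Q ((k : Matrix ι ι F) *ᵥ em F₀ P v) (em F₀ P p) = 0 := by
    intro k hk K hK hkP v hv p hp
    rw [← hkP p hp, iso_pol hk]
    exact qr_perp hQ hrat (hK v hv p hp)
  have hdisjU : P₀ ⊓ U = ⊥ := by
    rw [eq_bot_iff]
    rintro v ⟨hv0, hv1⟩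
    by_contra hne
    obtain ⟨y, hy, hvy⟩ := (hP₀nd v hv0 (fun h => hne ((Submodule.mem_bot F₀).2 h))).1
    rw [hU] at hv1
    exact hvy (by rw [pcomm]; exact hv1 y hy) 
  -- the bridge
  have hin : ∀ j ∈ M, j * i₁ = i₁ * j → fixd i₁ ⊓ fixd (g * i₂ * g⁻¹) ≤ fixd j →
      j ∈ subfieldSubgroup F₀ P ⊓ omegaGL Q := by
    intro j hjM hjc hjfix
    rw [← hz] at hjfix
    have hji := omegaGL_le_iso (hMΩ hjM)
    have hjP : ∀ p ∈ P₀, (j : Matrix ι ι F) *ᵥ em F₀ P p = em F₀ P p := fun p hp =>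
      mem_fixd_iff.1 (hjfix ⟨mem_fixd_iff.2 (hfix₁ p hp), mem_fixd_iff.2 (hzP p hp)⟩)
    have hsum := Submodule.finrank_sup_add_finrank_inf_eq P₀ A₁
    have hinf : P₀ ⊓ A₁ = ⊥ := eq_bot_iff.2 ((inf_le_inf le_rfl hA₁U).trans hdisjU.le)
    rw [hinf, finrank_bot] at hsum
    obtain ⟨y, hy, hy0, hQy⟩ := exists_singular_mem hq (P₀ ⊔ A₁) (by omega)
    have hKd := finrank_qperp_add hq (P₀ ⊔ A₁)
    refine qsubspace_mem hQ hrat (by omega) hMΩ hHM hT hjM (K := qperp hq (P₀ ⊔ A₁)) (by omega) hy0 hQy fun v hv => ?_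
    obtain ⟨p, hp, a, ha, rfl⟩ := Submodule.mem_sup.1 hy
    rw [em_add, padd_right hQ, hperp j hji (qperp hq (P₀ ⊔ A₁)) (fun v hv p hp => hv p (Submodule.mem_sup_left hp)) hjP v hv p hp,
      zero_add]
    have hjinv : j⁻¹ * i₁ = i₁ * j⁻¹ := by
      rw [inv_mul_eq_iff_eq_mul, ← mul_assoc, hjc, mul_inv_cancel_right]
    have ham : em F₀ P a ∈ moved i₁ := hm₁ ▸ Submodule.subset_span ⟨a, ha, rfl⟩
    have hmem := moved_commute hjinv ham
    rw [hm₁] at hmem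
    rw [← gl_mulVec_inv j (em F₀ P a), iso_pol hji]
    generalize ((j⁻¹ : GL ι F) : Matrix ι ι F) *ᵥ em F₀ P a = x at hmem
    induction hmem using Submodule.span_induction with
    | mem x hx => obtain ⟨b, hb, rfl⟩ := hx; exact qr_perp hQ hrat (hv b (Submodule.mem_sup_right hb))
    | zero => exact pzero_right hQ _
    | add x y _ _ hx hy => rw [padd_right hQ, hx, hy, add_zero]
    | smul c x _ hx => rw [psmul_right hQ, hx, mul_zero]
  have hdim : (∀ p : F, p * p ∈ F₀ → p ∈ F₀) ∨ 2 + 4 ≤ 6 := Or.inr le_rfl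
  obtain ⟨j', hj', hj'R, hj'2, hj'1, hj'comm, hj'fix, hj'w⟩ :=
    exists_bridge hQ hrat hn hMΩ hHM hT hr hcard (Subgroup.mem_inf.2 ⟨hR₁.mem, hi₁Ω⟩) h₁₁ hw₁ hR₁ two_pos hG₂ (by omega) hdim hg hin
  rw [← hz] at hj'comm hj'fix
  refine finish_mem hQ hrat hn hMΩ hHM hT hr hcard (w₁ := 2) two_pos hG₂ (by omega) (by omega) hdim hg (hz ▸ ?_)
  rcases commute_mem hQ hrat hn hMΩ hHM hT hj' hj'R hj'2 hj'1 (by omega) hzM hj'comm with h | ⟨P₁, -, hd', hani', -, hP₁⟩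
  · exact h
  have hP₀fix : ∀ p ∈ P₀, em F₀ P p ∈ fixd j' := fun p hp =>
    hj'fix ⟨mem_fixd_iff.2 (hfix₁ p hp), mem_fixd_iff.2 (hzP p hp)⟩
  have hdisj : P₀ ⊓ P₁ = ⊥ := by
    rw [eq_bot_iff]
    rintro v ⟨hv0, hv1⟩
    rw [hP₁] at hv1
    have := hdd hj'2 _ hv1 (hP₀fix v hv0)
    rw [smul_eq_zero, or_iff_right h2F] at this
    exact (Submodule.mem_bot F₀).2 (em_injective F₀ P (this.trans (em_zero F₀ P).symm))
  have hsum := Submodule.finrank_sup_add_finrank_inf_eq P₀ P₁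
  rw [hdisj, finrank_bot] at hsum
  obtain ⟨y, hy, hy0, hQy⟩ := exists_singular_mem hq (P₀ ⊔ P₁) (by omega)
  have hK := Submodule.finrank_sup_add_finrank_inf_eq U (ratPart F₀ P (fixd j'))
  have hK2 : Module.finrank F₀ ↥(U ⊔ ratPart F₀ P (fixd j')) ≤ Fintype.card ι :=
    (Submodule.finrank_le _).trans (Module.finrank_fintype_fun_eq_card F₀).le
  have e2 := rat_dims hj'R
  rw [← hP₁] at e2
  refine qsubspace_mem hQ hrat (by omega) hMΩ hHM hT hzM
    (K := U ⊓ ratPart F₀ P (fixd j')) (by omega) hy0 hQy fun v hv => ?_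
  obtain ⟨p, hp, p', hp', rfl⟩ := Submodule.mem_sup.1 hy
  rw [hP₁] at hp'
  obtain ⟨x', hx'⟩ := hp'
  rw [em_add, padd_right hQ, ← hx',
    hperp z (omegaGL_le_iso (hMΩ hzM)) U (fun v hv => by rw [hU] at hv; exact hv) hzP v hv.1 p hp,
    CfsgLib.Orth.pol_fix_disp hQ (omegaGL_le_iso hj'.2) (fixd_commute hj'comm hv.2), add_zero]

/-- a tight overgroup is the subfield group -/
theorem qtight_le {r : ℕ} (hr : r.Prime)
    (hcard : Fintype.card F = Nat.card F₀ ^ r) : M ≤ subfieldSubgroup F₀ P ⊓ omegaGL Q := by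
  intro g hg
  have hq := qr_nd hQ hrat
  have hUd : Module.finrank F₀ (⊤ : Submodule F₀ (ι → F₀)) = Fintype.card ι := by
    rw [finrank_top, Module.finrank_fintype_fun_eq_card]
  obtain ⟨i₁, i₂, w₁, w₂, hi₁, h₁₂, hw₁, hR₁, hw₁0, hcen, hG₂, hne, hw, hw4, hb, hdim⟩ :
      ∃ (i₁ i₂ : GL ι F) (w₁ w₂ : ℕ), i₁ ∈ subfieldSubgroup F₀ P ⊓ omegaGL Q ∧ i₁ * i₁ = 1 ∧ wrk i₁ = w₁ ∧
        RatMap F₀ P i₁ ∧ 0 < w₁ ∧ (∀ x ∈ M, x * i₁ = i₁ * x → x ∈ subfieldSubgroup F₀ P ⊓ omegaGL Q) ∧ GoodInv Q hrat i₂ w₂ ∧ w₁ < w₂ ∧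
        w₂ ≤ 6 ∧ 4 ≤ w₂ ∧ w₁ + w₂ ≤ 6 ∧
        ((∀ p : F, p * p ∈ F₀ → p ∈ F₀) ∨ w₁ + w₂ ≤ 6) := by
    by_cases h2F : (2 : F) = 0
    · obtain ⟨i₁, i₂, w₁, w₂, hG₁, hG₂, hne, hw, hw4, -, hsq, hdim, -⟩ :=
        exists_small_invols hQ hrat hn hr hcard (U := ⊤) (ndOn_top hq) (by omega)
      have hsq' : IsSquare (-1 : F) := ⟨1, by linear_combination -h2F⟩
      have hw₁0 : 0 < w₁ := by
        obtain ⟨-, -, -, hwk, y, hy0, -, hym⟩ := hG₁
        rw [← hwk]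
        exact Module.finrank_pos_iff_exists_ne_zero.2 ⟨⟨_, hym⟩, fun h => em_ne_zero F₀ P hy0 (congrArg Subtype.val h)⟩
      exact ⟨i₁, i₂, w₁, w₂, hG₁.1, hG₁.2.2.1, hG₁.2.2.2.1, hG₁.2.1, hw₁0,
        fun x hx hc => good_bridge hQ hrat hn hMΩ hHM hT hG₁ (by omega) hx hc, hG₂, hne, hw, hw4, hsq hsq', hdim⟩
    have h2 : (2 : F₀) ≠ 0 := fun h =>
      h2F ((map_ofNat F₀.subtype 2).symm.trans ((congrArg F₀.subtype h).trans (map_zero F₀.subtype)))
    have hone : IsSquare (((1 : F₀) : F) / ((1 : F₀) : F)) := ⟨1, by push_cast; simp⟩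
    obtain ⟨g₁, A₁, hA₁, -, hg₁Ω, hA₁d, -⟩ :=
      exists_refl_inv hQ hrat (by omega) (c := 1) (c' := 1) one_ne_zero one_ne_zero hone 1 ⊤ (ndOn_top hq)
        (by omega) (fun h => absurd h h2)
    obtain ⟨g₂, A₂, hA₂, -, hg₂Ω, hA₂d, -⟩ :=
      exists_refl_inv hQ hrat (by omega) (c := 1) (c' := 1) one_ne_zero one_ne_zero hone 2 ⊤ (ndOn_top hq)
        (by omega) (fun h => absurd h h2)
    have hwrk : ∀ {g : GL ι F} {A : Submodule F₀ (ι → F₀)} {k : ℕ}, ReflInv Q F₀ P g A →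
        Module.finrank F₀ A = k → wrk g = k := by
      intro g A k hA hk
      show Module.finrank F (moved g) = k
      rw [hA.2.2.2, finrank_span_em, hk]
    have hi₁ : g₁ ∈ subfieldSubgroup F₀ P ⊓ omegaGL Q := Subgroup.mem_inf.2 ⟨hA₁.2.1.mem, hg₁Ω⟩
    obtain ⟨y, hy, hy0, hQy⟩ := exists_singular_mem hq A₂ (by omega)
    refine ⟨g₁, g₂, 2, 4, hi₁, hA₁.2.2.1, hwrk hA₁ hA₁d, hA₁.2.1, two_pos, fun x hx hc => ?_,
      ⟨Subgroup.mem_inf.2 ⟨hA₂.2.1.mem, hg₂Ω⟩, hA₂.2.1, hA₂.2.2.1, hwrk hA₂ hA₂d, y, hy0, hQy, by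
        rw [hA₂.2.2.2]
        exact Submodule.subset_span ⟨y, hy, rfl⟩⟩, by norm_num, by norm_num, le_rfl, le_rfl, Or.inr le_rfl⟩
    · by_cases hs : ∃ y ∈ A₁, y ≠ 0 ∧ qr hrat y = 0
      · obtain ⟨y, hy, hy0, hQy⟩ := hs
        exact good_bridge hQ hrat hn hMΩ hHM hT ⟨hi₁, hA₁.2.1, hA₁.2.2.1, hwrk hA₁ hA₁d, y, hy0, hQy, by
          rw [hA₁.2.2.2]; exact Submodule.subset_span ⟨y, hy, rfl⟩⟩ (by omega) hx hc
      · push Not at hs
        refine qspecial hQ hrat hn hMΩ hHM hT hr hcard h2F hA₁d (fun y hy hQy => ?_) hx fun v hv => ?_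
        · by_contra hy0
          exact hs y hy hy0 hQy
        · rw [← hA₁.2.2.2] at hv ⊢
          exact moved_commute hc hv
  obtain ⟨j, hj, hjR, hj2, hj1, hjcomm, -, hjw⟩ :=
    exists_bridge hQ hrat hn hMΩ hHM hT hr hcard hi₁ h₁₂ hw₁ hR₁ hw₁0 hG₂ hne hdim hg fun j hjM hjc _ => hcen j hjM hjc
  have hzM : g * i₂ * g⁻¹ ∈ M := mul_mem (mul_mem hg (hHM hG₂.1)) (inv_mem hg)
  refine finish_mem hQ hrat hn hMΩ hHM hT hr hcard hw₁0 hG₂ (by omega) hw4 hdim hg ?_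
  rcases commute_mem hQ hrat hn hMΩ hHM hT hj hjR hj2 hj1 (by omega) hzM hjcomm with h | ⟨P₀, h2, hd, hani, hkeep, -⟩
  · exact h
  · exact qspecial hQ hrat hn hMΩ hHM hT hr hcard h2 hd hani hzM hkeep

omit hMΩ hHM hT hn in
/-- the subfield subgroup is proper in `Ω` -/
theorem subfield_lt_omega (hn7 : 7 ≤ Fintype.card ι) {r : ℕ} (hr : r.Prime)
    (hcard : Fintype.card F = Nat.card F₀ ^ r) : subfieldSubgroup F₀ P ⊓ omegaGL Q < omegaGL Q := by
  classical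
  have hq := qr_nd hQ hrat
  refine lt_of_le_of_ne inf_le_right fun heq => ?_
  obtain ⟨μ, hμ⟩ : ∃ μ : F, μ ∉ F₀ := by
    by_contra hcon
    push Not at hcon
    have h1 := Nat.card_le_card_of_surjective (fun x : F₀ => (x : F)) fun x => ⟨⟨x, hcon x⟩, rfl⟩
    rw [Nat.card_eq_fintype_card (α := F), hcard] at h1
    have h2 : 1 < Nat.card F₀ := Finite.one_lt_card
    have h3 : Nat.card F₀ ^ 1 < Nat.card F₀ ^ r := Nat.pow_lt_pow_right h2 hr.one_lt
    rw [pow_one] at h3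
    omega
  obtain ⟨z, -, hz0, hz⟩ := exists_qsingular hq (ndOn_top hq)
    (by rw [finrank_top, Module.finrank_fintype_fun_eq_card]; omega)
  obtain ⟨f, -, hQf, hzf⟩ := exists_qpartner hq (ndOn_top hq) Submodule.mem_top hz0 hz
  have hRnd := pair_nd hq Submodule.mem_top Submodule.mem_top hz hQf hzf (ndOn_top hq)
  have hRd := pair_finrank hq (P := ⊤) Submodule.mem_top Submodule.mem_top hz hQf hzf
  rw [finrank_top, Module.finrank_fintype_fun_eq_card] at hRd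
  obtain ⟨x, hx, hx0, hQx⟩ := exists_qsingular hq hRnd (by omega)
  obtain ⟨x', hx', hQx', hxx'⟩ := exists_qpartner hq hRnd hx hx0 hQx
  have hzx : pol (qr hrat) z x = 0 := by rw [pcomm]; exact ((mem_pairPerp hq).1 hx).2.1
  have hzx' : pol (qr hrat) x' z = 0 := ((mem_pairPerp hq).1 hx').2.1
  have hzz := qr_zero hQ hrat hz
  have hzm : pol Q (em F₀ P z) (μ • em F₀ P x) = 0 := by
    rw [psmul_right hQ, qr_perp hQ hrat hzx, mul_zero]
  obtain ⟨k, hk, hkE⟩ := ein_omega hQ (by omega) hzz hzm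
  rw [← heq] at hk
  have hkz : (k : Matrix ι ι F) *ᵥ em F₀ P z = em F₀ P z := by
    rw [hkE, pself hQ, hzz, hzm]; simp
  obtain ⟨b, hb⟩ := rational_of_fix hk.1 hz0 hkz x'
  rw [hkE, qr_perp hQ hrat hzx', psmul_right hQ, pcomm (em F₀ P x') (em F₀ P x), qr_one hQ hrat hxx'] at hb
  obtain ⟨φ, hφz, -⟩ := exists_dual (⊥ : Submodule F₀ (ι → F₀)) (fun hm => hz0 ((Submodule.mem_bot F₀).1 hm))
  have h1 : μ • em F₀ P z = em F₀ P (x' - b) := by
    rw [em_sub, ← hb]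
    module
  have h2 := congrArg (Subf.extFun F₀ P φ) h1
  rw [map_smul, Subf.extFun_em, Subf.extFun_em, hφz, smul_eq_mul] at h2
  push_cast at h2
  rw [mul_one] at h2
  exact hμ (h2 ▸ (φ ⬝ᵥ (x' - b)).2)

omit hMΩ hHM hT in
/-- the subfield subgroup is maximal, dimension at least ten -/
theorem quad_subfield_maximal_ten {r : ℕ} (hr : r.Prime) (hcard : Fintype.card F = Nat.card F₀ ^ r) :
    IsMaximalIn (omegaGL Q) (subfieldSubgroup F₀ P ⊓ omegaGL Q) := by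
  classical
  have hq := qr_nd hQ hrat
  refine ⟨subfield_lt_omega hQ hrat (by omega) hr hcard, fun M hHM hMΩ => ?_⟩
  by_cases hT : QTight hrat M
  · exact Or.inl (le_antisymm (qtight_le hQ hrat hn hMΩ hHM hT hr hcard) hHM)
  · exact Or.inr (le_antisymm hMΩ
      (omega_le_of_not_tight hQ hrat (by omega) (hMΩ.trans omegaGL_le_iso) hHM hr hcard hT))

omit hMΩ hHM hT hn in
/-- the subfield subgroup is maximal, dimension at least eleven; quadratic extensions from dimension twelve -/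
theorem quad_subfield_maximal_of_twelve (hn : 11 ≤ Fintype.card ι) {r : ℕ} (hr : r.Prime)
    (_ : r = 2 → 12 ≤ Fintype.card ι ∨ (Odd (Fintype.card ι) ∧ (2 : F) ≠ 0))
    (hcard : Fintype.card F = Nat.card F₀ ^ r) :
    IsMaximalIn (omegaGL Q) (subfieldSubgroup F₀ P ⊓ omegaGL Q) :=
  quad_subfield_maximal_ten hQ hrat (by omega) hr hcard

omit hMΩ hHM hT hn in
/-- the subfield subgroup is maximal, dimension at least eleven -/
theorem quad_subfield_maximal_eleven (hn : 11 ≤ Fintype.card ι) {r : ℕ} (hr : r.Prime)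
    (_ : r = 2 → 13 ≤ Fintype.card ι ∨ (Odd (Fintype.card ι) ∧ (2 : F) ≠ 0))
    (hcard : Fintype.card F = Nat.card F₀ ^ r) :
    IsMaximalIn (omegaGL Q) (subfieldSubgroup F₀ P ⊓ omegaGL Q) :=
  quad_subfield_maximal_ten hQ hrat (by omega) hr hcard

omit hMΩ hHM hT hn in
/-- the subfield subgroup is maximal -/
theorem quad_subfield_maximal (hn : 13 ≤ Fintype.card ι) {r : ℕ} (hr : r.Prime)
    (hcard : Fintype.card F = Nat.card F₀ ^ r) :
    IsMaximalIn (omegaGL Q) (subfieldSubgroup F₀ P ⊓ omegaGL Q) :=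
  quad_subfield_maximal_ten hQ hrat (by omega) hr hcard

omit hMΩ hHM hT hn in
/-- the subfield subgroup is maximal, dimension at least twelve -/
theorem quad_subfield_maximal_twelve (hn : 12 ≤ Fintype.card ι) {r : ℕ} (hr : r.Prime)
    (_ : r = 2 → 13 ≤ Fintype.card ι) (hcard : Fintype.card F = Nat.card F₀ ^ r) :
    IsMaximalIn (omegaGL Q) (subfieldSubgroup F₀ P ⊓ omegaGL Q) :=
  quad_subfield_maximal_ten hQ hrat (by omega) hr hcard

end CfsgLib.Perm.Trans.Quad
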