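import Cfsg.Agent.Lib.Perm.Trans.QuadNondegCases
import Cfsg.Agent.Lib.Perm.Trans.QuadSubfMax
import Cfsg.Agent.Lib.Perm.Trans.QuadStd
import Cfsg.Agent.Lib.Perm.Trans.QuadNondegFour
import Cfsg.Agent.Lib.Perm.Trans.OrthFrame.Maximal

/-!
# Geometric maximal subgroups of odd-dimensional orthogonal groups
-/

set_option autoImplicit false
set_option linter.all false

namespace CfsgLib.Perm.Trans.GeomOmegaOdd

open Cfsg Cfsg.Geo CfsgLib.Perm.Trans CfsgLib.Perm.Trans.Quad

variable {F : Type*} [Field F] [Fintype F]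

/-- stabilisers of totally singular subspaces -/
theorem singular_maximal_odd (hodd : Odd (Fintype.card F)) (m : ℕ) (hm : 2 ≤ m)
    (W : Submodule F (Unit ⊕ (Fin m ⊕ Fin m) → F)) (hW0 : W ≠ ⊥)
    (hW : IsTotallySingularQuad (quadFormOdd m F) W) :
    IsMaximalIn (omegaGL (quadFormOdd m F)) (subspaceStabilizer W ⊓ omegaGL (quadFormOdd m F)) := by
  refine singular_subspace_maximal (quadFormOdd_nd (CfsgLib.Perm.Asch.two_ne_zero_of_odd hodd))
    (by simp; omega) hW0 hW fun z hz hzW hQz => ?_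
  obtain ⟨-, h1, h2⟩ := singular_extend _ hW hz hzW hQz
  simp only [Fintype.card_sum, Fintype.card_unit, Fintype.card_fin] at h2 ⊢
  omega

/-- stabilisers of non-degenerate subspaces of even dimension -/
theorem nondeg_maximal_odd (hodd : Odd (Fintype.card F)) (m : ℕ) (hm : 4 ≤ m)
    (W : Submodule F (Unit ⊕ (Fin m ⊕ Fin m) → F)) (hW0 : W ≠ ⊥) (hev : Even (Module.finrank F W))
    (hW : IsNondegenerateOn (QuadraticMap.polar (quadFormOdd m F)) W)
    (hex : ¬ (Fintype.card F = 3 ∧ Module.finrank F W = 2 ∧ IsPlusTypeOn (quadFormOdd m F) W)) :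
    IsMaximalIn (omegaGL (quadFormOdd m F)) (subspaceStabilizer W ⊓ omegaGL (quadFormOdd m F)) := by
  have hQ : IsNondegenerateQuadraticForm (quadFormOdd m F) :=
    quadFormOdd_nd (CfsgLib.Perm.Asch.two_ne_zero_of_odd hodd)
  have hcard : Fintype.card (Unit ⊕ (Fin m ⊕ Fin m)) = 2 * m + 1 := by simp; omega
  obtain ⟨j, hj⟩ := hev
  refine nd_subspace_maximal' hQ (by omega) hW0 ?_ hW ?_ ?_
  · intro h
    rw [h, finrank_top, Module.finrank_fintype_fun_eq_card, hcard] at hj
    omega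
  · intro h
    exfalso
    omega
  · intro U hU h2 hUp
    rcases hU with rfl | rfl
    · by_contra hcon
      have hq := Fintype.one_lt_card (α := F)
      obtain ⟨l, hl⟩ := hodd
      exact hex ⟨by omega, h2, hUp⟩
    · have := finrank_qperp_add hQ W
      omega

/-- subfield groups -/
theorem subfield_maximal_odd (hodd : Odd (Fintype.card F)) (m : ℕ) (hm : 5 ≤ m) (F₀ : Subfield F) (r : ℕ)
    (hr : r.Prime) (hcard : Fintype.card F = Nat.card F₀ ^ r)
    (P : Matrix.GeneralLinearGroup (Unit ⊕ (Fin m ⊕ Fin m)) F)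
    (hP : IsQuadFormRationalStructure (quadFormOdd m F) F₀ P) :
    IsMaximalIn (omegaGL (quadFormOdd m F)) (subfieldSubgroup F₀ P ⊓ omegaGL (quadFormOdd m F)) := by
  classical
  have h2 := CfsgLib.Perm.Asch.two_ne_zero_of_odd hodd
  exact quad_subfield_maximal_eleven (quadFormOdd_nd h2) (fun a => hP _ fun i => (a i).2)
    (by simp only [Fintype.card_sum, Fintype.card_fin, Fintype.card_unit]; omega) hr
    (fun _ => Or.inr ⟨⟨m, by simp only [Fintype.card_sum, Fintype.card_fin, Fintype.card_unit]; omega⟩, h2⟩) hcard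

/-- stabilisers of non-degenerate subspaces of even dimension, in dimension seven -/
theorem nondeg_maximal_seven (hodd : Odd (Fintype.card F)) (W : Submodule F (Unit ⊕ (Fin 3 ⊕ Fin 3) → F)) (hW0 : W ≠ ⊥)
    (hev : Even (Module.finrank F W)) (hW : IsNondegenerateOn (QuadraticMap.polar (quadFormOdd 3 F)) W)
    (hex : ¬ (Fintype.card F = 3 ∧ Module.finrank F W = 2 ∧ IsPlusTypeOn (quadFormOdd 3 F) W)) :
    IsMaximalIn (omegaGL (quadFormOdd 3 F)) (subspaceStabilizer W ⊓ omegaGL (quadFormOdd 3 F)) := by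
  have h2 := CfsgLib.Perm.Asch.two_ne_zero_of_odd hodd
  have hQ : IsNondegenerateQuadraticForm (quadFormOdd 3 F) := quadFormOdd_nd h2
  have hcard : Fintype.card (Unit ⊕ (Fin 3 ⊕ Fin 3)) = 7 := by simp
  have hsum := finrank_qperp_add hQ W
  have hdimle : ∀ {A B : Submodule F (Unit ⊕ (Fin 3 ⊕ Fin 3) → F)} {g : Matrix.GeneralLinearGroup (Unit ⊕ (Fin 3 ⊕ Fin 3)) F},
      (∀ x ∈ A, Matrix.mulVec (g : Matrix _ _ F) x ∈ B) → Module.finrank F A ≤ Module.finrank F B := by
    intro A B g h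
    refine LinearMap.finrank_le_finrank_of_injective
      (f := LinearMap.codRestrict B ((Matrix.mulVecLin (g : Matrix (Unit ⊕ (Fin 3 ⊕ Fin 3)) (Unit ⊕ (Fin 3 ⊕ Fin 3)) F)).comp A.subtype)
        fun x => h x x.2) fun x y hxy => ?_
    have h1 : Matrix.mulVec (g : Matrix (Unit ⊕ (Fin 3 ⊕ Fin 3)) (Unit ⊕ (Fin 3 ⊕ Fin 3)) F) x.val =
        Matrix.mulVec (g : Matrix (Unit ⊕ (Fin 3 ⊕ Fin 3)) (Unit ⊕ (Fin 3 ⊕ Fin 3)) F) y.val :=
      congrArg Subtype.val hxy
    have h2 := congrArg (fun z => Matrix.mulVec ((g⁻¹).val : Matrix (Unit ⊕ (Fin 3 ⊕ Fin 3)) (Unit ⊕ (Fin 3 ⊕ Fin 3)) F) z) h1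
    simp only [gl_inv_mulVec] at h2
    exact Subtype.ext h2
  have hpos : 0 < Module.finrank F W := Nat.pos_of_ne_zero fun h => hW0 (Submodule.finrank_eq_zero.1 h)
  obtain ⟨j, hj⟩ := hev
  have hqq := qperp_qperp hQ hW
  have hPnd := qperp_nd hQ hW
  have heq : subspaceStabilizer W ⊓ omegaGL (quadFormOdd 3 F) =
      subspaceStabilizer (qperp hQ W) ⊓ omegaGL (quadFormOdd 3 F) := by
    refine le_antisymm (fun g hg => ⟨stab_qperp hQ hW (omegaGL_le_iso hg.2) hg.1, hg.2⟩) fun g hg => ⟨?_, hg.2⟩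
    have := stab_qperp hQ hPnd (omegaGL_le_iso hg.2) hg.1
    rwa [hqq] at this
  rcases (by omega : Module.finrank F W = 2 ∨ Module.finrank F W = 4 ∨ Module.finrank F W = 6) with h | h | h
  · refine nd_subspace_maximal hQ (by omega) hW0 hW (by omega) (fun g _ hg => ?_) fun _ he => ?_
    · have := hdimle hg
      omega
    · by_contra hcon
      have hq := Fintype.one_lt_card (α := F)
      obtain ⟨l, hl⟩ := hodd
      obtain ⟨e, he, he0, hQe⟩ := he
      exact hex ⟨by omega, h, Submodule.span F {e}, (Submodule.span_singleton_le_iff_mem _ _).2 he, fun v hv => by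
        obtain ⟨c, rfl⟩ := Submodule.mem_span_singleton.1 hv
        rw [qsmul hQ, hQe, mul_zero], by rw [finrank_span_singleton he0, h]⟩
  · rw [heq]
    exact nd_subspace_maximal_four hQ h2 (by omega) hPnd (by omega) (by rw [hqq]; omega) (by rw [hqq]; omega)
  · rw [heq]
    refine nd_subspace_maximal hQ (by omega) (fun h0 => ?_) hPnd (by rw [hqq]; omega) (fun g _ hg => ?_)
      fun h0 _ => by omega
    · rw [h0, finrank_bot] at hsum
      omega
    · rw [hqq] at hg
      have := hdimle hg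
      omega

/-- stabilisers of frames -/
theorem frame_maximal_odd (hodd : Odd (Fintype.card F)) (hp : (Fintype.card F).Prime) (m : ℕ) (hm : 3 ≤ m) {t : ℕ}
    (D : Fin t → Submodule F (Unit ⊕ (Fin m ⊕ Fin m) → F)) (hD : IsOrthogonalMDecomposition (quadFormOdd m F) 1 D) :
    IsMaximalIn (omegaGL (quadFormOdd m F)) (decompositionStabilizer D ⊓ omegaGL (quadFormOdd m F)) := by
  have hc : Fintype.card (Unit ⊕ (Fin m ⊕ Fin m)) = 1 + (m + m) := by simp
  exact OrthFrame.frame_stabilizer_maximal (quadFormOdd_nd (CfsgLib.Perm.Asch.two_ne_zero_of_odd hodd)) hp hodd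
    (by omega) (by omega) hD

end CfsgLib.Perm.Trans.GeomOmegaOdd
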