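import Cfsg.Agent.Lib.Perm.Trans.QuadOverfield

/-!
# The normaliser of a unitary overfield is maximal in the orthogonal group
-/

set_option autoImplicit false
set_option linter.all false

namespace CfsgLib.Perm.Trans.Quad.Over

open scoped Matrix
open Matrix Cfsg.Geo CfsgLib.Perm.Asch CfsgLib.Perm.Trans

variable {ι : Type} [Fintype ι] [DecidableEq ι] {F : Type*} [Field F] [Fintype F]
variable {Q : (ι → F) → F}

local notation "pol" => QuadraticMap.polar

theorem exists_qdata (hQ : IsNondegenerateQuadraticForm Q) (hbig : 10 ≤ Fintype.card ι)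
    {K : Subalgebra F (Matrix ι ι F)} (hK : IsFieldSubalgebra 2 K) (hac : IsAdjointClosedFor (QuadraticMap.polar Q) K)
    (hnsa : ¬ IsSelfAdjointFor (QuadraticMap.polar Q) K) (hsc : ∀ k ∈ K, ∃ c : F, ∀ v, Q (k *ᵥ v) = c * Q v) :
    ∃ (E : Matrix ι ι F) (s N : F), QOData Q E s N ∧ E ∈ K ∧ ∀ k ∈ K, ∃ a b : F, k = a • 1 + b • E := by
  classical
  haveI : Nonempty ι := Fintype.card_pos_iff.1 (by omega)
  rw [IsSelfAdjointFor] at hnsa
  push Not at hnsa
  obtain ⟨E, hE, u₀, v₀, huv⟩ := hnsa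
  obtain ⟨E', hE', hadj⟩ := hac E hE
  have uniq : ∀ A B : Matrix ι ι F, (∀ u v : ι → F, pol Q u (A *ᵥ v) = pol Q u (B *ᵥ v)) → A = B := fun A B h =>
    Matrix.ext_iff_mulVec.2 fun v => sub_eq_zero.1 (eq_zero_of_perp_top hQ fun y => by
      rw [psub_left hQ, pcomm, h, pcomm, sub_self])
  have hE0 : ∀ c : F, E ≠ c • (1 : Matrix ι ι F) := fun c hc => huv (by
    rw [hc, smul_mulVec, smul_mulVec, one_mulVec, one_mulVec, psmul_left hQ, psmul_right hQ])
  have hspan : ∀ x ∈ K, ∃ a b : F, x = a • 1 + b • E := by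
    have hli : LinearIndependent F ![(⟨1, K.one_mem⟩ : K), ⟨E, hE⟩] := by
      rw [LinearIndependent.pair_iff]
      intro a b hab
      have h := congrArg Subtype.val hab
      simp only [AddSubmonoidClass.coe_finsetSum, Subalgebra.coe_add, Subalgebra.coe_smul, Subalgebra.coe_zero] at h
      rcases eq_or_ne b 0 with hb | hb
      · rw [hb, zero_smul, add_zero, smul_eq_zero] at h
        exact ⟨h.resolve_right one_ne_zero, hb⟩
      · refine absurd ?_ (hE0 (-(a / b)))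
        have h' : b • E = (-a) • (1 : Matrix ι ι F) := by
          rw [neg_smul]; exact eq_neg_of_add_eq_zero_right h
        rw [neg_div', div_eq_inv_mul, ← smul_smul, ← h', inv_smul_smul₀ hb]
    intro x hx
    have htop := hli.span_eq_top_of_card_eq_finrank (by rw [Fintype.card_fin, hK.finrank_eq])
    have hm : (⟨x, hx⟩ : K) ∈ Submodule.span F (Set.range ![(⟨1, K.one_mem⟩ : K), ⟨E, hE⟩]) := htop ▸ Submodule.mem_top
    obtain ⟨c, hc⟩ := (Submodule.mem_span_range_iff_exists_fun F).1 hm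
    refine ⟨c 0, c 1, ?_⟩
    have h := congrArg Subtype.val hc
    simpa [Fin.sum_univ_two] using h.symm
  obtain ⟨a, b, hab⟩ := hspan _ (K.mul_mem hE hE)
  have hfield : ∀ A ∈ K, ∀ B ∈ K, A * B = 0 → A = 0 ∨ B = 0 := fun A hA B hB h => by
    by_cases h0 : A = 0
    · exact Or.inl h0
    obtain ⟨y, hy, hxy⟩ := hK.inv A hA h0
    rw [hK.comm A hA y hy] at hxy
    have h2 := congrArg (y * ·) h
    simp only [← mul_assoc, hxy, one_mul, mul_zero] at h2
    exact Or.inr h2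
  have hE'2 : E' * E' = a • 1 + b • E' := uniq _ _ fun u v => by
    rw [← mulVec_mulVec, ← hadj, ← hadj, mulVec_mulVec, hab, add_mulVec, add_mulVec, smul_mulVec, smul_mulVec,
      smul_mulVec, smul_mulVec, one_mulVec, one_mulVec, padd_left hQ, padd_right hQ, psmul_left hQ, psmul_left hQ,
      psmul_right hQ, psmul_right hQ, hadj]
  have hconj : E' = b • 1 - E := by
    have h1 : (E' - E) * (E' - (b • 1 - E)) = 0 := by
      have hc := hK.comm E hE E' hE'
      rw [sub_mul, mul_sub, mul_sub, mul_sub, mul_sub, hE'2, hab, hc, mul_smul_comm, mul_smul_comm, mul_one, mul_one]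
      abel
    rcases hfield _ (K.sub_mem hE' hE) _ (K.sub_mem hE' (K.sub_mem (K.smul_mem K.one_mem b) hE)) h1 with h | h
    · rw [sub_eq_zero.1 h] at hadj
      exact absurd (hadj u₀ v₀) huv
    · exact sub_eq_zero.1 h
  have hpoly : ∀ x y : F, (x • (1 : Matrix ι ι F) + y • E) * ((x + b * y) • 1 - y • E) =
      (x * x + b * (x * y) + -a * (y * y)) • 1 := fun x y => by
    simp only [add_mul, mul_sub, smul_mul_assoc, mul_smul_comm, one_mul, mul_one, hab]
    module
  refine ⟨E, b, -a, ⟨hQ, fun v => ?_, fun x y hxy => ?_, fun u v => ?_, fun x y => ?_, hbig⟩, hE, hspan⟩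
  · rw [mulVec_mulVec, hab, add_mulVec, smul_mulVec, smul_mulVec, one_mulVec]
    module
  · have h1 := hpoly x y
    rw [hxy, zero_smul] at h1
    have hy : y = 0 := by
      by_contra hy
      rcases hfield _ (K.add_mem (K.smul_mem K.one_mem _) (K.smul_mem hE _)) _
        (K.sub_mem (K.smul_mem K.one_mem _) (K.smul_mem hE _)) h1 with h | h
      · refine hE0 (-(x / y)) ?_
        rw [neg_div', div_eq_inv_mul, ← smul_smul, neg_smul, ← eq_neg_of_add_eq_zero_right h, inv_smul_smul₀ hy]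
      · refine hE0 ((x + b * y) / y) ?_
        rw [div_eq_inv_mul, ← smul_smul, sub_eq_zero.1 h, inv_smul_smul₀ hy]
    rw [hy] at hxy
    exact ⟨mul_self_eq_zero.1 (by linear_combination hxy), hy⟩
  · rw [hadj, hconj, sub_mulVec, smul_mulVec, one_mulVec, psub_right hQ, psmul_right hQ]
  · obtain ⟨c, hc⟩ := hsc _ (K.add_mem (K.smul_mem K.one_mem x) (K.smul_mem hE y))
    refine ⟨c, fun hxy hc0 => ?_, fun v => by
      rw [← hc, add_mulVec, smul_mulVec, smul_mulVec, one_mulVec]⟩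
    have hne : x • (1 : Matrix ι ι F) + y • E ≠ 0 := fun h => hxy (by
      rcases eq_or_ne y 0 with hy | hy
      · rw [hy, zero_smul, add_zero, smul_eq_zero] at h
        exact ⟨h.resolve_right one_ne_zero, hy⟩
      · refine absurd ?_ (hE0 (-(x / y)))
        rw [neg_div', div_eq_inv_mul, ← smul_smul, neg_smul, ← eq_neg_of_add_eq_zero_right h, inv_smul_smul₀ hy])
    obtain ⟨z, -, hz⟩ := hK.inv _ (K.add_mem (K.smul_mem K.one_mem x) (K.smul_mem hE y)) hne
    have hzero : ∀ v, Q v = 0 := fun v => by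
      have := hc (z *ᵥ v)
      rwa [mulVec_mulVec, hz, one_mulVec, hc0, zero_mul] at this
    obtain ⟨v, hv⟩ : ∃ v : ι → F, v ≠ 0 := exists_ne 0
    exact hv (eq_zero_of_perp_top hQ fun y => by rw [QuadraticMap.polar, hzero, hzero, hzero]; ring)

variable {E : Matrix ι ι F} {s N : F} (D : QOData Q E s N)
include D

theorem exists_outer : ∃ x p, Q x = 0 ∧ x ≠ 0 ∧ Q p = 0 ∧ pol Q x p = 0 ∧ p ∉ pk D x := by
  have := D.big
  obtain ⟨x, -, hx0, hx⟩ := exists_singular_mem D.quad ⊤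
    (by rw [finrank_top, Module.finrank_fintype_fun_eq_card]; omega)
  obtain ⟨z, hz⟩ := pk_ne D hx0
  have hb1 := finrank_pk1 D x
  obtain ⟨w, hwx, hw⟩ := shift D z (pk D x) (fun w hw => pk_inv D hw) (by omega)
  have hp0 : z + w ∉ pk D x := fun h => hz (by simpa using (pk D x).sub_mem h hwx)
  obtain ⟨α, hα⟩ : ∃ α, α = pol Q x (E *ᵥ (z + w)) := ⟨_, rfl⟩
  obtain ⟨β, hβ⟩ : ∃ β, β = -pol Q x (z + w) := ⟨_, rfl⟩
  have hαβ : ¬(α = 0 ∧ β = 0) := fun h => hp0 (pk_symm D ((mem_pk D).2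
    ⟨neg_eq_zero.1 (hβ ▸ h.2), hα ▸ h.1⟩))
  refine ⟨x, α • (z + w) + β • (E *ᵥ (z + w)), hx, hx0, q_comb D hw α β, ?_,
    fun h => hp0 (K_inv D (fun w hw => pk_inv D hw) hαβ h)⟩
  rw [padd_right D.quad, psmul_right D.quad, psmul_right D.quad, hα, hβ]
  ring

/-- a subspace invariant under the unitary transvections is everything -/
theorem inv_all (W : Submodule F (ι → F))
    (hW : ∀ u, Q u = 0 → ∀ y ∈ W, pol Q y u • (E *ᵥ u) - pol Q y (E *ᵥ u) • u ∈ W)
    {u₀ : ι → F} (hu₀ : Q u₀ = 0) (hu₀0 : u₀ ≠ 0) (hu₀W : u₀ ∈ W) (v : ι → F) : v ∈ W := by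
  have := D.big
  have step : ∀ {p u : ι → F}, p ∈ W → Q u = 0 → u ∈ pk D p → p ∉ kl D u → u ∈ W := by
    intro p u hp hu hup hind
    obtain ⟨r, hr, hrp⟩ := exists_qperp_ne D.quad hind
    have hru : r ∈ pk D u := (mem_pk D).2 ⟨hr u (self_mem_kl D u), hr _ (E_mem_kl D u)⟩
    have hb1 := finrank_pk1 D u
    have hb2 := finrank_pk D (pk D u) p
    obtain ⟨w, ⟨hwu, hwp⟩, hw⟩ := shift D r (pk D u ⊓ pk D p) (fun w hw => ⟨pk_inv D hw.1, pk_inv D hw.2⟩) (by omega)
    have h2u : r + w ∈ pk D u := (pk D u).add_mem hru hwu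
    have h2p : r + w ∉ pk D p := fun h => by
      have h' : r ∈ pk D p := by simpa using (pk D p).sub_mem h hwp
      rw [pcomm, ((mem_pk D).1 h').1] at hrp
      exact zero_ne_one hrp
    obtain ⟨A, hA⟩ : ∃ A, pol Q p (r + w) = A := ⟨_, rfl⟩
    obtain ⟨B, hB⟩ : ∃ B, pol Q p (E *ᵥ (r + w)) = B := ⟨_, rfl⟩
    have hAB : ¬(A = 0 ∧ B = 0) := fun h => h2p (pk_symm D ((mem_pk D).2 ⟨hA.trans h.1, hB.trans h.2⟩))
    have key : ∀ u', Q u' = 0 → u' ∈ pk D p → u' ∈ pk D (r + w) → A • (E *ᵥ u') - B • u' ∈ W := by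
      intro u' hq' hp' h2'
      obtain ⟨e1, e2⟩ := (mem_pk D).1 (pk_symm D hp')
      obtain ⟨e3, -⟩ := (mem_pk D).1 h2'
      have hq2 : Q ((r + w) + u') = 0 := by rw [qadd D.quad, hw, hq', pcomm, e3, zero_add, zero_add]
      have h1 := W.sub_mem (hW _ hq2 p hp) (hW _ hw p hp)
      convert h1 using 1
      rw [mulVec_add, padd_right D.quad p (r + w), padd_right D.quad p (E *ᵥ (r + w)), e1, e2, hA, hB]
      module
    have k1 := key u hu hup (pk_symm D h2u)
    have k2 := key (E *ᵥ u) (q_E D hu) (pk_inv D hup) (pk_inv D (pk_symm D h2u))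
    rw [D.sq] at k2
    have hdet : (-B) * (-B) + s * ((-B) * A) + N * (A * A) ≠ 0 := fun h => hAB
      ⟨(D.irr _ _ h).2, neg_eq_zero.1 (D.irr _ _ h).1⟩
    have h3 := W.sub_mem (W.smul_mem (A * s - B) k1) (W.smul_mem A k2)
    rw [show (A * s - B) • (A • (E *ᵥ u) - B • u) - A • (A • (s • (E *ᵥ u) - N • u) - B • (E *ᵥ u)) =
      ((-B) * (-B) + s * ((-B) * A) + N * (A * A)) • u by module] at h3
    exact (Submodule.smul_mem_iff _ hdet).1 h3
  have hsing : ∀ x, Q x = 0 → x ∈ W := by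
    intro x hx
    rcases eq_or_ne x 0 with rfl | hx0
    · exact W.zero_mem
    obtain ⟨z1, hz1⟩ := pk_ne D hu₀0
    obtain ⟨z2, hz2⟩ := pk_ne D hx0
    obtain ⟨z, hzu, hzx⟩ : ∃ z, z ∉ pk D u₀ ∧ z ∉ pk D x := by
      by_cases h1 : z1 ∈ pk D x
      · by_cases h2 : z2 ∈ pk D u₀
        · exact ⟨z1 + z2, fun h => hz1 (by simpa using (pk D u₀).sub_mem h h2),
            fun h => hz2 (by simpa using (pk D x).sub_mem h h1)⟩
        · exact ⟨z2, h2, hz2⟩
      · exact ⟨z1, hz1, h1⟩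
    have hb1 := finrank_pk1 D u₀
    have hb2 := finrank_pk D (pk D u₀) x
    have hb3 := finrank_pk D (pk D u₀ ⊓ pk D x) z
    obtain ⟨m, ⟨⟨hmu, hmx⟩, hmz⟩, hm0, hmq⟩ := exists_singular_mem D.quad (pk D u₀ ⊓ pk D x ⊓ pk D z) (by omega)
    have hm : m ∈ W := step hu₀W hmq hmu fun h => hzu (pk_symm D (kl_le_pk D hmz h))
    refine step hm hx (pk_symm D hmx) fun h => ?_
    obtain ⟨a, b, hab⟩ := Submodule.mem_span_pair.1 h
    have hab0 : ¬(a = 0 ∧ b = 0) := fun h0 => hm0 (by rw [← hab, h0.1, h0.2, zero_smul, zero_smul, add_zero])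
    exact hzx (pk_symm D (K_inv D (fun w hw => pk_inv D hw) hab0 (hab ▸ hmz)))
  by_cases hvq : Q v = 0
  · exact hsing v hvq
  have hv0 : v ∉ (⊥ : Submodule F (ι → F)) := fun h => hvq (by rw [(Submodule.mem_bot F).1 h, qzero D.quad])
  obtain ⟨r, -, hvr⟩ := exists_qperp_ne D.quad hv0
  have hb1 := finrank_pk1 D v
  obtain ⟨w, hwv, hw⟩ := shift D r (pk D v) (fun w hw => pk_inv D hw) (by omega)
  have hyv : pol Q v (r + w) = 1 := by rw [padd_right D.quad, hvr, pcomm, ((mem_pk D).1 hwv).1, add_zero]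
  have hq1 : Q (v - Q v • (r + w)) = 0 := by
    rw [qsub D.quad, qsmul D.quad, hw, psmul_right D.quad, hyv]
    ring
  have := W.add_mem (hsing _ hq1) (hsing (Q v • (r + w)) (by rw [qsmul D.quad, hw, mul_zero]))
  rwa [sub_add_cancel] at this

omit D

/-- normalisers of unitary overfields are maximal -/
theorem overfield_maximal (hQ : IsNondegenerateQuadraticForm Q) (hbig : 10 ≤ Fintype.card ι)
    {K : Subalgebra F (Matrix ι ι F)} (hK : IsFieldSubalgebra 2 K) (hac : IsAdjointClosedFor (QuadraticMap.polar Q) K)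
    (hnsa : ¬ IsSelfAdjointFor (QuadraticMap.polar Q) K) (hsc : ∀ k ∈ K, ∃ c : F, ∀ v, Q (k *ᵥ v) = c * Q v) :
    IsMaximalIn (omegaGL Q) (subalgebraNormalizer K ⊓ omegaGL Q) := by
  obtain ⟨E, s, N, D, hE, hspan⟩ := exists_qdata hQ hbig hK hac hnsa hsc
  haveI : Nonempty ι := Fintype.card_pos_iff.1 (by omega)
  have of_comm : ∀ {g : GL ι F} {a b : F}, b ≠ 0 →
      (∀ v, E *ᵥ ((g : Matrix ι ι F) *ᵥ v) = a • ((g : Matrix ι ι F) *ᵥ v) + b • ((g : Matrix ι ι F) *ᵥ (E *ᵥ v))) →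
      g ∈ subalgebraNormalizer K := by
    intro g a b hb h
    have e2 : ((g⁻¹ : GL ι F) : Matrix ι ι F) * E * (g : Matrix ι ι F) = a • 1 + b • E :=
      Matrix.ext_iff_mulVec.2 fun v => by
        rw [← mulVec_mulVec, ← mulVec_mulVec, h, mulVec_add, mulVec_smul, mulVec_smul, gl_inv_mulVec, gl_inv_mulVec,
          add_mulVec, smul_mulVec, smul_mulVec, one_mulVec]
    have e1 : (g : Matrix ι ι F) * E * ((g⁻¹ : GL ι F) : Matrix ι ι F) = b⁻¹ • (E - a • 1) := by
      have h3 := congrArg (fun A => (g : Matrix ι ι F) * A * ((g⁻¹ : GL ι F) : Matrix ι ι F)) e2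
      simp only [← mul_assoc, gl_mul_inv, one_mul, mul_add, add_mul, mul_smul_comm, smul_mul_assoc, mul_one] at h3
      rw [mul_assoc, gl_mul_inv, mul_one] at h3
      rw [eq_inv_smul_iff₀ hb, eq_sub_iff_add_eq, add_comm]
      exact h3.symm
    intro k
    constructor <;> intro hk <;> obtain ⟨p, r, hpr⟩ := hspan _ hk
    · rw [hpr, mul_add, add_mul, mul_smul_comm, mul_smul_comm, smul_mul_assoc, smul_mul_assoc, mul_one, gl_mul_inv, e1]
      exact K.add_mem (K.smul_mem K.one_mem _)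
        (K.smul_mem (K.smul_mem (K.sub_mem hE (K.smul_mem K.one_mem _)) _) _)
    · have e : k = ((g⁻¹ : GL ι F) : Matrix ι ι F) * ((g : Matrix ι ι F) * k * ((g⁻¹ : GL ι F) : Matrix ι ι F)) *
          (g : Matrix ι ι F) := by
        rw [← mul_assoc, ← mul_assoc, gl_inv_mul, one_mul, mul_assoc, gl_inv_mul, mul_one]
      rw [e, hpr, mul_add, add_mul, mul_smul_comm, mul_smul_comm, smul_mul_assoc, smul_mul_assoc, mul_one, gl_inv_mul,
        e2]
      exact K.add_mem (K.smul_mem K.one_mem _)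
        (K.smul_mem (K.add_mem (K.smul_mem K.one_mem _) (K.smul_mem hE _)) _)
  refine isMaximalIn_of_pair hQ (by omega) (fun hle => ?_) fun M hHM hM hnot => ?_
  · obtain ⟨x, p, hx, hx0, hp, hxp, hpk⟩ := exists_outer D
    obtain ⟨g, hg, hgE⟩ := ein_omega hQ (by omega) hx (a := p) hxp
    have hmem := (inv_mem (hle hg) : g⁻¹ ∈ subalgebraNormalizer K) E
    rw [inv_inv] at hmem
    obtain ⟨a, b, hab⟩ := hspan _ (hmem.1 hE)
    have hall : ∀ v, E *ᵥ ((g : Matrix ι ι F) *ᵥ v) =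
        a • ((g : Matrix ι ι F) *ᵥ v) + b • ((g : Matrix ι ι F) *ᵥ (E *ᵥ v)) := fun v => by
      have h2 := congrArg (fun A => (g : Matrix ι ι F) *ᵥ (A *ᵥ v)) hab
      simp only [← mulVec_mulVec, gl_mulVec_inv] at h2
      rw [h2, add_mulVec, smul_mulVec, smul_mulVec, one_mulVec, mulVec_add, mulVec_smul, mulVec_smul]
    have hb1 := finrank_pk1 D x
    have hb2 := finrank_pk D (pk D x) p
    obtain ⟨w, ⟨hwx, hwp⟩, hw0, -⟩ := exists_singular_mem hQ (pk D x ⊓ pk D p) (by omega)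
    obtain ⟨c1, c2⟩ := (mem_pk D).1 hwx
    obtain ⟨c3, c4⟩ := (mem_pk D).1 hwp
    have hgw : ∀ y, y ∈ pk D x → y ∈ pk D p → (g : Matrix ι ι F) *ᵥ y = y := fun y h1 h2 => by
      rw [hgE, ((mem_pk D).1 h1).1, ((mem_pk D).1 h2).1]
      simp
    have h1 := hall w
    rw [hgw w hwx hwp, hgw _ (pk_inv D hwx) (pk_inv D hwp)] at h1
    have hab1 : a = 0 ∧ b - 1 = 0 := by
      by_contra hne
      refine combo_ne D hw0 hne ?_
      rw [sub_smul, one_smul, ← add_sub_assoc, ← h1, sub_self]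
    have h2 := hall x
    rw [hgE x, hgE (E *ᵥ x), b_self D hx, pcomm (E *ᵥ x) x, b_self_E D hx, hxp, hp, hab1.1,
      sub_eq_zero.1 hab1.2] at h2
    simp only [zero_smul, sub_zero, add_zero, zero_mul, zero_add, one_smul] at h2
    have h3 : pol Q (E *ᵥ x) p • x = 0 := by
      linear_combination (norm := module) h2
    exact hpk ((mem_pk D).2 ⟨by rw [pcomm, hxp],
      by rw [pcomm]; exact (smul_eq_zero.1 h3).resolve_right hx0⟩)
  · have hMI : M ≤ Cfsg.isometryGroup F Q := hM.trans omegaGL_le_iso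
    have hN : ∀ g ∈ omegaGL Q,
        (∀ v, E *ᵥ ((g : Matrix ι ι F) *ᵥ v) = (g : Matrix ι ι F) *ᵥ (E *ᵥ v)) → g ∈ M := fun g hg h =>
      hHM ⟨of_comm (a := 0) (b := 1) one_ne_zero fun v => by rw [zero_smul, one_smul, zero_add, h], hg⟩
    obtain ⟨g, hg, hgn⟩ := SetLike.not_le_iff_exists.1 hnot
    by_cases hmove : ∃ u, Q u = 0 ∧ ∀ a b : F, E *ᵥ ((g : Matrix ι ι F) *ᵥ u) ≠
        a • ((g : Matrix ι ι F) *ᵥ u) + b • ((g : Matrix ι ι F) *ᵥ (E *ᵥ u))
    · obtain ⟨u, hu, hmv⟩ := hmove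
      have hu0 : u ≠ 0 := fun h => hmv 0 0 (by rw [h, mulVec_zero, mulVec_zero]; simp)
      have hp : Ain D M ((g : Matrix ι ι F) *ᵥ u) ((g : Matrix ι ι F) *ᵥ (E *ᵥ u)) :=
        Ain.conj D hMI (Ain.of_kl D hMI hN hu (E_mem_kl D u)) hg
      have hq : Q ((g : Matrix ι ι F) *ᵥ u) = 0 := by rw [mem_iso.1 (hMI hg), hu]
      have hne : (g : Matrix ι ι F) *ᵥ u ≠ 0 := fun h => hu0 (gl_mulVec_eq_zero.1 h)
      have hnk : (g : Matrix ι ι F) *ᵥ (E *ᵥ u) ∉ kl D ((g : Matrix ι ι F) *ᵥ u) := fun h => by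
        obtain ⟨a, b, hab⟩ := Submodule.mem_span_pair.1 h
        rcases eq_or_ne b 0 with hb | hb
        · rw [hb, zero_smul, add_zero, ← mulVec_smul] at hab
          refine combo_ne D hu0 (a := -a) (b := 1) (fun h => one_ne_zero h.2)
            ((gl_mulVec_eq_zero (g := g)).1 ?_)
          rw [mulVec_add, one_smul, neg_smul, mulVec_neg, hab, neg_add_cancel]
        · refine hmv (-(a / b)) (1 / b) ?_
          rw [← hab]
          match_scalars <;> field_simp <;> ring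
      have hcen := fun {x : ι → F} (hx : Q x = 0) => centre_of D hMI hN hq hp hnk hne (x := x) hx
      obtain ⟨f, hf, hef⟩ := exists_singular_nonorth hQ (by omega) hne
      exact ⟨_, hcen hq, f, hcen hf, by first | exact hef | (rw [pcomm]; exact hef)⟩
    · exfalso
      push Not at hmove
      refine hgn ?_
      obtain ⟨x₀, -, hx₀0, hx₀⟩ := exists_singular_mem hQ ⊤
        (by rw [finrank_top, Module.finrank_fintype_fun_eq_card]; omega)
      obtain ⟨a, b, hab⟩ := hmove x₀ hx₀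
      have hb : b ≠ 0 := fun hb => by
        rw [hb, zero_smul, add_zero] at hab
        refine combo_ne D (u := (g : Matrix ι ι F) *ᵥ x₀) (fun h => hx₀0 (gl_mulVec_eq_zero.1 h)) (a := -a) (b := 1)
          (fun h => one_ne_zero h.2) ?_
        rw [one_smul, hab, neg_smul, neg_add_cancel]
      refine of_comm (a := a) hb ?_
      let W : Submodule F (ι → F) :=
        { carrier := {v | E *ᵥ ((g : Matrix ι ι F) *ᵥ v) =
            a • ((g : Matrix ι ι F) *ᵥ v) + b • ((g : Matrix ι ι F) *ᵥ (E *ᵥ v))}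
          add_mem' := fun {u v} hu hv => by
            simp only [Set.mem_setOf_eq, mulVec_add, smul_add] at hu hv ⊢
            rw [hu, hv]; abel
          zero_mem' := by simp
          smul_mem' := fun c v hv => by
            simp only [Set.mem_setOf_eq, mulVec_smul] at hv ⊢
            rw [hv]; module }
      refine fun v => inv_all D W (fun u hu y hy => ?_) hx₀ hx₀0 hab v
      obtain ⟨t, ht, htE⟩ := ein_kl D hMI hN hu 1
      rw [one_smul] at htE
      have htc := ut_comm D hu (c := 1) (by rw [one_smul]; exact htE)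
      obtain ⟨a', b', hab'⟩ := hmove u hu
      rcases eq_or_ne u 0 with hu0 | hu0
      · rw [hu0]; simp
      have hb' : b' ≠ 0 := fun hb => by
        rw [hb, zero_smul, add_zero] at hab'
        refine combo_ne D (u := (g : Matrix ι ι F) *ᵥ u) (fun h => hu0 (gl_mulVec_eq_zero.1 h)) (a := -a') (b := 1)
          (fun h => one_ne_zero h.2) ?_
        rw [one_smul, hab', neg_smul, neg_add_cancel]
      have hgu : Q ((g : Matrix ι ι F) *ᵥ u) = 0 := by rw [mem_iso.1 (hMI hg), hu]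
      have hconjE := (htE.conj (hMI hg)).mul hQ hgu (by rw [iso_pol (hMI hg), b_self_E D hu])
        (by rw [psmul_right hQ, b_self D hgu, mul_zero]) (IsE.one hQ hgu (a' / b'))
      have hsum : (g : Matrix ι ι F) *ᵥ (E *ᵥ u) + (a' / b') • ((g : Matrix ι ι F) *ᵥ u) =
          b'⁻¹ • (E *ᵥ ((g : Matrix ι ι F) *ᵥ u)) := by
        rw [hab', smul_add, smul_smul, inv_smul_smul₀ hb', div_eq_inv_mul, add_comm]
      rw [hsum, mul_one] at hconjE
      have hc2 := ut_comm D hgu hconjE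
      have hty : (t : Matrix ι ι F) *ᵥ y ∈ W := by
        show E *ᵥ ((g : Matrix ι ι F) *ᵥ ((t : Matrix ι ι F) *ᵥ y)) = _
        have e1 : ∀ z, (g : Matrix ι ι F) *ᵥ ((t : Matrix ι ι F) *ᵥ z) =
            ((g * t * g⁻¹ : GL ι F) : Matrix ι ι F) *ᵥ ((g : Matrix ι ι F) *ᵥ z) := fun z => by
          rw [gl_mul_mulVec, gl_mul_mulVec, gl_inv_mulVec]
        rw [e1, hc2, show E *ᵥ ((g : Matrix ι ι F) *ᵥ y) = _ from hy, mulVec_add, mulVec_smul, mulVec_smul, ← e1,
          ← e1, htc]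
      have h5 := W.sub_mem hty hy
      rw [htE, q_E D hu, zero_mul, zero_smul, sub_zero] at h5
      convert h5 using 1
      abel

end CfsgLib.Perm.Trans.Quad.Over
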