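import Cfsg.Agent.Lib.Perm.Trans.QuadPlaneClass

/-!
# Stabilisers of decompositions into planes are maximal in `Ω`
-/

set_option autoImplicit false
set_option linter.all false

namespace CfsgLib.Perm.Trans.Quad

open scoped Matrix
open Matrix Cfsg.Geo CfsgLib.Perm.Asch CfsgLib.Perm.Trans

variable {ι : Type} [Fintype ι] [DecidableEq ι] {F : Type*} [Field F] [Fintype F]
variable {Q : (ι → F) → F}

local notation "pol" => QuadraticMap.polar

variable (hQ : IsNondegenerateQuadraticForm Q)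
include hQ

/-- the vectors of one value span a plane -/
theorem plane_span_value {P : Submodule F (ι → F)} (hP : NdOn Q P) (hd : Module.finrank F P = 2) (hok : PlaneOK Q P)
    {S : Submodule F (ι → F)} {c : F} (hc : c ≠ 0) (h : ∀ v ∈ P, Q v = c → v ∈ S) : P ≤ S := by
  obtain ⟨v, hv, hQv⟩ := exists_value_two hQ hP hd.ge c
  have hv0 : v ≠ 0 := fun h => hc (by rw [← hQv, h, qzero hQ])
  obtain ⟨a, ha, hQa, hshift⟩ := exists_refl_shift hQ hP hd hok hv hv0
  obtain ⟨r, hr, hra⟩ := exists_refl hQ hQa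
  obtain ⟨-, hsp⟩ := hshift r hra
  have hy : (r : Matrix ι ι F) *ᵥ v ∈ P := by rw [hra]; exact P.sub_mem hv (P.smul_mem _ ha)
  have hle : Submodule.span F ({v, (r : Matrix ι ι F) *ᵥ v} : Set (ι → F)) ≤ P :=
    Submodule.span_le.2 (by rintro z (rfl | rfl); exacts [hv, hy])
  have heq : Submodule.span F ({v, (r : Matrix ι ι F) *ᵥ v} : Set (ι → F)) = P := by
    refine Submodule.eq_of_le_of_finrank_le hle ?_
    have hlt := Submodule.finrank_lt_finrank_of_lt (lt_of_le_of_ne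
      (Submodule.span_mono (Set.singleton_subset_iff.2 (Or.inl rfl)) :
        Submodule.span F {v} ≤ Submodule.span F ({v, (r : Matrix ι ι F) *ᵥ v} : Set (ι → F)))
      fun he => hsp (he.symm ▸ Submodule.subset_span (Or.inr rfl)))
    rw [finrank_span_singleton hv0] at hlt
    omega
  rw [← heq, Submodule.span_le]
  intro z hz
  rcases hz with h' | h'
  · rw [h']
    exact h v hv hQv
  · rw [show z = _ from h']
    exact h _ hy (by rw [mem_iso.1 hr, hQv])

omit [Fintype F] in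
/-- hyperbolic planes are isometric by a map matching given singular vectors -/
theorem exists_plane_equiv {P P' : Submodule F (ι → F)} (hP : NdOn Q P) (hd : Module.finrank F P = 2)
    (hP' : NdOn Q P') (hd' : Module.finrank F P' = 2) {u u' : ι → F} (hu : u ∈ P) (hu0 : u ≠ 0) (hQu : Q u = 0)
    (hu' : u' ∈ P') (hu'0 : u' ≠ 0) (hQu' : Q u' = 0) :
    ∃ e : P ≃ₗ[F] P', (∀ v, Q (e v : ι → F) = Q (v : ι → F)) ∧ (e ⟨u, hu⟩ : ι → F) = u' := by
  have key : ∀ (R : Submodule F (ι → F)), NdOn Q R → Module.finrank F R = 2 → ∀ w ∈ R, w ≠ 0 → Q w = 0 →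
      ∃ f ∈ R, Q f = 0 ∧ pol Q w f = 1 ∧ ∀ x ∈ R, x = pol Q x f • w + pol Q x w • f := by
    intro R hR hdR w hw hw0 hQw
    obtain ⟨f, hf, hQf, hwf⟩ := exists_qpartner hQ hR hw hw0 hQw
    have hlt := pair_lt hQ hw hf hQw hQf hwf
    have hz : ∀ x ∈ R, pol Q x f = 0 → pol Q x w = 0 → x = 0 := by
      intro x hx hxf hxw
      by_contra hx0
      obtain ⟨y, hy, hxy⟩ := ((pair_nd hQ hw hf hQw hQf hwf hR) x ((mem_pairPerp hQ).2 ⟨hx, hxw, hxf⟩) hx0).2
      obtain ⟨p, hp, hxp, n, hn, hn0, hxn, hall⟩ := plane_base hQ hR hdR hx hx0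
      obtain ⟨hyR, hyw, hyf⟩ := (mem_pairPerp hQ).1 hy
      obtain ⟨s, hs⟩ := hall w hw hxw
      obtain ⟨s', hs'⟩ := hall f hf hxf
      rw [hs, hs', psmul_left hQ, psmul_right hQ, pself hQ] at hwf
      rw [hs, qsmul hQ] at hQw
      have hs0 : s ≠ 0 := fun h => hw0 (by rw [hs, h, zero_smul])
      rw [(mul_eq_zero.1 hQw).resolve_left (pow_ne_zero 2 hs0)] at hwf
      simp at hwf
    refine ⟨f, hf, hQf, hwf, fun x hx => sub_eq_zero.1 (hz _
      (R.sub_mem hx (R.add_mem (R.smul_mem _ hw) (R.smul_mem _ hf))) ?_ ?_)⟩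
    · rw [psub_left hQ, padd_left hQ, psmul_left hQ, psmul_left hQ, hwf, pself hQ, hQf]
      ring
    · rw [psub_left hQ, padd_left hQ, psmul_left hQ, psmul_left hQ, pcomm f w, hwf, pself hQ, hQw]
      ring
  obtain ⟨f, hf, hQf, huf, hrep⟩ := key P hP hd u hu hu0 hQu
  obtain ⟨f', hf', hQf', huf', hrep'⟩ := key P' hP' hd' u' hu' hu'0 hQu'
  let φ : P →ₗ[F] P' :=
    { toFun := fun x => ⟨pol Q (x : ι → F) f • u' + pol Q (x : ι → F) u • f',
        P'.add_mem (P'.smul_mem _ hu') (P'.smul_mem _ hf')⟩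
      map_add' := fun x y => Subtype.ext (by
        simp only [Submodule.coe_add, padd_left hQ, add_smul]
        abel)
      map_smul' := fun c x => Subtype.ext (by
        simp only [Submodule.coe_smul, psmul_left hQ, RingHom.id_apply, smul_add, smul_smul]) }
  let ψ : P' →ₗ[F] P :=
    { toFun := fun x => ⟨pol Q (x : ι → F) f' • u + pol Q (x : ι → F) u' • f,
        P.add_mem (P.smul_mem _ hu) (P.smul_mem _ hf)⟩
      map_add' := fun x y => Subtype.ext (by
        simp only [Submodule.coe_add, padd_left hQ, add_smul]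
        abel)
      map_smul' := fun c x => Subtype.ext (by
        simp only [Submodule.coe_smul, psmul_left hQ, RingHom.id_apply, smul_add, smul_smul]) }
  refine ⟨LinearEquiv.ofLinear φ ψ (LinearMap.ext fun x => Subtype.ext ?_) (LinearMap.ext fun x => Subtype.ext ?_),
    fun x => ?_, ?_⟩
  · show pol Q (pol Q (x : ι → F) f' • u + pol Q (x : ι → F) u' • f) f • u' +
      pol Q (pol Q (x : ι → F) f' • u + pol Q (x : ι → F) u' • f) u • f' = x
    simp only [padd_left hQ, psmul_left hQ, pself hQ, hQu, hQf, huf, pcomm f u, mul_zero, mul_one, add_zero, zero_add]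
    exact (hrep' x x.2).symm
  · show pol Q (pol Q (x : ι → F) f • u' + pol Q (x : ι → F) u • f') f' • u +
      pol Q (pol Q (x : ι → F) f • u' + pol Q (x : ι → F) u • f') u' • f = x
    simp only [padd_left hQ, psmul_left hQ, pself hQ, hQu', hQf', huf', pcomm f' u', mul_zero, mul_one, add_zero,
      zero_add]
    exact (hrep x x.2).symm
  · show Q (pol Q (x : ι → F) f • u' + pol Q (x : ι → F) u • f') = Q (x : ι → F)
    conv_rhs => rw [hrep x x.2]
    simp only [qadd hQ, qsmul hQ, psmul_left hQ, psmul_right hQ, hQu, hQu', hQf, hQf', huf, huf']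
  · show pol Q u f • u' + pol Q u u • f' = u'
    rw [huf, pself hQ, hQu, mul_zero, one_smul, zero_smul, add_zero]

variable {t : ℕ} {D : Fin t → Submodule F (ι → F)} (hD : IsOrthogonalMDecomposition Q 2 D)
include hD

/-- an isometry sending the vectors of one value to components preserves the decomposition -/
theorem plane_dec_of_values (hok : ∀ i, PlaneOK Q (D i)) {g : GL ι F} (hg : g ∈ Cfsg.isometryGroup F Q) {c : F}
    (hc : c ≠ 0) (h : ∀ j, ∀ v ∈ D j, Q v = c → ∃ l, (g : Matrix ι ι F) *ᵥ v ∈ D l) :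
    g ∈ decompositionStabilizer D := by
  have hd := hD.decomp
  refine dec_of_maps hQ hd fun i => ?_
  obtain ⟨v, hv, hQv⟩ := exists_value_two hQ (hd.nondegenerate i) (hd.decomp.finrank_eq i).ge c
  have hv0 : v ≠ 0 := fun h => hc (by rw [← hQv, h, qzero hQ])
  obtain ⟨a, ha, hQa, hshift⟩ := exists_refl_shift hQ (hd.nondegenerate i) (hd.decomp.finrank_eq i) (hok i) hv hv0
  obtain ⟨r, hr, hra⟩ := exists_refl hQ hQa
  obtain ⟨hyv, hsp⟩ := hshift r hra
  obtain ⟨y, hy⟩ : ∃ y, y = (r : Matrix ι ι F) *ᵥ v := ⟨_, rfl⟩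
  rw [← hy] at hyv hsp
  have hyD : y ∈ D i := hy ▸ refl_maps hQ hd ha hra i v hv
  obtain ⟨l, hl⟩ := h i v hv hQv
  obtain ⟨l', hl'⟩ := h i y hyD (by rw [hy, mem_iso.1 hr, hQv])
  have hll : l' = l := by
    by_contra hne
    exact hyv (by rw [← iso_pol hg, hd.orthogonal l' l hne _ hl' _ hl])
  refine ⟨l, fun x hx => ?_⟩
  have hspan : Submodule.span F ({v, y} : Set (ι → F)) = D i := by
    refine Submodule.eq_of_le_of_finrank_le (Submodule.span_le.2 (by rintro z (rfl | rfl); exacts [hv, hyD])) ?_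
    have hlt := Submodule.finrank_lt_finrank_of_lt (lt_of_le_of_ne
      (Submodule.span_mono (Set.singleton_subset_iff.2 (Or.inl rfl)) :
        Submodule.span F {v} ≤ Submodule.span F ({v, y} : Set (ι → F)))
      fun he => hsp (he.symm ▸ Submodule.subset_span (Or.inr rfl)))
    rw [finrank_span_singleton hv0] at hlt
    have := hd.decomp.finrank_eq i
    omega
  rw [← hspan] at hx
  obtain ⟨m, m', rfl⟩ := Submodule.mem_span_pair.1 hx
  rw [mulVec_add, mulVec_smul, mulVec_smul]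
  exact (D l).add_mem ((D l).smul_mem _ hl) ((D l).smul_mem _ (hll ▸ hl'))

omit [Fintype F] in
/-- a product of two reflections involving three members leaves the stabiliser -/
theorem pair_not_dec {a b : ι → F} (hQa : Q a ≠ 0) (hQb : Q b ≠ 0) (hab : b ∉ Submodule.span F {a}) {r s : GL ι F}
    (hra : IsRefl Q a r) (hsb : IsRefl Q b s) {i j l : Fin t} (hij : i ≠ j) (hil : i ≠ l) (hjl : j ≠ l)
    (hi : qcomp hQ hD.decomp i a ≠ 0 ∨ qcomp hQ hD.decomp i b ≠ 0)
    (hj : qcomp hQ hD.decomp j a ≠ 0 ∨ qcomp hQ hD.decomp j b ≠ 0)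
    (hl : qcomp hQ hD.decomp l a ≠ 0 ∨ qcomp hQ hD.decomp l b ≠ 0) : r * s ∉ decompositionStabilizer D := by
  classical
  intro hrs
  have hd := hD.decomp
  have ha0 : a ≠ 0 := fun h => hQa (by rw [h]; exact qzero hQ)
  obtain ⟨Sp, hSp⟩ : ∃ Sp, Sp = Submodule.span F ({a, b} : Set (ι → F)) := ⟨_, rfl⟩
  have hmem : ∀ x, ((r * s : GL ι F) : Matrix ι ι F) *ᵥ x - x ∈ Sp := fun x => by
    rw [gl_mul_mulVec, hsb, hra, hSp, Submodule.mem_span_pair]
    exact ⟨-((Q a)⁻¹ * pol Q (x - ((Q b)⁻¹ * pol Q x b) • b) a), -((Q b)⁻¹ * pol Q x b), by module⟩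
  have hSdim : Module.finrank F Sp ≤ 2 := by
    rw [hSp, ← show (↑({a, b} : Finset (ι → F)) : Set (ι → F)) = {a, b} by simp]
    exact (finrank_span_finset_le_card _).trans Finset.card_le_two
  have key : ∀ p, (qcomp hQ hd p a ≠ 0 ∨ qcomp hQ hd p b ≠ 0) →
      ∃ z ∈ D p, z ≠ 0 ∧ z ∈ Sp := by
    intro p hp
    obtain ⟨q, hq⟩ := mem_dec_maps hd hrs p
    rcases eq_or_ne q p with rfl | hqp
    · obtain ⟨x, hx, hxne⟩ : ∃ x ∈ D q, pol Q x a ≠ 0 ∨ pol Q x b ≠ 0 := by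
        rcases hp with h | h
        · obtain ⟨x, hx, hxa⟩ := ((hd.nondegenerate q) _ (qcomp_mem hQ hd q a) h).2
          exact ⟨x, hx, Or.inl (by rw [pcomm, qcomp_pol hQ hd hx]; exact hxa)⟩
        · obtain ⟨x, hx, hxb⟩ := ((hd.nondegenerate q) _ (qcomp_mem hQ hd q b) h).2
          exact ⟨x, hx, Or.inr (by rw [pcomm, qcomp_pol hQ hd hx]; exact hxb)⟩
      refine ⟨_, (D q).sub_mem (hq x hx) hx, fun h => ?_, hmem x⟩
      rw [gl_mul_mulVec, hsb, hra] at h
      have h' : ((Q a)⁻¹ * pol Q (x - ((Q b)⁻¹ * pol Q x b) • b) a) • a + ((Q b)⁻¹ * pol Q x b) • b = 0 := by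
        linear_combination (norm := module) -h
      by_cases hxb : pol Q x b = 0
      · rw [hxb, mul_zero, zero_smul, add_zero, sub_zero, smul_eq_zero] at h'
        exact hxne.elim (fun h1 => mul_ne_zero (inv_ne_zero hQa) h1 (h'.resolve_right ha0)) (fun h1 => h1 hxb)
      · refine hab ((Submodule.smul_mem_iff _ (mul_ne_zero (inv_ne_zero hQb) hxb)).1 ?_)
        rw [eq_neg_of_add_eq_zero_right h']
        exact Submodule.neg_mem _ (Submodule.smul_mem _ _ (Submodule.mem_span_singleton_self a))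
    · exfalso
      obtain ⟨L, hL⟩ : ∃ L : (ι → F) →ₗ[F] (ι → F),
          L = Matrix.mulVecLin ((r * s : GL ι F) : Matrix ι ι F) - LinearMap.id := ⟨_, rfl⟩
      have hLx : ∀ x, L x = ((r * s : GL ι F) : Matrix ι ι F) *ᵥ x - x := fun x => by rw [hL]; rfl
      have hinj : Function.Injective (L.comp (D p).subtype) := by
        rw [← LinearMap.ker_eq_bot, Submodule.eq_bot_iff]
        intro x hx
        have h1 : ((r * s : GL ι F) : Matrix ι ι F) *ᵥ (x : ι → F) = x :=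
          sub_eq_zero.1 ((hLx x).symm.trans hx)
        by_contra hx0
        exact hqp (qcomp_disjoint hQ hd (h1 ▸ hq x x.2) x.2 (fun h => hx0 (Subtype.ext h)))
      have hrange : LinearMap.range (L.comp (D p).subtype) = Sp := by
        refine Submodule.eq_of_le_of_finrank_le ?_ ?_
        · rintro _ ⟨x, rfl⟩
          rw [LinearMap.comp_apply, Submodule.subtype_apply, hLx]
          exact hmem _
        · rw [LinearMap.finrank_range_of_inj hinj, hd.decomp.finrank_eq]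
          exact hSdim
      have hzero : ∀ z ∈ Sp, ∀ m, m ≠ p → m ≠ q → qcomp hQ hd m z = 0 := by
        intro z hz m hmp hmq
        rw [← hrange] at hz
        obtain ⟨x, rfl⟩ := hz
        rw [LinearMap.comp_apply, Submodule.subtype_apply, hLx, qcomp_sub, qcomp_other hQ hd hmq.symm (hq x x.2),
          qcomp_other hQ hd hmp.symm x.2, sub_zero]
      have hout : ∀ m, (qcomp hQ hd m a ≠ 0 ∨ qcomp hQ hd m b ≠ 0) → m = p ∨ m = q := fun m hm => by
        by_contra hne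
        push Not at hne
        rcases hm with h | h
        · exact h (hzero a (hSp ▸ Submodule.subset_span (Or.inl rfl)) m hne.1 hne.2)
        · exact h (hzero b (hSp ▸ Submodule.subset_span (Or.inr rfl)) m hne.1 hne.2)
      rcases hout i hi with h1 | h1 <;> rcases hout j hj with h2 | h2 <;> rcases hout l hl with h3 | h3
      all_goals first
        | exact hij (h1.trans h2.symm)
        | exact hil (h1.trans h3.symm)
        | exact hjl (h2.trans h3.symm)
  obtain ⟨zi, hzi, hzi0, hziS⟩ := key i hi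
  obtain ⟨zj, hzj, hzj0, hzjS⟩ := key j hj
  obtain ⟨zl, hzl, hzl0, hzlS⟩ := key l hl
  have hli : LinearIndependent F ![zi, zj] := LinearIndependent.pair_iff.2 fun s₁ s₂ hst => by
    have e1 := congrArg (qcomp hQ hd i) hst
    have e2 := congrArg (qcomp hQ hd j) hst
    rw [qcomp_add, qcomp_smul, qcomp_smul, qcomp_self hQ hd hzi, qcomp_other hQ hd hij.symm hzj, smul_zero, add_zero,
      qcomp_zero, smul_eq_zero] at e1
    rw [qcomp_add, qcomp_smul, qcomp_smul, qcomp_self hQ hd hzj, qcomp_other hQ hd hij hzi, smul_zero,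
      zero_add, qcomp_zero, smul_eq_zero] at e2
    exact ⟨e1.resolve_right hzi0, e2.resolve_right hzj0⟩
  have heq : Submodule.span F ({zi, zj} : Set (ι → F)) = Sp := by
    refine Submodule.eq_of_le_of_finrank_le (Submodule.span_le.2 (by rintro x (rfl | rfl); exacts [hziS, hzjS])) ?_
    have h1 := finrank_span_eq_card hli
    rw [Fintype.card_fin, Matrix.range_cons, Matrix.range_cons, Matrix.range_empty, Set.union_empty,
      Set.singleton_union] at h1
    rw [h1]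
    exact hSdim
  rw [← heq] at hzlS
  obtain ⟨m, m', hzl'⟩ := Submodule.mem_span_pair.1 hzlS
  refine hzl0 ?_
  rw [← qcomp_self hQ hd hzl, ← hzl', qcomp_add, qcomp_smul, qcomp_smul, qcomp_other hQ hd hil hzi,
    qcomp_other hQ hd hjl hzj, smul_zero, smul_zero, add_zero]

variable (hn : 5 ≤ Fintype.card ι) {M : Subgroup (GL ι F)} (hM : M ≤ Cfsg.isometryGroup F Q)
  (hHM : decompositionStabilizer D ⊓ omegaGL Q ≤ M) (hok : ∀ i, PlaneOK Q (D i)) (ht : 5 ≤ t)
include hn hM hHM hok ht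

/-- an outside element keeping a nonsingular component vector in a component -/
theorem plane_finish {e : GL ι F} (he : e ∈ M) (hne : e ∉ decompositionStabilizer D) {l l' : Fin t} {w₀ : ι → F}
    (hw₀ : w₀ ∈ D l) (hQw₀ : Q w₀ ≠ 0) (hl' : (e : Matrix ι ι F) *ᵥ w₀ ∈ D l') : omegaGL Q ≤ M := by
  have hd := hD.decomp
  obtain ⟨j, v, hv, hQv, hvne⟩ : ∃ j, ∃ v ∈ D j, Q v = Q w₀ ∧ ∀ l, (e : Matrix ι ι F) *ᵥ v ∉ D l := by
    by_contra hcon
    push Not at hcon
    exact hne (plane_dec_of_values hQ hD hok (hM he) hQw₀ hcon)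
  exact plane_class_omega hQ hD hn hM hHM hok ht hQw₀
    (rclass_conj hQ hd hn hM hHM hQw₀ he hw₀ rfl
      (comp_mem_rclass hQ hd hn hM hHM hl' hQw₀ (mem_iso.1 (hM he) w₀))
      (comp_mem_rclass hQ hd hn hM hHM hv hQw₀ hQv)) hvne

/-- two related vectors of value one agreeing outside a small set of members -/
theorem plane_pair_finish {A A' : ι → F} (hA : Q A = 1) (hA' : Q A' = 1) (hrel : RRel Q M A A')
    (hind : A' ∉ Submodule.span F {A}) (T : Finset (Fin t)) (hT : T.card + 2 ≤ t)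
    (heq : ∀ q, q ∉ T → qcomp hQ hD.decomp q A' = qcomp hQ hD.decomp q A) {i j k : Fin t} (hij : i ≠ j) (hik : i ≠ k)
    (hjk : j ≠ k) (hi : qcomp hQ hD.decomp i A ≠ 0 ∨ qcomp hQ hD.decomp i A' ≠ 0)
    (hj : qcomp hQ hD.decomp j A ≠ 0 ∨ qcomp hQ hD.decomp j A' ≠ 0)
    (hk : qcomp hQ hD.decomp k A ≠ 0 ∨ qcomp hQ hD.decomp k A' ≠ 0) : omegaGL Q ≤ M := by
  classical
  have hd := hD.decomp
  obtain ⟨r, hr, s, hs, hra, hsb, hrs⟩ := hrel
  obtain ⟨h, hh⟩ : ∃ h, h = r * s := ⟨_, rfl⟩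
  rw [← hh] at hrs
  have hne : h ∉ decompositionStabilizer D := hh ▸ pair_not_dec hQ hD (by rw [hA]; exact one_ne_zero)
    (by rw [hA']; exact one_ne_zero) hind hra hsb hij hik hjk hi hj hk
  have hfix : ∀ z, pol Q z A = 0 → pol Q z A' = 0 → (h : Matrix ι ι F) *ᵥ z = z := fun z h1 h2 => by
    rw [hh, gl_mul_mulVec, refl_fix hQ hsb h2, refl_fix hQ hra h1]
  have hpol : ∀ q, q ∉ T → ∀ z ∈ D q, pol Q z A' = pol Q z A := fun q hq z hz => by
    rw [pcomm, qcomp_pol hQ hd hz, heq q hq, ← qcomp_pol hQ hd hz, pcomm]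
  -- a member outside `T` meeting `A` in nothing or in a nonsingular vector
  by_cases hgood : ∃ q, q ∉ T ∧ (qcomp hQ hd q A = 0 ∨ Q (qcomp hQ hd q A) ≠ 0)
  · obtain ⟨q, hqT, hq⟩ := hgood
    obtain ⟨z, hz, hQz, hzA⟩ : ∃ z ∈ D q, Q z ≠ 0 ∧ pol Q z A = 0 := by
      rcases hq with h0 | h0
      · obtain ⟨z, hz, hQz⟩ := exists_nonsingular hQ (hd.nondegenerate q)
          (fun h1 => by have := hd.decomp.finrank_eq q; rw [h1, finrank_bot] at this; omega)
        exact ⟨z, hz, hQz, by rw [pcomm, qcomp_pol hQ hd hz, h0, pzero_left hQ]⟩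
      · obtain ⟨z, hz, hQz, hzA⟩ := plane_nonsingular_perp hQ (hd.nondegenerate q) (hd.decomp.finrank_eq q)
          (qcomp_mem hQ hd q A) h0
        exact ⟨z, hz, hQz, by rw [pcomm, qcomp_pol hQ hd hz, pcomm]; exact hzA⟩
    exact plane_finish hQ hD hn hM hHM hok ht hrs hne hz hQz (l' := q)
      (by rw [hfix z hzA (by rw [hpol q hqT z hz, hzA])]; exact hz)
  push Not at hgood
  obtain ⟨l, hl⟩ := Finset.exists_mem_notMem_of_card_lt_card (s := T) (t := (Finset.univ : Finset (Fin t)))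
    (by rw [Finset.card_univ, Fintype.card_fin]; omega)
  obtain ⟨m, hm⟩ := Finset.exists_mem_notMem_of_card_lt_card (s := insert l T) (t := (Finset.univ : Finset (Fin t)))
    (by
      have := Finset.card_insert_le l T
      rw [Finset.card_univ, Fintype.card_fin]
      omega)
  simp only [Finset.mem_insert, not_or] at hm
  obtain ⟨-, hml, hmT⟩ := hm
  have hlT := hl.2
  obtain ⟨γ, hγ⟩ : ∃ γ, γ = pol Q A A' := ⟨_, rfl⟩
  obtain ⟨d₀, hd₀⟩ : ∃ d₀, d₀ = A' + (1 - γ) • A := ⟨_, rfl⟩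
  have hd₀out : ∀ q, q ∉ T → qcomp hQ hd q d₀ = (2 - γ) • qcomp hQ hd q A := fun q hq => by
    rw [hd₀, qcomp_add, qcomp_smul, heq q hq]
    module
  have himg : ∀ q, q ∉ T → ∀ z ∈ D q, (h : Matrix ι ι F) *ᵥ z = z - pol Q z A • d₀ := fun q hq z hz => by
    rw [hh, gl_mul_mulVec, hsb, hra, hA, hA', hd₀]
    simp only [inv_one, one_mul, psub_left hQ, psmul_left hQ, pcomm A' A, ← hγ, hpol q hq z hz]
    module
  obtain ⟨x, hx, hQx⟩ := exists_value_two hQ (hd.nondegenerate l) (hd.decomp.finrank_eq l).ge 1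
  obtain ⟨y, hy, hQy⟩ := exists_value_two hQ (hd.nondegenerate m) (hd.decomp.finrank_eq m).ge 1
  have hxy : pol Q x y = 0 := hd.orthogonal l m (Ne.symm hml) x hx y hy
  have hrel' := (comp_rel hQ hd hn hM hHM hx hy (by rw [hQx]; exact one_ne_zero) (hQx.trans hQy.symm)).conj (hM hrs) hrs
  obtain ⟨hx', hy', hxd, hyd⟩ : ∃ hx' hy' : ι → F, hx' = (h : Matrix ι ι F) *ᵥ x ∧ hy' = (h : Matrix ι ι F) *ᵥ y :=
    ⟨_, _, rfl, rfl⟩
  rw [← hxd, ← hyd] at hrel'
  obtain ⟨r', hr', s', hs', hra', hsb', hrs'⟩ := hrel'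
  -- comparison with the component vectors
  have hxA : pol Q x A ≠ 0 := by
    intro h0
    obtain ⟨p, -, -, n, -, hn0, -, hall⟩ := plane_base hQ (hd.nondegenerate l) (hd.decomp.finrank_eq l)
      (qcomp_mem hQ hd l A) (hgood l hlT).1
    have hlA := qcomp_mem hQ hd l A
    obtain ⟨c₁, hc₁⟩ := hall x hx (by rw [← qcomp_pol hQ hd hx, pcomm]; exact h0)
    obtain ⟨c₂, hc₂⟩ := hall _ hlA (by rw [pself hQ, (hgood l hlT).2, mul_zero])
    have hc₂0 : c₂ ≠ 0 := fun h => (hgood l hlT).1 (by rw [hc₂, h, zero_smul])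
    have hQn : Q n = 0 := by
      have := (hgood l hlT).2
      rw [hc₂, qsmul hQ] at this
      exact (mul_eq_zero.1 this).resolve_left (pow_ne_zero 2 hc₂0)
    rw [hc₁, qsmul hQ, hQn, mul_zero] at hQx
    exact zero_ne_one hQx
  have hcx : ∀ q, qcomp hQ hd q hx' = qcomp hQ hd q x - pol Q x A • qcomp hQ hd q d₀ := fun q => by
    rw [hxd, himg l hlT x hx, qcomp_sub, qcomp_smul]
  have hcy : ∀ q, qcomp hQ hd q hy' = qcomp hQ hd q y - pol Q y A • qcomp hQ hd q d₀ := fun q => by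
    rw [hyd, himg m hmT y hy, qcomp_sub, qcomp_smul]
  have hnl : qcomp hQ hd l hx' ≠ 0 := by
    rw [hcx, qcomp_self hQ hd hx, hd₀out l hlT, smul_smul, sub_ne_zero]
    intro h0
    rw [h0, qsmul hQ, (hgood l hlT).2, mul_zero] at hQx
    exact zero_ne_one hQx
  have hnm : qcomp hQ hd m hy' ≠ 0 := by
    rw [hcy, qcomp_self hQ hd hy, hd₀out m hmT, smul_smul, sub_ne_zero]
    intro h0
    rw [h0, qsmul hQ, (hgood m hmT).2, mul_zero] at hQy
    exact zero_ne_one hQy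
  have hind' : hy' ∉ Submodule.span F {hx'} := by
    intro h0
    obtain ⟨c₁, hc₁⟩ := Submodule.mem_span_singleton.1 h0
    have h1 : (h : Matrix ι ι F) *ᵥ (y - c₁ • x) = 0 := by
      rw [mulVec_sub, mulVec_smul, ← hxd, ← hyd, hc₁, sub_self]
    have h2 := gl_mulVec_eq_zero.1 h1
    have h3 := congrArg (fun z => qcomp hQ hd m z) h2
    simp only [qcomp_sub, qcomp_smul, qcomp_self hQ hd hy, qcomp_other hQ hd (Ne.symm hml) hx, smul_zero, sub_zero,
      qcomp_zero] at h3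
    rw [h3, qzero hQ] at hQy
    exact zero_ne_one hQy
  have hd₀0 : d₀ ≠ 0 := fun h0 => by
    refine hind (Submodule.mem_span_singleton.2 ⟨γ - 1, ?_⟩)
    rw [eq_neg_of_add_eq_zero_left (hd₀.symm.trans h0)]
    module
  have hQd : 2 - γ ≠ 0 → Q d₀ ≠ 0 := fun hγ2 h0 => hγ2 (by
    rw [hd₀, qadd hQ, qsmul hQ, hA', hA, psmul_right hQ, pcomm A' A, ← hγ] at h0
    linear_combination h0)
  have hsing : ∀ p, p ∉ T → Q (qcomp hQ hd p d₀) = 0 := fun p hp => by
    rw [hd₀out p hp, qsmul hQ, (hgood p hp).2, mul_zero]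
  obtain ⟨o', ho'l, ho'm, ho'⟩ : ∃ o', o' ≠ l ∧ o' ≠ m ∧ qcomp hQ hd o' d₀ ≠ 0 := by
    by_cases hγ2 : 2 - γ = 0
    · obtain ⟨o', ho'⟩ := exists_qcomp_ne hQ hd hd₀0
      refine ⟨o', fun h0 => ho' ?_, fun h0 => ho' ?_, ho'⟩
      · rw [h0, hd₀out l hlT, hγ2, zero_smul]
      · rw [h0, hd₀out m hmT, hγ2, zero_smul]
    · obtain ⟨q, hq⟩ := exists_qcomp_nonsingular hQ hd (hQd hγ2)
      exact ⟨q, fun h0 => hq (h0 ▸ hsing l hlT), fun h0 => hq (h0 ▸ hsing m hmT),
        fun h0 => hq (by rw [h0]; exact qzero hQ)⟩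
  have hne' : r' * s' ∉ decompositionStabilizer D := pair_not_dec hQ hD
    (by rw [hxd, mem_iso.1 (hM hrs), hQx]; exact one_ne_zero)
    (by rw [hyd, mem_iso.1 (hM hrs), hQy]; exact one_ne_zero) hind' hra' hsb' (Ne.symm hml) (Ne.symm ho'l)
    (Ne.symm ho'm) (Or.inl hnl) (Or.inr hnm) (Or.inl (by
      rw [hcx, qcomp_other hQ hd (Ne.symm ho'l) hx, zero_sub, neg_ne_zero]
      exact smul_ne_zero hxA ho'))
  -- a nonsingular vector orthogonal to `x`, `y` and `d₀`
  obtain ⟨q, z, hz, hQz, hzx, hzy, hzd⟩ :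
      ∃ q, ∃ z ∈ D q, Q z ≠ 0 ∧ pol Q z x = 0 ∧ pol Q z y = 0 ∧ pol Q z d₀ = 0 := by
    by_cases hγ2 : 2 - γ = 0
    · obtain ⟨z, hz, hQz, hzx⟩ := plane_nonsingular_perp hQ (hd.nondegenerate l) (hd.decomp.finrank_eq l) hx
        (by rw [hQx]; exact one_ne_zero)
      exact ⟨l, z, hz, hQz, hzx, hd.orthogonal l m (Ne.symm hml) z hz y hy,
        by rw [pcomm, qcomp_pol hQ hd hz, hd₀out l hlT, hγ2, zero_smul, pzero_left hQ]⟩
    · obtain ⟨q, hq⟩ := exists_qcomp_nonsingular hQ hd (hQd hγ2)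
      obtain ⟨z, hz, hQz, hzq⟩ := plane_nonsingular_perp hQ (hd.nondegenerate q) (hd.decomp.finrank_eq q)
        (qcomp_mem hQ hd q d₀) hq
      exact ⟨q, z, hz, hQz, hd.orthogonal q l (fun h0 => hq (h0 ▸ hsing l hlT)) z hz x hx,
        hd.orthogonal q m (fun h0 => hq (h0 ▸ hsing m hmT)) z hz y hy,
        by rw [pcomm, qcomp_pol hQ hd hz, pcomm]; exact hzq⟩
  refine plane_finish hQ hD hn hM hHM hok ht hrs' hne' hz hQz (l' := q) ?_
  have e1 : pol Q z hx' = 0 := by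
    rw [hxd, himg l hlT x hx, psub_right hQ, psmul_right hQ, hzd, hzx, mul_zero, sub_zero]
  have e2 : pol Q z hy' = 0 := by
    rw [hyd, himg m hmT y hy, psub_right hQ, psmul_right hQ, hzd, hzy, mul_zero, sub_zero]
  rw [gl_mul_mulVec, refl_fix hQ hsb' e2, refl_fix hQ hra' e1]
  exact hz

omit ht in
/-- an element of the stabiliser moving only one member, without fixed vectors there -/
theorem exists_member_rotation (p : Fin t) : ∃ d ∈ decompositionStabilizer D ⊓ omegaGL Q,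
    (∀ y q, q ≠ p → qcomp hQ hD.decomp q ((d : Matrix ι ι F) *ᵥ y) = qcomp hQ hD.decomp q y) ∧
      (∀ y, qcomp hQ hD.decomp p y = 0 → (d : Matrix ι ι F) *ᵥ y = y) ∧
      ∀ y, (d : Matrix ι ι F) *ᵥ y = y → qcomp hQ hD.decomp p y = 0 := by
  have hd := hD.decomp
  obtain ⟨a, ha, b, hb, hQa, hQb, hrot⟩ := plane_rotation hQ (hd.nondegenerate p) (hd.decomp.finrank_eq p) (hok p)
  obtain ⟨r, hr, hra⟩ := exists_refl hQ hQa
  obtain ⟨s, hs, hsb⟩ := exists_refl hQ hQb
  have hrD : r ∈ decompositionStabilizer D := dec_of_maps hQ hd fun m => ⟨m, refl_maps hQ hd ha hra m⟩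
  have hsD : s ∈ decompositionStabilizer D := dec_of_maps hQ hd fun m => ⟨m, refl_maps hQ hd hb hsb m⟩
  have hfix : ∀ y, qcomp hQ hd p y = 0 → ((r * s * (r * s) : GL ι F) : Matrix ι ι F) *ᵥ y = y := fun y hy => by
    have h1 : ∀ w ∈ D p, pol Q y w = 0 := fun w hw => by rw [qcomp_pol hQ hd hw, hy, pzero_left hQ]
    rw [gl_mul_mulVec, gl_mul_mulVec, gl_mul_mulVec, refl_fix hQ hsb (h1 b hb), refl_fix hQ hra (h1 a ha),
      refl_fix hQ hsb (h1 b hb), refl_fix hQ hra (h1 a ha)]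
  refine ⟨r * s * (r * s), ⟨mul_mem (mul_mem hrD hsD) (mul_mem hrD hsD), ?_⟩, fun y q hq => ?_, hfix, fun y hy => ?_⟩
  · have h1 := mem_omegaGL_comm hr hs
    rw [mul_eq_one_iff_inv_eq.1 (refl_mul_self hQ hQa hra), mul_eq_one_iff_inv_eq.1 (refl_mul_self hQ hQb hsb),
      mul_assoc (r * s)] at h1
    exact h1
  · rw [gl_mul_mulVec, gl_mul_mulVec, gl_mul_mulVec, qcomp_refl_other hQ hD (Ne.symm hq) ha hra,
      qcomp_refl_other hQ hD (Ne.symm hq) hb hsb, qcomp_refl_other hQ hD (Ne.symm hq) ha hra,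
      qcomp_refl_other hQ hD (Ne.symm hq) hb hsb]
  · refine hrot r s hra hsb _ (qcomp_mem hQ hd p y) ?_
    have h1 := hfix (y - qcomp hQ hd p y) (by rw [qcomp_sub, qcomp_self hQ hd (qcomp_mem hQ hd p y), sub_self])
    rw [mulVec_sub, hy, sub_right_inj] at h1
    exact h1

omit ht in
/-- an element of the stabiliser fixing a given vector without zero components -/
theorem exists_fixer {B : ι → F} (hB : ∀ q, qcomp hQ hD.decomp q B ≠ 0) (ht5 : 5 ≤ t) :
    ∃ (d : GL ι F) (T : Finset (Fin t)), d ∈ decompositionStabilizer D ⊓ omegaGL Q ∧ T.card ≤ 3 ∧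
      (d : Matrix ι ι F) *ᵥ B = B ∧ (∀ y q, q ∉ T → qcomp hQ hD.decomp q ((d : Matrix ι ι F) *ᵥ y) = qcomp hQ hD.decomp q y) ∧
      d ≠ 1 ∧ (T.card ≤ 2 ∨ d * d ≠ 1) := by
  classical
  have hd := hD.decomp
  by_cases h3 : 3 ≤ (Finset.univ.filter fun q => Q (qcomp hQ hd q B) ≠ 0).card
  · obtain ⟨i, hi, j, hj, l, hl, hij, hil, hjl⟩ := Finset.two_lt_card.1 h3
    simp only [Finset.mem_filter, Finset.mem_univ, true_and] at hi hj hl
    have hperp : ∀ q, Q (qcomp hQ hd q B) ≠ 0 → ∃ z ∈ D q, Q z ≠ 0 ∧ pol Q B z = 0 := fun q hq => by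
      obtain ⟨z, hz, hQz, hzB⟩ := plane_nonsingular_perp hQ (hd.nondegenerate q) (hd.decomp.finrank_eq q)
        (qcomp_mem hQ hd q B) hq
      exact ⟨z, hz, hQz, by rw [qcomp_pol hQ hd hz, pcomm]; exact hzB⟩
    obtain ⟨zi, hzi, hQi, hBi⟩ := hperp i hi
    obtain ⟨zj, hzj, hQj, hBj⟩ := hperp j hj
    obtain ⟨zl, hzl, hQl, hBl⟩ := hperp l hl
    have key : ∀ {p q : Fin t}, p ≠ q → ∀ x ∈ D p, ∀ y ∈ D q, Q x ≠ 0 → Q y ≠ 0 → pol Q B x = 0 → pol Q B y = 0 →
        IsSquare (Q y / Q x) → ∃ (d : GL ι F) (T : Finset (Fin t)), d ∈ decompositionStabilizer D ⊓ omegaGL Q ∧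
          T.card ≤ 3 ∧ (d : Matrix ι ι F) *ᵥ B = B ∧
          (∀ y q, q ∉ T → qcomp hQ hd q ((d : Matrix ι ι F) *ᵥ y) = qcomp hQ hd q y) ∧
          d ≠ 1 ∧ (T.card ≤ 2 ∨ d * d ≠ 1) := by
      intro p q hpq x hx y hy hQx hQy hBx hBy hsq
      obtain ⟨r, hr, hrx⟩ := exists_refl hQ hQx
      obtain ⟨s, hs, hsy⟩ := exists_refl hQ hQy
      refine ⟨r * s, {p, q}, ⟨mul_mem (dec_of_maps hQ hd fun m => ⟨m, refl_maps hQ hd hx hrx m⟩)
        (dec_of_maps hQ hd fun m => ⟨m, refl_maps hQ hd hy hsy m⟩),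
        refl_pair_omega' hQ hn hQx hQy hsq hr hs hrx hsy⟩, Finset.card_le_two.trans (by norm_num),
        by rw [gl_mul_mulVec, refl_fix hQ hsy hBy, refl_fix hQ hrx hBx], fun w o ho => ?_, fun h1 => ?_,
        Or.inl Finset.card_le_two⟩
      · simp only [Finset.mem_insert, Finset.mem_singleton, not_or] at ho
        rw [gl_mul_mulVec, qcomp_refl_other hQ hD (Ne.symm ho.1) hx hrx,
          qcomp_refl_other hQ hD (Ne.symm ho.2) hy hsy]
      · have hx0 : x ≠ 0 := fun h => hQx (by rw [h]; exact qzero hQ)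
        obtain ⟨w, hw, hxw⟩ := ((hd.nondegenerate p) x hx hx0).2
        have h2 := congrArg (fun g : GL ι F => (g : Matrix ι ι F) *ᵥ w) h1
        simp only [gl_mul_mulVec, refl_fix hQ hsy (hd.orthogonal p q hpq w hw y hy), Units.val_one, one_mulVec] at h2
        rw [hrx, sub_eq_self, smul_eq_zero, mul_eq_zero] at h2
        rcases h2 with (h3 | h3) | h3
        · exact inv_ne_zero hQx h3
        · exact hxw (by rw [pcomm]; exact h3)
        · exact hx0 h3
    rcases square_ratio (Q zi) (Q zj) (Q zl) hQi hQj hQl with h | h | h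
    · exact key hij zi hzi zj hzj hQi hQj hBi hBj h
    · exact key hil zi hzi zl hzl hQi hQl hBi hBl h
    · exact key hjl zj hzj zl hzl hQj hQl hBj hBl h
  -- three singular components
  have hsing : 3 ≤ (Finset.univ.filter fun q => Q (qcomp hQ hd q B) = 0).card := by
    have h1 := Finset.card_filter_add_card_filter_not (s := (Finset.univ : Finset (Fin t)))
      (fun q => Q (qcomp hQ hd q B) = 0)
    rw [Finset.card_univ, Fintype.card_fin] at h1
    simp only [ne_eq] at h3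
    omega
  obtain ⟨i, hi, j, hj, l, hl, hij, hil, hjl⟩ := Finset.two_lt_card.1 hsing
  simp only [Finset.mem_filter, Finset.mem_univ, true_and] at hi hj hl
  have hswap : ∀ {a b : Fin t}, a ≠ b → Q (qcomp hQ hd a B) = 0 → Q (qcomp hQ hd b B) = 0 →
      ∃ h ∈ Cfsg.isometryGroup F Q, (∀ m, ∀ u ∈ D m, (h : Matrix ι ι F) *ᵥ u ∈ D (Equiv.swap a b m)) ∧
        (∀ m, ∀ u ∈ D m, ((h⁻¹ : GL ι F) : Matrix ι ι F) *ᵥ u ∈ D (Equiv.swap a b m)) ∧
        (h : Matrix ι ι F) *ᵥ B = B ∧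
        ∀ y q, q ≠ a → q ≠ b → qcomp hQ hd q ((h : Matrix ι ι F) *ᵥ y) = qcomp hQ hd q y := by
    intro a b hab ha hb
    obtain ⟨e, he, heB⟩ := exists_plane_equiv hQ (hd.nondegenerate a) (hd.decomp.finrank_eq a) (hd.nondegenerate b)
      (hd.decomp.finrank_eq b) (qcomp_mem hQ hd a B) (hB a) ha (qcomp_mem hQ hd b B) (hB b) hb
    obtain ⟨h, hh, hmaps, hha, hhb, hfix⟩ := exists_swap_iso hQ hD hab e he
    have hinv : ∀ m, ∀ u ∈ D m, ((h⁻¹ : GL ι F) : Matrix ι ι F) *ᵥ u ∈ D (Equiv.swap a b m) := by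
      intro m u hu
      have h1 := qmap_eq hQ hd (hmaps (Equiv.swap a b m))
      rw [Equiv.swap_apply_self] at h1
      rw [← h1] at hu
      obtain ⟨z, hz, rfl⟩ := hu
      rw [Matrix.toLin'_apply, gl_inv_mulVec]
      exact hz
    have hdec : ∀ y, (h : Matrix ι ι F) *ᵥ y = (y - qcomp hQ hd a y - qcomp hQ hd b y) +
        (h : Matrix ι ι F) *ᵥ qcomp hQ hd a y + (h : Matrix ι ι F) *ᵥ qcomp hQ hd b y := by
      intro y
      conv_lhs => rw [show y = (y - qcomp hQ hd a y - qcomp hQ hd b y) + qcomp hQ hd a y + qcomp hQ hd b y by abel]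
      rw [mulVec_add, mulVec_add, hfix (y - qcomp hQ hd a y - qcomp hQ hd b y)]
      · rw [qcomp_sub, qcomp_sub, qcomp_self hQ hd (qcomp_mem hQ hd a y),
          qcomp_other hQ hd hab.symm (qcomp_mem hQ hd b y), sub_self, sub_zero]
      · rw [qcomp_sub, qcomp_sub, qcomp_self hQ hd (qcomp_mem hQ hd b y),
          qcomp_other hQ hd hab (qcomp_mem hQ hd a y), sub_zero, sub_self]
    refine ⟨h, hh, hmaps, hinv, ?_, fun y q hqa hqb => ?_⟩
    · have ha' : (h : Matrix ι ι F) *ᵥ qcomp hQ hd a B = qcomp hQ hd b B := by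
        rw [hha _ (qcomp_mem hQ hd a B), heB]
      have hb' : (h : Matrix ι ι F) *ᵥ qcomp hQ hd b B = qcomp hQ hd a B := by
        rw [hhb _ (qcomp_mem hQ hd b B),
          show (⟨qcomp hQ hd b B, qcomp_mem hQ hd b B⟩ : D b) = e ⟨qcomp hQ hd a B, qcomp_mem hQ hd a B⟩ from
            Subtype.ext heB.symm, LinearEquiv.symm_apply_apply]
      rw [hdec, ha', hb']
      abel
    · rw [hdec, qcomp_add, qcomp_add, qcomp_sub, qcomp_sub]
      have h1 := hmaps a _ (qcomp_mem hQ hd a y)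
      have h2 := hmaps b _ (qcomp_mem hQ hd b y)
      rw [Equiv.swap_apply_left] at h1
      rw [Equiv.swap_apply_right] at h2
      rw [qcomp_other hQ hd hqa.symm (qcomp_mem hQ hd a y), qcomp_other hQ hd hqb.symm (qcomp_mem hQ hd b y),
        qcomp_other hQ hd hqb.symm h1, qcomp_other hQ hd hqa.symm h2, sub_zero, sub_zero, add_zero, add_zero]
  obtain ⟨h₁, hh₁, hm₁, hi₁, hB₁, hc₁⟩ := hswap hij hi hj
  obtain ⟨h₂, hh₂, hm₂, hi₂, hB₂, hc₂⟩ := hswap hjl hj hl
  have hD₁ : h₁ ∈ decompositionStabilizer D := dec_of_maps hQ hd fun m => ⟨_, hm₁ m⟩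
  have hD₂ : h₂ ∈ decompositionStabilizer D := dec_of_maps hQ hd fun m => ⟨_, hm₂ m⟩
  obtain ⟨d, hd'⟩ : ∃ d, d = h₁ * h₂ * h₁⁻¹ * h₂⁻¹ := ⟨_, rfl⟩
  have hfixinv : ∀ {g : GL ι F}, (g : Matrix ι ι F) *ᵥ B = B → ((g⁻¹ : GL ι F) : Matrix ι ι F) *ᵥ B = B :=
    fun {g} h => by
    conv_lhs => rw [← h]
    rw [gl_inv_mulVec]
  have hmap : ∀ m, ∀ u ∈ D m, (d : Matrix ι ι F) *ᵥ u ∈
      D (Equiv.swap i j (Equiv.swap j l (Equiv.swap i j (Equiv.swap j l m)))) := fun m u hu => by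
    rw [hd', gl_mul_mulVec, gl_mul_mulVec, gl_mul_mulVec]
    exact hm₁ _ _ (hm₂ _ _ (hi₁ _ _ (hi₂ m u hu)))
  have hdd : d * d ≠ 1 := by
    intro h1
    have hji : j ≠ i := hij.symm
    have hlj : l ≠ j := hjl.symm
    have hli : l ≠ i := hil.symm
    obtain ⟨z, hz, hz0⟩ := Submodule.exists_mem_ne_zero_of_ne_bot (p := D i)
      (fun h => by have := hd.decomp.finrank_eq i; rw [h, finrank_bot] at this; omega)
    have h2 := hmap _ _ (hmap i z hz)
    rw [← gl_mul_mulVec, h1, Units.val_one, one_mulVec] at h2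
    have h3 := qcomp_disjoint hQ hd h2 hz hz0
    simp [Equiv.swap_apply_def, hij, hji, hil, hli, hjl, hlj] at h3
  have hdH : d ∈ decompositionStabilizer D ⊓ omegaGL Q := Subgroup.mem_inf.2
    ⟨hd' ▸ mul_mem (mul_mem (mul_mem hD₁ hD₂) (inv_mem hD₁)) (inv_mem hD₂), hd' ▸ mem_omegaGL_comm hh₁ hh₂⟩
  refine ⟨d, {i, j, l}, hdH, Finset.card_le_three, ?_, fun y q hq => ?_, fun h1 => hdd (by rw [h1, one_mul]),
    Or.inr hdd⟩
  · rw [hd', gl_mul_mulVec, gl_mul_mulVec, gl_mul_mulVec, hfixinv hB₂, hfixinv hB₁, hB₂, hB₁]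
  · simp only [Finset.mem_insert, Finset.mem_singleton, not_or] at hq
    obtain ⟨hqi, hqj, hql⟩ := hq
    have hcinv : ∀ {g : GL ι F} {a b : Fin t}, (∀ y q, q ≠ a → q ≠ b →
        qcomp hQ hd q ((g : Matrix ι ι F) *ᵥ y) = qcomp hQ hd q y) → ∀ y q, q ≠ a → q ≠ b →
        qcomp hQ hd q (((g⁻¹ : GL ι F) : Matrix ι ι F) *ᵥ y) = qcomp hQ hd q y := fun {g a b} h y q ha hb => by
      conv_rhs => rw [← gl_mulVec_inv g y]
      rw [h _ q ha hb]
    rw [hd', gl_mul_mulVec, gl_mul_mulVec, gl_mul_mulVec, hc₁ _ q hqi hqj, hc₂ _ q hqj hql,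
      hcinv hc₁ _ q hqi hqj, hcinv hc₂ _ q hqj hql]

/-- an element outside the stabiliser gives all of `Ω` -/
theorem plane_outside {g : GL ι F} (hg : g ∈ M) (hgD : g ∉ decompositionStabilizer D) : omegaGL Q ≤ M := by
  classical
  have hd := hD.decomp
  have hgi := hM hg
  -- the members
  have hrel : ∀ {i j} {v w : ι → F}, v ∈ D i → w ∈ D j → Q v = 1 → Q w = 1 →
      RRel Q M ((g : Matrix ι ι F) *ᵥ v) ((g : Matrix ι ι F) *ᵥ w) := fun hv hw hQv hQw =>
    (comp_rel hQ hd hn hM hHM hv hw (by rw [hQv]; exact one_ne_zero) (hQv.trans hQw.symm)).conj hgi hg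
  by_cases hin : ∃ i, ∃ v ∈ D i, Q v = 1 ∧ ∃ l, (g : Matrix ι ι F) *ᵥ v ∈ D l
  · obtain ⟨i, v, hv, hQv, l, hl⟩ := hin
    exact plane_finish hQ hD hn hM hHM hok ht hg hgD hv (by rw [hQv]; exact one_ne_zero) hl
  push Not at hin
  have hspan : ∀ S : Submodule F (ι → F), (∀ i, ∀ v ∈ D i, Q v = 1 → (g : Matrix ι ι F) *ᵥ v ∈ S) → ∀ y, y ∈ S := by
    intro S hS y
    have h1 : (⊤ : Submodule F (ι → F)) ≤ S.comap (Matrix.mulVecLin (g : Matrix ι ι F)) :=
      hd.decomp.iSup_eq_top ▸ iSup_le fun i => plane_span_value hQ (hd.nondegenerate i) (hd.decomp.finrank_eq i)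
        (hok i) one_ne_zero (hS i)
    have h2 : (g : Matrix ι ι F) *ᵥ (((g⁻¹ : GL ι F) : Matrix ι ι F) *ᵥ y) ∈ S := h1 Submodule.mem_top
    rwa [gl_mulVec_inv] at h2
  by_cases hsmall : ∃ i, ∃ v ∈ D i, Q v = 1 ∧ ∃ a b, ∀ q, q ≠ a → q ≠ b → qcomp hQ hd q ((g : Matrix ι ι F) *ᵥ v) = 0
  · obtain ⟨i₁, v, hv, hQv, a, b, hsupp⟩ := hsmall
    obtain ⟨A, hA⟩ : ∃ A, A = (g : Matrix ι ι F) *ᵥ v := ⟨_, rfl⟩
    rw [← hA] at hsupp
    have hQA : Q A = 1 := by rw [hA, mem_iso.1 hgi, hQv]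
    have hA0 : A ≠ 0 := fun h => by rw [h, qzero hQ] at hQA; exact zero_ne_one hQA
    obtain ⟨i, hi⟩ := exists_qcomp_ne hQ hd hA0
    obtain ⟨j, hji, hj⟩ : ∃ j, j ≠ i ∧ qcomp hQ hd j A ≠ 0 := by
      by_contra hcon
      push Not at hcon
      refine hin i₁ v hv hQv i ?_
      rw [← hA]
      have : A = qcomp hQ hd i A := qext_comp hQ hd fun l => by
        rcases eq_or_ne l i with rfl | hl
        · rw [qcomp_self hQ hd (qcomp_mem hQ hd l A)]
        · rw [hcon l hl, qcomp_other hQ hd hl.symm (qcomp_mem hQ hd i A)]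
      rw [this]
      exact qcomp_mem hQ hd i A
    have hzero : ∀ q, q ≠ i → q ≠ j → qcomp hQ hd q A = 0 := fun q hqi hqj => by
      have h1 : ∀ p, qcomp hQ hd p A ≠ 0 → p = a ∨ p = b := fun p hp => by
        by_contra hne
        push Not at hne
        exact hp (hsupp p hne.1 hne.2)
      by_contra hq
      rcases h1 q hq with h | h <;> rcases h1 i hi with h' | h' <;> rcases h1 j hj with h'' | h''
      all_goals first
        | exact hqi (h.trans h'.symm)
        | exact hqj (h.trans h''.symm)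
        | exact hji (h''.trans h'.symm)
    obtain ⟨i₂, w, hw, hQw, l, hli, hlj, hl⟩ : ∃ i₂, ∃ w ∈ D i₂, Q w = 1 ∧
        ∃ l, l ≠ i ∧ l ≠ j ∧ qcomp hQ hd l ((g : Matrix ι ι F) *ᵥ w) ≠ 0 := by
      by_contra hcon
      push Not at hcon
      obtain ⟨l, hl⟩ := Finset.exists_mem_notMem_of_card_lt_card (s := {i, j}) (t := (Finset.univ : Finset (Fin t)))
        (by rw [Finset.card_univ, Fintype.card_fin]; exact lt_of_le_of_lt Finset.card_le_two (by omega))
      simp only [Finset.mem_insert, Finset.mem_singleton, not_or] at hl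
      let S : Submodule F (ι → F) :=
        { carrier := {y | qcomp hQ hd l y = 0}
          zero_mem' := qcomp_zero hQ hd l
          add_mem' := fun {y z} hy hz => by
            show qcomp hQ hd l (y + z) = 0
            rw [qcomp_add, hy, hz, add_zero]
          smul_mem' := fun c y hy => by
            show qcomp hQ hd l (c • y) = 0
            rw [qcomp_smul, hy, smul_zero] }
      obtain ⟨z, hz, hz0⟩ := Submodule.exists_mem_ne_zero_of_ne_bot (p := D l)
        (fun h => by have := hd.decomp.finrank_eq l; rw [h, finrank_bot] at this; omega)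
      have h1 : qcomp hQ hd l z = 0 := hspan S (fun i' u hu hQu => hcon i' u hu hQu l hl.2.1 hl.2.2) z
      exact hz0 (by rwa [qcomp_self hQ hd hz] at h1)
    obtain ⟨B, hB⟩ : ∃ B, B = (g : Matrix ι ι F) *ᵥ w := ⟨_, rfl⟩
    rw [← hB] at hl
    have hQB : Q B = 1 := by rw [hB, mem_iso.1 hgi, hQw]
    have hAB : RRel Q M A B := hA ▸ hB ▸ hrel hv hw hQv hQw
    by_cases hspare : ∃ p, p ≠ i ∧ p ≠ j ∧ qcomp hQ hd p B = 0
    · obtain ⟨p, hpi, hpj, hp⟩ := hspare
      obtain ⟨r, hr, s, hs, hra, hsb, hm⟩ := hAB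
      obtain ⟨z, hz, hQz⟩ := exists_nonsingular hQ (hd.nondegenerate p)
        (fun h1 => by have := hd.decomp.finrank_eq p; rw [h1, finrank_bot] at this; omega)
      refine plane_finish hQ hD hn hM hHM hok ht hm
        (pair_not_dec hQ hD (by rw [hQA]; exact one_ne_zero) (by rw [hQB]; exact one_ne_zero) (fun h => ?_) hra hsb
          hji.symm (Ne.symm hli) (Ne.symm hlj) (Or.inl hi) (Or.inl hj) (Or.inr hl)) hz hQz (l' := p) ?_
      · obtain ⟨c, hc⟩ := Submodule.mem_span_singleton.1 h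
        exact hl (by rw [← hc, qcomp_smul, hzero l hli hlj, smul_zero])
      · rw [gl_mul_mulVec, refl_fix hQ hsb (by rw [pcomm, qcomp_pol hQ hd hz, hp, pzero_left hQ]),
          refl_fix hQ hra (by rw [pcomm, qcomp_pol hQ hd hz, hzero p hpi hpj, pzero_left hQ])]
        exact hz
    push Not at hspare
    obtain ⟨p, hp⟩ := Finset.exists_mem_notMem_of_card_lt_card (s := {i, j}) (t := (Finset.univ : Finset (Fin t)))
      (by rw [Finset.card_univ, Fintype.card_fin]; exact lt_of_le_of_lt Finset.card_le_two (by omega))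
    obtain ⟨p₂, hp₂⟩ := Finset.exists_mem_notMem_of_card_lt_card (s := {i, j, p})
      (t := (Finset.univ : Finset (Fin t)))
      (by rw [Finset.card_univ, Fintype.card_fin]; exact lt_of_le_of_lt Finset.card_le_three (by omega))
    obtain ⟨p₃, hp₃⟩ := Finset.exists_mem_notMem_of_card_lt_card (s := {i, j, p, p₂})
      (t := (Finset.univ : Finset (Fin t)))
      (by rw [Finset.card_univ, Fintype.card_fin]; exact lt_of_le_of_lt Finset.card_le_four (by omega))
    simp only [Finset.mem_insert, Finset.mem_singleton, not_or] at hp hp₂ hp₃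
    obtain ⟨-, hpi, hpj⟩ := hp
    obtain ⟨-, hp₂i, hp₂j, hp₂p⟩ := hp₂
    obtain ⟨-, hp₃i, hp₃j, hp₃p, hp₃p₂⟩ := hp₃
    obtain ⟨d, hdH, hdc, hdfix, hdmove⟩ := exists_member_rotation hQ hD hn hM hHM hok p
    have hdA : (d : Matrix ι ι F) *ᵥ A = A := hdfix A (hzero p hpi hpj)
    have hdi := hM (hHM hdH)
    have h1 := hAB.conj hdi (hHM hdH)
    rw [hdA] at h1
    have h2 : RRel Q M B ((d : Matrix ι ι F) *ᵥ B) :=
      (hAB.symm hQ (by rw [hQA]; exact one_ne_zero) (by rw [hQB]; exact one_ne_zero)).trans hQ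
        (by rw [hQA]; exact one_ne_zero) h1
    refine plane_pair_finish hQ hD hn hM hHM hok ht hQB (by rw [mem_iso.1 hdi, hQB]) h2 (fun h => ?_) {p}
      (by rw [Finset.card_singleton]; omega) (fun q hq => hdc B q (by simpa using hq))
      (Ne.symm hp₂p) (Ne.symm hp₃p) (Ne.symm hp₃p₂) (Or.inl (hspare p hpi hpj)) (Or.inl (hspare p₂ hp₂i hp₂j))
      (Or.inl (hspare p₃ hp₃i hp₃j))
    obtain ⟨c, hc⟩ := Submodule.mem_span_singleton.1 h
    have h3 := congrArg (qcomp hQ hd p₂) hc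
    rw [qcomp_smul, hdc B p₂ hp₂p] at h3
    have hc1 : c = 1 := by
      have h4 : (c - 1) • qcomp hQ hd p₂ B = 0 := by rw [sub_smul, one_smul, h3, sub_self]
      exact sub_eq_zero.1 ((smul_eq_zero.1 h4).resolve_right (hspare p₂ hp₂i hp₂j))
    rw [hc1, one_smul] at hc
    exact hspare p hpi hpj (hdmove B hc.symm)
  -- every member has three nonzero components
  push Not at hsmall
  have hwide : ∀ i, ∀ v ∈ D i, Q v = 1 → ∀ T : Finset (Fin t), T.card ≤ 2 →
      ∃ q, q ∉ T ∧ qcomp hQ hd q ((g : Matrix ι ι F) *ᵥ v) ≠ 0 := by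
    intro i v hv hQv T hT
    obtain ⟨a, b, hab⟩ : ∃ a b : Fin t, T ⊆ {a, b} := by
      haveI : Nonempty (Fin t) := ⟨i⟩
      rcases Nat.lt_or_ge T.card 2 with h | h
      · rcases Finset.card_le_one_iff_subset_singleton.1 (show T.card ≤ 1 by omega) with ⟨a, ha⟩
        exact ⟨a, a, by simpa using ha⟩
      · obtain ⟨a, b, -, rfl⟩ := Finset.card_eq_two.1 (show T.card = 2 by omega)
        exact ⟨a, b, subset_rfl⟩
    obtain ⟨q, hqa, hqb, hq⟩ := hsmall i v hv hQv a b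
    exact ⟨q, fun h => by simpa [hqa, hqb] using hab h, hq⟩
  obtain ⟨w, hw, hQw⟩ := exists_value_two hQ (hd.nondegenerate ⟨0, by omega⟩) (hd.decomp.finrank_eq _).ge 1
  obtain ⟨B, hB⟩ : ∃ B, B = (g : Matrix ι ι F) *ᵥ w := ⟨_, rfl⟩
  have hQB : Q B = 1 := by rw [hB, mem_iso.1 hgi, hQw]
  obtain ⟨d, T, hdH, hT, hdB, hdc, hd1, hdT⟩ : ∃ (d : GL ι F) (T : Finset (Fin t)),
      d ∈ decompositionStabilizer D ⊓ omegaGL Q ∧ T.card ≤ 3 ∧ (d : Matrix ι ι F) *ᵥ B = B ∧
      (∀ y q, q ∉ T → qcomp hQ hd q ((d : Matrix ι ι F) *ᵥ y) = qcomp hQ hd q y) ∧ d ≠ 1 ∧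
      (T.card ≤ 2 ∨ d * d ≠ 1) := by
    by_cases hz : ∃ p, qcomp hQ hd p B = 0
    · obtain ⟨p, hp⟩ := hz
      obtain ⟨d, hdH, hdc, hdfix, hdmove⟩ := exists_member_rotation hQ hD hn hM hHM hok p
      refine ⟨d, {p}, hdH, by simp, hdfix B hp, fun y q hq => hdc y q (by simpa using hq), fun h1 => ?_,
        Or.inl (by simp)⟩
      obtain ⟨z, hz, hz0⟩ := Submodule.exists_mem_ne_zero_of_ne_bot (p := D p)
        (fun h => by have := hd.decomp.finrank_eq p; rw [h, finrank_bot] at this; omega)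
      have h2 := hdmove z (by rw [h1, Units.val_one, one_mulVec])
      rw [qcomp_self hQ hd hz] at h2
      exact hz0 h2
    · push Not at hz
      exact exists_fixer hQ hD hn hM hHM hok hz (by omega)
  have hdi := hM (hHM hdH)
  obtain ⟨i, v, hv, hQv, hind⟩ : ∃ i, ∃ v ∈ D i, Q v = 1 ∧
      (d : Matrix ι ι F) *ᵥ ((g : Matrix ι ι F) *ᵥ v) ∉ Submodule.span F {(g : Matrix ι ι F) *ᵥ v} := by
    by_contra hcon
    push Not at hcon
    have hpm : ∀ i, ∀ v ∈ D i, Q v = 1 → ∃ c : F, c * c = 1 ∧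
        (d : Matrix ι ι F) *ᵥ ((g : Matrix ι ι F) *ᵥ v) = c • ((g : Matrix ι ι F) *ᵥ v) := by
      intro i v hv hQv
      obtain ⟨c, hc⟩ := Submodule.mem_span_singleton.1 (hcon i v hv hQv)
      refine ⟨c, ?_, hc.symm⟩
      have h1 := mem_iso.1 hdi ((g : Matrix ι ι F) *ᵥ v)
      rw [← hc, qsmul hQ, mem_iso.1 hgi, hQv, mul_one] at h1
      rw [← sq, h1]
    rcases hdT with hT2 | hdd
    · refine hd1 (gl_ext_vec fun y => ?_)
      rw [Units.val_one, one_mulVec]
      let S : Submodule F (ι → F) :=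
        LinearMap.ker (Matrix.mulVecLin (d : Matrix ι ι F) - LinearMap.id)
      refine sub_eq_zero.1 (hspan S (fun i v hv hQv => ?_) y)
      obtain ⟨c, -, hc⟩ := hpm i v hv hQv
      obtain ⟨q, hqT, hq⟩ := hwide i v hv hQv T hT2
      have h3 := congrArg (qcomp hQ hd q) hc
      rw [qcomp_smul, hdc _ q hqT] at h3
      have h4 : (c - 1) • qcomp hQ hd q ((g : Matrix ι ι F) *ᵥ v) = 0 := by rw [sub_smul, one_smul, ← h3, sub_self]
      rw [sub_eq_zero.1 ((smul_eq_zero.1 h4).resolve_right hq), one_smul] at hc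
      exact sub_eq_zero.2 hc
    · refine hdd (gl_ext_vec fun y => ?_)
      rw [Units.val_one, one_mulVec]
      let S : Submodule F (ι → F) :=
        LinearMap.ker (Matrix.mulVecLin ((d * d : GL ι F) : Matrix ι ι F) - LinearMap.id)
      refine sub_eq_zero.1 (hspan S (fun i v hv hQv => sub_eq_zero.2 ?_) y)
      obtain ⟨c, hc1, hc⟩ := hpm i v hv hQv
      show ((d * d : GL ι F) : Matrix ι ι F) *ᵥ ((g : Matrix ι ι F) *ᵥ v) = (g : Matrix ι ι F) *ᵥ v
      rw [gl_mul_mulVec, hc, mulVec_smul, hc, smul_smul, hc1, one_smul]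
  obtain ⟨A, hA⟩ : ∃ A, A = (g : Matrix ι ι F) *ᵥ v := ⟨_, rfl⟩
  rw [← hA] at hind
  have hQA : Q A = 1 := by rw [hA, mem_iso.1 hgi, hQv]
  have hAB : RRel Q M A B := hA ▸ hB ▸ hrel hv hw hQv hQw
  have h1 := hAB.conj hdi (hHM hdH)
  rw [hdB] at h1
  have h2 : RRel Q M A ((d : Matrix ι ι F) *ᵥ A) :=
    hAB.trans hQ (by rw [hQB]; exact one_ne_zero)
      (h1.symm hQ (by rw [mem_iso.1 hdi, hQA]; exact one_ne_zero) (by rw [hQB]; exact one_ne_zero))
  obtain ⟨q₁, -, hq₁⟩ := hwide i v hv hQv ∅ (by simp)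
  obtain ⟨q₂, hq₂₁, hq₂⟩ := hwide i v hv hQv {q₁} (by simp)
  obtain ⟨q₃, hq₃₁, hq₃⟩ := hwide i v hv hQv {q₁, q₂} Finset.card_le_two
  simp only [Finset.mem_insert, Finset.mem_singleton, not_or] at hq₂₁ hq₃₁
  rw [← hA] at hq₁ hq₂ hq₃
  exact plane_pair_finish hQ hD hn hM hHM hok ht hQA (by rw [mem_iso.1 hdi, hQA]) h2 hind T (by omega)
    (fun q hq => hdc A q hq) (Ne.symm hq₂₁) (Ne.symm hq₃₁.1) (Ne.symm hq₃₁.2) (Or.inl hq₁) (Or.inl hq₂) (Or.inl hq₃)

omit hn hM hHM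

/-- stabilisers of decompositions into planes are maximal -/
theorem plane_decomp_maximal (hn : 5 ≤ Fintype.card ι) :
    IsMaximalIn (omegaGL Q) (decompositionStabilizer D ⊓ omegaGL Q) := by
  have hd := hD.decomp
  refine ⟨lt_of_le_of_ne inf_le_right fun heq => ?_, fun M hHM hMΩ => ?_⟩
  · let i0 : Fin t := ⟨0, by omega⟩
    let i1 : Fin t := ⟨1, by omega⟩
    let i2 : Fin t := ⟨2, by omega⟩
    have h01 : i0 ≠ i1 := by simp [i0, i1]
    have h02 : i0 ≠ i2 := by simp [i0, i2]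
    have h12 : i1 ≠ i2 := by simp [i1, i2]
    obtain ⟨a, ha, hQa⟩ := exists_value_two hQ (hd.nondegenerate i0) (hd.decomp.finrank_eq i0).ge 1
    obtain ⟨b, hb, hQb⟩ := exists_value_two hQ (hd.nondegenerate i1) (hd.decomp.finrank_eq i1).ge 1
    obtain ⟨c, hc, hQc⟩ := exists_value_two hQ (hd.nondegenerate i2) (hd.decomp.finrank_eq i2).ge (-1)
    have hQw : Q (a + b + c) = 1 := by
      rw [qadd hQ, qadd hQ, hQa, hQb, hQc, padd_left hQ, hd.orthogonal i0 i1 h01 a ha b hb,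
        hd.orthogonal i0 i2 h02 a ha c hc, hd.orthogonal i1 i2 h12 b hb c hc]
      ring
    obtain ⟨g, hg, hgv⟩ := exists_move_value hQ hn (v := a) (w := a + b + c) (by rw [hQa]; exact one_ne_zero)
      (hQa.trans hQw.symm)
    have hgH : g ∈ decompositionStabilizer D ⊓ omegaGL Q := by rw [heq]; exact eGroup_le_omega hQ hn hg
    obtain ⟨l, hl⟩ := mem_dec_maps hd hgH.1 i0
    have h1 := hl a ha
    rw [hgv] at h1
    rcases eq_or_ne l i1 with rfl | hl1
    · have := qcomp_other hQ hd h01.symm h1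
      rw [qcomp_add, qcomp_add, qcomp_self hQ hd ha, qcomp_other hQ hd h01.symm hb,
        qcomp_other hQ hd h02.symm hc, add_zero, add_zero] at this
      rw [this, qzero hQ] at hQa
      exact zero_ne_one hQa
    · have := qcomp_other hQ hd hl1 h1
      rw [qcomp_add, qcomp_add, qcomp_other hQ hd h01 ha, qcomp_self hQ hd hb,
        qcomp_other hQ hd h12.symm hc, add_zero, zero_add] at this
      rw [this, qzero hQ] at hQb
      exact zero_ne_one hQb
  by_cases hMD : M ≤ decompositionStabilizer D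
  · exact Or.inl (le_antisymm (le_inf hMD hMΩ) hHM)
  refine Or.inr (le_antisymm hMΩ ?_)
  obtain ⟨g, hg, hgD⟩ := SetLike.not_le_iff_exists.1 hMD
  exact plane_outside hQ hD hn (hMΩ.trans omegaGL_le_iso) hHM hok ht hg hgD

end CfsgLib.Perm.Trans.Quad

namespace CfsgLib.Perm.Trans.Quad

open Cfsg.Geo

variable {ι : Type} [Fintype ι] [DecidableEq ι] {F : Type*} [Field F] {Q : (ι → F) → F}

theorem plus_of_singular (hQ : IsNondegenerateQuadraticForm Q) {P : Submodule F (ι → F)}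
    (hd : Module.finrank F P = 2) (h : ∃ e ∈ P, e ≠ 0 ∧ Q e = 0) : IsPlusTypeOn Q P := by
  obtain ⟨e, he, he0, hQe⟩ := h
  refine ⟨Submodule.span F {e}, (Submodule.span_singleton_le_iff_mem _ _).2 he, fun x hx => ?_,
    by rw [finrank_span_singleton he0, hd]⟩
  obtain ⟨c, rfl⟩ := Submodule.mem_span_singleton.1 hx
  rw [qsmul hQ, hQe, mul_zero]

theorem plus_of_isometric {W W' : Submodule F (ι → F)} (h : AreIsometricFor Q W W') (hW : IsPlusTypeOn Q W) :
    IsPlusTypeOn Q W' := by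
  obtain ⟨e, he⟩ := h
  obtain ⟨U, hUW, hU, hdim⟩ := hW
  refine ⟨(U.comap W.subtype).map (W'.subtype ∘ₗ (e : W →ₗ[F] W')), ?_, ?_, ?_⟩
  · rintro _ ⟨x, -, rfl⟩
    exact (e x).2
  · rintro _ ⟨x, hx, rfl⟩
    show Q (e x : ι → F) = 0
    rw [he]
    exact hU _ hx
  · rw [← (Submodule.equivMapOfInjective _ (Subtype.val_injective.comp e.injective) _).finrank_eq,
      (Submodule.comapSubtypeEquivOfLe hUW).finrank_eq, hdim, e.finrank_eq]

end CfsgLib.Perm.Trans.Quad
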