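import Cfsg.Agent.Lib.Perm.Trans.QuadNondeg

/-!
# Stabilisers of nonsingular points in characteristic two
-/

set_option autoImplicit false
set_option linter.all false

namespace CfsgLib.Perm.Trans.Quad

open scoped Matrix
open Matrix Cfsg.Geo CfsgLib.Perm.Asch CfsgLib.Perm.Trans

variable {ι : Type} [Fintype ι] [DecidableEq ι] {F : Type*} [Field F] [Fintype F]
variable {Q : (ι → F) → F}

local notation "pol" => QuadraticMap.polar

variable (hQ : IsNondegenerateQuadraticForm Q)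
include hQ

theorem point_maximal (hn : 7 ≤ Fintype.card ι) (h2 : (2 : F) = 0) {v : ι → F} (hv : Q v ≠ 0) :
    IsMaximalIn (omegaGL Q) (subspaceStabilizer (Submodule.span F {v}) ⊓ omegaGL Q) := by
  haveI : CharP F 2 := CharTwo.of_one_ne_zero_of_two_eq_zero one_ne_zero h2
  have hv0 : v ≠ 0 := fun h => hv (by rw [h]; exact qzero hQ)
  obtain ⟨H, hHdef⟩ : ∃ H, H = qperp hQ (Submodule.span F {v}) := ⟨_, rfl⟩
  have hmem : ∀ x, x ∈ H ↔ pol Q x v = 0 := fun x => by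
    rw [hHdef, mem_qperp_span hQ]
    simp
  have hHd : Fintype.card ι ≤ Module.finrank F H + 1 := by
    have := finrank_qperp hQ (Submodule.span F {v})
    rwa [finrank_span_singleton hv0, ← hHdef] at this
  have hvv : pol Q v v = 0 := by rw [pself hQ, h2, zero_mul]
  have hval : ∀ c : F, ∃ w ∈ Submodule.span F {v}, Q w = c := fun c => by
    obtain ⟨t, ht⟩ := FiniteField.isSquare_of_char_two (ringChar.eq F 2) (c / Q v)
    exact ⟨t • v, Submodule.smul_mem _ _ (Submodule.mem_span_singleton_self v),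
      by rw [qsmul hQ, sq, ← ht, div_mul_cancel₀ _ hv]⟩
  have hspan : ∀ x, (∀ y, pol Q y v = 0 → pol Q x y = 0) → x ∈ Submodule.span F {v} := fun x hx => by
    by_contra hsp
    obtain ⟨p, hp, hxp⟩ := exists_qperp_ne hQ hsp
    rw [hx p (hp v (Submodule.mem_span_singleton_self v))] at hxp
    exact zero_ne_one hxp
  have hnotsp : ∀ {x}, Q x = 0 → x ≠ 0 → x ∉ Submodule.span F {v} := fun {x} hx hx0 h => by
    obtain ⟨c, rfl⟩ := Submodule.mem_span_singleton.1 h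
    rw [qsmul hQ, mul_eq_zero] at hx
    exact hx0 (by rw [(pow_eq_zero_iff two_ne_zero).1 (hx.resolve_right hv), zero_smul])
  have hpartner : ∀ {u}, pol Q u v = 0 → Q u = 0 → u ≠ 0 → ∃ u', pol Q u' v = 0 ∧ Q u' = 0 ∧ pol Q u u' = 1 := by
    intro u huv hQu hu0
    obtain ⟨p, hp, hup⟩ := exists_qperp_ne hQ (hnotsp hQu hu0)
    refine ⟨p - Q p • u, ?_, ?_, ?_⟩
    · rw [psub_left hQ, psmul_left hQ, huv, hp v (Submodule.mem_span_singleton_self v)]; ring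
    · rw [qsub hQ, qsmul hQ, hQu, psmul_right hQ, pcomm p u, hup]; ring
    · rw [psub_right hQ, psmul_right hQ, hup, pself hQ, hQu]; ring
  refine isMaximalIn_of_pair hQ (by omega) (fun hle => ?_) fun M hHM hM hMH => ?_
  · obtain ⟨u, hu, hu0, hQu⟩ := exists_singular_mem hQ H (by omega)
    rw [hmem] at hu
    have hvsp : v ∉ Submodule.span F {u} := fun h => by
      obtain ⟨c, rfl⟩ := Submodule.mem_span_singleton.1 h
      rw [qsmul hQ, hQu, mul_zero] at hv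
      exact hv rfl
    obtain ⟨a, ha, hva⟩ := exists_qperp_ne hQ hvsp
    obtain ⟨g, hg, hgE⟩ := ein_omega hQ (by omega) hQu (a := a)
      (by rw [pcomm]; exact ha u (Submodule.mem_span_singleton_self u))
    have h1 : (g : Matrix ι ι F) *ᵥ v ∈ Submodule.span F {v} :=
      (mem_subspaceStabilizer_iff.1 (hle hg) v).1 (Submodule.mem_span_singleton_self v)
    rw [hgE, pcomm v u, hu, hva, zero_smul, add_zero, one_smul, mul_zero, zero_smul, sub_zero,
      Submodule.sub_mem_iff_right _ (Submodule.mem_span_singleton_self v)] at h1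
    exact hnotsp hQu hu0 h1
  have hMi : M ≤ Cfsg.isometryGroup F Q := hM.trans omegaGL_le_iso
  have hfixM : ∀ s ∈ omegaGL Q, (s : Matrix ι ι F) *ᵥ v = v → s ∈ M := fun s hs hsv =>
    hHM ⟨mem_stab_of_maps fun x hx => by
      obtain ⟨c, rfl⟩ := Submodule.mem_span_singleton.1 hx
      rwa [mulVec_smul, hsv], hs⟩
  have hHE : ∀ {u p}, pol Q u v = 0 → Q u = 0 → pol Q u p = 0 → pol Q p v = 0 → EIn Q M u p := by
    intro u p huv hQu hup hpv
    obtain ⟨g, hg, hgE⟩ := ein_omega hQ (by omega) hQu hup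
    refine ⟨g, hfixM g hg ?_, hgE⟩
    rw [hgE, pcomm v u, huv, pcomm v p, hpv]
    simp
  obtain ⟨g, hg, hgW⟩ := SetLike.not_le_iff_exists.1 hMH
  -- a mixed transformation
  obtain ⟨u, hu, hu0, hQu, a, hua, hav, hEa⟩ : ∃ u, pol Q u v = 0 ∧ u ≠ 0 ∧ Q u = 0 ∧
      ∃ a, pol Q u a = 0 ∧ pol Q a v ≠ 0 ∧ EIn Q M u a := by
    by_contra hcon
    push Not at hcon
    have hstep : ∀ x, pol Q x v = 0 → x ≠ 0 → Q x = 0 → pol Q ((g : Matrix ι ι F) *ᵥ x) v = 0 →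
        ∀ p, pol Q p v = 0 → pol Q x p = 0 → pol Q ((g : Matrix ι ι F) *ᵥ p) v = 0 := by
      intro x hxv hx0 hQx hgx p hpv hxp
      by_contra hgp
      exact hcon _ hgx (fun h => hx0 (gl_mulVec_eq_zero.1 h)) ((mem_iso.1 (hMi hg) x).trans hQx) _
        (by rw [iso_pol (hMi hg), hxp]) hgp (EIn.conj (hHE hxv hQx hxp hpv) (hMi hg) hg)
    obtain ⟨D, hD⟩ : ∃ D, D = H ⊓ LinearMap.ker (pfl hQ (((g⁻¹ : GL ι F) : Matrix ι ι F) *ᵥ v)) := ⟨_, rfl⟩
    obtain ⟨u₀, hu₀D, hu₀0, hQu₀⟩ := exists_singular_mem hQ D (by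
      have := finrank_inf_pfl hQ H (((g⁻¹ : GL ι F) : Matrix ι ι F) *ᵥ v)
      rw [hD]
      omega)
    rw [hD] at hu₀D
    have hu₀v : pol Q u₀ v = 0 := (hmem _).1 hu₀D.1
    have hgu₀ : pol Q ((g : Matrix ι ι F) *ᵥ u₀) v = 0 := by
      conv_lhs => rw [← gl_mulVec_inv g v, iso_pol (hMi hg)]
      exact hu₀D.2
    obtain ⟨u', hu'v, hQu', huu'⟩ := hpartner hu₀v hQu₀ hu₀0
    obtain ⟨R, hR⟩ : ∃ R, R = pairPerp hQ H u₀ u' := ⟨_, rfl⟩
    obtain ⟨w, hw, hw0, hQw⟩ := exists_singular_mem hQ R (by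
      have := pair_finrank hQ ((hmem _).2 hu₀v) ((hmem _).2 hu'v) hQu₀ hQu' huu'
      rw [hR]
      omega)
    rw [hR] at hw
    obtain ⟨hwH, hwu, hwu'⟩ := (mem_pairPerp hQ).1 hw
    have hgw := hstep u₀ hu₀v hu₀0 hQu₀ hgu₀ w ((hmem _).1 hwH) (by rw [pcomm, hwu])
    have hgu' := hstep w ((hmem _).1 hwH) hw0 hQw hgw u' hu'v hwu'
    have hall : ∀ x, pol Q x v = 0 → pol Q ((g : Matrix ι ι F) *ᵥ x) v = 0 := by
      intro x hx
      have h1 := hstep u₀ hu₀v hu₀0 hQu₀ hgu₀ (x - pol Q u₀ x • u')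
        (by rw [psub_left hQ, psmul_left hQ, hx, hu'v]; ring)
        (by rw [psub_right hQ, psmul_right hQ, huu']; ring)
      rw [mulVec_sub, mulVec_smul, psub_left hQ, psmul_left hQ, hgu', mul_zero, sub_zero] at h1
      exact h1
    refine hgW (inv_mem_iff.1 (mem_stab_of_maps fun x hx => ?_))
    obtain ⟨c, rfl⟩ := Submodule.mem_span_singleton.1 hx
    rw [mulVec_smul]
    refine Submodule.smul_mem _ _ (hspan _ fun y hy => ?_)
    conv_lhs => rw [← gl_inv_mulVec g y, iso_pol (inv_mem (hMi hg)), pcomm]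
    exact hall y hy
  -- agreeing elements of `Ω`
  have hlift : ∀ h ∈ Cfsg.isometryGroup F Q, (h : Matrix ι ι F) *ᵥ v = v →
      ∃ s ∈ M, ((s : Matrix ι ι F) *ᵥ v = v) ∧
        ∀ x, pol Q x v = 0 → (s : Matrix ι ι F) *ᵥ x = (h : Matrix ι ι F) *ᵥ x := fun h hh hhv => by
    obtain ⟨s, hs, hsh⟩ := exists_omega_agree_values hQ (by omega) hval hh
    have h1 : ∀ x, pol Q x v = 0 → (s : Matrix ι ι F) *ᵥ x = (h : Matrix ι ι F) *ᵥ x := fun x hx =>
      hsh x (by rw [← hHdef]; exact (hmem x).2 hx)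
    have h3 : (s : Matrix ι ι F) *ᵥ v = v := by rw [h1 v hvv, hhv]
    exact ⟨s, hfixM s hs h3, h3, h1⟩
  obtain ⟨u', hu'v, hQu', huu'⟩ := hpartner hu hQu hu0
  have h1 : Q (u - u') ≠ 0 := by rw [qsub hQ, hQu, hQu', huu']; simp
  obtain ⟨r₁, hr₁, hr₁E⟩ := exists_refl hQ h1
  have hr₁v : (r₁ : Matrix ι ι F) *ᵥ v = v :=
    refl_fix hQ hr₁E (by rw [pcomm, psub_left hQ, hu, hu'v, sub_zero])
  have huC : u ∈ eCentres Q M := by
    refine ⟨hQu, fun b hub => ?_⟩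
    obtain ⟨c, hc⟩ : ∃ c, c = pol Q b v / pol Q a v := ⟨_, rfl⟩
    rcases eq_or_ne c 0 with hc0 | hc0
    · rw [hc0, eq_comm, div_eq_zero_iff] at hc
      exact hHE hu hQu hub (hc.resolve_right hav)
    have h3 : Q (u' - c • u) ≠ 0 := by
      rw [qsub hQ, qsmul hQ, hQu, hQu', psmul_right hQ, pcomm u' u, huu']
      simpa using hc0
    obtain ⟨r₂, hr₂, hr₂E⟩ := exists_refl hQ h3
    have hr₂v : (r₂ : Matrix ι ι F) *ᵥ v = v :=
      refl_fix hQ hr₂E (by rw [pcomm, psub_left hQ, psmul_left hQ, hu, hu'v, mul_zero, sub_zero])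
    obtain ⟨s, hs, hsv, hsH⟩ := hlift _ (mul_mem hr₂ hr₁) (by rw [gl_mul_mulVec, hr₁v, hr₂v])
    have hsu : (s : Matrix ι ι F) *ᵥ u = c • u := by
      rw [hsH u hu, gl_mul_mulVec, refl_moves hQ (hQu.trans hQu'.symm) h1 hr₁E,
        refl_moves hQ (by rw [qsmul hQ, hQu, hQu', mul_zero]) h3 hr₂E]
    obtain ⟨k, hk, hkE⟩ := EIn.conj hEa (hMi hs) hs
    rw [hsu] at hkE
    obtain ⟨a', ha'⟩ : ∃ a', a' = c • ((s : Matrix ι ι F) *ᵥ a) := ⟨_, rfl⟩
    have hsua : pol Q u ((s : Matrix ι ι F) *ᵥ a) = 0 := by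
      have h4 := iso_pol (hMi hs) u a
      rw [hsu, psmul_left hQ, hua, mul_eq_zero] at h4
      exact h4.resolve_left hc0
    have hua' : pol Q u a' = 0 := by rw [ha', psmul_right hQ, hsua, mul_zero]
    obtain ⟨k', -, hk'E⟩ := exists_E hQ hQu hua'
    have hE' : EIn Q M u a' := ⟨k', (hkE.unique ((ha' ▸ hk'E : IsE Q u (c • _) k').smul hQ)) ▸ hk, hk'E⟩
    have ha'v : pol Q a' v = pol Q b v := by
      rw [ha', psmul_left hQ]
      conv_lhs => rw [← hsv, iso_pol (hMi hs)]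
      rw [hc, div_mul_cancel₀ _ hav]
    have h5 : pol Q u (b - a') = 0 := by rw [psub_right hQ, hub, hua', sub_zero]
    have h6 := EIn.add hQ hQu hua' h5 hE' (hHE hu hQu h5 (by rw [psub_left hQ, ha'v, sub_self]))
    rwa [add_sub_cancel] at h6
  obtain ⟨s, hs, -, hsH⟩ := hlift r₁ hr₁ hr₁v
  refine ⟨u, huC, _, eCentres_conj hMi hs huC, ?_⟩
  rw [hsH u hu, refl_moves hQ (hQu.trans hQu'.symm) h1 hr₁E, huu']
  exact one_ne_zero

end CfsgLib.Perm.Trans.Quad
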