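import Cfsg.Agent.Lib.Perm.Trans.Symp

/-!
# Maximal subgroups of symplectic groups containing transvections
-/

set_option autoImplicit false
set_option linter.all false

namespace CfsgLib.Perm.Trans.Symp

open scoped Matrix
open Matrix Cfsg.Geo CfsgLib.Perm.Asch CfsgLib.Perm.Trans

variable {ι : Type} [Fintype ι] [DecidableEq ι] {F : Type*} [Field F]
variable {f : (ι → F) → (ι → F) → F} (hf : IsSymplecticForm f)

/-- centres of the transvection groups inside `M` -/
def centres (M : Subgroup (GL ι F)) : Set (ι → F) := {u | ∀ c, stv hf u c ∈ M}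

theorem centres_smul {M : Subgroup (GL ι F)} {u : ι → F} (hu : u ∈ centres hf M) (a : F) : a • u ∈ centres hf M :=
  fun c => by rw [stv_smul]; exact hu _

theorem centres_conj {M : Subgroup (GL ι F)} (hle : M ≤ isoSub f) {g : GL ι F} (hg : g ∈ M) {u : ι → F}
    (hu : u ∈ centres hf M) : (g : Matrix ι ι F) *ᵥ u ∈ centres hf M :=
  fun c => stv_conj_mem hf hle hg (hu c)

theorem centres_line {M : Subgroup (GL ι F)} (hle : M ≤ isoSub f) {a b : ι → F} (ha : a ∈ centres hf M)
    (hb : b ∈ centres hf M) (hab : f a b ≠ 0) (r : F) : a + r • b ∈ centres hf M := by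
  have := centres_conj hf hle (hb (r / f a b)) ha
  rwa [stv_mulVec, div_mul_cancel₀ _ hab] at this

theorem eq_isoSub_of_centres {M : Subgroup (GL ι F)} (hle : M ≤ isoSub f) (h : ∀ u, u ∈ centres hf M) :
    M = isoSub f := eq_isoSub hf hle fun u c => h u c

theorem stv_mem_stab {W : Submodule F (ι → F)} {u : ι → F} (hu : u ∈ W ∨ ∀ w ∈ W, f w u = 0) (c : F) :
    stv hf u c ∈ subspaceStabilizer W :=
  tv_mem_stab _ (hu.imp id fun h w hw => by rw [smul_dotProduct, sv_dot, h w hw, smul_zero])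

theorem isMaximalIn_of_centres {H : Subgroup (GL ι F)} (hproper : ¬ isoSub f ≤ H)
    (h : ∀ M : Subgroup (GL ι F), H ⊓ isoSub f ≤ M → M ≤ isoSub f → ¬ M ≤ H → ∀ u, u ∈ centres hf M) :
    IsMaximalIn (isoSub f) (H ⊓ isoSub f) := by
  refine ⟨lt_of_le_of_ne inf_le_right fun e => hproper (e ▸ inf_le_left), fun M hHM hM => ?_⟩
  by_cases hle : M ≤ H
  · exact Or.inl (le_antisymm (le_inf hle hM) hHM)
  · exact Or.inr (eq_isoSub_of_centres hf hM (h M hHM hM hle))

include hf in
theorem siegel_mulVec {u v : ι → F} (huv : f u v = 0) (z : ι → F) :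
    ((stv hf (u + v) 1 * stv hf u (-1) * stv hf v (-1) : GL ι F) : Matrix ι ι F) *ᵥ z =
      z + f z u • v + f z v • u := by
  rw [gl_mul_mulVec, gl_mul_mulVec, stv_mulVec hf v, stv_mulVec hf u, stv_mulVec hf (u + v)]
  simp only [hf.bilinear.add_left, hf.bilinear.add_right, hf.bilinear.smul_left, hf.alternating, huv,
    swap_zero hf huv, neg_mul, one_mul, mul_zero, add_zero, zero_add, neg_zero]
  module

include hf in
/-- every functional is given by a vector -/
theorem exists_rep (φ : ι → F) : ∃ p, ∀ x, f x p = φ ⬝ᵥ x := by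
  let L : (ι → F) →ₗ[F] Module.Dual F (ι → F) :=
    { toFun := fun a => sfun hf a
      map_add' := fun a b => LinearMap.ext fun z => hf.bilinear.add_right z a b
      map_smul' := fun c a => LinearMap.ext fun z => hf.bilinear.smul_right c z a }
  have hinj : Function.Injective L := by
    refine (injective_iff_map_eq_zero L).2 fun a ha => ?_
    by_contra hne
    obtain ⟨x, hx⟩ := (hf.nondegenerate a hne).1
    exact hx (LinearMap.congr_fun ha x)
  obtain ⟨p, hp⟩ := (LinearMap.injective_iff_surjective_of_finrank_eq_finrank (Subspace.dual_finrank_eq).symm).1 hinj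
    (dotProductBilin F F φ)
  exact ⟨p, fun x => LinearMap.congr_fun hp x⟩

include hf in
/-- stabilisers of totally singular subspaces are maximal -/
theorem singular_subspace_maximal [Finite F] {W : Submodule F (ι → F)} (hW0 : W ≠ ⊥)
    (hW : IsTotallySingularFor f W) : IsMaximalIn (isoSub f) (subspaceStabilizer W ⊓ isoSub f) := by
  obtain ⟨w₀, hw₀, hw₀0⟩ := Submodule.exists_mem_ne_zero_of_ne_bot hW0
  have hWperp : ∀ w ∈ W, w ∈ perp hf W := fun w hw => hW w hw
  refine isMaximalIn_of_centres hf (fun hle => ?_) fun M hHM hM hMW => ?_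
  · obtain ⟨u, hu⟩ := (hf.nondegenerate w₀ hw₀0).2
    have hiff : w₀ ∈ W ↔ (stv hf u 1 : Matrix ι ι F) *ᵥ w₀ ∈ W := hle (stv_iso hf u 1) w₀
    have h1 := hiff.1 hw₀
    rw [stv_mulVec, one_mul, W.add_mem_iff_right hw₀, W.smul_mem_iff hu] at h1
    exact hu (hW w₀ hw₀ u h1)
  have hperp : ∀ u ∈ perp hf W, u ∈ centres hf M := fun u hu c =>
    hHM ⟨stv_mem_stab hf (Or.inr fun w hw => swap_zero hf (hu w hw)) c, stv_iso hf u c⟩
  obtain ⟨g, hgM, hg⟩ := SetLike.not_le_iff_exists.1 hMW
  obtain ⟨w, hw, hgw⟩ := exists_moved_of_not_stab hg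
  obtain ⟨y, hyA, hyW⟩ : ∃ y, y ∈ centres hf M ∧ y ∉ perp hf W := by
    by_contra hcon
    push Not at hcon
    have hmap : ∀ p ∈ perp hf W, (g : Matrix ι ι F) *ᵥ p ∈ perp hf W := fun p hp =>
      hcon _ (centres_conj hf hM hgM (hperp p hp))
    have hgp : g ∈ subspaceStabilizer (perp hf W) := by
      by_contra hn
      obtain ⟨p, hp, hgp⟩ := exists_moved_of_not_stab hn
      exact hgp (hmap p hp)
    -- vectors orthogonal to every orthogonal vector
    have hgw' : ∀ p ∈ perp hf W, f ((g : Matrix ι ι F) *ᵥ w) p = 0 := by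
      intro p hp
      have hp' : ((g⁻¹ : GL ι F) : Matrix ι ι F) *ᵥ p ∈ perp hf W :=
        (((subspaceStabilizer (perp hf W)).inv_mem hgp) p).1 hp
      rw [← gl_mulVec_inv g p, mem_isoSub.1 (hM hgM)]
      exact swap_zero hf (hp' w hw)
    refine hgw ?_
    -- double orthogonal
    by_contra hnot
    obtain ⟨φ, hφ, hφW⟩ := exists_dual W hnot
    obtain ⟨p, hpv⟩ := exists_rep hf φ
    have hpW : p ∈ perp hf W := fun v hv => swap_zero hf (by rw [hpv, hφW v hv])
    have := hgw' p hpW
    rw [hpv, hφ] at this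
    exact one_ne_zero this
  obtain ⟨z₀, hz₀, hyz₀⟩ : ∃ z₀ ∈ W, f y z₀ ≠ 0 := by
    by_contra hcon
    push Not at hcon
    exact hyW hcon
  have hcoset : ∀ z ∈ perp hf W, y + z ∈ centres hf M := by
    intro z hz
    by_cases hyz : f y z = 0
    · have h1 : y + z₀ ∈ centres hf M := by simpa using centres_line hf hM hyA (hperp z₀ (hWperp z₀ hz₀)) hyz₀ 1
      have h2 := centres_line hf hM h1 (hperp (z - z₀) ((perp hf W).sub_mem hz (hWperp z₀ hz₀))) (by
        rw [hf.bilinear.add_left, sub_right hf, sub_right hf, hyz, hf.alternating, swap_zero hf (hz z₀ hz₀)]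
        simpa using hyz₀) 1
      rwa [one_smul, show y + z₀ + (z - z₀) = y + z by abel] at h2
    · simpa using centres_line hf hM hyA (hperp z hz) hyz 1
  intro x
  by_cases hxW : x ∈ perp hf W
  · exact hperp x hxW
  by_cases hdep : ∃ a : F, x - a • y ∈ perp hf W
  · obtain ⟨a, ha⟩ := hdep
    have ha0 : a ≠ 0 := fun h0 => hxW (by simpa [h0] using ha)
    have := centres_smul hf (hcoset _ ((perp hf W).smul_mem a⁻¹ ha)) a
    rwa [smul_add, smul_smul, mul_inv_cancel₀ ha0, one_smul, add_sub_cancel] at this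
  push Not at hdep
  -- a vector of `W` on which `x` and `y` agree
  obtain ⟨v, hv, hyv, hxv⟩ : ∃ v ∈ W, f y v ≠ 0 ∧ f x v = f y v := by
    by_contra hcon
    push Not at hcon
    have hker : ∀ v ∈ W, f x v = f y v → f y v = 0 := fun v hv he => by
      by_contra hne
      exact hcon v hv hne he
    refine hdep (f x z₀ / f y z₀) fun v hv => ?_
    rw [sub_left hf, hf.bilinear.smul_left]
    by_cases he : f x z₀ = f y z₀
    · exact absurd (hker z₀ hz₀ he) hyz₀
    · have h1 := hker (v - ((f x v - f y v) / (f x z₀ - f y z₀)) • z₀) (W.sub_mem hv (W.smul_mem _ hz₀)) (by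
        rw [sub_right hf, sub_right hf, hf.bilinear.smul_right, hf.bilinear.smul_right]
        field_simp [sub_ne_zero.2 he]
        ring)
      rw [sub_right hf, hf.bilinear.smul_right] at h1
      have he' := sub_ne_zero.2 he
      field_simp at h1 ⊢
      linear_combination -h1
  let u : ι → F := (f y v)⁻¹ • (x - y)
  have huv : f u v = 0 := by
    show f ((f y v)⁻¹ • (x - y)) v = 0
    rw [hf.bilinear.smul_left, sub_left hf, hxv, sub_self, mul_zero]
  have hS : stv hf (u + v) 1 * stv hf u (-1) * stv hf v (-1) ∈ M := by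
    refine hHM ⟨fun z => ?_, mul_mem (mul_mem (stv_iso hf _ _) (stv_iso hf _ _)) (stv_iso hf _ _)⟩
    show z ∈ W ↔ ((stv hf (u + v) 1 * stv hf u (-1) * stv hf v (-1) : GL ι F) : Matrix ι ι F) *ᵥ z ∈ W
    rw [siegel_mulVec hf huv]
    constructor
    · intro hz
      rw [hW z hz v hv, zero_smul, add_zero]
      exact W.add_mem hz (W.smul_mem _ hv)
    · intro hz
      have hzv : f z v = 0 := by
        have h1 := hW _ hz v hv
        simpa [hf.bilinear.add_left, hf.bilinear.smul_left, hf.alternating, huv] using h1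
      rw [hzv, zero_smul, add_zero] at hz
      simpa using W.sub_mem hz (W.smul_mem (f z u) hv)
  have himg := centres_conj hf hM hS hyA
  have heq : ((stv hf (u + v) 1 * stv hf u (-1) * stv hf v (-1) : GL ι F) : Matrix ι ι F) *ᵥ y =
      x + f y u • v := by
    rw [siegel_mulVec hf huv]
    show y + f y u • v + f y v • u = x + f y u • v
    have hu : f y v • u = x - y := by
      show f y v • (f y v)⁻¹ • (x - y) = _
      rw [smul_smul, mul_inv_cancel₀ hyv, one_smul]
    rw [hu]
    abel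
  rw [heq] at himg
  -- move inside the coset
  set x' := x + f y u • v
  have hx'v : f x' v ≠ 0 := by
    show f (x + f y u • v) v ≠ 0
    rw [hf.bilinear.add_left, hf.bilinear.smul_left, hf.alternating, mul_zero, add_zero, hxv]
    exact hyv
  have := centres_line hf hM himg (hperp v (hWperp v hv)) hx'v (-f y u)
  rwa [show x' + -f y u • v = x by show x + f y u • v + -f y u • v = x; rw [neg_smul]; abel] at this

include hf in
/-- stabilisers of nondegenerate subspaces of dimension less than half are maximal -/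
theorem nondeg_subspace_maximal [Finite F] {W : Submodule F (ι → F)} (hW0 : W ≠ ⊥)
    (hW : IsNondegenerateOn f W) (hdim : 2 * Module.finrank F W < Fintype.card ι) :
    IsMaximalIn (isoSub f) (subspaceStabilizer W ⊓ isoSub f) := by
  have hP := isNondegenerateOn_perp hf hW
  have hsum := finrank_add_perp hf hW
  refine isMaximalIn_of_centres hf (fun hle => ?_) fun M hHM hM hMW => ?_
  · obtain ⟨a, ha, ha0⟩ := Submodule.exists_mem_ne_zero_of_ne_bot hW0
    obtain ⟨a', ha', haa'⟩ := (hW a ha ha0).2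
    obtain ⟨b, hb, hb0⟩ := Submodule.exists_mem_ne_zero_of_ne_bot (p := perp hf W) (fun h0 => by
      rw [h0, finrank_bot] at hsum; omega)
    have hiff : a ∈ W ↔ (stv hf (a' + b) 1 : Matrix ι ι F) *ᵥ a ∈ W := hle (stv_iso hf _ 1) a
    have h1 := hiff.1 ha
    rw [stv_mulVec, one_mul, hf.bilinear.add_right, swap_zero hf (hb a ha), add_zero, W.add_mem_iff_right ha,
      W.smul_mem_iff haa', W.add_mem_iff_right ha'] at h1
    exact hb0 (disjoint_perp hf hW h1 hb)
  have hWc : ∀ u ∈ W, u ∈ centres hf M := fun u hu c => hHM ⟨stv_mem_stab hf (Or.inl hu) c, stv_iso hf u c⟩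
  have hPc : ∀ u ∈ perp hf W, u ∈ centres hf M := fun u hu c =>
    hHM ⟨stv_mem_stab hf (Or.inr fun w hw => swap_zero hf (hu w hw)) c, stv_iso hf u c⟩
  obtain ⟨g, hgM, hg⟩ := SetLike.not_le_iff_exists.1 hMW
  obtain ⟨w, hw, hgw⟩ := exists_moved_of_not_stab hg
  let e : (ι → F) ≃ₗ[F] (ι → F) := LinearEquiv.ofBijective (Matrix.toLin' (g : Matrix ι ι F))
    ⟨fun a b hab => by
        have := congrArg (fun x => ((g⁻¹ : GL ι F) : Matrix ι ι F) *ᵥ x) hab
        simpa only [Matrix.toLin'_apply, gl_inv_mulVec] using this,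
      fun a => ⟨_, by rw [Matrix.toLin'_apply]; exact gl_mulVec_inv g a⟩⟩
  have he : ∀ x, e x = (g : Matrix ι ι F) *ᵥ x := fun x => Matrix.toLin'_apply _ x
  -- a centre outside both subspaces
  obtain ⟨x, hxA, hxW, hxP⟩ : ∃ x, x ∈ centres hf M ∧ x ∉ W ∧ x ∉ perp hf W := by
    by_contra hcon
    push Not at hcon
    have hsub : ∀ y ∈ (perp hf W).map (e : (ι → F) →ₗ[F] (ι → F)), y ∈ W ∨ y ∈ perp hf W := by
      rintro y ⟨p, hp, rfl⟩
      by_contra hn
      push Not at hn
      refine hn.2 (hcon _ ?_ hn.1)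
      simpa only [LinearEquiv.coe_coe, he] using centres_conj hf hM hgM (hPc p hp)
    have hdimP : Module.finrank F ((perp hf W).map (e : (ι → F) →ₗ[F] (ι → F))) = Module.finrank F (perp hf W) :=
      LinearEquiv.finrank_map_eq e _
    by_cases h1 : (perp hf W).map (e : (ι → F) →ₗ[F] (ι → F)) ≤ W
    · have := Submodule.finrank_mono h1
      omega
    obtain ⟨y₁, hy₁, hy₁W⟩ := SetLike.not_le_iff_exists.1 h1
    have h2 : (perp hf W).map (e : (ι → F) →ₗ[F] (ι → F)) ≤ perp hf W := by
      intro y hy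
      rcases hsub y hy with hyW | hyP
      · rcases hsub (y + y₁) (Submodule.add_mem _ hy hy₁) with h3 | h3
        · exact absurd ((W.add_mem_iff_right hyW).1 h3) hy₁W
        · exact ((perp hf W).add_mem_iff_left ((hsub y₁ hy₁).resolve_left hy₁W)).1 h3
      · exact hyP
    refine hgw (perp_perp hf hW fun p hp => ?_)
    obtain ⟨q, hq, rfl⟩ : p ∈ (perp hf W).map (e : (ι → F) →ₗ[F] (ι → F)) :=
      (Submodule.eq_of_le_of_finrank_eq h2 hdimP).symm ▸ hp
    rw [LinearEquiv.coe_coe, he, mem_isoSub.1 (hM hgM)]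
    exact swap_zero hf (hq w hw)
  obtain ⟨a, ha, hb⟩ := exists_decomp hf hW x
  have ha0 : a ≠ 0 := fun h0 => hxP (by rw [h0, sub_zero] at hb; exact hb)
  have hb0 : x - a ≠ 0 := fun h0 => hxW (by rw [sub_eq_zero.1 h0]; exact ha)
  intro y
  obtain ⟨a', ha', hb'⟩ := exists_decomp hf hW y
  by_cases ha'0 : a' = 0
  · rw [ha'0, sub_zero] at hb'
    exact hPc y hb'
  by_cases hb'0 : y - a' = 0
  · rw [sub_eq_zero.1 hb'0]
    exact hWc a' ha'
  obtain ⟨t, ⟨ht, htW⟩, hta⟩ := move_vec hf (fun u hu c => hWc u hu c) hW ha ha' ha0 ha'0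
  obtain ⟨s, ⟨hs, hsP⟩, hsb⟩ := move_vec hf (fun u hu c => hPc u hu c) hP hb hb' hb0 hb'0
  have htb : (t : Matrix ι ι F) *ᵥ (x - a) = x - a := htW.2 _ hb
  have hsa : (s : Matrix ι ι F) *ᵥ a' = a' :=
    hsP.2 _ fun p hp => swap_zero hf (hp a' ha')
  have h1 := centres_conj hf hM (M.mul_mem hs ht) hxA
  rw [show x = a + (x - a) by abel, gl_mul_mulVec, mulVec_add, hta, htb, mulVec_add, hsa, hsb,
    add_sub_cancel] at h1
  exact h1

end CfsgLib.Perm.Trans.Symp
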