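import Cfsg.Agent.Lib.Perm.Trans.QuadMax
import Cfsg.Agent.Lib.Perm.Trans.QuadNondegCases
import Cfsg.Agent.Lib.Perm.Trans.QuadPoint
import Cfsg.Agent.Lib.Perm.Trans.QuadDecompMax
import Cfsg.Agent.Lib.Perm.Trans.QuadPlaneMax
import Cfsg.Agent.Lib.Perm.Trans.QuadOverData
import Cfsg.Agent.Lib.Perm.Trans.OrthExt.Max
import Cfsg.Agent.Lib.Perm.Trans.TensorSO.Basic

/-!
# Geometric maximal subgroups of ten-dimensional orthogonal groups: the clauses common to both types
-/

set_option autoImplicit false
set_option linter.all false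

namespace CfsgLib.Perm.Trans.GeomOmegaTen

open Cfsg Cfsg.Geo CfsgLib.Perm.Trans CfsgLib.Perm.Trans.Quad

variable {F : Type*} [Field F] [Fintype F] {Q : (Fin 10 → F) → F}

theorem char_two (h : ¬ Odd (Fintype.card F)) : (2 : F) = 0 := by
  by_contra h2
  exact h (Nat.odd_iff.2 (FiniteField.odd_card_of_char_ne_two (F := F) fun hc => h2 (by
    haveI := ringChar.of_eq hc; exact CharTwo.two_eq_zero)))

variable (hQ : IsNondegenerateQuadraticForm Q)
include hQ

/-- totally singular subspaces with no room for a larger gap -/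
theorem singular_maximal {W : Submodule F (Fin 10 → F)} (hW0 : W ≠ ⊥) (hW : IsTotallySingularQuad Q W)
    (h4 : Module.finrank F W = 4 → ¬ IsPlusTypeOn Q ⊤) :
    IsMaximalIn (omegaGL Q) (subspaceStabilizer W ⊓ omegaGL Q) := by
  refine singular_subspace_maximal hQ (by simp) hW0 hW fun z hz hzW hQz => ?_
  obtain ⟨hT, h1, h2⟩ := singular_extend hQ hW hz hzW hQz
  simp only [Fintype.card_fin] at h2 ⊢
  by_contra hcon
  refine h4 (by omega) ⟨_, le_top, hT, ?_⟩
  rw [finrank_top, Module.finrank_fin_fun]
  omega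

/-- non-degenerate subspaces of dimension other than five -/
theorem nd_maximal {W : Submodule F (Fin 10 → F)} (h0 : 0 < Module.finrank F W) (h10 : Module.finrank F W < 10)
    (h5 : Module.finrank F W ≠ 5) (hW : IsNondegenerateOn (QuadraticMap.polar Q) W)
    (h2 : Module.finrank F W = 2 → IsPlusTypeOn Q W → 4 ≤ Fintype.card F)
    (h8 : Module.finrank F W ≠ 8) :
    IsMaximalIn (omegaGL Q) (subspaceStabilizer W ⊓ omegaGL Q) := by
  refine nd_subspace_maximal' hQ (by simp) (fun h => ?_) (fun h => ?_) hW (fun h => ?_) fun U hU hd hUp => ?_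
  · rw [h, finrank_bot] at h0; omega
  · rw [h, finrank_top, Module.finrank_fin_fun] at h10; omega
  · exfalso
    rw [Fintype.card_fin] at h
    omega
  · rcases hU with rfl | rfl
    · exact h2 hd hUp
    · exfalso
      have := finrank_qperp_add hQ W
      rw [Fintype.card_fin] at this
      omega

/-- the odd-dimensional case -/
theorem odd_nd_maximal {W : Submodule F (Fin 10 → F)} (hW0 : W ≠ ⊥) (hW1 : W ≠ ⊤) (ho : Odd (Module.finrank F W))
    (h5 : 2 * Module.finrank F W ≠ 10) (hW : IsNondegenerateOn (QuadraticMap.polar Q) W) :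
    IsMaximalIn (omegaGL Q) (subspaceStabilizer W ⊓ omegaGL Q) := by
  obtain ⟨j, hj⟩ := ho
  refine nd_maximal hQ (by omega) ?_ (by omega) hW (fun h => by omega) (by omega)
  refine lt_of_le_of_ne ((Submodule.finrank_le W).trans_eq (Module.finrank_fin_fun F)) fun h => hW1 ?_
  exact Submodule.eq_top_of_finrank_eq (by rw [h, Module.finrank_fin_fun])

/-- nonsingular points, even characteristic -/
theorem nonsingular_point_maximal (hev : ¬ Odd (Fintype.card F)) {v : Fin 10 → F} (hv : Q v ≠ 0) :
    IsMaximalIn (omegaGL Q) (subspaceStabilizer (Submodule.span F {v}) ⊓ omegaGL Q) :=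
  point_maximal hQ (by simp) (char_two hev) hv

/-- five singular planes give a totally singular five-space -/
theorem plus_of_planes {D : Fin 5 → Submodule F (Fin 10 → F)} (hD : IsOrthogonalMDecomposition Q 2 D)
    {i : Fin 5} (hi : ∃ e ∈ D i, e ≠ 0 ∧ Q e = 0) : IsPlusTypeOn Q ⊤ := by
  classical
  have hd := hD.decomp
  choose e he he0 hQe using fun j => (type_iff hD i j).1 hi
  have hort : ∀ j k, j ≠ k → QuadraticMap.polar Q (e j) (e k) = 0 := fun j k h =>
    hd.orthogonal j k h _ (he j) _ (he k)
  have hli : LinearIndependent F e := by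
    rw [Fintype.linearIndependent_iff]
    intro c hc j
    have h1 := congrArg (qcomp hQ hd j) hc
    rw [qcomp_sum, Finset.sum_eq_single j, qcomp_smul, qcomp_self hQ hd (he j), qcomp_zero, smul_eq_zero] at h1
    · exact h1.resolve_right (he0 j)
    · intro k _ hk
      rw [qcomp_smul, qcomp_other hQ hd hk (he k), smul_zero]
    · simp
  refine ⟨Submodule.span F (Set.range e), le_top, fun x hx => ?_, ?_⟩
  · obtain ⟨c, rfl⟩ := (Submodule.mem_span_range_iff_exists_fun F).1 hx
    suffices h : ∀ s : Finset (Fin 5), Q (∑ j ∈ s, c j • e j) = 0 from h _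
    intro s
    induction s using Finset.induction_on with
    | empty => rw [Finset.sum_empty]; exact qzero hQ
    | @insert j s hj ih =>
      have hp : ∀ u : Finset (Fin 5), j ∉ u → QuadraticMap.polar Q (e j) (∑ k ∈ u, c k • e k) = 0 := fun u => by
        induction u using Finset.induction_on with
        | empty => intro _; rw [Finset.sum_empty]; exact pzero_right hQ _
        | @insert k u hk ihu =>
          intro h
          rw [Finset.mem_insert, not_or] at h
          rw [Finset.sum_insert hk, padd_right hQ, psmul_right hQ, hort j k h.1, ihu h.2, mul_zero, add_zero]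
      rw [Finset.sum_insert hj, qadd hQ, qsmul hQ, hQe, ih, psmul_left hQ, hp s hj]
      ring
  · rw [finrank_span_eq_card hli, finrank_top, Module.finrank_fin_fun, Fintype.card_fin]

/-- five planes -/
theorem plane_maximal (hq3 : Fintype.card F ≠ 3) (hq : IsPlusTypeOn Q ⊤ → 7 ≤ Fintype.card F)
    {D : Fin 5 → Submodule F (Fin 10 → F)} (hD : IsOrthogonalMDecomposition Q 2 D) :
    IsMaximalIn (omegaGL Q) (decompositionStabilizer D ⊓ omegaGL Q) :=
  plane_decomp_maximal hQ hD (fun i => ⟨hq3, fun h => hq (plus_of_planes hQ hD h)⟩) (by norm_num) (by simp)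

/-- two isometric halves -/
theorem halves_maximal {D : Fin 2 → Submodule F (Fin 10 → F)} (hD : IsOrthogonalMDecomposition Q 5 D) :
    IsMaximalIn (omegaGL Q) (decompositionStabilizer D ⊓ omegaGL Q) :=
  orth_decomp_maximal hQ hD (by simp) (by norm_num) (fun h => absurd h (by norm_num))
    (fun _ h => absurd h (by norm_num))

/-- two non-isometric halves -/
theorem halves_ni_maximal {D : Fin 2 → Submodule F (Fin 10 → F)}
    (hD : IsNondegenerateMDecomposition (QuadraticMap.polar Q) 5 D) (hni : ¬ AreIsometricFor Q (D 0) (D 1)) :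
    IsMaximalIn (omegaGL Q) (decompositionStabilizer D ⊓ omegaGL Q) :=
  nd_pair_decomp_maximal hQ (by simp) (by simp) (by norm_num) hD hni

/-- self-adjoint quadratic overfields -/
theorem selfadjoint_maximal (hodd : Odd (Fintype.card F)) {K : Subalgebra F (Matrix (Fin 10) (Fin 10) F)}
    (hK : IsFieldSubalgebra 2 K) (hsa : IsSelfAdjointFor (QuadraticMap.polar Q) K) :
    IsMaximalIn (omegaGL Q) (subalgebraNormalizer K ⊓ omegaGL Q) :=
  OrthExt.extField_maximal hQ (CfsgLib.Perm.Asch.two_ne_zero_of_odd hodd) Nat.prime_two hK hsa (by simp) (by simp)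

/-- unitary overfields -/
theorem unitary_maximal {K : Subalgebra F (Matrix (Fin 10) (Fin 10) F)} (hK : IsFieldSubalgebra 2 K)
    (hac : IsAdjointClosedFor (QuadraticMap.polar Q) K) (hnsa : ¬ IsSelfAdjointFor (QuadraticMap.polar Q) K)
    (hsc : ∀ k ∈ K, ∃ c : F, ∀ v, Q (Matrix.mulVec k v) = c * Q v) :
    IsMaximalIn (omegaGL Q) (subalgebraNormalizer K ⊓ omegaGL Q) :=
  Over.overfield_maximal hQ (by simp) hK hac hnsa hsc

end CfsgLib.Perm.Trans.GeomOmegaTen
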