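import Cfsg.Agent.Lib.Perm.Trans.SL
import Cfsg.Agent.Lib.Descent.Hilbert90

/-!
# Hermitian forms given as functions
-/

set_option autoImplicit false
set_option linter.all false

namespace CfsgLib.Perm.Trans

open scoped Matrix
open Matrix Cfsg.Geo CfsgLib.Perm.Asch

variable {ι : Type} [Fintype ι] [DecidableEq ι] {F : Type*} [Field F] [Fintype F]
variable {σ : F ≃+* F} {f : (ι → F) → (ι → F) → F}

section Basic

variable (hf : IsUnitaryForm σ f)
include hf

theorem herm_zero_left (v : ι → F) : f 0 v = 0 := by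
  have := hf.smul_left 0 0 v
  simpa using this

theorem herm_zero_right (v : ι → F) : f v 0 = 0 := by rw [hf.herm, herm_zero_left hf, map_zero]

theorem herm_add_right (v x y : ι → F) : f v (x + y) = f v x + f v y := by
  rw [hf.herm v (x + y), hf.add_left, map_add, ← hf.herm, ← hf.herm]

theorem herm_smul_right (c : F) (v x : ι → F) : f v (c • x) = σ c * f v x := by
  rw [hf.herm v (c • x), hf.smul_left, map_mul, ← hf.herm]

theorem herm_neg_left (v w : ι → F) : f (-v) w = - f v w := by
  rw [← neg_one_smul F v, hf.smul_left, neg_one_mul]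

theorem herm_neg_right (v w : ι → F) : f v (-w) = - f v w := by
  rw [← neg_one_smul F w, herm_smul_right hf, map_neg, map_one, neg_one_mul]

theorem herm_sub_left (x y v : ι → F) : f (x - y) v = f x v - f y v := by
  rw [sub_eq_add_neg, hf.add_left, herm_neg_left hf, sub_eq_add_neg]

theorem herm_sub_right (v x y : ι → F) : f v (x - y) = f v x - f v y := by
  rw [sub_eq_add_neg, herm_add_right hf, herm_neg_right hf, sub_eq_add_neg]

theorem herm_swap_zero {v w : ι → F} (h : f v w = 0) : f w v = 0 := by rw [hf.herm, h, map_zero]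

theorem exists_not_fixed : ∃ a : F, σ a ≠ a := by
  by_contra hcon
  push Not at hcon
  exact hf.ne_refl (RingEquiv.ext hcon)

theorem exists_trace_zero : ∃ c : F, c ≠ 0 ∧ σ c = -c := by
  obtain ⟨a, ha⟩ := exists_not_fixed hf
  exact ⟨a - σ a, sub_ne_zero.2 (Ne.symm ha), by rw [map_sub, hf.involutive, neg_sub]⟩

theorem exists_trace_ne_zero : ∃ a : F, a + σ a ≠ 0 := by
  by_contra hcon
  push Not at hcon
  obtain ⟨a, ha⟩ := exists_not_fixed hf
  have h1 := hcon 1
  rw [map_one] at h1
  exact ha (by linear_combination hcon a - a * h1)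

theorem exists_trace {d : F} (hd : σ d = d) : ∃ x : F, x + σ x = d := by
  obtain ⟨y, hy⟩ := exists_trace_ne_zero hf
  refine ⟨d * y / (y + σ y), ?_⟩
  rw [map_div₀, map_mul, hd, map_add, hf.involutive, add_comm (σ y) y, ← add_div, ← mul_add, mul_div_assoc,
    div_self hy, mul_one]

theorem exists_norm {d : F} (hd : σ d = d) : ∃ x : F, x * σ x = d := by
  rcases eq_or_ne d 0 with rfl | hd0
  · exact ⟨0, zero_mul _⟩
  have hord : orderOf (σ : RingAut F) = 2 := by
    refine orderOf_eq_prime (RingEquiv.ext fun x => ?_) fun h1 => hf.ne_refl h1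
    rw [pow_two]
    exact hf.involutive x
  obtain ⟨x, -, hx⟩ := CfsgLib.Descent.exists_norm_eq hord two_pos hd0 hd
  rw [Finset.prod_range_succ, Finset.prod_range_one, pow_zero, pow_one] at hx
  exact ⟨x, hx⟩

theorem mem_of_fixed_of_two {A : AddSubgroup F} {d : F} (hd : σ d ≠ d) (h1 : ∀ r, σ r = r → r ∈ A)
    (h2 : ∀ r, σ r = r → r * d ∈ A) (x : F) : x ∈ A := by
  have hd1 : d - σ d ≠ 0 := sub_ne_zero.2 (Ne.symm hd)
  have hs : σ ((x - σ x) / (d - σ d)) = (x - σ x) / (d - σ d) := by
    rw [map_div₀, map_sub, map_sub, hf.involutive, hf.involutive, ← neg_sub x, ← neg_sub d, neg_div_neg_eq]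
  have hr : σ (x - (x - σ x) / (d - σ d) * d) = x - (x - σ x) / (d - σ d) * d := by
    rw [map_sub, map_mul, hs, sub_eq_sub_iff_sub_eq_sub]
    field_simp
    ring
  have := A.add_mem (h1 _ hr) (h2 _ hs)
  rwa [sub_add_cancel] at this

/-- `x ↦ f x u` -/
def hFun (u : ι → F) : (ι → F) →ₗ[F] F where
  toFun x := f x u
  map_add' x y := hf.add_left x y u
  map_smul' c x := hf.smul_left c x u

/-- the vector of `x ↦ f x u` -/
def hv (u : ι → F) : ι → F := fvec (hFun hf u)

theorem hv_dot (u x : ι → F) : hv hf u ⬝ᵥ x = f x u := fvec_dot (hFun hf u) x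

theorem dot_ext {φ ψ : ι → F} (h : ∀ x : ι → F, φ ⬝ᵥ x = ψ ⬝ᵥ x) : φ = ψ := funext fun i => by
  simpa [dotProduct_single] using h (Pi.single i 1)

theorem eq_of_herm {a b : ι → F} (h : ∀ x, f x a = f x b) : a = b := by
  by_contra hne
  obtain ⟨x, hx⟩ := (hf.nondegenerate (a - b) (sub_ne_zero.2 hne)).1
  exact hx (by rw [herm_sub_right hf, h, sub_self])

theorem hv_surjective : Function.Surjective (hv hf) :=
  Finite.injective_iff_surjective.1 fun a b hab => eq_of_herm hf fun x => by
    rw [← hv_dot hf, ← hv_dot hf, hab]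

theorem hv_add (a b : ι → F) : hv hf (a + b) = hv hf a + hv hf b :=
  funext fun i => herm_add_right hf _ a b

theorem hv_smul (c : F) (a : ι → F) : hv hf (c • a) = σ c • hv hf a :=
  funext fun i => herm_smul_right hf c _ a

/-- an isotropic vector in a subspace of dimension at least two -/
theorem exists_isotropic {W : Submodule F (ι → F)} (hW : 2 ≤ Module.finrank F W) :
    ∃ z ∈ W, z ≠ 0 ∧ f z z = 0 := by
  obtain ⟨x, hx, hx0⟩ := Submodule.exists_mem_ne_zero_of_ne_bot (p := W) (fun h => by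
    rw [h, finrank_bot] at hW; omega)
  by_cases hxx : f x x = 0
  · exact ⟨x, hx, hx0, hxx⟩
  obtain ⟨y, hy, hy0, hyx⟩ : ∃ y ∈ W, y ≠ 0 ∧ f y x = 0 := by
    obtain ⟨y, hy, hy0⟩ := Submodule.exists_mem_ne_zero_of_ne_bot
      (p := LinearMap.ker ((hFun hf x).comp W.subtype)) (fun h => by
        have h1 := LinearMap.finrank_range_add_finrank_ker ((hFun hf x).comp W.subtype)
        have h2 : Module.finrank F (LinearMap.range ((hFun hf x).comp W.subtype)) ≤ 1 :=
          (Submodule.finrank_le _).trans (by rw [Module.finrank_self])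
        rw [h, finrank_bot] at h1
        omega)
    exact ⟨y, y.2, fun h0 => hy0 (Subtype.ext h0), LinearMap.mem_ker.1 hy⟩
  by_cases hyy : f y y = 0
  · exact ⟨y, hy, hy0, hyy⟩
  obtain ⟨a, ha⟩ := exists_norm hf (d := -(f x x) / f y y) (by
    rw [map_div₀, map_neg, ← hf.herm, ← hf.herm])
  refine ⟨x + a • y, W.add_mem hx (W.smul_mem a hy), fun h0 => hxx ?_, ?_⟩
  · rw [show x = -(a • y) from eq_neg_of_add_eq_zero_left h0]
    rw [herm_neg_left hf, hf.smul_left, herm_neg_right hf, herm_smul_right hf]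
    have h3 : f y x = 0 := hyx
    rw [show x = -(a • y) from eq_neg_of_add_eq_zero_left h0, herm_neg_right hf, herm_smul_right hf,
      neg_eq_zero] at h3
    rw [h3]
    ring
  · rw [hf.add_left, herm_add_right hf, herm_add_right hf, hf.smul_left, hf.smul_left, herm_smul_right hf,
      herm_smul_right hf, hyx, herm_swap_zero hf hyx, mul_zero, mul_zero, add_zero, zero_add]
    field_simp at ha
    linear_combination ha

/-- the vectors orthogonal to `u` -/
def perpOf (u : ι → F) : Submodule F (ι → F) := LinearMap.ker (hFun hf u)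

theorem mem_perpOf {u x : ι → F} : x ∈ perpOf hf u ↔ f x u = 0 := Iff.rfl

theorem finrank_inf_ker (W : Submodule F (ι → F)) (L : (ι → F) →ₗ[F] F) :
    Module.finrank F W ≤ Module.finrank F ↥(W ⊓ LinearMap.ker L) + 1 := by
  have h1 := LinearMap.finrank_range_add_finrank_ker (L.comp W.subtype)
  have h2 : Module.finrank F (LinearMap.range (L.comp W.subtype)) ≤ 1 :=
    (Submodule.finrank_le _).trans (by rw [Module.finrank_self])
  have h3 : Module.finrank F (LinearMap.ker (L.comp W.subtype)) = Module.finrank F ↥(W ⊓ LinearMap.ker L) := by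
    rw [LinearMap.ker_comp, ← Submodule.map_comap_subtype]
    exact ((Submodule.equivMapOfInjective _ W.injective_subtype _).finrank_eq)
  omega

theorem finrank_inf_perp (W : Submodule F (ι → F)) (u : ι → F) :
    Module.finrank F W ≤ Module.finrank F ↥(W ⊓ perpOf hf u) + 1 := finrank_inf_ker hf W (hFun hf u)

theorem finrank_perp (u : ι → F) : Fintype.card ι ≤ Module.finrank F ↥(perpOf hf u) + 1 := by
  have := finrank_inf_perp hf ⊤ u
  rwa [finrank_top, Module.finrank_fintype_fun_eq_card, top_inf_eq] at this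

/-- a hyperbolic partner inside a subspace -/
theorem exists_partner {X : Submodule F (ι → F)} {e : ι → F} (he : e ∈ X) (hee : f e e = 0) {y : ι → F}
    (hy : y ∈ X) (hey : f e y ≠ 0) : ∃ h ∈ X, f h h = 0 ∧ f e h = 1 ∧ f h e = 1 := by
  obtain ⟨y', hy'⟩ : ∃ y', y' = σ (f e y)⁻¹ • y := ⟨_, rfl⟩
  have h1 : f e y' = 1 := by
    rw [hy', herm_smul_right hf, hf.involutive, inv_mul_cancel₀ hey]
  have h2 : f y' e = 1 := by rw [hf.herm, h1, map_one]
  obtain ⟨κ, hκ⟩ := exists_trace hf (d := -f y' y') (by rw [map_neg, ← hf.herm])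
  refine ⟨y' + κ • e, X.add_mem (hy' ▸ X.smul_mem _ hy) (X.smul_mem κ he), ?_, ?_, ?_⟩
  · rw [hf.add_left, herm_add_right hf, herm_add_right hf, hf.smul_left, hf.smul_left, herm_smul_right hf,
      herm_smul_right hf, h1, h2, hee]
    linear_combination hκ
  · rw [herm_add_right hf, herm_smul_right hf, h1, hee, mul_zero, add_zero]
  · rw [hf.add_left, hf.smul_left, h2, hee, mul_zero, add_zero]

/-- isotropic vectors not orthogonal to `e` generate a subspace containing a hyperbolic pair -/
theorem subspace_le_of_pair {X S : Submodule F (ι → F)} {e h : ι → F} (heX : e ∈ X) (hee : f e e = 0)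
    (hhX : h ∈ X) (hhh : f h h = 0) (heh : f e h = 1) (heS : e ∈ S)
    (hS : ∀ z ∈ X, f z z = 0 → f e z ≠ 0 → z ∈ S) : X ≤ S := by
  intro x hx
  have hhe : f h e = 1 := by rw [hf.herm, heh, map_one]
  have hhS : h ∈ S := hS h hhX hhh (by rw [heh]; exact one_ne_zero)
  obtain ⟨p, hp⟩ : ∃ p, p = x - f x h • e - f x e • h := ⟨_, rfl⟩
  have hpX : p ∈ X := hp ▸ X.sub_mem (X.sub_mem hx (X.smul_mem _ heX)) (X.smul_mem _ hhX)
  have hpe : f p e = 0 := by
    rw [hp, herm_sub_left hf, herm_sub_left hf, hf.smul_left, hf.smul_left, hee, hhe]; ring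
  have hph : f p h = 0 := by
    rw [hp, herm_sub_left hf, herm_sub_left hf, hf.smul_left, hf.smul_left, hhh, heh]; ring
  obtain ⟨t, ht⟩ := exists_trace hf (d := -f p p) (by rw [map_neg, ← hf.herm])
  have hz : h + t • e + p ∈ S := by
    refine hS _ (X.add_mem (X.add_mem hhX (X.smul_mem t heX)) hpX) ?_ ?_
    · simp only [hf.add_left, herm_add_right hf, hf.smul_left, herm_smul_right hf, hee, hhh, heh, hhe, hpe, hph,
        herm_swap_zero hf hpe, herm_swap_zero hf hph]
      linear_combination ht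
    · rw [herm_add_right hf, herm_add_right hf, heh, herm_smul_right hf, hee, herm_swap_zero hf hpe, mul_zero,
        add_zero, add_zero]
      exact one_ne_zero
  have hpS : p ∈ S := by
    have := S.sub_mem (S.sub_mem hz hhS) (S.smul_mem t heS)
    rwa [show h + t • e + p - h - t • e = p by abel] at this
  have h3 := S.add_mem (S.add_mem hpS (S.smul_mem (f x h) heS)) (S.smul_mem (f x e) hhS)
  rwa [show p + f x h • e + f x e • h = x by rw [hp]; abel] at h3

/-- unitary transvections preserve the form -/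
theorem utv_isometry (u : ι → F) (hu : f u u = 0) {c : F} (hc : σ c = -c) (h : (c • hv hf u) ⬝ᵥ u = 0) (x y : ι → F) :
    f ((tv u (c • hv hf u) h : Matrix ι ι F) *ᵥ x) ((tv u (c • hv hf u) h : Matrix ι ι F) *ᵥ y) = f x y := by
  rw [tv_mulVec, tv_mulVec, smul_dotProduct, smul_dotProduct, hv_dot, hv_dot, smul_eq_mul, smul_eq_mul]
  simp only [hf.add_left, herm_add_right hf, hf.smul_left, herm_smul_right hf, hu, map_mul, hc, ← hf.herm]
  ring

theorem utv_mem_similarity (u : ι → F) (hu : f u u = 0) {c : F} (hc : σ c = -c) (h : (c • hv hf u) ⬝ᵥ u = 0) :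
    tv u (c • hv hf u) h ∈ similarityGroup f :=
  ⟨1, fun x y => by rw [utv_isometry hf u hu hc h x y, Units.val_one, one_mul]⟩

theorem utv_orth {u : ι → F} (hu : f u u = 0) (c : F) : (c • hv hf u) ⬝ᵥ u = 0 := by
  rw [smul_dotProduct, hv_dot, hu, smul_zero]

/-- all unitary transvections and one further transvection at `u` give a full centre -/
theorem fullC_of_utv (hn : 6 ≤ Fintype.card ι) {M : Subgroup (GL ι F)}
    (hM : ∀ (z : ι → F) (hz : f z z = 0) (c : F), σ c = -c → Has M z (c • hv hf z))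
    {u w : ι → F} (hwu : w ∉ Submodule.span F {u}) (hw : Has M u (hv hf w)) : FullC M u := by
  classical
  have hwu0 : f w u = 0 := herm_swap_zero hf (by have := hw.1; rwa [hv_dot] at this)
  obtain ⟨c, hc0, hc⟩ := exists_trace_zero hf
  let A : AddSubgroup (ι → F) :=
    { carrier := {x | Has M u (hv hf x)}
      add_mem' := fun {a b} ha hb => show Has M u (hv hf (a + b)) by
        rw [hv_add]
        exact Has.add_right ha hb
      zero_mem' := show Has M u (hv hf 0) by
        rw [show hv hf (0 : ι → F) = 0 from funext fun i => herm_zero_right hf _]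
        exact has_zero_right u
      neg_mem' := fun {a} ha => show Has M u (hv hf (-a)) by
        rw [show hv hf (-a) = -hv hf a from funext fun i => herm_neg_right hf _ a]
        exact Has.neg ha }
  have hlink : ∀ x ∈ A, ∀ z, f z z = 0 → f z u = 0 → ∀ r, σ r = -r → (r * f x z) • z ∈ A := by
    intro x hx z hz hzu r hr
    obtain ⟨h0, hmem⟩ := hM z hz r hr
    have h1 := Has.conj (show Has M u (hv hf x) from hx) hmem
    have hfix : (tv z (r • hv hf z) h0 : Matrix ι ι F) *ᵥ u = u := by
      rw [tv_mulVec, smul_dotProduct, hv_dot, herm_swap_zero hf hzu, smul_zero, zero_smul, add_zero]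
    rw [hfix] at h1
    have h2 : hv hf x ᵥ* (((tv z (r • hv hf z) h0)⁻¹ : GL ι F) : Matrix ι ι F) =
        hv hf (x + (r * f x z) • z) := dot_ext hf fun y => by
      rw [← dotProduct_mulVec, tv_inv_mulVec, smul_dotProduct, hv_dot, hv_dot, hv_dot, smul_eq_mul, herm_sub_left hf,
        hf.smul_left, herm_add_right hf, herm_smul_right hf, map_mul, hr, ← hf.herm]
      ring
    rw [h2] at h1
    have h3 := A.sub_mem (show x + (r * f x z) • z ∈ A from h1) hx
    rwa [add_sub_cancel_left] at h3
  -- isotropic vectors orthogonal to `u`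
  set X := perpOf hf u with hX
  have hwX : w ∈ X := hwu0
  have hXbig := finrank_perp hf u
  have hrad : ∀ x ∈ X, x ∉ Submodule.span F {u} → ∃ y ∈ X, f x y ≠ 0 := by
    intro x hx hxu
    obtain ⟨χ, hχx, hχu⟩ := exists_dual _ hxu
    obtain ⟨y, rfl⟩ := hv_surjective hf χ
    refine ⟨y, herm_swap_zero hf ?_, by rw [← hv_dot hf y x, hχx]; exact one_ne_zero⟩
    have := hχu u (Submodule.mem_span_singleton_self u)
    rwa [hv_dot] at this
  obtain ⟨X₀, hX₀⟩ := (Submodule.span F {u}).exists_isCompl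
  have hX₀u : ∀ x ∈ X₀, x ∈ Submodule.span F {u} → x = 0 := fun x h1 h2 =>
    (Submodule.mem_bot F).1 (hX₀.disjoint.le_bot ⟨h2, h1⟩)
  have hX₀dim : Fintype.card ι ≤ Module.finrank F X₀ + 1 := by
    have h1 := Submodule.finrank_add_eq_of_isCompl hX₀
    rw [Module.finrank_fintype_fun_eq_card] at h1
    have h2 : Module.finrank F (Submodule.span F ({u} : Set (ι → F))) ≤ 1 :=
      (finrank_span_le_card _).trans (by simp)
    omega
  obtain ⟨z, hz, hzX, hwz⟩ : ∃ z, f z z = 0 ∧ f z u = 0 ∧ f w z ≠ 0 := by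
    by_contra hcon
    push Not at hcon
    obtain ⟨e, he, he0, hee⟩ := exists_isotropic hf (W := X₀ ⊓ X) (by
      have h1 : Module.finrank F X₀ ≤ Module.finrank F ↥(X₀ ⊓ X) + 1 := finrank_inf_perp hf X₀ u
      omega)
    have heu : e ∉ Submodule.span F {u} := fun h => he0 (hX₀u e he.1 h)
    obtain ⟨y, hy, hey⟩ := hrad e he.2 heu
    obtain ⟨h, hhX, hhh, heh, -⟩ := exists_partner hf he.2 hee hy hey
    have hle := subspace_le_of_pair hf (X := X) (S := X ⊓ perpOf hf w) he.2 hee hhX hhh heh
      ⟨he.2, herm_swap_zero hf (hcon e hee he.2)⟩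
      (fun z hzX hz _ => ⟨hzX, herm_swap_zero hf (hcon z hz hzX)⟩)
    obtain ⟨y', hy', hwy'⟩ := hrad w hwX hwu
    exact hwy' (herm_swap_zero hf (hle hy').2)
  obtain ⟨e, he⟩ : ∃ e, e = (c * f w z) • z := ⟨_, rfl⟩
  have hecoef : c * f w z ≠ 0 := mul_ne_zero hc0 hwz
  have heA : e ∈ A := he ▸ hlink w hw z hz hzX c hc
  have heX : f e u = 0 := by rw [he, hf.smul_left, hzX, mul_zero]
  have hee : f e e = 0 := by rw [he, hf.smul_left, herm_smul_right hf, hz, mul_zero, mul_zero]
  have heu : e ∉ Submodule.span F {u} := by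
    intro hm
    obtain ⟨a, ha⟩ := Submodule.mem_span_singleton.1 hm
    have h1 : f w e = 0 := by rw [← ha, herm_smul_right hf, hwu0, mul_zero]
    rw [he, herm_smul_right hf] at h1
    exact hwz ((mul_eq_zero.1 h1).resolve_left (by simpa using hecoef))
  obtain ⟨y, hy, hey⟩ := hrad e heX heu
  obtain ⟨h, hhX, hhh, heh, hhe⟩ := exists_partner hf (X := X) heX hee hy hey
  -- an anisotropic vector orthogonal to the pair
  set Y := X ⊓ perpOf hf e ⊓ perpOf hf h with hY
  obtain ⟨p, hpY, hpp⟩ : ∃ p ∈ Y, f p p ≠ 0 := by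
    by_contra hcon
    push Not at hcon
    obtain ⟨y₁, hy₁, hy₁0⟩ := Submodule.exists_mem_ne_zero_of_ne_bot (p := X₀ ⊓ Y) (fun hb => by
      have h1 : Module.finrank F X₀ ≤ Module.finrank F ↥(X₀ ⊓ X) + 1 := finrank_inf_perp hf X₀ u
      have h2 := finrank_inf_perp hf (X₀ ⊓ X) e
      have h3 := finrank_inf_perp hf (X₀ ⊓ X ⊓ perpOf hf e) h
      rw [show X₀ ⊓ X ⊓ perpOf hf e ⊓ perpOf hf h = X₀ ⊓ Y by rw [hY, inf_assoc, inf_assoc, inf_assoc], hb,
        finrank_bot] at h3
      omega)
    obtain ⟨hy₁₀, hy₁Y⟩ := hy₁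
    have hy₁u : y₁ ∉ Submodule.span F {u} := fun hm => hy₁0 (hX₀u y₁ hy₁₀ hm)
    obtain ⟨⟨hy₁X, hy₁e⟩, hy₁h⟩ := hy₁Y
    obtain ⟨x, hx, hxy⟩ := hrad y₁ hy₁X hy₁u
    obtain ⟨x', hx'⟩ : ∃ x', x' = x - f x h • e - f x e • h := ⟨_, rfl⟩
    have hx'Y : x' ∈ Y := by
      refine ⟨⟨hx' ▸ X.sub_mem (X.sub_mem hx (X.smul_mem _ heX)) (X.smul_mem _ hhX), ?_⟩, ?_⟩
      · show f x' e = 0
        rw [hx', herm_sub_left hf, herm_sub_left hf, hf.smul_left, hf.smul_left, hee, hhe]; ring
      · show f x' h = 0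
        rw [hx', herm_sub_left hf, herm_sub_left hf, hf.smul_left, hf.smul_left, hhh, heh]; ring
    have hyy : ∀ a ∈ Y, ∀ b ∈ Y, f a b = 0 := by
      intro a ha b hb
      by_contra hab
      obtain ⟨d, hd⟩ := exists_trace_ne_zero hf
      have h1 := hcon _ (Y.add_mem (Y.smul_mem (d / f a b) ha) hb)
      rw [hf.add_left, herm_add_right hf, herm_add_right hf, hf.smul_left, hf.smul_left, herm_smul_right hf,
        herm_smul_right hf, hcon a ha, hcon b hb, hf.herm b a, ← map_mul, div_mul_cancel₀ d hab] at h1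
      exact hd (by linear_combination h1)
    refine hxy ?_
    have h1 : f y₁ x' = 0 := hyy y₁ ⟨⟨hy₁X, hy₁e⟩, hy₁h⟩ x' hx'Y
    rw [hx', herm_sub_right hf, herm_sub_right hf, herm_smul_right hf, herm_smul_right hf,
      show f y₁ e = 0 from hy₁e, show f y₁ h = 0 from hy₁h, mul_zero, mul_zero, sub_zero, sub_zero] at h1
    exact h1
  obtain ⟨⟨hpX, hpe⟩, hph⟩ := hpY
  have hpe : f p e = 0 := hpe
  have hph : f p h = 0 := hph
  obtain ⟨t, ht⟩ := exists_trace hf (d := -f p p) (by rw [map_neg, ← hf.herm])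
  have htne : t + σ t ≠ 0 := by rw [ht]; exact neg_ne_zero.2 hpp
  obtain ⟨z₃, hz₃⟩ : ∃ z₃, z₃ = e + t • h + p := ⟨_, rfl⟩
  have hz₃iso : f z₃ z₃ = 0 := by
    simp only [hz₃, hf.add_left, herm_add_right hf, hf.smul_left, herm_smul_right hf, hee, hhh, heh, hhe, hpe, hph,
      herm_swap_zero hf hpe, herm_swap_zero hf hph]
    linear_combination ht
  have hz₃X : f z₃ u = 0 := by
    rw [hz₃, hf.add_left, hf.add_left, hf.smul_left, heX, show f h u = 0 from hhX, show f p u = 0 from hpX]
    ring
  have hz₃h : f z₃ h = 1 := by rw [hz₃, hf.add_left, hf.add_left, hf.smul_left, heh, hhh, hph]; ring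
  have hz₃e : f z₃ e = t := by rw [hz₃, hf.add_left, hf.add_left, hf.smul_left, hee, hhe, hpe]; ring
  have hall : ∀ r : F, r • e ∈ A := by
    intro r
    let B : AddSubgroup F :=
      { carrier := {r | r • e ∈ A}
        add_mem' := fun {a b} ha hb => show (a + b) • e ∈ A by rw [add_smul]; exact A.add_mem ha hb
        zero_mem' := show (0 : F) • e ∈ A by rw [zero_smul]; exact A.zero_mem
        neg_mem' := fun {a} ha => show (-a) • e ∈ A by rw [neg_smul]; exact A.neg_mem ha }
    have hh : c • h ∈ A := by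
      have := hlink e heA h hhh hhX c hc
      rwa [heh, mul_one] at this
    refine mem_of_fixed_of_two hf (A := B) (d := c * t) ?_ (fun s hs => ?_) (fun s hs => ?_) r
    · intro hfix
      rw [map_mul, hc] at hfix
      exact htne ((mul_eq_zero.1 (by linear_combination -hfix : c * (t + σ t) = 0)).resolve_left hc0)
    · have hs' : σ (s / c) = -(s / c) := by rw [map_div₀, hs, hc, div_neg]
      have := hlink _ hh e hee heX (s / c) hs'
      rwa [hf.smul_left, hhe, mul_one, div_mul_cancel₀ _ hc0] at this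
    · have h1 := hlink _ hh z₃ hz₃iso hz₃X c hc
      rw [hf.smul_left, hf.herm h z₃, hz₃h, map_one, mul_one] at h1
      have hs' : σ (s / c) = -(s / c) := by rw [map_div₀, hs, hc, div_neg]
      have h2 := hlink _ h1 e hee heX (s / c) hs'
      rw [hf.smul_left, hz₃e] at h2
      show (s * (c * t)) • e ∈ A
      convert h2 using 2
      field_simp
  -- the full set
  let S : Submodule F (ι → F) :=
    { carrier := {x | ∀ r : F, r • x ∈ A}
      add_mem' := fun {a b} ha hb r => by rw [smul_add]; exact A.add_mem (ha r) (hb r)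
      zero_mem' := fun r => by rw [smul_zero]; exact A.zero_mem
      smul_mem' := fun s a ha r => by rw [smul_smul]; exact ha (r * s) }
  have hle : X ≤ S := by
    refine subspace_le_of_pair hf heX hee hhX hhh heh hall fun z hzX hz hez r => ?_
    have := hlink _ (hall (r / (c * f e z))) z hz hzX c hc
    rw [hf.smul_left] at this
    convert this using 2
    field_simp
  intro φ hφ
  obtain ⟨x, rfl⟩ := hv_surjective hf φ
  rw [hv_dot] at hφ
  have := hle (show x ∈ X from herm_swap_zero hf hφ) 1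
  rwa [one_smul] at this

/-- a group with all unitary transvections and a full centre has all centres full -/
theorem fullSub_eq_top_of_utv (hn : 3 ≤ Fintype.card ι) {M : Subgroup (GL ι F)}
    (hM : ∀ (z : ι → F) (hz : f z z = 0) (c : F), σ c = -c → Has M z (c • hv hf z))
    {u : ι → F} (hu0 : u ≠ 0) (hu : FullC M u) : fullSub M = ⊤ := by
  obtain ⟨c, hc0, hc⟩ := exists_trace_zero hf
  have hmove : ∀ a ∈ fullSub M, ∀ z, f z z = 0 → f a z ≠ 0 → z ∈ fullSub M := by
    intro a ha z hz haz
    obtain ⟨h0, hmem⟩ := hM z hz c hc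
    have h1 := fullSub_inv hmem ha
    rw [tv_mulVec, smul_dotProduct, hv_dot, smul_eq_mul] at h1
    have h2 := (fullSub M).sub_mem h1 ha
    rw [add_sub_cancel_left] at h2
    exact ((fullSub M).smul_mem_iff (mul_ne_zero hc0 haz)).1 h2
  obtain ⟨e, -, he0, hee⟩ := exists_isotropic hf (W := (⊤ : Submodule F (ι → F))) (by
    rw [finrank_top, Module.finrank_fintype_fun_eq_card]; omega)
  obtain ⟨y, hy⟩ := (hf.nondegenerate e he0).2
  obtain ⟨h, -, hhh, heh, -⟩ := exists_partner hf (X := ⊤) Submodule.mem_top hee (y := y) Submodule.mem_top hy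
  -- an isotropic vector not orthogonal to `u`
  obtain ⟨z, hz, huz⟩ : ∃ z, f z z = 0 ∧ f u z ≠ 0 := by
    by_contra hcon
    push Not at hcon
    have hle := subspace_le_of_pair hf (X := ⊤) (S := perpOf hf u) Submodule.mem_top hee Submodule.mem_top hhh heh
      (herm_swap_zero hf (hcon e hee)) (fun z _ hz _ => herm_swap_zero hf (hcon z hz))
    obtain ⟨x, hx⟩ := (hf.nondegenerate u hu0).1
    exact hx (hle (Submodule.mem_top : x ∈ ⊤))
  have hzF := hmove u hu z hz huz
  obtain ⟨y', hy'⟩ := (hf.nondegenerate z (fun h0 => huz (by rw [h0, herm_zero_right hf]))).2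
  obtain ⟨h', -, hhh', hzh', -⟩ := exists_partner hf (X := ⊤) Submodule.mem_top hz (y := y') Submodule.mem_top hy'
  exact top_le_iff.1 (subspace_le_of_pair hf Submodule.mem_top hz Submodule.mem_top hhh' hzh' hzF
    fun z' _ hz' hne => hmove z hzF z' hz' hne)

end Basic

/-- similarity groups of hermitian forms are maximal in the special linear group -/
theorem unitary_similarity_maximal {n : ℕ} {σ : F ≃+* F} {f : (Fin n → F) → (Fin n → F) → F}
    (hf : IsUnitaryForm σ f) (hn : 6 ≤ n) :
    IsMaximalIn (specialLinear (Fin n) F) (similarityGroup f ⊓ specialLinear (Fin n) F) := by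
  classical
  refine ⟨lt_SL_of_not_le (not_le_similarityGroup (by omega) hf.add_left hf.smul_left hf.nondegenerate),
    fun M hHM hMSL => ?_⟩
  by_cases hMf : M ≤ similarityGroup f
  · exact Or.inl (le_antisymm (le_inf hMf hMSL) hHM)
  refine Or.inr (eq_SL_of_fullSub hMSL ?_)
  have hM : ∀ (z : Fin n → F) (hz : f z z = 0) (c : F), σ c = -c → Has M z (c • hv hf z) := fun z hz c hc =>
    ⟨utv_orth hf hz c, hHM ⟨utv_mem_similarity hf z hz hc _, tv_mem_SL _ _ _⟩⟩
  obtain ⟨c₀, hc₀, hc₀σ⟩ := exists_trace_zero hf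
  obtain ⟨g, hgM, hg⟩ := SetLike.not_le_iff_exists.1 hMf
  obtain ⟨u, w, hu0, hwu, hw⟩ : ∃ u w, u ≠ 0 ∧ w ∉ Submodule.span F {u} ∧ Has M u (hv hf w) := by
    by_contra hcon
    push Not at hcon
    apply hg
    set G : Matrix (Fin n) (Fin n) F := (g : Matrix (Fin n) (Fin n) F)
    have hex : ∀ u, u ≠ 0 → f u u = 0 → ∃ d, ∀ x, f x u = d * f (G *ᵥ x) (G *ᵥ u) := by
      intro u hu0 hu
      have h1 := (hM u hu c₀ hc₀σ).conj hgM
      obtain ⟨w, hw⟩ := hv_surjective hf ((c₀ • hv hf u) ᵥ* ((g⁻¹ : GL (Fin n) F) : Matrix (Fin n) (Fin n) F))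
      rw [← hw] at h1
      by_cases hl : w ∈ Submodule.span F {G *ᵥ u}
      · obtain ⟨d, rfl⟩ := Submodule.mem_span_singleton.1 hl
        refine ⟨σ d / c₀, fun x => ?_⟩
        have h2 := congrArg (· ⬝ᵥ (G *ᵥ x)) hw
        simp only [hv_dot, herm_smul_right hf, ← dotProduct_mulVec, G, gl_inv_mulVec, smul_dotProduct,
          smul_eq_mul] at h2
        rw [div_mul_eq_mul_div, eq_div_iff hc₀, mul_comm, ← h2]
      · exact absurd h1 (hcon _ w (fun h0 => hu0 (gl_mulVec_eq_zero.1 h0)) hl)
    choose d hd using hex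
    -- orthogonal isotropic vectors have equal multipliers
    have key : ∀ (u w : Fin n → F) (hu : u ≠ 0) (hu' : f u u = 0) (hw : w ≠ 0) (hw' : f w w = 0),
        f u w = 0 → w ∉ Submodule.span F {u} → d u hu hu' = d w hw hw' := by
      intro u w hu hu' hw hw' huw hind
      have hne : u + w ≠ 0 := fun h0 => hind (Submodule.mem_span_singleton.2
        ⟨-1, by rw [neg_one_smul, eq_neg_of_add_eq_zero_left h0, neg_neg]⟩)
      have hiso : f (u + w) (u + w) = 0 := by
        rw [hf.add_left, herm_add_right hf, herm_add_right hf, hu', hw', huw, herm_swap_zero hf huw]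
        ring
      have h1 : σ (d (u + w) hne hiso - d u hu hu') • (G *ᵥ u) + σ (d (u + w) hne hiso - d w hw hw') • (G *ᵥ w) = 0 := by
        refine eq_of_herm hf fun x => ?_
        have e1 := hd (u + w) hne hiso (((g⁻¹ : GL (Fin n) F) : Matrix (Fin n) (Fin n) F) *ᵥ x)
        rw [herm_add_right hf, hd u hu hu', hd w hw hw', mulVec_add, herm_add_right hf, gl_mulVec_inv] at e1
        rw [herm_add_right hf, herm_smul_right hf, herm_smul_right hf, hf.involutive, hf.involutive,
          herm_zero_right hf]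
        linear_combination -e1
      have h3 := congrArg (fun z => ((g⁻¹ : GL (Fin n) F) : Matrix (Fin n) (Fin n) F) *ᵥ z) h1
      simp only [mulVec_add, mulVec_smul, mulVec_zero, gl_inv_mulVec, G] at h3
      by_cases hb : σ (d (u + w) hne hiso - d w hw hw') = 0
      · rw [hb, zero_smul, add_zero, smul_eq_zero] at h3
        have e1 := (map_eq_zero σ).1 hb
        have e2 := (map_eq_zero σ).1 (h3.resolve_right hu)
        linear_combination e1 - e2
      · refine absurd (Submodule.mem_span_singleton.2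
          ⟨-((σ (d (u + w) hne hiso - d w hw hw'))⁻¹ * σ (d (u + w) hne hiso - d u hu hu')), ?_⟩) hind
        rw [neg_smul, ← smul_smul, eq_neg_of_add_eq_zero_left h3, smul_neg, neg_neg, smul_smul, inv_mul_cancel₀ hb,
          one_smul]
    obtain ⟨e, -, he0, hee⟩ := exists_isotropic hf (W := (⊤ : Submodule F (Fin n → F))) (by
      rw [finrank_top, Module.finrank_fin_fun]; omega)
    have hconst : ∀ u hu hu', d u hu hu' = d e he0 hee := by
      intro u hu hu'
      obtain ⟨Z, hZ⟩ := (Submodule.span F ({u, e} : Set (Fin n → F))).exists_isCompl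
      have hZdim : n ≤ Module.finrank F Z + 2 := by
        have h1 := Submodule.finrank_add_eq_of_isCompl hZ
        rw [Module.finrank_fin_fun] at h1
        have h2 : Module.finrank F (Submodule.span F ({u, e} : Set (Fin n → F))) ≤ 2 := by
          refine (finrank_span_le_card _).trans ?_
          rw [Set.toFinset_insert, Set.toFinset_singleton]
          exact Finset.card_le_two
        omega
      obtain ⟨z, hz, hz0, hzz⟩ := exists_isotropic hf (W := Z ⊓ perpOf hf u ⊓ perpOf hf e) (by
        have h1 := finrank_inf_perp hf Z u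
        have h2 := finrank_inf_perp hf (Z ⊓ perpOf hf u) e
        omega)
      obtain ⟨⟨hzZ, hzu⟩, hze⟩ := hz
      have hzu : f z u = 0 := hzu
      have hze : f z e = 0 := hze
      have hout : z ∉ Submodule.span F ({u, e} : Set (Fin n → F)) := fun hm =>
        hz0 ((Submodule.mem_bot F).1 (hZ.disjoint.le_bot ⟨hm, hzZ⟩))
      rw [key u z hu hu' hz0 hzz (herm_swap_zero hf hzu) (fun hm => hout (Submodule.span_mono (by simp) hm)),
        key e z he0 hee hz0 hzz (herm_swap_zero hf hze) (fun hm => hout (Submodule.span_mono (by simp) hm))]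
    obtain ⟨y, hy⟩ := (hf.nondegenerate e he0).2
    have hd0 : d e he0 hee ≠ 0 := fun h0 => hy (herm_swap_zero hf (by rw [hd e he0 hee, h0, zero_mul]))
    obtain ⟨h, -, hhh, heh, -⟩ := exists_partner hf (X := ⊤) Submodule.mem_top hee (y := y) Submodule.mem_top hy
    let U : Submodule F (Fin n → F) :=
      { carrier := {u | ∀ x, f x u = d e he0 hee * f (G *ᵥ x) (G *ᵥ u)}
        add_mem' := fun {a b} ha hb x => by rw [herm_add_right hf, ha, hb, mulVec_add, herm_add_right hf, mul_add]
        zero_mem' := fun x => by rw [herm_zero_right hf, mulVec_zero, herm_zero_right hf, mul_zero]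
        smul_mem' := fun r a ha x => by
          rw [herm_smul_right hf, ha, mulVec_smul, herm_smul_right hf]; ring }
    have hU : ∀ u, u ≠ 0 → f u u = 0 → u ∈ U := fun u hu hu' x => by rw [hd u hu hu', hconst]
    have htop := subspace_le_of_pair hf (X := ⊤) (S := U) Submodule.mem_top hee Submodule.mem_top hhh heh
      (hU e he0 hee) (fun z _ hz hne => hU z (fun h0 => hne (by rw [h0, herm_zero_right hf])) hz)
    refine ⟨(Units.mk0 _ hd0)⁻¹, fun x y' => ?_⟩
    rw [htop (Submodule.mem_top : y' ∈ ⊤) x, Units.val_inv_eq_inv_val, Units.val_mk0, ← mul_assoc,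
      inv_mul_cancel₀ hd0, one_mul]
  exact fullSub_eq_top_of_utv hf (by rw [Fintype.card_fin]; omega) hM hu0
    (fullC_of_utv hf (by rw [Fintype.card_fin]; omega) hM hwu hw)

end CfsgLib.Perm.Trans
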