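import Cfsg.Agent.Lib.Perm.Trans.OrthB
import Cfsg.Agent.Lib.Perm.Trans.SL

/-!
# Orthogonal similarity groups are maximal in the special linear group
-/

set_option autoImplicit false
set_option linter.all false

namespace CfsgLib.Perm.Trans.Orth

open scoped Matrix
open Matrix Cfsg.Geo CfsgLib.Perm.Asch CfsgLib.Perm.Trans

variable {ι : Type} [Fintype ι] [DecidableEq ι] {F : Type*} [Field F] [Fintype F]
variable {f : (ι → F) → (ι → F) → F} (hf : IsSymmetricForm f) (h2 : (2 : F) ≠ 0)
include hf h2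

/-- a translate of a subspace with two orthogonal non-singular vectors contains a singular vector -/
theorem exists_translate_zero {E : Submodule F (ι → F)} {a b : ι → F} (ha : a ∈ E) (hb : b ∈ E) (hab : f a b = 0)
    (haa : f a a ≠ 0) (hbb : f b b ≠ 0) (c : ι → F) : ∃ e ∈ E, f (c + e) (c + e) = 0 := by
  obtain ⟨K, hK⟩ : ∃ K, K = f c c - f c a ^ 2 / f a a - f c b ^ 2 / f b b := ⟨_, rfl⟩
  obtain ⟨x, y, hxy⟩ : ∃ x y : F, K + f a a * x ^ 2 + f b b * y ^ 2 = 0 := by
    rcases eq_or_ne K 0 with h | h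
    · exact ⟨0, 0, by rw [h]; ring⟩
    obtain ⟨x, y, hxy⟩ := CfsgLib.Classical.exists_binary_one (F := F) h2
      (div_ne_zero haa (neg_ne_zero.2 h)) (div_ne_zero hbb (neg_ne_zero.2 h))
    refine ⟨x, y, ?_⟩
    field_simp at hxy
    linear_combination -hxy
  refine ⟨(x - f c a / f a a) • a + (y - f c b / f b b) • b, E.add_mem (E.smul_mem _ ha) (E.smul_mem _ hb), ?_⟩
  simp only [hf.bilinear.add_left, hf.bilinear.add_right, hf.bilinear.smul_left, hf.bilinear.smul_right,
    hf.symm b a, hf.symm a c, hf.symm b c, hab, mul_zero, add_zero, zero_add]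
  rw [hK] at hxy
  field_simp at hxy ⊢
  linear_combination hxy

omit hf h2 in
/-- one symmetric form has a zero in any three dimensional subspace -/
theorem exists_zero_one {d : (ι → F) → (ι → F) → F} (hadd : ∀ x y z, d (x + y) z = d x z + d y z)
    (hsmul : ∀ (c : F) x z, d (c • x) z = c * d x z) (hsymm : ∀ x y, d x y = d y x) {W : Submodule F (ι → F)}
    (hW : 3 ≤ Module.finrank F W) : ∃ z ∈ W, z ≠ 0 ∧ d z z = 0 := by
  classical
  let b := Module.finBasis F W
  let dl : (ι → F) → (ι → F) →ₗ[F] F := fun z =>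
    { toFun := fun x => d x z, map_add' := fun x y => hadd x y z, map_smul' := fun c x => hsmul c x z }
  set P : MvPolynomial (Fin (Module.finrank F W)) F := ∑ i, ∑ j,
    MvPolynomial.C (d (b i : ι → F) (b j : ι → F)) * MvPolynomial.X i * MvPolynomial.X j with hP
  have hdeg : P.totalDegree ≤ 2 := by
    refine MvPolynomial.totalDegree_finsetSum_le fun i _ => ?_
    refine MvPolynomial.totalDegree_finsetSum_le fun j _ => ?_
    refine (MvPolynomial.totalDegree_mul _ _).trans ?_
    refine le_trans (Nat.add_le_add_right (MvPolynomial.totalDegree_mul _ _) _) ?_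
    rw [MvPolynomial.totalDegree_C, MvPolynomial.totalDegree_X, MvPolynomial.totalDegree_X]
  have heval : ∀ x, MvPolynomial.eval x P =
      d (∑ i, x i • (b i : ι → F)) (∑ j, x j • (b j : ι → F)) := by
    intro x
    have hl : ∀ z, d (∑ i, x i • (b i : ι → F)) z = ∑ i, x i * d (b i : ι → F) z := fun z => by
      show dl z (∑ i, x i • (b i : ι → F)) = _
      rw [map_sum]
      exact Finset.sum_congr rfl fun i _ => by rw [map_smul]; rfl
    rw [hP, map_sum, hl]
    refine Finset.sum_congr rfl fun i _ => ?_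
    rw [hsymm _ (∑ j, x j • (b j : ι → F)), hl, map_sum, Finset.mul_sum]
    refine Finset.sum_congr rfl fun j _ => ?_
    simp only [map_mul, MvPolynomial.eval_C, MvPolynomial.eval_X]
    rw [hsymm (b j : ι → F)]
    ring
  obtain ⟨p, hp⟩ := CharP.exists F
  haveI : Fact p.Prime := ⟨CharP.char_is_prime F p⟩
  have hdvd := char_dvd_card_solutions p (f := P) (by rw [Fintype.card_fin]; omega)
  have hzero : MvPolynomial.eval (0 : Fin (Module.finrank F W) → F) P = 0 := by simp [hP]
  have hlt : 1 < Fintype.card {x // MvPolynomial.eval x P = 0} :=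
    lt_of_lt_of_le (Fact.out : p.Prime).one_lt (Nat.le_of_dvd (Fintype.card_pos_iff.2 ⟨⟨0, hzero⟩⟩) hdvd)
  obtain ⟨⟨x, hx⟩, hne⟩ := Fintype.exists_ne_of_one_lt_card hlt ⟨0, hzero⟩
  refine ⟨((∑ i, x i • b i : W) : ι → F), Submodule.coe_mem _, fun h0 => hne (Subtype.ext ?_), ?_⟩
  · have h1 : (∑ i, x i • b i : W) = 0 := Subtype.ext h0
    exact funext fun i => Fintype.linearIndependent_iff.1 b.linearIndependent x h1 i
  · rw [heval] at hx
    simpa using hx

/-- a singular vector with a partner in `W` gives singular vectors off the hyperplane of `t` -/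
theorem exists_singular_pair' {W : Submodule F (ι → F)} {t v z y : ι → F} (hv : v ∈ W) (hz : z ∈ W) (hy : y ∈ W)
    (hzz : f z z = 0) (hzy : f z y ≠ 0) (htv : f t v ≠ 0) : ∃ w ∈ W, f w w = 0 ∧ f t w ≠ 0 := by
  by_cases htz : f t z = 0
  swap
  · exact ⟨z, hz, hzz, htz⟩
  obtain ⟨v', hv', htv', hzv'⟩ : ∃ v' ∈ W, f t v' ≠ 0 ∧ f z v' ≠ 0 := by
    by_cases hzv : f z v = 0
    swap
    · exact ⟨v, hv, htv, hzv⟩
    by_cases hty : f t y = 0
    · exact ⟨v + y, W.add_mem hv hy, by rwa [hf.bilinear.add_right, hty, add_zero],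
        by rwa [hf.bilinear.add_right, hzv, zero_add]⟩
    · exact ⟨y, hy, hty, hzy⟩
  refine ⟨v' + (-(f v' v') / (2 * f z v')) • z, W.add_mem hv' (W.smul_mem _ hz), ?_, ?_⟩
  · simp only [hf.bilinear.add_left, hf.bilinear.add_right, hf.bilinear.smul_left, hf.bilinear.smul_right,
      hf.symm v' z, hzz, mul_zero, add_zero]
    field_simp
    ring
  · rwa [hf.bilinear.add_right, hf.bilinear.smul_right, htz, mul_zero, add_zero]

omit h2 in
theorem exists_ker_ne {L θ : (ι → F) →ₗ[F] F} {p : ι → F} (hp : L p = 1) (h : ∀ s : F, θ ≠ s • L) :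
    ∃ b, L b = 0 ∧ θ b ≠ 0 := by
  by_contra hcon
  push Not at hcon
  refine h (θ p) (LinearMap.ext fun x => ?_)
  have h1 := hcon (x - L x • p) (by rw [map_sub, map_smul, hp, smul_eq_mul, mul_one, sub_self])
  rw [map_sub, map_smul, smul_eq_mul, sub_eq_zero] at h1
  rw [h1, LinearMap.smul_apply, smul_eq_mul, mul_comm]

/-- two families of Eichler transformations at one point give transvections -/
theorem exists_axis {f' : (ι → F) → (ι → F) → F} (hf' : IsSymmetricForm f') {M : Subgroup (GL ι F)}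
    (hn : 5 ≤ Fintype.card ι) {u : ι → F} (hu0 : u ≠ 0) (huu : f u u = 0) (huu' : f' u u = 0)
    (hE : Eichs f M u) (hE' : Eichs f' M u) (hne : ∀ l : F, ∃ x, f' x u ≠ l * f x u) :
    ∃ t, f t u = 0 ∧ t ∉ Submodule.span F {u} ∧ ov hf u ∈ axes M u ∧ ov hf t ∈ axes M u := by
  obtain ⟨p, hp⟩ : ∃ p, f p u = 1 := by
    obtain ⟨x, hx⟩ := (hf.nondegenerate u hu0).1
    exact ⟨(f x u)⁻¹ • x, by rw [hf.bilinear.smul_left, inv_mul_cancel₀ hx]⟩
  obtain ⟨p', hp'⟩ : ∃ p', f' p' u = 1 := by
    obtain ⟨x, hx⟩ := (hf'.nondegenerate u hu0).1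
    exact ⟨(f' x u)⁻¹ • x, by rw [hf'.bilinear.smul_left, inv_mul_cancel₀ hx]⟩
  have h1 := finrank_le_inf_ker (⊤ : Submodule F (ι → F)) (sfl hf u)
  have h3 := finrank_le_inf_ker ((⊤ : Submodule F (ι → F)) ⊓ LinearMap.ker (sfl hf u)) (sfl hf' u)
  rw [finrank_top, Module.finrank_fintype_fun_eq_card] at h1
  obtain ⟨x, hx, hxx⟩ := exists_aniso hf h2
    (W := (⊤ : Submodule F (ι → F)) ⊓ LinearMap.ker (sfl hf u) ⊓ LinearMap.ker (sfl hf' u)) (by omega)
  have hxu : f x u = 0 := hx.1.2
  have hxu' : f' x u = 0 := hx.2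
  have hux : f u x = 0 := by rw [hf.symm, hxu]
  have hux' : f' u x = 0 := by rw [hf'.symm, hxu']
  obtain ⟨E, hEM, hEf⟩ := hE x hux
  obtain ⟨h, hhM, hhf⟩ := hE' x hux'
  -- the translation
  obtain ⟨θ, hθ⟩ : ∃ θ : ι → F, θ = f x x • ov hf' u - f' x x • ov hf u := ⟨_, rfl⟩
  have hθd : ∀ z, θ ⬝ᵥ z = f x x * f' z u - f' x x * f z u := fun z => by
    rw [hθ, sub_dotProduct, smul_dotProduct, smul_dotProduct, ov_dot, ov_dot, smul_eq_mul, smul_eq_mul]
  have hθu : θ ⬝ᵥ u = 0 := by rw [hθd, huu, huu']; ring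
  have hT : Has M u θ := by
    refine ⟨hθu, ?_⟩
    have heq : tv u θ hθu * (E * h) = h * E := gl_ext_vec fun w => by
      rw [gl_mul_mulVec, gl_mul_mulVec, gl_mul_mulVec, tv_mulVec, hθd, hhf, hEf, hEf, hhf]
      simp only [sym_sub_left hf, sym_sub_left hf', hf.bilinear.add_left, hf'.bilinear.add_left,
        hf.bilinear.smul_left, hf'.bilinear.smul_left, huu, huu', hxu, hxu', hux, hux']
      module
    have h4 := M.mul_mem (M.mul_mem hhM hEM) (M.inv_mem (M.mul_mem hEM hhM))
    rwa [← heq, mul_inv_cancel_right] at h4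
  -- conjugation by the two families
  have hsub : ∀ (ψ : ι → F), Has M u ψ → ∀ g ∈ M, (g : Matrix ι ι F) *ᵥ u = u → Has M u (ψ ᵥ* (g : Matrix ι ι F) - ψ) := by
    intro ψ hψ g hg hgu
    have h4 := hψ.conj (M.inv_mem hg)
    rw [inv_inv] at h4
    have h5 : ((g⁻¹ : GL ι F) : Matrix ι ι F) *ᵥ u = u := by conv_lhs => rw [← hgu, gl_inv_mulVec]
    rw [h5] at h4
    rw [sub_eq_add_neg]
    exact h4.add_right hψ.neg
  have hfix : ∀ (g' : (ι → F) → (ι → F) → F), IsSymmetricForm g' → g' u u = 0 → ∀ b g, g' u b = 0 →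
      IsEich g' u b g → (g : Matrix ι ι F) *ᵥ u = u := fun g' _ h1 b g h3 h4 => by
    rw [h4, h1, h3]
    simp
  have hov : ov hf u ∈ axes M u := by
    intro c
    obtain ⟨b, hbu, hb⟩ := exists_ker_ne hf (L := sfl hf u) (θ := dotFun θ) hp (fun s hs => by
      obtain ⟨y, hy⟩ := hne ((s + f' x x) / f x x)
      refine hy ?_
      have h4 : θ ⬝ᵥ y = s * f y u := LinearMap.congr_fun hs y
      rw [hθd] at h4
      field_simp
      linear_combination h4)
    have hbu' : f b u = 0 := hbu
    obtain ⟨d, hd⟩ : ∃ d, d = (c / (θ ⬝ᵥ b)) • b := ⟨_, rfl⟩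
    have hdu : f u d = 0 := by rw [hd, hf.bilinear.smul_right, hf.symm, hbu', mul_zero]
    obtain ⟨g, hg, hgf⟩ := hE d hdu
    have h4 := hsub θ hT g hg (hfix f hf huu d g hdu hgf)
    convert h4 using 1
    refine dotProduct_eq _ _ fun z => ?_
    rw [sub_dotProduct, ← dotProduct_mulVec, hgf, dotProduct_sub, dotProduct_sub, dotProduct_add, dotProduct_smul,
      dotProduct_smul, dotProduct_smul, hθu, hd, dotProduct_smul, smul_dotProduct, ov_dot]
    simp only [smul_eq_mul, mul_zero, sub_zero, add_sub_cancel_left]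
    rw [div_mul_cancel₀ _ (show θ ⬝ᵥ b ≠ 0 from hb)]
    ring
  obtain ⟨t, ht⟩ := exists_rep hf (ov hf' u)
  refine ⟨t, by rw [hf.symm, ht, ov_dot, huu'], fun hts => ?_, hov, fun c => ?_⟩
  · obtain ⟨s, hs⟩ := Submodule.mem_span_singleton.1 hts
    obtain ⟨y, hy⟩ := hne s
    exact hy (by rw [← ov_dot hf', ← ht, ← hs, hf.bilinear.smul_right])
  obtain ⟨b, hbu, hb⟩ := exists_ker_ne hf (L := sfl hf' u) (θ := sfl hf u) hp' (fun s hs => by
    rcases eq_or_ne s 0 with rfl | hs0
    · have h4 : f p u = 0 * f' p u := LinearMap.congr_fun hs p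
      rw [hp, zero_mul] at h4
      exact one_ne_zero h4
    obtain ⟨y, hy⟩ := hne s⁻¹
    refine hy ?_
    have h4 : f y u = s * f' y u := LinearMap.congr_fun hs y
    rw [h4, inv_mul_cancel_left₀ hs0])
  have hbu' : f' b u = 0 := hbu
  obtain ⟨d, hd⟩ : ∃ d, d = (c / f b u) • b := ⟨_, rfl⟩
  have hdu : f' u d = 0 := by rw [hd, hf'.bilinear.smul_right, hf'.symm, hbu', mul_zero]
  have hdf : f d u = c := by rw [hd, hf.bilinear.smul_left, div_mul_cancel₀ _ (show f b u ≠ 0 from hb)]
  obtain ⟨g, hg, hgf⟩ := hE' d hdu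
  have h4 := hsub (ov hf u) (has_of_axes hov) g hg (hfix f' hf' huu' d g hdu hgf)
  convert h4 using 1
  refine dotProduct_eq _ _ fun z => ?_
  rw [sub_dotProduct, ← dotProduct_mulVec, ov_dot, ov_dot, hgf, smul_dotProduct, ov_dot, ht, ov_dot,
    sym_sub_left hf, sym_sub_left hf, hf.bilinear.add_left, hf.bilinear.smul_left, hf.bilinear.smul_left,
    hf.bilinear.smul_left, huu, hdf, smul_eq_mul]
  ring

/-- a subspace absorbing the moves of Eichler transformations -/
theorem spread (hn : 6 ≤ Fintype.card ι) {U A : Submodule F (ι → F)}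
    (hU : Fintype.card ι ≤ Module.finrank F U + 1) {w t : ι → F} (hw : w ∈ U) (ht : t ∈ A) (htU : t ∈ U)
    (htw : f t w ≠ 0)
    (h : ∀ b ∈ U, f w b = 0 → f t w • b - f t b • w - (f b b / 2 * f t w) • w ∈ A) : U ≤ A := by
  have h1 := finrank_le_inf_ker U (sfl hf w)
  obtain ⟨b, hb, hbb⟩ := exists_aniso hf h2 (W := U ⊓ LinearMap.ker (sfl hf w)) (by omega)
  have hbw : f w b = 0 := by rw [hf.symm]; exact hb.2
  have hwA : w ∈ A := by
    have h3 := A.add_mem (h b hb.1 hbw) (h (-b) (U.neg_mem hb.1) (by rw [sym_neg_right hf, hbw, neg_zero]))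
    rw [sym_neg_right hf, sym_neg_left hf, sym_neg_right hf, neg_neg] at h3
    have h4 : f t w • b - f t b • w - (f b b / 2 * f t w) • w +
        (f t w • -b - -f t b • w - (f b b / 2 * f t w) • w) = (-(2 * (f b b / 2 * f t w))) • w := by module
    rw [h4, A.smul_mem_iff] at h3
    · exact h3
    · exact neg_ne_zero.2 (mul_ne_zero h2 (mul_ne_zero (div_ne_zero hbb h2) htw))
  have hwperp : ∀ c ∈ U, f w c = 0 → c ∈ A := fun c hc hwc => by
    have h3 := A.add_mem (A.add_mem (h c hc hwc) (A.smul_mem (f t c) hwA)) (A.smul_mem (f c c / 2 * f t w) hwA)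
    have h4 : f t w • c ∈ A := by convert h3 using 1; abel
    exact (A.smul_mem_iff htw).1 h4
  intro c hc
  have h3 := A.add_mem (hwperp (c - (f w c / f t w) • t) (U.sub_mem hc (U.smul_mem _ htU)) (by
    rw [sym_sub_right hf, hf.bilinear.smul_right, hf.symm w t, div_mul_cancel₀ _ htw, sub_self]))
    (A.smul_mem (f w c / f t w) ht)
  rwa [sub_add_cancel] at h3

variable {M : Subgroup (GL ι F)} (hM : similarityGroup f ⊓ specialLinear ι F ≤ M)
include hM

theorem eichs_of_le {u : ι → F} (huu : f u u = 0) : Eichs f M u := fun a ha => by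
  obtain ⟨g, hg, hgf⟩ := exists_eich hf h2 huu ha
  exact ⟨g, hM hg, hgf⟩

omit [Fintype F] in
theorem eichs_pull {k : GL ι F} (hk : k ∈ M) {u : ι → F} (huu : pull f k u u = 0) : Eichs (pull f k) M u := by
  intro a ha
  obtain ⟨g, hg, hgf⟩ := exists_eich hf h2 (u := (k : Matrix ι ι F) *ᵥ u) (a := (k : Matrix ι ι F) *ᵥ a) huu ha
  refine ⟨k⁻¹ * g * k, M.mul_mem (M.mul_mem (M.inv_mem hk) (hM hg)) hk, fun x => ?_⟩
  rw [gl_mul_mulVec, gl_mul_mulVec, hgf, mulVec_sub, mulVec_sub, mulVec_add, mulVec_smul, mulVec_smul, mulVec_smul,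
    gl_inv_mulVec, gl_inv_mulVec, gl_inv_mulVec]
  rfl

/-- a singular full centre -/
theorem fullC_of_axis (hn : 6 ≤ Fintype.card ι) {u t : ι → F} (hu0 : u ≠ 0) (huu : f u u = 0) (htu : f t u = 0)
    (hts : t ∉ Submodule.span F {u}) (ht : ov hf t ∈ axes M u) : FullC M u := by
  obtain ⟨v, htv, hvu⟩ := exists_pairing hf hts
  have hv : v ∈ LinearMap.ker (sfl hf u) := by
    show f v u = 0
    rw [hf.symm]
    exact hvu u (Submodule.mem_span_singleton_self u)
  have hdim := finrank_le_inf_ker (⊤ : Submodule F (ι → F)) (sfl hf u)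
  rw [finrank_top, Module.finrank_fintype_fun_eq_card, top_inf_eq] at hdim
  obtain ⟨φ₀, hφ₀, -⟩ := exists_dual (⊥ : Submodule F (ι → F)) (show u ∉ (⊥ : Submodule F (ι → F)) from
    fun h => hu0 ((Submodule.mem_bot F).1 h))
  have hdim2 := finrank_le_inf_ker (LinearMap.ker (sfl hf u)) (dotFun φ₀)
  obtain ⟨z, hz, hz0, hzz⟩ := exists_zero_one hf.bilinear.add_left hf.bilinear.smul_left hf.symm
    (W := LinearMap.ker (sfl hf u) ⊓ LinearMap.ker (dotFun φ₀)) (by omega)
  obtain ⟨y, hzy, hyu⟩ := exists_pairing hf (W := Submodule.span F {u}) (z := z) fun hm => by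
    obtain ⟨c, hc⟩ := Submodule.mem_span_singleton.1 hm
    have h3 : φ₀ ⬝ᵥ z = 0 := hz.2
    rw [← hc, dotProduct_smul, hφ₀, smul_eq_mul, mul_one] at h3
    exact hz0 (by rw [← hc, h3, zero_smul])
  obtain ⟨w, hw, hww, htw⟩ := exists_singular_pair' hf h2 (t := t) hv hz.1
    (show y ∈ LinearMap.ker (sfl hf u) by
      show f y u = 0
      rw [hf.symm]; exact hyu u (Submodule.mem_span_singleton_self u))
    hzz (by rw [hzy]; exact one_ne_zero) (by rw [htv]; exact one_ne_zero)
  have hle : LinearMap.ker (sfl hf u) ≤ (axes M u).comap (ov hf) := by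
    refine spread hf h2 hn hdim hw ht htu htw fun b hb hwb => ?_
    obtain ⟨g, hg, hgf⟩ := eichs_of_le hf h2 hM hww (-b) (by rw [sym_neg_right hf, hwb, neg_zero])
    have hgu : (g : Matrix ι ι F) *ᵥ u = u := by
      rw [hgf, sym_neg_right hf, hf.symm u w, show f w u = 0 from hw, hf.symm u b, show f b u = 0 from hb]
      simp
    have h4 := axes_conj ht (M.inv_mem hg)
    rw [inv_inv, show ((g⁻¹ : GL ι F) : Matrix ι ι F) *ᵥ u = u by conv_lhs => rw [← hgu, gl_inv_mulVec]] at h4
    show ov hf _ ∈ axes M u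
    have h5 := (axes M u).sub_mem h4 ht
    convert h5 using 1
    refine dotProduct_eq _ _ fun z => ?_
    rw [sub_dotProduct, ← dotProduct_mulVec, ov_dot, ov_dot, ov_dot, hgf, sym_neg_right hf, sym_neg_left hf,
      sym_neg_right hf, neg_neg]
    simp only [sym_sub_left hf, sym_sub_right hf, hf.bilinear.add_left, hf.bilinear.smul_left,
      hf.bilinear.smul_right, sym_neg_left hf, hf.symm w t, hf.symm b t]
    ring
  refine fullC_of_axes fun φ hφ => ?_
  obtain ⟨q, rfl⟩ := ov_surjective hf φ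
  exact hle (show f q u = 0 by rw [hf.symm, ← ov_dot hf, hφ])

/-- one singular full centre gives all -/
theorem fullSub_top_of_singular (hn : 6 ≤ Fintype.card ι) {u : ι → F} (hu0 : u ≠ 0) (huu : f u u = 0)
    (hu : FullC M u) : fullSub M = ⊤ := by
  obtain ⟨v, hv⟩ := (hf.nondegenerate u hu0).2
  have hdim : Fintype.card ι ≤ Module.finrank F (⊤ : Submodule F (ι → F)) + 1 := by
    rw [finrank_top, Module.finrank_fintype_fun_eq_card]
    omega
  obtain ⟨z, -, hz0, hzz⟩ := exists_zero_one hf.bilinear.add_left hf.bilinear.smul_left hf.symm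
    (W := (⊤ : Submodule F (ι → F))) (by rw [finrank_top, Module.finrank_fintype_fun_eq_card]; omega)
  obtain ⟨y, hy⟩ := (hf.nondegenerate z hz0).2
  obtain ⟨w, -, hww, huw⟩ := exists_singular_pair' hf h2 (W := ⊤) (t := u) (Submodule.mem_top : v ∈ _)
    (Submodule.mem_top : z ∈ _) (Submodule.mem_top : y ∈ _) hzz hy hv
  refine eq_top_iff.2 (spread hf h2 hn hdim (A := fullSub M) Submodule.mem_top hu Submodule.mem_top huw
    fun b _ hwb => ?_)
  obtain ⟨g, hg, hgf⟩ := eichs_of_le hf h2 hM hww b hwb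
  have h4 := (fullSub M).sub_mem (fullSub_inv hg (show u ∈ fullSub M from hu)) (show u ∈ fullSub M from hu)
  rwa [hgf, show u + f u w • b - f u b • w - (f b b / 2 * f u w) • w - u =
    f u w • b - f u b • w - (f b b / 2 * f u w) • w by abel] at h4

omit hM in
/-- a pencil with all common zeros tangent -/
theorem pencil {f' : (ι → F) → (ι → F) → F} (hf' : IsSymmetricForm f') (hn : 6 ≤ Fintype.card ι)
    (hbad : ∀ z, f z z = 0 → f' z z = 0 → ∃ l : F, ∀ x, f' x z = l * f x z) :
    ∃ (l : F) (E : Submodule F (ι → F)), (∀ z, z ∈ E ↔ ∀ x, f' x z = l * f x z) ∧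
      Fintype.card ι ≤ Module.finrank F E + 2 ∧ (∀ z, f z z = 0 → f' z z = 0 → z ∈ E) ∧
      ∀ c, f' c c = l * f c c → c ∈ E := by
  obtain ⟨z₀, -, hz₀, hz₀f, hz₀f'⟩ := exists_common_zero hf hf' (W := ⊤)
    (by rw [finrank_top, Module.finrank_fintype_fun_eq_card]; omega)
  obtain ⟨l, hl⟩ := hbad z₀ hz₀f hz₀f'
  let E : Submodule F (ι → F) :=
    { carrier := {z | ∀ x, f' x z = l * f x z}
      zero_mem' := fun x => by rw [sym_zero_right hf', sym_zero_right hf, mul_zero]
      add_mem' := fun {a b} ha hb x => by rw [hf'.bilinear.add_right, hf.bilinear.add_right, ha x, hb x, mul_add]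
      smul_mem' := fun c a ha x => by
        rw [hf'.bilinear.smul_right, hf.bilinear.smul_right, ha x, mul_left_comm] }
  have hE : ∀ z, z ∈ E ↔ ∀ x, f' x z = l * f x z := fun z => Iff.rfl
  have hlam : ∀ z s, s ≠ 0 → z ∉ Submodule.span F ({s} : Set (ι → F)) → f z z = 0 → f' z z = 0 → f s s = 0 →
      f' s s = 0 → f z s = 0 → ∀ a b : F, (∀ x, f' x z = a * f x z) → (∀ x, f' x s = b * f x s) → a = b := by
    intro z s hs0 hind hzz hzz' hss hss' hzs a b ha hb
    have hzs' : f' z s = 0 := by rw [hb, hzs, mul_zero]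
    obtain ⟨m, hm⟩ := hbad (z + s)
      (by rw [hf.bilinear.add_left, hf.bilinear.add_right, hf.bilinear.add_right, hzz, hss, hf.symm s z, hzs]; ring)
      (by rw [hf'.bilinear.add_left, hf'.bilinear.add_right, hf'.bilinear.add_right, hzz', hss', hf'.symm s z, hzs']
          ring)
    have h4 : (a - m) • z + (b - m) • s = 0 := ov_injective hf (dotProduct_eq _ _ fun x => by
      have h5 := hm x
      rw [hf'.bilinear.add_right, hf.bilinear.add_right, ha, hb] at h5
      rw [ov_dot, ov_dot, sym_zero_right hf, hf.bilinear.add_right, hf.bilinear.smul_right, hf.bilinear.smul_right]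
      linear_combination h5)
    have ham : a - m = 0 := by
      by_contra hne
      exact hind (Submodule.mem_span_singleton.2 ⟨-(b - m) / (a - m), by
        rw [div_eq_inv_mul, mul_smul, neg_smul, ← eq_neg_of_add_eq_zero_left h4, smul_smul, inv_mul_cancel₀ hne,
          one_smul]⟩)
    rw [ham, zero_smul, zero_add, smul_eq_zero, or_iff_left hs0] at h4
    linear_combination ham - h4
  have hzero : ∀ z, f z z = 0 → f' z z = 0 → z ∈ E := by
    intro z hzz hzz'
    rcases eq_or_ne z 0 with rfl | hz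
    · exact E.zero_mem
    obtain ⟨m, hm⟩ := hbad z hzz hzz'
    suffices m = l by rw [hE, ← this]; exact hm
    by_cases h0 : f z₀ z = 0
    · by_cases hdep : z₀ ∈ Submodule.span F ({z} : Set (ι → F))
      · obtain ⟨s, hs⟩ := Submodule.mem_span_singleton.1 hdep
        have hs0 : s ≠ 0 := fun h => hz₀ (by rw [← hs, h, zero_smul])
        obtain ⟨x, hx⟩ := (hf.nondegenerate z hz).1
        have h1 := hl x
        rw [← hs, hf'.bilinear.smul_right, hf.bilinear.smul_right, hm] at h1
        exact mul_right_cancel₀ (mul_ne_zero hs0 hx)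
          (show m * (s * f x z) = l * (s * f x z) by linear_combination h1)
      · exact (hlam z₀ z hz hdep hz₀f hz₀f' hzz hzz' h0 l m hl hm).symm
    · have h1 := hl z
      rw [hf'.symm z z₀, hm z₀, hf.symm z z₀] at h1
      exact mul_right_cancel₀ h0 h1
  have hdimE : Fintype.card ι ≤ Module.finrank F E + 4 := by
    obtain ⟨C, hC⟩ := E.exists_isCompl
    have h1 := Submodule.finrank_add_eq_of_isCompl hC
    rw [Module.finrank_fintype_fun_eq_card] at h1
    by_contra hlt
    obtain ⟨z, hz, hz0, hzz, hzz'⟩ := exists_common_zero hf hf' (W := C) (by omega)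
    exact hz0 (Submodule.disjoint_def.1 hC.disjoint z (hzero z hzz hzz') hz)
  have hzero' : ∀ c, f' c c = l * f c c → c ∈ E := by
    have hadd : ∀ c e, e ∈ E → f' c c = l * f c c → f' (c + e) (c + e) = l * f (c + e) (c + e) := by
      intro c e he hc
      rw [hf'.bilinear.add_left, hf'.bilinear.add_right, hf'.bilinear.add_right, hf.bilinear.add_left,
        hf.bilinear.add_right, hf.bilinear.add_right, hf'.symm e c, (hE e).1 he c, (hE e).1 he e, hc, hf.symm e c]
      ring
    have hshift : ∀ c e, e ∈ E → f' c c = l * f c c → f (c + e) (c + e) = 0 → c ∈ E := by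
      intro c e he hc h0
      have h1 := E.sub_mem (hzero (c + e) h0 (by rw [hadd c e he hc, h0, mul_zero])) he
      rwa [add_sub_cancel_right] at h1
    by_cases hrad : ∃ r ∈ E, r ≠ 0 ∧ ∀ e ∈ E, f e r = 0
    · -- a singular radical vector
      obtain ⟨r, hr, hr0, hrE⟩ := hrad
      have hout : ∀ c, f' c c = l * f c c → f c r ≠ 0 → c ∈ E := fun c hc hcr => by
        refine hshift c ((-(f c c) / (2 * f c r)) • r) (E.smul_mem _ hr) hc ?_
        simp only [hf.bilinear.add_left, hf.bilinear.add_right, hf.bilinear.smul_left, hf.bilinear.smul_right,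
          hf.symm r c, hrE r hr, mul_zero, add_zero]
        field_simp
        ring
      intro c hc
      by_cases hcr : f c r = 0
      swap
      · exact hout c hc hcr
      obtain ⟨x₀, hx₀⟩ := (hf.nondegenerate r hr0).1
      -- `c` pairs trivially off the hyperplane of `r`
      have hoff : ∀ x, f x r ≠ 0 → f' x c = l * f x c := by
        intro x hx
        by_contra hne
        have hne' : f' x c - l * f x c ≠ 0 := sub_ne_zero.2 hne
        obtain ⟨t, ht⟩ : ∃ t, t = -(f' x x - l * f x x) / (2 * (f' x c - l * f x c)) := ⟨_, rfl⟩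
        have ht' : t * (2 * (f' x c - l * f x c)) = -(f' x x - l * f x x) := by
          rw [ht, div_mul_cancel₀ _ (mul_ne_zero h2 hne')]
        have h3 : f (x + t • c) r = f x r := by
          rw [hf.bilinear.add_left, hf.bilinear.smul_left, hcr, mul_zero, add_zero]
        have h4 := hout (x + t • c) (by
          simp only [hf.bilinear.add_left, hf.bilinear.add_right, hf.bilinear.smul_left, hf.bilinear.smul_right,
            hf'.bilinear.add_left, hf'.bilinear.add_right, hf'.bilinear.smul_left, hf'.bilinear.smul_right,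
            hf.symm c x, hf'.symm c x, hc]
          linear_combination ht') (by rwa [h3])
        exact hx (by rw [← h3]; exact hrE _ h4)
      refine (hE c).2 fun x => ?_
      by_cases hx : f x r = 0
      swap
      · exact hoff x hx
      have h1 := hoff (x + x₀) (by rwa [hf.bilinear.add_left, hx, zero_add])
      rw [hf'.bilinear.add_left, hf.bilinear.add_left, hoff x₀ hx₀] at h1
      linear_combination h1
    push Not at hrad
    -- two orthogonal non-singular vectors
    obtain ⟨a, ha, haa⟩ : ∃ a ∈ E, f a a ≠ 0 := by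
      by_contra hcon
      push Not at hcon
      obtain ⟨r, hr, hr0⟩ := Submodule.exists_mem_ne_zero_of_ne_bot (p := E)
        (fun h => by rw [h, finrank_bot] at hdimE; omega)
      obtain ⟨e, he, her⟩ := hrad r hr hr0
      have h1 := hcon (e + r) (E.add_mem he hr)
      rw [hf.bilinear.add_left, hf.bilinear.add_right, hf.bilinear.add_right, hcon e he, hcon r hr, hf.symm r e] at h1
      exact her ((mul_eq_zero.1 (show (2 : F) * f e r = 0 by linear_combination h1)).resolve_left h2)
    obtain ⟨b, hb, hba, hbb⟩ : ∃ b ∈ E, f b a = 0 ∧ f b b ≠ 0 := by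
      by_contra hcon
      push Not at hcon
      have h1 := finrank_le_inf_ker E (sfl hf a)
      obtain ⟨y, hy, hy0⟩ := Submodule.exists_mem_ne_zero_of_ne_bot (p := E ⊓ LinearMap.ker (sfl hf a))
        (fun h => by rw [h, finrank_bot] at h1; omega)
      have hya : f y a = 0 := hy.2
      obtain ⟨e, he, hey⟩ := hrad y hy.1 hy0
      obtain ⟨e', he'⟩ : ∃ e', e' = e - (f e a / f a a) • a := ⟨_, rfl⟩
      have he'E : e' ∈ E := he' ▸ E.sub_mem he (E.smul_mem _ ha)
      have he'a : f e' a = 0 := by rw [he', sym_sub_left hf, hf.bilinear.smul_left, div_mul_cancel₀ _ haa, sub_self]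
      have he'y : f e' y = f e y := by
        rw [he', sym_sub_left hf, hf.bilinear.smul_left, hf.symm a y, hya, mul_zero, sub_zero]
      have h3 := hcon (e' + y) (E.add_mem he'E hy.1) (by rw [hf.bilinear.add_left, he'a, hya, add_zero])
      rw [hf.bilinear.add_left, hf.bilinear.add_right, hf.bilinear.add_right, hcon e' he'E he'a, hcon y hy.1 hya,
        hf.symm y e', he'y] at h3
      exact hey ((mul_eq_zero.1 (show (2 : F) * f e y = 0 by linear_combination h3)).resolve_left h2)
    intro c hc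
    obtain ⟨e, he, h0⟩ := exists_translate_zero hf h2 ha hb (by rw [hf.symm, hba]) haa hbb c
    exact hshift c e he hc h0
  refine ⟨l, E, hE, ?_, hzero, hzero'⟩
  obtain ⟨C, hC⟩ := E.exists_isCompl
  have h1 := Submodule.finrank_add_eq_of_isCompl hC
  rw [Module.finrank_fintype_fun_eq_card] at h1
  by_contra hlt
  obtain ⟨z, hz, hz0, hzz⟩ := exists_zero_one (d := fun x y => f' x y - l * f x y)
    (fun x y w => by rw [hf'.bilinear.add_left, hf.bilinear.add_left]; ring)
    (fun c x w => by rw [hf'.bilinear.smul_left, hf.bilinear.smul_left]; ring)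
    (fun x y => by rw [hf'.symm, hf.symm]) (W := C) (by omega)
  exact hz0 (Submodule.disjoint_def.1 hC.disjoint z (hzero' z (sub_eq_zero.1 hzz)) hz)

/-- a singular point with two different tangent hyperplanes -/
theorem exists_good (hn : 6 ≤ Fintype.card ι) {g : GL ι F} (hg : g ∈ M) (hgS : g ∉ similarityGroup f) :
    ∃ k ∈ M, ∃ z, z ≠ 0 ∧ f z z = 0 ∧ pull f k z z = 0 ∧ ∀ l : F, ∃ x, pull f k x z ≠ l * f x z := by
  by_contra hcon
  push Not at hcon
  have hbad : ∀ k ∈ M, ∀ z, f z z = 0 → pull f k z z = 0 → ∃ l : F, ∀ x, pull f k x z = l * f x z := by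
    intro k hk z hzz hzz'
    rcases eq_or_ne z 0 with rfl | hz
    · exact ⟨0, fun x => by rw [sym_zero_right (pull_symm hf k), zero_mul]⟩
    exact hcon k hk z hz hzz hzz'
  have hf' := pull_symm hf g
  obtain ⟨l, E, hE, hdimE, -, hEan⟩ := pencil hf h2 hf' hn (hbad g hg)
  have hl0 : l ≠ 0 := by
    obtain ⟨z, hz, hz0⟩ := Submodule.exists_mem_ne_zero_of_ne_bot (p := E) (fun h => by
      rw [h, finrank_bot] at hdimE; omega)
    obtain ⟨x, hx⟩ := (hf'.nondegenerate z hz0).1
    intro h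
    exact hx (by rw [(hE z).1 hz x, h, zero_mul])
  have hEtop : E ≠ ⊤ := fun h => hgS ⟨Units.mk0 l hl0, fun x y => (hE y).1 (h ▸ Submodule.mem_top) x⟩
  -- a singular vector of `E` with tangent hyperplane outside `E`
  obtain ⟨u, hu, hu0, huu, a, hua, haE⟩ : ∃ u ∈ E, u ≠ 0 ∧ f u u = 0 ∧ ∃ a, f u a = 0 ∧ a ∉ E := by
    obtain ⟨u₁, hu₁, hu₁0, hu₁u⟩ := exists_zero_one hf.bilinear.add_left hf.bilinear.smul_left hf.symm (W := E)
      (by omega)
    obtain ⟨φ, hφ, -⟩ := exists_dual (⊥ : Submodule F (ι → F)) (fun h => hu₁0 ((Submodule.mem_bot F).1 h))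
    have h1 := finrank_le_inf_ker E (dotFun φ)
    obtain ⟨u₂, hu₂, hu₂0, hu₂u⟩ := exists_zero_one hf.bilinear.add_left hf.bilinear.smul_left hf.symm
      (W := E ⊓ LinearMap.ker (dotFun φ)) (by omega)
    by_contra hno
    push Not at hno
    refine hEtop (eq_top_iff.2 fun x _ => ?_)
    have hind : u₂ ∉ Submodule.span F ({u₁} : Set (ι → F)) := fun hm => by
      obtain ⟨c, hc⟩ := Submodule.mem_span_singleton.1 hm
      have h3 : φ ⬝ᵥ u₂ = 0 := hu₂.2
      rw [← hc, dotProduct_smul, hφ, smul_eq_mul, mul_one] at h3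
      exact hu₂0 (by rw [← hc, h3, zero_smul])
    obtain ⟨p, hp, hp1⟩ := exists_pairing hf hind
    have h3 := E.add_mem (hno u₂ hu₂.1 hu₂0 hu₂u (x - f u₂ x • p) (by
        rw [sym_sub_right hf, hf.bilinear.smul_right, hp, mul_one, sub_self]))
      (E.smul_mem (f u₂ x) (hno u₁ hu₁ hu₁0 hu₁u p (hp1 u₁ (Submodule.mem_span_singleton_self u₁))))
    rwa [sub_add_cancel] at h3
  have haa : pull f g a a ≠ l * f a a := fun h => haE (hEan a h)
  obtain ⟨h, hhM, hhf⟩ := eichs_of_le hf h2 hM huu a hua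
  have hau : f a u = 0 := by rw [hf.symm, hua]
  obtain ⟨m, E', hE', -, hE'0, hE'an⟩ := pencil hf' h2 (pull_symm hf' h) hn (fun z hzz hzz' => by
    obtain ⟨r, hr⟩ := hbad (g * h * g⁻¹) (M.mul_mem (M.mul_mem hg hhM) (M.inv_mem hg))
      ((g : Matrix ι ι F) *ᵥ z) hzz (by
        simp only [pull, gl_mul_mulVec, gl_inv_mulVec]
        exact hzz')
    refine ⟨r, fun x => ?_⟩
    have h1 := hr ((g : Matrix ι ι F) *ᵥ x)
    simp only [pull, gl_mul_mulVec, gl_inv_mulVec] at h1
    exact h1)
  have hfix : ∀ x, f x u = 0 → f x a = 0 → (h : Matrix ι ι F) *ᵥ x = x := fun x h1 h3 => by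
    rw [hhf, h1, h3]
    simp
  -- the multiplier of the second pencil is one
  have hm : m = 1 := by
    have hu' := (hE u).1 hu
    have hhu : (h : Matrix ι ι F) *ᵥ u = u := hfix u huu (by rw [hua])
    have hzz' : pull f g u u = 0 := by rw [hu', huu, mul_zero]
    obtain ⟨x, hx⟩ := (hf.nondegenerate u hu0).1
    have h6 := (hE' u).1 (hE'0 u hzz' (by rw [pull, hhu, hzz'])) x
    rw [pull, hhu, hu', hu' x, hhf x] at h6
    simp only [sym_sub_left hf, hf.bilinear.add_left, hf.bilinear.smul_left, hau, huu, mul_zero, sub_zero,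
      add_zero] at h6
    exact (mul_eq_right₀ (mul_ne_zero hl0 hx)).1 h6.symm
  have huE := (hE u).1 hu
  have hha : (h : Matrix ι ι F) *ᵥ a = a - f a a • u := by
    rw [hhf, hau]
    simp
  have hmem : a ∈ E' := hE'an a (by
    rw [hm, one_mul, pull, hha, sym_sub_left hf', sym_sub_right hf', sym_sub_right hf', hf'.bilinear.smul_left,
      hf'.bilinear.smul_left, hf'.bilinear.smul_right, hf'.bilinear.smul_right, hf'.symm u a, huE a, huE u, hau, huu]
    ring)
  obtain ⟨x, hx⟩ := (hf.nondegenerate u hu0).1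
  have h7 := (hE' a).1 hmem x
  rw [hm, one_mul, pull, hha, hhf x] at h7
  simp only [sym_sub_left hf', sym_sub_right hf', hf'.bilinear.add_left, hf'.bilinear.smul_left,
    hf'.bilinear.smul_right, hf'.symm u a, huE, hau, huu, mul_zero, sub_zero] at h7
  refine haa (mul_left_cancel₀ hx ?_)
  linear_combination h7

/-- a subgroup containing the orthogonal similarities and one further element has all centres -/
theorem fullSub_top_of_not_le (hn : 6 ≤ Fintype.card ι) (hMS : ¬ M ≤ similarityGroup f) : fullSub M = ⊤ := by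
  obtain ⟨g, hg, hgS⟩ := SetLike.not_le_iff_exists.1 hMS
  obtain ⟨k, hk, z, hz0, hzz, hzz', hne⟩ := exists_good hf h2 hM hn hg hgS
  obtain ⟨t, htu, hts, -, ht⟩ := exists_axis hf h2 (pull_symm hf k) (by omega) hz0 hzz hzz'
    (eichs_of_le hf h2 hM hzz) (eichs_pull hf h2 hM hk hzz') hne
  exact fullSub_top_of_singular hf h2 hM hn hz0 hzz (fullC_of_axis hf h2 hM hn hz0 hzz htu hts ht)

end CfsgLib.Perm.Trans.Orth
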