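import Cfsg.Agent.Lib.Perm.Trans.SubfSL
import Cfsg.Agent.Lib.Perm.Dickson.TwoTransv

/-!
# Rational transvections and one further transvection in odd characteristic

If the centre and the axis of a transvection of `M` are not rational, then together with a suitable rational
transvection it generates, by Dickson's theorem, a group containing an irrational multiple of the rational one.
-/

set_option autoImplicit false
set_option linter.all false

namespace CfsgLib.Perm.Trans.Subf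

open scoped Matrix
open Matrix Cfsg.Geo CfsgLib.Perm.Asch CfsgLib.Perm.Trans
open CfsgLib.Perm.Dickson (SL2F trA trB transv_image_cases slToG2 slToG2_eq_one slToG2_range)

variable {ι : Type} [Fintype ι] [DecidableEq ι] {F : Type*} [Field F] [Fintype F]

/-- two non-commuting transvections generate the multiple of the first by the inverse of their product -/
theorem pair_root (h2 : (2 : F) ≠ 0) {M : Subgroup (GL ι F)} {a v φ ψ : ι → F} (hA : Has M a φ) (hV : Has M v ψ)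
    {l : F} (hl : l = (φ ⬝ᵥ v) * (ψ ⬝ᵥ a)) (hl0 : l ≠ 0) :
    Has M a (l⁻¹ • φ) ∨ l ^ 2 = -1 := by
  classical
  have hb : ψ ⬝ᵥ a ≠ 0 := fun e => hl0 (by rw [hl, e, mul_zero])
  obtain ⟨p', hp'⟩ : ∃ p', p' = (ψ ⬝ᵥ a)⁻¹ • ψ := ⟨_, rfl⟩
  obtain ⟨q', hq'⟩ : ∃ q', q' = l⁻¹ • φ := ⟨_, rfl⟩
  obtain ⟨e, he⟩ : ∃ e, e = (ψ ⬝ᵥ a) • v := ⟨_, rfl⟩
  have hpa : p' ⬝ᵥ a = 1 := by rw [hp', smul_dotProduct, smul_eq_mul, inv_mul_cancel₀ hb]
  have hpe : p' ⬝ᵥ e = 0 := by rw [hp', he, smul_dotProduct, dotProduct_smul, hV.orth, smul_zero, smul_zero]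
  have hqa : q' ⬝ᵥ a = 0 := by rw [hq', smul_dotProduct, hA.orth, smul_zero]
  have hqe : q' ⬝ᵥ e = 1 := by
    rw [hq', he, smul_dotProduct, dotProduct_smul, smul_eq_mul, smul_eq_mul, mul_comm (ψ ⬝ᵥ a), ← hl,
      inv_mul_cancel₀ hl0]
  -- the two-dimensional representation
  obtain ⟨f, hfe⟩ : ∃ f : SL2F F →* Matrix ι ι F, ∀ A w, f A *ᵥ w = w +
      ((A.1 0 0 - 1) * (p' ⬝ᵥ w) + A.1 0 1 * (q' ⬝ᵥ w)) • a +
      (A.1 1 0 * (p' ⬝ᵥ w) + (A.1 1 1 - 1) * (q' ⬝ᵥ w)) • e := by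
    let m : SL2F F → Matrix ι ι F := fun A => 1 + vecMulVec a ((A.1 0 0 - 1) • p' + A.1 0 1 • q') +
      vecMulVec e (A.1 1 0 • p' + (A.1 1 1 - 1) • q')
    have hm : ∀ A w, m A *ᵥ w = w + ((A.1 0 0 - 1) * (p' ⬝ᵥ w) + A.1 0 1 * (q' ⬝ᵥ w)) • a +
        (A.1 1 0 * (p' ⬝ᵥ w) + (A.1 1 1 - 1) * (q' ⬝ᵥ w)) • e := fun A w => by
      simp only [m, add_mulVec, one_mulVec, vecMulVec_mulVec, op_smul_eq_smul, add_dotProduct, smul_dotProduct,
        smul_eq_mul]
    refine ⟨⟨⟨m, Matrix.ext_iff_mulVec.2 fun w => ?_⟩, fun A B => Matrix.ext_iff_mulVec.2 fun w => ?_⟩, hm⟩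
    · rw [hm, one_mulVec]
      simp
    · rw [← mulVec_mulVec, hm, hm B, hm]
      simp only [Matrix.SpecialLinearGroup.coe_mul, Matrix.mul_apply, Fin.sum_univ_two, dotProduct_add,
        dotProduct_smul, hpa, hpe, hqa, hqe, smul_eq_mul]
      module
  obtain ⟨Φ, hΦ⟩ : ∃ Φ : SL2F F →* GL ι F, Φ = f.toHomUnits := ⟨_, rfl⟩
  have hΦe : ∀ A w, (Φ A : Matrix ι ι F) *ᵥ w = f A *ᵥ w := fun A w => by rw [hΦ]; rfl
  have hΦtr : ∀ x : F, ∀ h : (x • q') ⬝ᵥ a = 0, Φ (trA x) = tv a (x • q') h := fun x h => gl_ext_vec fun w => by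
    rw [hΦe, hfe, tv_mulVec, smul_dotProduct, smul_eq_mul]
    simp [trA]
  have hΦB : Φ trB = tv v ψ hV.orth := gl_ext_vec fun w => by
    rw [hΦe, hfe, tv_mulVec, he, smul_smul, hp', smul_dotProduct, smul_eq_mul]
    simp [trB]
    field_simp
  -- the subfield of the product
  obtain ⟨p, hp⟩ := CharP.exists F
  haveI : Fact p.Prime := ⟨CharP.char_is_prime F p⟩
  have hp2 : p ≠ 2 := fun e => h2 (by have := CharP.cast_eq_zero F p; rw [e] at this; exact_mod_cast this)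
  let L0 := Subfield.closure ({l} : Set F)
  let l0 : L0 := ⟨l, Subfield.subset_closure rfl⟩
  have hgen : Subfield.closure ({l0} : Set L0) = ⊤ := by
    rw [eq_top_iff]
    rintro ⟨b, hb⟩ -
    induction hb using Subfield.closure_induction with
    | mem b h => obtain rfl : b = l := h; exact Subfield.subset_closure rfl
    | one => exact one_mem (Subfield.closure ({l0} : Set L0))
    | add b c hb hc ihb ihc => exact add_mem ihb ihc
    | neg b hb ihb => exact neg_mem ihb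
    | inv b hb ihb => exact inv_mem ihb
    | mul b c hb hc ihb ihc => exact mul_mem ihb ihc
  haveI : CharP L0 p := (L0.subtype.charP_iff L0.subtype.injective _).2 inferInstance
  have h20 : (2 : L0) ≠ 0 := fun e => h2 (by
    have := congrArg L0.subtype e
    rwa [map_ofNat, map_zero] at this)
  set ι0 : SL2F L0 →* SL2F F := Matrix.SpecialLinearGroup.map L0.subtype with hι0
  have hι : ∀ z : L0, ι0 (trA z) = trA (z : F) := fun z => Subtype.ext (by
    ext i j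
    show L0.subtype ((trA z).1 i j) = (trA (z : F)).1 i j
    fin_cases i <;> fin_cases j <;> simp [trA])
  rcases transv_image_cases p h20 hp2 (l := l0) (fun e => hl0 (congrArg Subtype.val e)) hgen with h | ⟨-, hl2⟩
  swap
  · exact Or.inr (congrArg Subtype.val hl2)
  left
  have hm : slToG2 (trA (1 : L0)) ∈ (Subgroup.closure {trA l0, (trB : SL2F L0)}).map slToG2 := by
    rw [h, ← slToG2_range]; exact ⟨_, rfl⟩
  obtain ⟨g, hg, hge⟩ := hm
  have hle : Subgroup.closure {trA l0, (trB : SL2F L0)} ≤ M.comap (Φ.comp ι0) := by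
    rw [Subgroup.closure_le]
    rintro _ (rfl | rfl)
    · show Φ (ι0 (trA l0)) ∈ M
      have e1 : l • q' = φ := by rw [hq', smul_smul, mul_inv_cancel₀ hl0, one_smul]
      rw [hι, hΦtr l (by rw [e1]; exact hA.orth)]
      obtain ⟨h0, hA'⟩ := hA
      convert hA' using 2
    · show Φ (ι0 trB) ∈ M
      rw [show ι0 (trB : SL2F L0) = trB from Subtype.ext (by
        ext i j
        show L0.subtype ((trB : SL2F L0).1 i j) = (trB : SL2F F).1 i j
        fin_cases i <;> fin_cases j <;> simp [trB]), hΦB]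
      exact hV.2
  have hpow : ∀ (x : L0) (k : ℕ), trA x ^ k = trA (k • x) := fun x k => by
    induction k with
    | zero => rw [pow_zero]; exact Subtype.ext (by simp [trA, Matrix.one_fin_two])
    | succ k ih =>
      rw [pow_succ, ih]
      refine Subtype.ext ?_
      show (trA (k • x)).1 * (trA x).1 = (trA ((k + 1) • x)).1
      simp [trA, Matrix.mul_fin_two, add_mul, add_comm]
  have hgp : g ^ (p + 1) = trA (1 : L0) := by
    set z := g * (trA (1 : L0))⁻¹ with hz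
    have hz1 : slToG2 z = 1 := by rw [hz, map_mul, map_inv, hge, mul_inv_cancel]
    have hzz := slToG2_eq_one z hz1
    clear_value z
    have hcomm : Commute z (trA (1 : L0)) := Subtype.ext (by
      rw [Matrix.SpecialLinearGroup.coe_mul, Matrix.SpecialLinearGroup.coe_mul]
      rcases hzz with e | e <;> simp [e])
    have hzp : z ^ (p + 1) = 1 := Subtype.ext (by
      rw [Matrix.SpecialLinearGroup.coe_pow]
      rcases hzz with e | e
      · rw [e, one_pow]; rfl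
      · rw [e, (((Fact.out : p.Prime).odd_of_ne_two hp2).add_one).neg_one_pow]; rfl)
    have e : g = z * trA (1 : L0) := by rw [hz, inv_mul_cancel_right]
    rw [e, hcomm.mul_pow, hzp, one_mul, hpow, succ_nsmul, nsmul_one, CharP.cast_eq_zero, zero_add]
  have hend : Φ (ι0 (trA (1 : L0))) ∈ M := by
    rw [← hgp]
    exact hle (pow_mem hg (p + 1))
  rw [hι, OneMemClass.coe_one, hΦtr 1 (by rw [one_smul, hqa])] at hend
  rw [← hq']
  have h1 : Has M a ((1 : F) • q') := ⟨_, hend⟩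
  rwa [one_smul] at h1

variable {F₀ : Subfield F} {P : GL ι F} {M : Subgroup (GL ι F)}
variable (hHM : subfieldSubgroup F₀ P ⊓ specialLinear ι F ≤ M) (hn : 3 ≤ Fintype.card ι) (hT : SlTight F₀ P M)
include hHM hn hT

omit hn in
/-- the products with rational transvections have rational squares -/
theorem prod_sq_rational (h2 : (2 : F) ≠ 0) {v ψ : ι → F} (hv : Has M v ψ) {a φ : ι → F₀} (h : φ ⬝ᵥ a = 0) :
    ((emD F₀ P φ ⬝ᵥ v) * (ψ ⬝ᵥ em F₀ P a)) ^ 2 ∈ F₀ := by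
  obtain ⟨l, hl⟩ : ∃ l, l = (emD F₀ P φ ⬝ᵥ v) * (ψ ⬝ᵥ em F₀ P a) := ⟨_, rfl⟩
  rw [← hl]
  rcases eq_or_ne l 0 with rfl | hl0
  · rw [zero_pow two_ne_zero]; exact F₀.zero_mem
  have ha : a ≠ 0 := fun e => hl0 (by rw [hl, e, em_zero, dotProduct_zero, mul_zero])
  have hφ : φ ≠ 0 := fun e => hl0 (by
    rw [hl, e, show emD F₀ P (0 : ι → F₀) = 0 by simp [emD, ← Pi.zero_def], zero_dotProduct, zero_mul])
  rcases pair_root h2 (sl_rat_one hHM h) hv hl hl0 with h1 | h1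
  · have h3 := hT a φ ha hφ h _ h1
    rw [← inv_inv l]
    exact F₀.toSubring.pow_mem (F₀.inv_mem h3) 2
  · rw [h1]; exact F₀.neg_mem F₀.one_mem

/-- all centres are rational -/
theorem centre_rational_odd (h2 : (2 : F) ≠ 0) {v ψ : ι → F} (hψ : ψ ≠ 0) (hv : Has M v ψ) :
    ∃ (t : F) (d : ι → F₀), v = t • em F₀ P d := by
  classical
  have hkey : ∀ a : ι → F₀, ψ ⬝ᵥ em F₀ P a ≠ 0 →
      ∃ (c β : F) (b : ι → F₀), v = c • em F₀ P b + β • em F₀ P a := by
    intro a ha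
    obtain ⟨χ, hχ, -⟩ := exists_dual (⊥ : Submodule F₀ (ι → F₀)) (x := a) (fun hm => ha (by
      rw [(Submodule.mem_bot F₀).1 hm, em_zero, dotProduct_zero]))
    obtain ⟨c, hc, hall⟩ : ∃ c : F, c ≠ 0 ∧ ∀ φ : ι → F₀, φ ⬝ᵥ a = 0 → (emD F₀ P φ ⬝ᵥ v) / c ∈ F₀ := by
      by_cases h0 : ∃ φ : ι → F₀, φ ⬝ᵥ a = 0 ∧ emD F₀ P φ ⬝ᵥ v ≠ 0
      swap
      · push Not at h0
        exact ⟨1, one_ne_zero, fun φ h => by rw [h0 φ h, zero_div]; exact F₀.zero_mem⟩
      obtain ⟨φ₀, hφ₀, hne⟩ := h0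
      refine ⟨_, hne, fun φ h => ?_⟩
      obtain ⟨X, hX⟩ : ∃ X, X = (emD F₀ P φ ⬝ᵥ v) * (ψ ⬝ᵥ em F₀ P a) := ⟨_, rfl⟩
      obtain ⟨Y, hY⟩ : ∃ Y, Y = (emD F₀ P φ₀ ⬝ᵥ v) * (ψ ⬝ᵥ em F₀ P a) := ⟨_, rfl⟩
      have hsum := prod_sq_rational hHM hT h2 hv (a := a) (φ := φ + φ₀) (by rw [add_dotProduct, h, hφ₀, add_zero])
      rw [emD_add, add_dotProduct, add_mul, ← hX, ← hY] at hsum
      have hXX : X ^ 2 ∈ F₀ := hX ▸ prod_sq_rational hHM hT h2 hv h
      have hYY : Y ^ 2 ∈ F₀ := hY ▸ prod_sq_rational hHM hT h2 hv hφ₀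
      have hXY : 2 * (X * Y) ∈ F₀ := by
        have := F₀.sub_mem (F₀.sub_mem hsum hXX) hYY
        rwa [show (X + Y) ^ 2 - X ^ 2 - Y ^ 2 = 2 * (X * Y) by ring] at this
      have hY0 : Y ≠ 0 := hY ▸ mul_ne_zero hne ha
      rw [show (emD F₀ P φ ⬝ᵥ v) / (emD F₀ P φ₀ ⬝ᵥ v) = 2 * (X * Y) / (2 * Y ^ 2) by
        rw [mul_div_mul_left _ _ h2, pow_two, mul_div_mul_right _ _ hY0, hX, hY, mul_div_mul_right _ _ ha]]
      exact F₀.div_mem hXY (F₀.mul_mem (by rw [show (2 : F) = ((2 : F₀) : F) by push_cast; rfl]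
                                           exact Subtype.coe_prop _) hYY)
    obtain ⟨b, hb⟩ := eq_em F₀ P (v := c⁻¹ • (v - (emD F₀ P χ ⬝ᵥ v) • em F₀ P a)) fun η => by
      have h1 := hall (η - (η ⬝ᵥ a) • χ) (by
        rw [sub_dotProduct, smul_dotProduct, hχ, smul_eq_mul, mul_one, sub_self])
      have hsub : emD F₀ P (η - (η ⬝ᵥ a) • χ) = emD F₀ P η - ((η ⬝ᵥ a : F₀) : F) • emD F₀ P χ := by
        have h3 := emD_add F₀ P (η - (η ⬝ᵥ a) • χ) ((η ⬝ᵥ a) • χ)
        rw [sub_add_cancel, emD_smul] at h3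
        rw [h3, add_sub_cancel_right]
      rw [hsub, sub_dotProduct, smul_dotProduct, smul_eq_mul] at h1
      rwa [dotProduct_smul, dotProduct_sub, dotProduct_smul, emD_em, smul_eq_mul, smul_eq_mul,
        mul_comm (emD F₀ P χ ⬝ᵥ v), ← div_eq_inv_mul]
    refine ⟨c, emD F₀ P χ ⬝ᵥ v, b, ?_⟩
    rw [← hb, smul_smul, mul_inv_cancel₀ hc, one_smul, sub_add_cancel]
  obtain ⟨a, ha⟩ : ∃ a : ι → F₀, ψ ⬝ᵥ em F₀ P a ≠ 0 := by
    by_contra hcon
    push Not at hcon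
    refine hψ (funext fun i => ?_)
    obtain ⟨co, hco⟩ := exists_coords F₀ P (Pi.single i (1 : F))
    have h1 : ψ ⬝ᵥ Pi.single i 1 = 0 := by
      rw [hco, dotProduct_sum]
      exact Finset.sum_eq_zero fun k _ => by rw [dotProduct_smul, hcon, smul_zero]
    rwa [dotProduct_single, mul_one] at h1
  obtain ⟨c, β, b, hv1⟩ := hkey a ha
  obtain ⟨a', ha', hψa'⟩ : ∃ a', a' ∉ Submodule.span F₀ ({a, b} : Set (ι → F₀)) ∧ ψ ⬝ᵥ em F₀ P a' ≠ 0 := by
    obtain ⟨y, hy⟩ : ∃ y, y ∉ Submodule.span F₀ ({a, b} : Set (ι → F₀)) := by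
      by_contra hcon
      push Not at hcon
      have h1 := (Submodule.eq_top_iff'.2 hcon)
      have h3 := finrank_span_finset_le_card (R := F₀) ({a, b} : Finset (ι → F₀))
      rw [Finset.coe_pair, Set.finrank, h1, finrank_top, Module.finrank_fintype_fun_eq_card] at h3
      have := Finset.card_le_two (a := a) (b := b)
      omega
    by_cases hy0 : ψ ⬝ᵥ em F₀ P y = 0
    · refine ⟨y + a, fun hm => hy ?_, by rwa [em_add, dotProduct_add, hy0, zero_add]⟩
      have := Submodule.sub_mem _ hm (Submodule.subset_span (show a ∈ ({a, b} : Set (ι → F₀)) by simp))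
      rwa [add_sub_cancel_right] at this
    · exact ⟨y, hy, hy0⟩
  obtain ⟨c', β', b', hv2⟩ := hkey a' hψa'
  obtain ⟨φ, hφ1, hφ⟩ := exists_dual _ ha'
  refine ⟨c', b' - (φ ⬝ᵥ b') • a', ?_⟩
  have h0 : emD F₀ P φ ⬝ᵥ v = 0 := by
    rw [hv1, dotProduct_add, dotProduct_smul, dotProduct_smul, emD_em, emD_em,
      hφ a (Submodule.subset_span (by simp)), hφ b (Submodule.subset_span (by simp))]
    simp
  rw [hv2, dotProduct_add, dotProduct_smul, dotProduct_smul, emD_em, emD_em, hφ1, smul_eq_mul, smul_eq_mul] at h0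
  push_cast at h0
  rw [mul_one] at h0
  rw [hv2, em_sub, em_smul, smul_sub, smul_smul, show β' = -(c' * ((φ ⬝ᵥ b' : F₀) : F)) by linear_combination h0,
    neg_smul, sub_eq_add_neg]

/-- tightness forces rationality in odd characteristic -/
theorem sl_tight_le_odd (h2 : (2 : F) ≠ 0) : M ≤ subfieldSubgroup F₀ P := by
  intro g hg
  obtain ⟨x, hx⟩ : ∃ x : ι → F₀, x ≠ 0 := by
    obtain ⟨i⟩ : Nonempty ι := Fintype.card_pos_iff.1 (by omega)
    exact ⟨Pi.single i 1, fun h => one_ne_zero (α := F₀) (by simpa using congrFun h i)⟩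
  obtain ⟨χ, hχ0, hχx, -⟩ := exists_ann hn x x
  have h1 := (sl_rat_one hHM (a := x) hχx).conj hg
  have hne : emD F₀ P χ ᵥ* ((g⁻¹ : GL ι F) : Matrix ι ι F) ≠ 0 := fun h0 => emD_ne_zero F₀ P hχ0 (by
    have := congrArg (fun v => v ᵥ* (g : Matrix ι ι F)) h0
    simpa [vecMul_vecMul] using this)
  obtain ⟨t, d, hd⟩ := centre_rational_odd hHM hn hT h2 hne h1
  exact mem_of_point hHM hn hT hg hx hd

end CfsgLib.Perm.Trans.Subf
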