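import Cfsg.Agent.Lib.Perm.Trans.SubfSL
import Cfsg.Agent.Lib.Perm.Trans.SubfSLOdd
import Cfsg.Agent.Lib.Perm.Trans.UnitSubfEmb

/-!
# Subfield subgroups of special linear groups are maximal
-/

set_option autoImplicit false
set_option linter.all false

namespace CfsgLib.Perm.Trans.Subf

open scoped Matrix
open Matrix Cfsg.Geo CfsgLib.Perm.Asch CfsgLib.Perm.Trans
open CfsgLib.Perm.Trans.Unit (Narrow Narrow.fixed Narrow.conj dihedral_cases subfieldFintype)

variable {ι : Type} [Fintype ι] [DecidableEq ι] {F : Type*} [Field F] [Fintype F]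
variable {F₀ : Subfield F} {P : GL ι F} {r : ℕ}

theorem em_single_eq (i : ι) : em F₀ P (Pi.single i 1) = (P : Matrix ι ι F) *ᵥ Pi.single i 1 := by
  rw [em]
  congr 1
  funext j
  rcases eq_or_ne j i with rfl | hji
  · simp
  · simp [hji]

theorem em_single_independent {k : ℕ} (e : Fin k ↪ ι) :
    LinearIndependent F fun j => em F₀ P (Pi.single (e j) 1) := by
  rw [Fintype.linearIndependent_iff]
  intro c hc i
  have h := congrArg (fun v => emD F₀ P (Pi.single (e i) 1) ⬝ᵥ v) hc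
  simp only [dotProduct_sum, dotProduct_smul, emD_em, single_dotProduct, one_mul, dotProduct_zero, smul_eq_mul] at h
  rw [Finset.sum_eq_single i] at h
  · simpa using h
  · intro j _ hj
    rw [Pi.single_eq_of_ne (fun hh => hj (e.injective hh).symm)]
    push_cast
    rw [mul_zero]
  · simp

/-- a diagonal involution of determinant one -/
theorem exists_diag_inv (T : Finset ι) (hT : Even T.card) :
    ∃ g : GL ι F₀, (g : Matrix ι ι F₀).det = 1 ∧ g * g = 1 ∧
      (∀ i ∈ T, (g : Matrix ι ι F₀) *ᵥ Pi.single i 1 = -Pi.single i 1) ∧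
      ∀ x : ι → F₀, ∀ i ∉ T, ((g : Matrix ι ι F₀) *ᵥ x) i = x i := by
  obtain ⟨d, hd⟩ : ∃ d : ι → F₀, d = fun i => if i ∈ T then -1 else 1 := ⟨_, rfl⟩
  have hdd : ∀ i, d i * d i = 1 := fun i => by
    rw [hd]
    by_cases h : i ∈ T <;> simp [h]
  refine ⟨⟨Matrix.diagonal d, Matrix.diagonal d, by simp [hdd], by simp [hdd]⟩, ?_, Units.ext (by simp [hdd]),
    fun i hi => ?_, fun x i hi => ?_⟩
  · show (Matrix.diagonal d).det = 1
    rw [det_diagonal, hd, Finset.prod_ite, Finset.prod_const, Finset.prod_const_one, mul_one,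
      Finset.filter_mem_eq_inter, Finset.univ_inter, hT.neg_one_pow]
  · show Matrix.diagonal d *ᵥ Pi.single i 1 = _
    funext j
    rw [mulVec_diagonal, hd]
    rcases eq_or_ne j i with rfl | hji
    · simp [hi]
    · simp [hji]
  · show (Matrix.diagonal d *ᵥ x) i = _
    rw [mulVec_diagonal, hd]
    simp [hi]

omit [Fintype F] in
theorem lift_moved (g : GL ι F₀) (S : Submodule F (ι → F))
    (h : ∀ a, em F₀ P ((g : Matrix ι ι F₀) *ᵥ a - a) ∈ S) (w : ι → F) :
    (lift F₀ P g : Matrix ι ι F) *ᵥ w - w ∈ S := by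
  obtain ⟨a, rfl⟩ := exists_coords F₀ P w
  rw [mulVec_sum, ← Finset.sum_sub_distrib]
  refine Submodule.sum_mem _ fun k _ => ?_
  rw [mulVec_smul, lift_em, ← smul_sub, ← em_sub]
  exact S.smul_mem _ (h _)

/-- two classes of small involutions -/
theorem exists_sl_involutions (hn : 6 ≤ Fintype.card ι) :
    ∃ i₁ ∈ subfieldSubgroup F₀ P ⊓ specialLinear ι F, ∃ i₂ ∈ subfieldSubgroup F₀ P ⊓ specialLinear ι F,
      i₁ * i₁ = 1 ∧ i₂ * i₂ = 1 ∧ i₁ ≠ 1 ∧ i₂ ≠ 1 ∧ Narrow 2 i₁ ∧ Narrow 4 i₂ ∧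
        (∀ g : GL ι F, g * i₁ * g⁻¹ ≠ i₂) ∧
        ((2 : F) ≠ 0 → ∃ x : ι → F₀, x ≠ 0 ∧ (i₁ : Matrix ι ι F) *ᵥ em F₀ P x = -em F₀ P x) := by
  classical
  obtain ⟨e⟩ : Nonempty (Fin 4 ↪ ι) := Function.Embedding.nonempty_of_card_le (by rw [Fintype.card_fin]; omega)
  have hlift : ∀ g : GL ι F₀, (g : Matrix ι ι F₀).det = 1 →
      lift F₀ P g ∈ subfieldSubgroup F₀ P ⊓ specialLinear ι F := fun g hg =>
    ⟨lift_mem F₀ P g, Units.ext (by
      show (lift F₀ P g : Matrix ι ι F).det = 1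
      rw [det_lift', hg]; rfl)⟩
  have hspan : ∀ s : Finset ι, Module.finrank F (Submodule.span F
      (↑(s.image fun i => em F₀ P (Pi.single i 1)) : Set (ι → F))) ≤ s.card := fun s =>
    (finrank_span_finset_le_card _).trans Finset.card_image_le
  have key : ∀ (i₁ i₂ : GL ι F) (S : Submodule F (ι → F)) {k : ℕ} (e' : Fin k ↪ ι), Module.finrank F S < k →
      (∀ w, (i₁ : Matrix ι ι F) *ᵥ w - w ∈ S) →
      (∀ j, ∃ w, ∃ s : F, s ≠ 0 ∧ (i₂ : Matrix ι ι F) *ᵥ w - w = s • em F₀ P (Pi.single (e' j) 1)) →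
      ∀ g : GL ι F, g * i₁ * g⁻¹ ≠ i₂ := by
    intro i₁ i₂ S k e' hS h₁ h₂ g hg
    have hmem : ∀ j, em F₀ P (Pi.single (e' j) 1) ∈ S.map (Matrix.mulVecLin (g : Matrix ι ι F)) := fun j => by
      obtain ⟨w, s, hs, hws⟩ := h₂ j
      rw [← Submodule.smul_mem_iff _ hs, ← hws]
      refine ⟨_, h₁ (((g⁻¹ : GL ι F) : Matrix ι ι F) *ᵥ w), ?_⟩
      rw [Matrix.mulVecLin_apply, mulVec_sub, gl_mulVec_inv, ← hg, gl_mul_mulVec, gl_mul_mulVec]
    have h6 := Submodule.finrank_mono (Submodule.span_le.2 (Set.range_subset_iff.2 hmem))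
    rw [finrank_span_eq_card (em_single_independent e'), Fintype.card_fin] at h6
    have := Submodule.finrank_map_le (Matrix.mulVecLin (g : Matrix ι ι F)) S
    omega
  have hsum : ∀ (T : Finset ι) (x : ι → F₀), (∀ i ∉ T, x i = 0) →
      em F₀ P x ∈ Submodule.span F (↑(T.image fun i => em F₀ P (Pi.single i 1)) : Set (ι → F)) := by
    intro T x hx
    rw [pi_eq_sum_univ' x, em_sum]
    refine Submodule.sum_mem _ fun i _ => ?_
    rw [em_smul]
    by_cases hi : i ∈ T
    · exact Submodule.smul_mem _ _ (Submodule.subset_span (Finset.mem_coe.2 (Finset.mem_image_of_mem _ hi)))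
    · rw [hx i hi]
      push_cast
      rw [zero_smul]
      exact zero_mem _
  by_cases h2 : (2 : F) = 0
  · have hne : ∀ a b : Fin 4, a ≠ b → (Pi.single (e b) (1 : F₀) : ι → F₀) ⬝ᵥ Pi.single (e a) 1 = 0 := fun a b hab => by
      rw [single_dotProduct, one_mul, Pi.single_eq_of_ne (fun h => hab (e.injective h).symm)]
    obtain ⟨t, ht⟩ : ∃ t, t = tv (Pi.single (e 0) (1 : F₀)) (Pi.single (e 1) 1) (hne 0 1 (by decide)) := ⟨_, rfl⟩
    obtain ⟨t', ht'⟩ : ∃ t', t' = tv (Pi.single (e 2) (1 : F₀)) (Pi.single (e 3) 1) (hne 2 3 (by decide)) := ⟨_, rfl⟩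
    have h20 : (2 : F₀) = 0 := Subtype.ext (by push_cast; exact h2)
    have hchar : ∀ v : ι → F₀, v + v = 0 := fun v => by rw [← two_smul F₀ v, h20, zero_smul]
    have htx : ∀ x, (t : Matrix ι ι F₀) *ᵥ x = x + x (e 1) • Pi.single (e 0) 1 := fun x => by
      rw [ht, tv_mulVec, single_dotProduct, one_mul]
    have htx' : ∀ x, (t' : Matrix ι ι F₀) *ᵥ x = x + x (e 3) • Pi.single (e 2) 1 := fun x => by
      rw [ht', tv_mulVec, single_dotProduct, one_mul]
    have hprod : ∀ x, ((t * t' : GL ι F₀) : Matrix ι ι F₀) *ᵥ x =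
        x + x (e 3) • Pi.single (e 2) 1 + x (e 1) • Pi.single (e 0) 1 := fun x => by
      rw [gl_mul_mulVec, htx, htx', Pi.add_apply, Pi.smul_apply,
        Pi.single_eq_of_ne (fun h => absurd (e.injective h) (by decide)), smul_zero, add_zero]
    have hdet : (t : Matrix ι ι F₀).det = 1 := ht ▸ congrArg Units.val (tv_mem_SL _ _ (hne 0 1 (by decide)))
    have hdet' : ((t * t' : GL ι F₀) : Matrix ι ι F₀).det = 1 := by
      rw [Units.val_mul, det_mul, hdet, one_mul]
      exact ht' ▸ congrArg Units.val (tv_mem_SL _ _ (hne 2 3 (by decide)))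
    refine ⟨lift F₀ P t, hlift t hdet, lift F₀ P (t * t'), hlift _ hdet', ?_, ?_, fun h => ?_, fun h => ?_,
      ⟨Submodule.span F ↑(({e 0} : Finset ι).image fun i => em F₀ P (Pi.single i 1)), (hspan _).trans (by simp),
        lift_moved t _ fun a => hsum _ _ fun i hi => ?_⟩,
      ⟨Submodule.span F ↑(({e 0, e 2} : Finset ι).image fun i => em F₀ P (Pi.single i 1)),
        (hspan _).trans (Finset.card_le_two.trans (by norm_num)),
        lift_moved (t * t') _ fun a => hsum _ _ fun i hi => ?_⟩,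
      key _ _ (Submodule.span F ↑(({e 0} : Finset ι).image fun i => em F₀ P (Pi.single i 1)))
        (⟨![e 0, e 2], fun a b h => by fin_cases a <;> fin_cases b <;> simp_all [e.injective.eq_iff]⟩ : Fin 2 ↪ ι)
        (lt_of_le_of_lt (hspan _) (by simp)) (lift_moved t _ fun a => hsum _ _ fun i hi => ?_) fun j => ?_,
      fun h => absurd h2 h⟩
    · rw [← map_mul, ← map_one (lift F₀ P)]
      congr 1
      refine gl_ext_vec fun x => ?_
      rw [gl_mul_mulVec, htx, htx, Units.val_one, one_mulVec, Pi.add_apply, Pi.smul_apply,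
        Pi.single_eq_of_ne (fun h => absurd (e.injective h) (by decide)), smul_zero, add_zero, add_assoc, hchar,
        add_zero]
    · rw [← map_mul, ← map_one (lift F₀ P)]
      congr 1
      refine gl_ext_vec fun x => ?_
      rw [gl_mul_mulVec, hprod, hprod, Units.val_one, one_mulVec]
      simp only [Pi.add_apply, Pi.smul_apply, ne_eq, e.injective.eq_iff, Fin.reduceEq, not_false_eq_true,
        Pi.single_eq_of_ne, smul_zero, add_zero]
      rw [show x + x (e 3) • Pi.single (e 2) (1 : F₀) + x (e 1) • Pi.single (e 0) 1 + x (e 3) • Pi.single (e 2) 1 +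
          x (e 1) • Pi.single (e 0) 1 = x + (x (e 3) • Pi.single (e 2) 1 + x (e 3) • Pi.single (e 2) 1) +
            (x (e 1) • Pi.single (e 0) 1 + x (e 1) • Pi.single (e 0) 1) by abel, hchar, hchar, add_zero, add_zero]
    · have h3 := lift_em F₀ P t (Pi.single (e 1) 1)
      rw [h, Units.val_one, one_mulVec, htx, Pi.single_eq_same, one_smul] at h3
      exact one_ne_zero (α := F₀) (by simpa using congrFun (left_eq_add.1 (em_injective F₀ P h3)) (e 0))
    · have h3 := lift_em F₀ P (t * t') (Pi.single (e 1) 1)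
      rw [h, Units.val_one, one_mulVec, hprod, Pi.single_eq_same,
        Pi.single_eq_of_ne (fun h => absurd (e.injective h) (by decide)), zero_smul, add_zero, one_smul] at h3
      exact one_ne_zero (α := F₀) (by simpa using congrFun (left_eq_add.1 (em_injective F₀ P h3)) (e 0))
    · rw [htx, add_sub_cancel_left, Pi.smul_apply, Pi.single_eq_of_ne (by simpa using hi), smul_zero]
    · simp only [Finset.mem_insert, Finset.mem_singleton, not_or] at hi
      rw [hprod, add_assoc, add_sub_cancel_left, Pi.add_apply, Pi.smul_apply, Pi.smul_apply,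
        Pi.single_eq_of_ne hi.1, Pi.single_eq_of_ne hi.2, smul_zero, smul_zero, add_zero]
    · rw [htx, add_sub_cancel_left, Pi.smul_apply, Pi.single_eq_of_ne (by simpa using hi), smul_zero]
    · fin_cases j
      · refine ⟨em F₀ P (Pi.single (e 1) 1), 1, one_ne_zero, ?_⟩
        rw [lift_em, hprod, ← em_sub, Pi.single_eq_same,
          Pi.single_eq_of_ne (fun h => absurd (e.injective h) (by decide)), zero_smul, add_zero, one_smul,
          add_sub_cancel_left, one_smul]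
        rfl
      · refine ⟨em F₀ P (Pi.single (e 3) 1), 1, one_ne_zero, ?_⟩
        rw [lift_em, hprod, ← em_sub, Pi.single_eq_same,
          Pi.single_eq_of_ne (fun h => absurd (e.injective h) (by decide)), zero_smul, add_zero, one_smul,
          add_sub_cancel_left, one_smul]
        rfl
  · obtain ⟨T, hT⟩ : ∃ T : Finset ι, T = Finset.univ.map ((Fin.castLEEmb (show 2 ≤ 4 by norm_num)).trans e) :=
      ⟨_, rfl⟩
    obtain ⟨T', hT'⟩ : ∃ T' : Finset ι, T' = Finset.univ.map e := ⟨_, rfl⟩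
    obtain ⟨d, hd, hd2, hdT, hdO⟩ := exists_diag_inv (F₀ := F₀) T (by rw [hT, Finset.card_map]; decide)
    obtain ⟨d', hd', hd2', hdT', hdO'⟩ := exists_diag_inv (F₀ := F₀) T' (by rw [hT', Finset.card_map]; decide)
    have hneg : ∀ (g : GL ι F₀) (i : ι), (g : Matrix ι ι F₀) *ᵥ Pi.single i 1 = -Pi.single i 1 →
        (lift F₀ P g : Matrix ι ι F) *ᵥ em F₀ P (Pi.single i 1) - em F₀ P (Pi.single i 1) =
          (-2 : F) • em F₀ P (Pi.single i 1) := fun g i h => by
      rw [lift_em, h, em_neg]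
      module
    have hn2 : (-2 : F) ≠ 0 := neg_ne_zero.2 h2
    have hem : ∀ i : ι, em F₀ P (Pi.single i 1) ≠ 0 := fun i =>
      em_ne_zero F₀ P (fun h => one_ne_zero (α := F₀) (by simpa using congrFun h i))
    have hne : ∀ (g : GL ι F₀) (i : ι), (g : Matrix ι ι F₀) *ᵥ Pi.single i 1 = -Pi.single i 1 →
        lift F₀ P g ≠ 1 := fun g i h h1 => by
      have h3 := hneg g i h
      rw [h1, Units.val_one, one_mulVec, sub_self, eq_comm, smul_eq_zero] at h3
      exact h3.elim hn2 (hem i)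
    refine ⟨lift F₀ P d, hlift d hd, lift F₀ P d', hlift d' hd', by rw [← map_mul, hd2, map_one],
      by rw [← map_mul, hd2', map_one], hne d (e 0) (hdT _ (by rw [hT]; exact Finset.mem_map.2 ⟨0, by simp, rfl⟩)),
      hne d' (e 0) (hdT' _ (by rw [hT']; exact Finset.mem_map_of_mem e (Finset.mem_univ _))),
      ⟨_, (hspan T).trans (by simp [hT]), lift_moved d _ fun a => hsum T _ fun i hi => ?_⟩,
      ⟨_, (hspan T').trans (by simp [hT']), lift_moved d' _ fun a => hsum T' _ fun i hi => ?_⟩,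
      key _ _ _ e (lt_of_le_of_lt (hspan T) (by simp [hT])) (lift_moved d _ fun a => hsum T _ fun i hi => ?_)
        fun j => ⟨_, -2, hn2, hneg d' (e j) (hdT' _ (by rw [hT']; exact Finset.mem_map_of_mem e (Finset.mem_univ _)))⟩,
      fun _ => ⟨Pi.single (e 0) 1, fun h => one_ne_zero (α := F₀) (by simpa using congrFun h (e 0)),
        by rw [lift_em, hdT _ (by rw [hT]; exact Finset.mem_map.2 ⟨0, by simp, rfl⟩), em_neg]⟩⟩
    · rw [Pi.sub_apply, hdO a i hi, sub_self]
    · rw [Pi.sub_apply, hdO' a i hi, sub_self]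
    · rw [Pi.sub_apply, hdO a i hi, sub_self]

/-- rational root groups force rationality -/
theorem sl_tight_le (hn : 6 ≤ Fintype.card ι) (hr : r.Prime) (hcard : Fintype.card F = Nat.card F₀ ^ r)
    {M : Subgroup (GL ι F)} (hHM : subfieldSubgroup F₀ P ⊓ specialLinear ι F ≤ M) (hT : SlTight F₀ P M) :
    M ≤ subfieldSubgroup F₀ P := by
  have hn3 : 3 ≤ Fintype.card ι := by omega
  by_cases h2 : (2 : F) = 0
  swap
  · exact sl_tight_le_odd hHM hn3 hT h2
  intro g hg
  by_contra hgH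
  obtain ⟨i₁, h₁, i₂, h₂, h₁₂, h₂₂, h₁1, h₂1, hn₁, hn₂, hnc, hrat⟩ := exists_sl_involutions (F₀ := F₀) (P := P) hn
  obtain ⟨K₁, hK₁, hK₁f⟩ := Narrow.fixed hn₁
  obtain ⟨K₂, hK₂, hK₂f⟩ := Narrow.fixed hn₂
  have ha₁ := sl_anchored' hr hcard h₁.1 h₁₂ h₁1 (K := K₁) (by omega) (Or.inl h2) hK₁f
  have ha₂ := sl_anchored' hr hcard h₂.1 h₂₂ h₂1 (K := K₂) (by omega) (Or.inl h2) hK₂f
  obtain ⟨z', hz'def⟩ : ∃ z', z' = g * i₂ * g⁻¹ := ⟨_, rfl⟩
  have hz'M : z' ∈ M := hz'def ▸ M.mul_mem (M.mul_mem hg (hHM h₂)) (M.inv_mem hg)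
  have hz'2 : z' * z' = 1 := by
    rw [hz'def, show g * i₂ * g⁻¹ * (g * i₂ * g⁻¹) = g * (i₂ * i₂) * g⁻¹ by group, h₂₂, mul_one, mul_inv_cancel]
  obtain ⟨K₃, hK₃, hK₃f⟩ := Narrow.fixed (Narrow.conj hn₂ g)
  rw [← hz'def] at hK₃f
  have hz'out : z' ∉ subfieldSubgroup F₀ P := fun hz'H => by
    have hz'1 : z' ≠ 1 := fun h => h₂1 (by
      rw [hz'def, mul_inv_eq_one] at h
      exact mul_left_cancel (h.trans (mul_one g).symm))
    exact hgH (mem_of_conj hHM hn3 hT hg ha₂
      (sl_anchored' hr hcard hz'H hz'2 hz'1 (K := K₃) (by omega) (Or.inl h2) hK₃f) hz'def.symm)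
  rcases dihedral_cases h₁₂ hz'2 with ⟨k, hk⟩ | ⟨k, hk1, hk2, hkz, hkz'⟩
  · refine hnc (g⁻¹ * (i₁ * z') ^ k) ?_
    rw [show g⁻¹ * (i₁ * z') ^ k * i₁ * (g⁻¹ * (i₁ * z') ^ k)⁻¹ =
      g⁻¹ * ((i₁ * z') ^ k * i₁ * ((i₁ * z') ^ k)⁻¹) * g by group, hk, hz'def]
    group
  obtain ⟨j, hj⟩ : ∃ j, j = (i₁ * z') ^ k := ⟨_, rfl⟩
  rw [← hj] at hk1 hk2 hkz hkz'
  have hjM : j ∈ M := hj ▸ M.pow_mem (M.mul_mem (hHM h₁) hz'M) k
  have hjH := mem_of_conj hHM hn3 hT hjM ha₁ ha₁ (by rw [← hkz, mul_inv_cancel_right])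
  have haj : SlAnchored F₀ P j := by
    -- an involution fixes a line in characteristic two
    obtain ⟨w, hw⟩ : ∃ w : ι → F, w ≠ 0 ∧ (j : Matrix ι ι F) *ᵥ w = w := by
      have hjj : ∀ w, (j : Matrix ι ι F) *ᵥ ((j : Matrix ι ι F) *ᵥ w) = w := fun w => by
        rw [← gl_mul_mulVec, hk2, Units.val_one, one_mulVec]
      obtain ⟨i⟩ : Nonempty ι := Fintype.card_pos_iff.1 (by omega)
      by_cases h0 : (j : Matrix ι ι F) *ᵥ Pi.single i 1 + Pi.single i 1 = 0
      · refine ⟨Pi.single i 1, by simp, ?_⟩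
        funext k
        have h4 := congrFun h0 k
        rw [Pi.add_apply, Pi.zero_apply] at h4
        linear_combination h4 - (Pi.single i (1 : F) : ι → F) k * h2
      · exact ⟨_, h0, by rw [mulVec_add, hjj, add_comm]⟩
    refine sl_anchored' hr hcard hjH hk2 hk1 (K := Submodule.span F {w}) (by rw [finrank_span_singleton hw.1]; omega)
      (Or.inl h2) fun x hx => ?_
    obtain ⟨c, rfl⟩ := Submodule.mem_span_singleton.1 hx
    rw [mulVec_smul, hw.2]
  exact hz'out (mem_of_conj hHM hn3 hT hz'M haj haj (by rw [hkz', mul_inv_cancel_right]))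

variable {n : ℕ}

/-- subfield subgroups of special linear groups are maximal -/
theorem sl_subfield_maximal (hn : 6 ≤ n) {F₀ : Subfield F} {P : GL (Fin n) F} (hr : r.Prime)
    (hcard : Fintype.card F = Nat.card F₀ ^ r) :
    IsMaximalIn (specialLinear (Fin n) F) (subfieldSubgroup F₀ P ⊓ specialLinear (Fin n) F) := by
  obtain ⟨e⟩ : Nonempty (Fin 2 ↪ Fin n) := Function.Embedding.nonempty_of_card_le (by
    rw [Fintype.card_fin, Fintype.card_fin]; omega)
  have hne : (Pi.single (e 1) (1 : F₀) : Fin n → F₀) ⬝ᵥ Pi.single (e 0) 1 = 0 := by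
    rw [single_dotProduct, one_mul, Pi.single_eq_of_ne (fun h => absurd (e.injective h) (by decide))]
  refine ⟨lt_SL_of_not_le fun hle => ?_, fun M hHM hM => ?_⟩
  · obtain ⟨γ, hγ⟩ : ∃ γ : F, γ ∉ F₀ := by
      by_contra hcon
      push Not at hcon
      have h1 : Nat.card F ≤ Nat.card F₀ := Nat.card_le_card_of_injective (fun x => (⟨x, hcon x⟩ : F₀))
        fun p q h => congrArg Subtype.val h
      rw [Nat.card_eq_fintype_card, hcard] at h1
      exact absurd h1 (not_le.2 (lt_self_pow₀ Finite.one_lt_card hr.one_lt))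
    obtain ⟨u, hu⟩ : ∃ u, u = em F₀ P (Pi.single (e 0) 1) := ⟨_, rfl⟩
    obtain ⟨Φ, hΦ⟩ : ∃ Φ, Φ = γ • emD F₀ P (Pi.single (e 1) 1) := ⟨_, rfl⟩
    have h0 : Φ ⬝ᵥ u = 0 := by rw [hΦ, hu, smul_dotProduct, emD_orth F₀ P hne, smul_zero]
    obtain ⟨c, hc⟩ := subfield_image F₀ P (hle (tv_mem_SL u Φ h0))
    obtain ⟨b, hb⟩ := hc (Pi.single (e 1) 1)
    rw [tv_mulVec, hΦ, hu, smul_dotProduct, emD_one F₀ P (by rw [single_dotProduct, one_mul, Pi.single_eq_same]),
      smul_eq_mul, mul_one] at hb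
    have h1 := congrArg (fun v => emD F₀ P (Pi.single (e 1) 1) ⬝ᵥ v) hb
    have h2 := congrArg (fun v => emD F₀ P (Pi.single (e 0) 1) ⬝ᵥ v) hb
    simp only [dotProduct_add, dotProduct_smul, emD_em, single_dotProduct, one_mul, Pi.single_eq_same, smul_eq_mul,
      Pi.single_eq_of_ne (show e 1 ≠ e 0 from fun h => absurd (e.injective h) (by decide)),
      Pi.single_eq_of_ne (show e 0 ≠ e 1 from fun h => absurd (e.injective h) (by decide))] at h1 h2
    push_cast at h1 h2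
    simp only [mul_zero, add_zero, zero_add, mul_one] at h1 h2
    have hcF : c ∈ F₀ := by
      rw [eq_inv_of_mul_eq_one_left h1.symm]
      exact F₀.inv_mem (Subtype.coe_prop _)
    exact hγ (h2 ▸ F₀.mul_mem hcF (Subtype.coe_prop _))
  by_cases hMH : M ≤ subfieldSubgroup F₀ P
  · exact Or.inl (le_antisymm (le_inf hMH hM) hHM)
  refine Or.inr (eq_SL_of_fullSub hM ?_)
  have hn3 : 3 ≤ Fintype.card (Fin n) := by rw [Fintype.card_fin]; omega
  obtain ⟨a, φ, ha, hφ0, hφ, c, hc, hcF⟩ : ∃ a φ : Fin n → F₀, a ≠ 0 ∧ φ ≠ 0 ∧ φ ⬝ᵥ a = 0 ∧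
      ∃ c, Has M (em F₀ P a) (c • emD F₀ P φ) ∧ c ∉ F₀ := by
    by_contra hcon
    push Not at hcon
    exact hMH (sl_tight_le (by rw [Fintype.card_fin]; exact hn) hr hcard hHM
      fun a φ ha hφ h c hc => hcon a φ ha hφ h c hc)
  have hall := sl_all_of_large hHM hn3 hr hcard ha hφ0 hφ hc hcF
  refine eq_top_iff.2 fun x _ => ?_
  obtain ⟨co, rfl⟩ := exists_coords F₀ P x
  refine Submodule.sum_mem _ fun i _ => Submodule.smul_mem _ _ ?_
  refine fullC_of_axes fun Φ hΦ => ?_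
  -- split the functional along the rational ones
  have hdec : Φ = ∑ k, (Φ ⬝ᵥ em F₀ P (Pi.single k 1)) • emD F₀ P (Pi.single k 1) := by
    have key : ∀ x : Fin n → F,
        Φ ⬝ᵥ x = (∑ k, (Φ ⬝ᵥ em F₀ P (Pi.single k 1)) • emD F₀ P (Pi.single k 1)) ⬝ᵥ x := by
      intro x
      obtain ⟨a, rfl⟩ := exists_coords F₀ P x
      simp only [dotProduct_sum, sum_dotProduct, dotProduct_smul, smul_dotProduct, emD_em, single_dotProduct,
        one_mul, smul_eq_mul]
      refine Finset.sum_congr rfl fun k _ => ?_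
      rw [Finset.sum_eq_single k]
      · rw [Pi.single_eq_same]; push_cast; ring
      · intro l _ hl
        rw [Pi.single_eq_of_ne hl]
        push_cast
        ring
      · simp
    funext k
    have := key (Pi.single k 1)
    rwa [dotProduct_single, dotProduct_single, mul_one, mul_one] at this
  rw [hdec]
  refine Submodule.sum_mem _ fun k _ => ?_
  rcases eq_or_ne k i with rfl | hki
  · rw [hΦ, zero_smul]
    exact zero_mem _
  · refine Submodule.smul_mem _ _ fun c => hall _ _ ?_ c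
    rw [single_dotProduct, one_mul, Pi.single_eq_of_ne hki]

end CfsgLib.Perm.Trans.Subf
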