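import Mathlib
import Cfsg.Agent.Lib.Perm.Trans.TensorCore
import Cfsg.Agent.Lib.Perm.Trans.SL

/-!
# The stabiliser of a tensor decomposition is maximal in the special linear group
-/

set_option autoImplicit false
set_option linter.all false

namespace CfsgLib.Perm.Trans.TensorMax

open scoped Matrix Kronecker
open Matrix Cfsg.Geo CfsgLib.Perm.Asch CfsgLib.Perm.Trans CfsgLib.Perm.Trans.TensorFrame

/-- a space of matrices normalised by transvections containing a non-scalar contains a transvection -/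
theorem exists_rank_one {F : Type*} [Field F] [Fintype F] {r : ℕ} (hr : 2 ≤ r)
    (hex : 3 ≤ r ∨ 3 ≤ Fintype.card F) (S : Submodule F (Matrix (Fin r) (Fin r) F))
    (hconj : ∀ (a α : Fin r → F), α ⬝ᵥ a = 0 → ∀ X ∈ S, (1 + vecMulVec a α) * X * (1 - vecMulVec a α) ∈ S)
    {X : Matrix (Fin r) (Fin r) F} (hX : X ∈ S) (hns : ¬ ∃ c : F, ∀ a : Fin r → F, X *ᵥ a = c • a) :
    ∃ a δ : Fin r → F, a ≠ 0 ∧ δ ≠ 0 ∧ δ ⬝ᵥ a = 0 ∧ vecMulVec a δ ∈ S := by
  obtain ⟨a, ha⟩ : ∃ a : Fin r → F, ∀ c : F, X *ᵥ a ≠ c • a := by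
    by_contra hcon
    push Not at hcon
    exact hns (scalar_of_eigen (by omega) hcon)
  have ha0 : a ≠ 0 := fun h => ha 0 (by rw [h, mulVec_zero, smul_zero])
  have hnot : X *ᵥ a ∉ Submodule.span F {a} := fun hm => by
    obtain ⟨c, hc⟩ := Submodule.mem_span_singleton.1 hm
    exact ha c hc.symm
  obtain ⟨α, hα1, hα0⟩ := exists_dual _ hnot
  have hαa : α ⬝ᵥ a = 0 := hα0 a (Submodule.mem_span_singleton_self a)
  -- the differences
  let M : (Fin r → F) → Matrix (Fin r) (Fin r) F := fun γ =>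
    vecMulVec a (γ ᵥ* X) - vecMulVec (X *ᵥ a) γ - (γ ⬝ᵥ X *ᵥ a) • vecMulVec a γ
  have hM : ∀ γ, γ ⬝ᵥ a = 0 → M γ ∈ S := fun γ hγ => by
    have h1 := S.sub_mem (hconj a γ hγ X hX) hX
    have h2 : (1 + vecMulVec a γ) * X * (1 - vecMulVec a γ) - X = M γ := by
      simp only [M]
      rw [add_mul, one_mul, vecMulVec_mul, mul_sub, mul_one, add_mul, mul_vecMulVec, vecMulVec_mul_vecMulVec,
        ← dotProduct_mulVec, vecMulVec_smul]
      abel
    rwa [h2] at h1
  by_cases h3 : 3 ≤ Fintype.card F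
  · classical
    obtain ⟨t, ht⟩ : ∃ t : F, t ∉ ({0, 1} : Finset F) := by
      by_contra hcon
      push Not at hcon
      have : Fintype.card F ≤ 2 := (Finset.card_le_card (s := Finset.univ) (t := ({0, 1} : Finset F))
        fun x _ => hcon x).trans Finset.card_le_two
      omega
    simp only [Finset.mem_insert, Finset.mem_singleton, not_or] at ht
    refine ⟨a, (t - 1) • α, ha0, smul_ne_zero (sub_ne_zero.2 ht.2) fun h => by simp [h] at hα1, by
      rw [smul_dotProduct, hαa, smul_zero], ?_⟩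
    have h1 : vecMulVec a ((t - 1) • α) = M α - t⁻¹ • M (t • α) := by
      simp only [M, hα1, smul_vecMul, vecMulVec_smul, smul_dotProduct, smul_eq_mul, mul_one, smul_sub, smul_smul,
        inv_mul_cancel₀ ht.1, ← mul_assoc, one_smul, one_mul, sub_smul]
      ext i j
      simp [vecMulVec_apply]
      ring
    rw [h1]
    exact S.sub_mem (hM α hαa) (S.smul_mem _ (hM _ (by rw [smul_dotProduct, hαa, smul_zero])))
  · have h3r : 3 ≤ r := hex.resolve_right h3
    obtain ⟨δ, hδ, hδ0⟩ : ∃ δ : Fin r → F, δ ≠ 0 ∧ ∀ w ∈ Submodule.span F ({a, X *ᵥ a} : Set (Fin r → F)), δ ⬝ᵥ w = 0 := by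
      classical
      have hlt : Submodule.span F ({a, X *ᵥ a} : Set (Fin r → F)) ≠ ⊤ := fun htop => by
        have h1 := finrank_span_finset_le_card (R := F) ({a, X *ᵥ a} : Finset (Fin r → F))
        simp only [Finset.coe_insert, Finset.coe_singleton] at h1
        rw [Set.finrank, htop, finrank_top, Module.finrank_fintype_fun_eq_card, Fintype.card_fin] at h1
        have := Finset.card_le_two (a := a) (b := X *ᵥ a)
        omega
      obtain ⟨x, -, hx⟩ := SetLike.exists_of_lt hlt.lt_top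
      obtain ⟨δ, h1, h2⟩ := exists_dual _ hx
      exact ⟨δ, fun h => by simp [h] at h1, h2⟩
    have hδa : δ ⬝ᵥ a = 0 := hδ0 a (Submodule.subset_span (Set.mem_insert _ _))
    have hδX : δ ⬝ᵥ X *ᵥ a = 0 := hδ0 _ (Submodule.subset_span (Set.mem_insert_of_mem _ rfl))
    refine ⟨a, δ, ha0, hδ, hδa, ?_⟩
    have h1 : vecMulVec a δ = M α + M δ - M (α + δ) := by
      simp only [M, hδX, hα1, add_vecMul, vecMulVec_add, add_dotProduct, add_zero, zero_smul, one_smul, sub_zero]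
      abel
    rw [h1]
    exact S.sub_mem (S.add_mem (hM α hαa) (hM δ hδa)) (hM _ (by rw [add_dotProduct, hαa, hδa, add_zero]))

variable {n r s : ℕ} {F : Type*} [Field F] {e : Fin n ≃ Fin r × Fin s} {P : GL (Fin n) F}
  {M : Subgroup (GL (Fin n) F)}

theorem tensor_tv_mem (hHM : tensorProductSubgroup r s e P ⊓ specialLinear (Fin n) F ≤ M)
    (A : GL (Fin r) F) (B : GL (Fin s) F) (hA : (A : Matrix (Fin r) (Fin r) F).det = 1)
    (hB : (B : Matrix (Fin s) (Fin s) F).det = 1) : kg e P A B ∈ M :=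
  hHM ⟨kg_mem A B, Units.ext (by
    show (kg e P A B : Matrix (Fin n) (Fin n) F).det = 1
    rw [kg_det, hA, hB, one_pow, one_pow, one_mul])⟩

theorem tv_det {k : ℕ} (u φ : Fin k → F) (h : φ ⬝ᵥ u = 0) : (tv u φ h : Matrix (Fin k) (Fin k) F).det = 1 :=
  congrArg Units.val (tv_mem_SL u φ h)

theorem root_mem (hHM : tensorProductSubgroup r s e P ⊓ specialLinear (Fin n) F ≤ M) (b β : Fin s → F)
    (h : β ⬝ᵥ b = 0) : rootGL e P b β h ∈ M := tensor_tv_mem hHM 1 _ (by simp) (tv_det b β h)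

/-- the functional `δ ⊗ φ` -/
def tfun (e : Fin n ≃ Fin r × Fin s) (P : GL (Fin n) F) (δ : Fin r → F) (φ : Fin s → F) : (Fin n → F) →ₗ[F] F where
  toFun z := δ ⬝ᵥ co e P φ z
  map_add' z z' := by rw [map_add, dotProduct_add]
  map_smul' c z := by rw [map_smul, dotProduct_smul]; rfl

theorem tfun_tvec (δ : Fin r → F) (φ : Fin s → F) (x : Fin r → F) (y : Fin s → F) :
    tfun e P δ φ (tvec e P x y) = (φ ⬝ᵥ y) * (δ ⬝ᵥ x) := by
  show δ ⬝ᵥ co e P φ _ = _
  rw [co_tvec, dotProduct_smul, smul_eq_mul]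

/-- transvection axes -/
def tv2 (e : Fin n ≃ Fin r × Fin s) (P : GL (Fin n) F) (δ : Fin r → F) (φ : Fin s → F) : Fin n → F :=
  fvec (tfun e P δ φ)

theorem tv2_dot (δ : Fin r → F) (φ : Fin s → F) (z : Fin n → F) : tv2 e P δ φ ⬝ᵥ z = δ ⬝ᵥ co e P φ z :=
  fvec_dot (tfun e P δ φ) z

theorem tv2_tvec (δ : Fin r → F) (φ : Fin s → F) (x : Fin r → F) (y : Fin s → F) :
    tv2 e P δ φ ⬝ᵥ tvec e P x y = (φ ⬝ᵥ y) * (δ ⬝ᵥ x) := by rw [tv2_dot, co_tvec, dotProduct_smul, smul_eq_mul]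

theorem vec_ext {u v : Fin n → F} (h : ∀ x y, u ⬝ᵥ tvec e P x y = v ⬝ᵥ tvec e P x y) : u = v := by
  refine dotProduct_eq _ _ fun z => ?_
  let L : (Fin n → F) → ((Fin n → F) →ₗ[F] F) := fun w =>
    { toFun := fun z => w ⬝ᵥ z, map_add' := fun a b => dotProduct_add _ _ _,
      map_smul' := fun c a => by simp [dotProduct_smul] }
  exact LinearMap.congr_fun (lin_ext (e := e) (P := P) (f := L u) (g := L v) h) z

theorem tv2_add_left (δ δ' : Fin r → F) (φ : Fin s → F) : tv2 e P (δ + δ') φ = tv2 e P δ φ + tv2 e P δ' φ :=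
  vec_ext (e := e) (P := P) fun x y => by simp only [add_dotProduct, tv2_tvec, mul_add]

theorem tv2_add_right (δ : Fin r → F) (φ φ' : Fin s → F) : tv2 e P δ (φ + φ') = tv2 e P δ φ + tv2 e P δ φ' :=
  vec_ext (e := e) (P := P) fun x y => by simp only [add_dotProduct, tv2_tvec, add_mul]

theorem tv2_smul_left (c : F) (δ : Fin r → F) (φ : Fin s → F) : tv2 e P (c • δ) φ = c • tv2 e P δ φ :=
  vec_ext (e := e) (P := P) fun x y => by simp only [smul_dotProduct, tv2_tvec, smul_eq_mul]; ring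

theorem tv2_smul_right (c : F) (δ : Fin r → F) (φ : Fin s → F) : tv2 e P δ (c • φ) = c • tv2 e P δ φ :=
  vec_ext (e := e) (P := P) fun x y => by simp only [smul_dotProduct, tv2_tvec, smul_eq_mul]; ring

/-- `(a, b, δ, φ)`: the transvections with centre `a ⊗ b` and axis `δ ⊗ φ` lie in `M` -/
def Q4 (e : Fin n ≃ Fin r × Fin s) (P : GL (Fin n) F) (M : Subgroup (GL (Fin n) F)) (a : Fin r → F) (b : Fin s → F)
    (δ : Fin r → F) (φ : Fin s → F) : Prop :=
  tv2 e P δ φ ∈ axes M (tvec e P a b)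

theorem q4_conj (hHM : tensorProductSubgroup r s e P ⊓ specialLinear (Fin n) F ≤ M) {a : Fin r → F} {b : Fin s → F}
    {δ : Fin r → F} {φ : Fin s → F} (h : Q4 e P M a b δ φ) (w γ : Fin r → F) (hwγ : γ ⬝ᵥ w = 0) :
    Q4 e P M (a + (γ ⬝ᵥ a) • w) b (δ - (δ ⬝ᵥ w) • γ) φ := by
  have hg := tensor_tv_mem hHM (tv w γ hwγ) 1 (tv_det w γ hwγ) (by simp)
  have h1 := axes_conj h hg
  rw [kg_tvec, tv_mulVec, Units.val_one, one_mulVec] at h1
  have hinv : (kg e P (tv w γ hwγ) (1 : GL (Fin s) F))⁻¹ =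
      kg e P (tv w (-γ) (by rw [neg_dotProduct, hwγ, neg_zero])) 1 := by
    refine inv_eq_of_mul_eq_one_right (gl_ext_tvec (e := e) (P := P) fun x y => ?_)
    rw [gl_mul_mulVec, kg_tvec, kg_tvec, Units.val_one, Units.val_one, one_mulVec, one_mulVec, one_mulVec,
      tv_mulVec, tv_mulVec, dotProduct_add, dotProduct_smul, hwγ, smul_zero, add_zero, neg_dotProduct, neg_smul]
    congr 1
    abel
  rw [hinv] at h1
  unfold Q4
  convert h1 using 1
  refine vec_ext (e := e) (P := P) fun x y => ?_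
  rw [← dotProduct_mulVec, kg_tvec, tv_mulVec, Units.val_one, one_mulVec, tv2_tvec, tv2_tvec, sub_dotProduct,
    smul_dotProduct, dotProduct_add, dotProduct_smul, neg_dotProduct]
  simp only [smul_eq_mul]
  ring

theorem q4_conj' (hHM : tensorProductSubgroup r s e P ⊓ specialLinear (Fin n) F ≤ M) {a : Fin r → F} {b : Fin s → F}
    {δ : Fin r → F} {φ : Fin s → F} (h : Q4 e P M a b δ φ) (w γ : Fin s → F) (hwγ : γ ⬝ᵥ w = 0) :
    Q4 e P M a (b + (γ ⬝ᵥ b) • w) δ (φ - (φ ⬝ᵥ w) • γ) := by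
  have hg := root_mem hHM w γ hwγ
  have h1 := axes_conj h hg
  rw [rootGL, kg_tvec, tv_mulVec, Units.val_one, one_mulVec] at h1
  have hinv : (kg e P (1 : GL (Fin r) F) (tv w γ hwγ))⁻¹ =
      kg e P 1 (tv w (-γ) (by rw [neg_dotProduct, hwγ, neg_zero])) := by
    refine inv_eq_of_mul_eq_one_right (gl_ext_tvec (e := e) (P := P) fun x y => ?_)
    rw [gl_mul_mulVec, kg_tvec, kg_tvec, Units.val_one, Units.val_one, one_mulVec, one_mulVec, one_mulVec,
      tv_mulVec, tv_mulVec, dotProduct_add, dotProduct_smul, hwγ, smul_zero, add_zero, neg_dotProduct, neg_smul]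
    congr 1
    abel
  rw [hinv] at h1
  unfold Q4
  convert h1 using 1
  refine vec_ext (e := e) (P := P) fun x y => ?_
  rw [← dotProduct_mulVec, kg_tvec, tv_mulVec, Units.val_one, one_mulVec, tv2_tvec, tv2_tvec, sub_dotProduct,
    smul_dotProduct, dotProduct_add, dotProduct_smul, neg_dotProduct]
  simp only [smul_eq_mul]
  ring

/-- a pair orbit of transvections is everything -/
theorem pair_spread {k : ℕ} (T : (Fin k → F) → (Fin k → F) → Prop)
    (hconj : ∀ a δ, T a δ → ∀ w γ, γ ⬝ᵥ w = 0 → T (a + (γ ⬝ᵥ a) • w) (δ - (δ ⬝ᵥ w) • γ))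
    (hadd : ∀ a δ δ', T a δ → T a δ' → T a (δ + δ')) (hneg : ∀ a δ, T a δ → T a (-δ))
    (hsmul : ∀ a δ (c : F), T a δ → T (c • a) δ) (hsc : ∀ a δ (c : F), T a δ → T a (c • δ))
    (hcen : ∀ a a' δ, T a δ → T a' δ → T (a + a') δ)
    {a δ : Fin k → F} (ha : a ≠ 0) (hδ : δ ≠ 0) (h : T a δ) (horth : δ ⬝ᵥ a = 0)
    {a' δ' : Fin k → F} (ha' : a' ≠ 0) (h' : δ' ⬝ᵥ a' = 0) : T a' δ' := by
  -- move the centre
  obtain ⟨δ₁, hδ₁, hT₁, horth₁⟩ : ∃ δ₁, δ₁ ≠ 0 ∧ T a' δ₁ ∧ δ₁ ⬝ᵥ a' = 0 := by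
    by_cases hind : a' ∈ Submodule.span F {a}
    · obtain ⟨c, rfl⟩ := Submodule.mem_span_singleton.1 hind
      exact ⟨δ, hδ, hsmul _ _ c h, by rw [dotProduct_smul, horth, smul_zero]⟩
    · have hnot : a ∉ Submodule.span F {a' - a} := fun hm => by
        obtain ⟨c, hc⟩ := Submodule.mem_span_singleton.1 hm
        refine hind (Submodule.mem_span_singleton.2 ⟨1 + c⁻¹, ?_⟩)
        have hc0 : c ≠ 0 := fun h0 => ha (by rw [← hc, h0, zero_smul])
        have : a' - a = c⁻¹ • a := by rw [eq_inv_smul_iff₀ hc0, hc]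
        rw [add_smul, one_smul, ← this, add_sub_cancel]
      obtain ⟨γ, hγa, hγ0⟩ := exists_dual _ hnot
      have hγw : γ ⬝ᵥ (a' - a) = 0 := hγ0 _ (Submodule.mem_span_singleton_self _)
      have h1 := hconj a δ h (a' - a) γ hγw
      rw [hγa, one_smul, add_sub_cancel] at h1
      refine ⟨_, ?_, h1, ?_⟩
      · intro h0
        have h2 := congrArg (· ⬝ᵥ a) h0
        simp only [sub_dotProduct, smul_dotProduct, horth, hγa, zero_dotProduct, smul_eq_mul, mul_one, zero_sub,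
          neg_eq_zero] at h2
        rw [h2, zero_smul, sub_zero] at h0
        exact hδ h0
      · rw [sub_dotProduct, smul_dotProduct, smul_eq_mul, dotProduct_sub, horth, sub_zero]
        have h3 : γ ⬝ᵥ a' = 1 := by rwa [dotProduct_sub, hγa, sub_eq_zero] at hγw
        rw [h3, mul_one, sub_self]
  -- spread the axis
  by_cases hsp : δ' ∈ Submodule.span F {δ₁}
  · obtain ⟨c, rfl⟩ := Submodule.mem_span_singleton.1 hsp
    exact hsc _ _ c hT₁
  · obtain ⟨w, hw1, hw0⟩ := exists_dual (Submodule.span F {δ'}) (x := δ₁) (fun hm => hsp (by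
      obtain ⟨c, hc⟩ := Submodule.mem_span_singleton.1 hm
      have hc0 : c ≠ 0 := fun h0 => hδ₁ (by rw [← hc, h0, zero_smul])
      exact Submodule.mem_span_singleton.2 ⟨c⁻¹, by rw [← hc, smul_smul, inv_mul_cancel₀ hc0, one_smul]⟩))
    have hw' : δ' ⬝ᵥ w = 0 := by
      rw [dotProduct_comm]
      exact hw0 δ' (Submodule.mem_span_singleton_self δ')
    have h1 := hconj a' δ₁ hT₁ w δ' hw'
    rw [h', zero_smul, add_zero, dotProduct_comm δ₁ w, hw1, one_smul] at h1
    have h2 := hadd _ _ _ hT₁ (hneg _ _ h1)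
    rwa [← sub_eq_add_neg, sub_sub_cancel] at h2

theorem full_of_transvection [Fintype F] (hr : 2 ≤ r) (hs : 3 ≤ s) (hM : M ≤ specialLinear (Fin n) F)
    (hHM : tensorProductSubgroup r s e P ⊓ specialLinear (Fin n) F ≤ M)
    {a δ : Fin r → F} {b φ : Fin s → F} (ha : a ≠ 0) (hδ : δ ≠ 0) (hb : b ≠ 0) (hφ : φ ≠ 0)
    (hδa : δ ⬝ᵥ a = 0) (hφb : φ ⬝ᵥ b = 0) (h : Q4 e P M a b δ φ) : M = specialLinear (Fin n) F := by
  have hsp : ∀ {b φ}, Q4 e P M a b δ φ → ∀ a' δ', a' ≠ 0 → δ' ⬝ᵥ a' = 0 → Q4 e P M a' b δ' φ := by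
    intro b φ hq a' δ' ha' h'
    refine pair_spread (fun x d => Q4 e P M x b d φ) (fun x d hx w γ hw => q4_conj hHM hx w γ hw) ?_ ?_ ?_ ?_ ?_
      ha hδ hq hδa ha' h'
    · intro x d d' hx hx'; unfold Q4; rw [tv2_add_left]; exact add_mem hx hx'
    · intro x d hx; unfold Q4; rw [← neg_one_smul F d, tv2_smul_left]; exact Submodule.smul_mem _ _ hx
    · intro x d c hx; unfold Q4; rw [tvec_smul_left]; exact axes_smul hx c
    · intro x d c hx; unfold Q4; rw [tv2_smul_left]; exact Submodule.smul_mem _ _ hx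
    · intro x x' d hx hx'; unfold Q4; rw [tvec_add_left]; exact fun c => (hx c).add_left (hx' c)
  have all : ∀ a' b' δ' φ', a' ≠ 0 → b' ≠ 0 → δ' ⬝ᵥ a' = 0 → φ' ⬝ᵥ b' = 0 → Q4 e P M a' b' δ' φ' := by
    intro a' b' δ' φ' ha' hb' h1 h2
    refine hsp ?_ a' δ' ha' h1
    refine pair_spread (fun x d => Q4 e P M a x δ d) (fun x d hx w γ hw => q4_conj' hHM hx w γ hw) ?_ ?_ ?_ ?_ ?_
      hb hφ h hφb hb' h2
    · intro x d d' hx hx'; unfold Q4; rw [tv2_add_right]; exact add_mem hx hx'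
    · intro x d hx; unfold Q4; rw [← neg_one_smul F d, tv2_smul_right]; exact Submodule.smul_mem _ _ hx
    · intro x d c hx; unfold Q4; rw [tvec_smul_right]; exact axes_smul hx c
    · intro x d c hx; unfold Q4; rw [tv2_smul_right]; exact Submodule.smul_mem _ _ hx
    · intro x x' d hx hx'; unfold Q4; rw [tvec_add_right]; exact fun c => (hx c).add_left (hx' c)
  -- a single commutator
  have comm : ∀ (a b δ φ) (a₁ b₁ δ₁ φ₁), Q4 e P M a b δ φ → Q4 e P M a₁ b₁ δ₁ φ₁ →
      (φ ⬝ᵥ b₁) * (δ ⬝ᵥ a₁) = 1 → (φ₁ ⬝ᵥ b) * (δ₁ ⬝ᵥ a) = 0 → Q4 e P M a b δ₁ φ₁ := by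
    intro a b δ φ a₁ b₁ δ₁ φ₁ h h₁ h2 h3 c
    have := (h c).comm (has_of_axes h₁) (by rw [tv2_tvec, h3])
    rwa [smul_dotProduct, tv2_tvec, h2, smul_eq_mul, mul_one] at this
  have exists_ker : ∀ {k : ℕ}, 2 ≤ k → ∀ δ : Fin k → F, ∃ a : Fin k → F, a ≠ 0 ∧ δ ⬝ᵥ a = 0 := by
    intro k hk δ
    let L : (Fin k → F) →ₗ[F] F :=
      { toFun := fun x => δ ⬝ᵥ x, map_add' := fun a b => dotProduct_add _ _ _,
        map_smul' := fun c a => by simp [dotProduct_smul] }
    obtain ⟨x, hx, hx0⟩ := Submodule.exists_mem_ne_zero_of_ne_bot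
      (LinearMap.ker_ne_bot_of_finrank_lt (f := L) (by simp; omega))
    exact ⟨x, hx0, hx⟩
  have exists_out : ∀ φ b : Fin s → F, ∃ b₁, φ ⬝ᵥ b₁ = 0 ∧ b₁ ∉ Submodule.span F {b} := by
    intro φ b
    let L : (Fin s → F) →ₗ[F] F :=
      { toFun := fun x => φ ⬝ᵥ x, map_add' := fun a b => dotProduct_add _ _ _,
        map_smul' := fun c a => by simp [dotProduct_smul] }
    have h1 := L.finrank_range_add_finrank_ker
    have h2 := Submodule.finrank_le (LinearMap.range L)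
    simp at h1 h2
    by_contra hcon
    push Not at hcon
    have h3 : LinearMap.ker L ≤ Submodule.span F {b} := fun x hx => hcon x hx
    have h4 := Submodule.finrank_mono h3
    have h5 : Module.finrank F ↥(Submodule.span F {b}) ≤ 1 := by
      refine le_trans (finrank_span_le_card ({b} : Set (Fin s → F))) ?_
      simp
    omega
  have mixed : ∀ a b δ φ, a ≠ 0 → b ≠ 0 → φ ⬝ᵥ b = 0 → Q4 e P M a b δ φ := by
    intro a b δ φ ha hb hφb
    by_cases hδa : δ ⬝ᵥ a = 0
    · exact all a b δ φ ha hb hδa hφb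
    obtain ⟨a₁, ha₁, hδa₁⟩ := exists_ker hr δ
    obtain ⟨b₁, hφb₁, hb₁⟩ := exists_out φ b
    obtain ⟨δ₀, hδ₀, hδ₀'⟩ := exists_dual (Submodule.span F {a}) (x := a₁) (fun hm => by
      obtain ⟨c, rfl⟩ := Submodule.mem_span_singleton.1 hm
      rw [dotProduct_smul, smul_eq_mul] at hδa₁
      exact (mul_ne_zero (fun hc => ha₁ (by rw [hc, zero_smul])) hδa) hδa₁)
    obtain ⟨φ₀, hφ₀, hφ₀'⟩ := exists_dual _ hb₁
    refine comm a b δ₀ φ₀ a₁ b₁ δ φ (all _ _ _ _ ha hb (hδ₀' a (Submodule.mem_span_singleton_self a))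
      (hφ₀' b (Submodule.mem_span_singleton_self b))) (all _ _ _ _ ha₁ ?_ hδa₁ hφb₁) (by rw [hφ₀, hδ₀, one_mul])
      (by rw [hφb, zero_mul])
    exact fun h0 => hb₁ (by rw [h0]; exact Submodule.zero_mem _)
  have mixed' : ∀ a b δ φ, a ≠ 0 → b ≠ 0 → δ ⬝ᵥ a = 0 → Q4 e P M a b δ φ := by
    intro a b δ φ ha hb hδa
    obtain ⟨b₁, hφb₁, hb₁⟩ := exists_out φ b
    obtain ⟨δ₀, hδ₀⟩ := exists_dot_one ha
    obtain ⟨φ₀, hφ₀, hφ₀'⟩ := exists_dual _ hb₁
    refine comm a b δ₀ φ₀ a b₁ δ φ (mixed _ _ _ _ ha hb (hφ₀' b (Submodule.mem_span_singleton_self b)))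
      (all _ _ _ _ ha ?_ hδa hφb₁) (by rw [hφ₀, hδ₀, one_mul]) (by rw [hδa, mul_zero])
    exact fun h0 => hb₁ (by rw [h0]; exact Submodule.zero_mem _)
  refine eq_SL_of_fullSub hM (eq_top_iff.2 fun z _ => ?_)
  refine Submodule.span_le.2 ?_ (tvec_span (e := e) (P := P) z)
  rintro _ ⟨x, y, rfl⟩
  rcases eq_or_ne x 0 with rfl | hx
  · rw [tvec_zero_left]; exact Submodule.zero_mem _
  rcases eq_or_ne y 0 with rfl | hy
  · rw [tvec_zero_right]; exact Submodule.zero_mem _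
  refine fullC_of_axes fun Φ hΦ => ?_
  obtain ⟨φ₀, hφ₀⟩ := exists_dot_one hy
  -- split the functional
  let Φ₁ : Fin r → F := fun i => Φ ⬝ᵥ tvec e P (Pi.single i 1) y
  have hΦ₁ : ∀ w, Φ₁ ⬝ᵥ w = Φ ⬝ᵥ tvec e P w y := by
    intro w
    let L : (Fin r → F) →ₗ[F] F :=
      { toFun := fun x => Φ ⬝ᵥ tvec e P x y, map_add' := fun a b => by rw [tvec_add_left, dotProduct_add],
        map_smul' := fun c a => by simp [tvec_smul_left, dotProduct_smul] }
    exact (show Φ₁ ⬝ᵥ w = L w from by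
      conv_rhs => rw [pi_eq_sum_univ' w]
      simp [dotProduct, map_sum, Φ₁, L, mul_comm, tvec_smul_left, dotProduct_smul])
  let Ψ : Fin s → Fin r → F := fun j i => Φ ⬝ᵥ tvec e P (Pi.single i 1) (Pi.single j 1)
  have hΦ_sum : Φ = tv2 e P Φ₁ φ₀ + ∑ j, tv2 e P (Ψ j) (Pi.single j 1 - y j • φ₀) := by
    refine vec_ext (e := e) (P := P) fun u v => ?_
    have hbil : Φ ⬝ᵥ tvec e P u v = ∑ j, v j * (Ψ j ⬝ᵥ u) := by
      let L : (Fin r → F) → ((Fin s → F) →ₗ[F] F) := fun x =>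
        { toFun := fun w => Φ ⬝ᵥ tvec e P x w, map_add' := fun a b => by rw [tvec_add_right, dotProduct_add],
          map_smul' := fun c a => by simp [tvec_smul_right, dotProduct_smul] }
      let R : (Fin s → F) → ((Fin r → F) →ₗ[F] F) := fun w =>
        { toFun := fun x => Φ ⬝ᵥ tvec e P x w, map_add' := fun a b => by rw [tvec_add_left, dotProduct_add],
          map_smul' := fun c a => by simp [tvec_smul_left, dotProduct_smul] }
      have h1 : L u v = ∑ j, v j * L u (Pi.single j 1) := by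
        conv_lhs => rw [pi_eq_sum_univ' v]
        simp [map_sum]
      have h2 : ∀ j, R (Pi.single j 1) u = Ψ j ⬝ᵥ u := fun j => by
        conv_lhs => rw [pi_eq_sum_univ' u]
        simp [map_sum, dotProduct, Ψ, R, mul_comm, tvec_smul_left, dotProduct_smul]
      exact h1.trans (Finset.sum_congr rfl fun j _ => congrArg (v j * ·) (h2 j))
    have hy' : Φ₁ ⬝ᵥ u = ∑ j, y j * (Ψ j ⬝ᵥ u) := by
      rw [hΦ₁]
      let L : (Fin s → F) →ₗ[F] F :=
        { toFun := fun w => Φ ⬝ᵥ tvec e P u w, map_add' := fun a b => by rw [tvec_add_right, dotProduct_add],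
          map_smul' := fun c a => by simp [tvec_smul_right, dotProduct_smul] }
      let R : (Fin s → F) → ((Fin r → F) →ₗ[F] F) := fun w =>
        { toFun := fun x => Φ ⬝ᵥ tvec e P x w, map_add' := fun a b => by rw [tvec_add_left, dotProduct_add],
          map_smul' := fun c a => by simp [tvec_smul_left, dotProduct_smul] }
      have h1 : L y = ∑ j, y j * L (Pi.single j 1) := by
        conv_lhs => rw [pi_eq_sum_univ' y]
        simp [map_sum]
      have h2 : ∀ j, R (Pi.single j 1) u = Ψ j ⬝ᵥ u := fun j => by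
        conv_lhs => rw [pi_eq_sum_univ' u]
        simp [map_sum, dotProduct, Ψ, R, mul_comm, tvec_smul_left, dotProduct_smul]
      exact h1.trans (Finset.sum_congr rfl fun j _ => congrArg (y j * ·) (h2 j))
    rw [hbil, add_dotProduct, sum_dotProduct, tv2_tvec, hy', Finset.mul_sum, ← Finset.sum_add_distrib]
    refine Finset.sum_congr rfl fun j _ => ?_
    rw [tv2_tvec, sub_dotProduct, smul_dotProduct, single_dotProduct, one_mul, smul_eq_mul]
    ring
  rw [hΦ_sum]
  refine Submodule.add_mem _ (mixed' x y Φ₁ φ₀ hx hy (by rw [hΦ₁]; exact hΦ)) (Submodule.sum_mem _ fun j _ =>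
    mixed x y _ _ hx hy ?_)
  rw [sub_dotProduct, single_dotProduct, smul_dotProduct, hφ₀, one_mul, smul_eq_mul, mul_one, sub_self]

/-- an element `z ↦ z + ψ(z) ⊗ b` of a proper overgroup is a root -/
theorem insertion_scalar [Fintype F] (hr : 2 ≤ r) (hs : 3 ≤ s) (hex : 3 ≤ r ∨ 3 ≤ Fintype.card F)
    (hM : M ≤ specialLinear (Fin n) F) (hMne : M ≠ specialLinear (Fin n) F)
    (hHM : tensorProductSubgroup r s e P ⊓ specialLinear (Fin n) F ≤ M)
    {b : Fin s → F} (hb : b ≠ 0) (ψ : (Fin n → F) →ₗ[F] (Fin r → F)) (hψ : ∀ x, ψ (tvec e P x b) = 0)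
    {g : GL (Fin n) F} (hg : g ∈ M) (hgψ : ∀ z, (g : Matrix (Fin n) (Fin n) F) *ᵥ z = z + tvec e P (ψ z) b) :
    ∃ δ : Fin s → F, δ ⬝ᵥ b = 0 ∧ ∀ z, ψ z = co e P δ z := by
  have hscal : ∀ y, ∃ c : F, ∀ x, ψ (tvec e P x y) = c • x := by
    intro y
    by_contra hns
    have hyb : y ∉ Submodule.span F {b} := fun hm => by
      obtain ⟨c, rfl⟩ := Submodule.mem_span_singleton.1 hm
      exact hns ⟨0, fun x => by rw [tvec_smul_right, map_smul, hψ, smul_zero, zero_smul]⟩
    -- a functional orthogonal to both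
    obtain ⟨z, -, hz⟩ := SetLike.exists_of_lt (lt_top_iff_ne_top.2 (show Submodule.span F ({b, y} : Set (Fin s → F)) ≠ ⊤
      from fun htop => by
        classical
        have h1 := finrank_span_finset_le_card (R := F) ({b, y} : Finset (Fin s → F))
        simp only [Finset.coe_insert, Finset.coe_singleton] at h1
        rw [Set.finrank, htop, finrank_top, Module.finrank_fintype_fun_eq_card, Fintype.card_fin] at h1
        have := Finset.card_le_two (a := b) (b := y)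
        omega))
    obtain ⟨φ, hφz, hφ0⟩ := exists_dual _ hz
    have hφb : φ ⬝ᵥ b = 0 := hφ0 b (Submodule.subset_span (Set.mem_insert _ _))
    have hφy : φ ⬝ᵥ y = 0 := hφ0 y (Submodule.subset_span (Set.mem_insert_of_mem _ rfl))
    -- the matrices attached to this functional
    let InM : Matrix (Fin r) (Fin r) F → Prop := fun X => ∃ h ∈ M, ∀ z,
      (h : Matrix (Fin n) (Fin n) F) *ᵥ z = z + tvec e P (X *ᵥ co e P φ z) b
    have hcokill : ∀ w, co e P φ (tvec e P w b) = 0 := fun w => by rw [co_tvec, hφb, zero_smul]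
    let S : Submodule F (Matrix (Fin r) (Fin r) F) :=
      { carrier := {X | ∀ c : F, InM (c • X)}
        add_mem' := by
          intro X Y hX hY c
          obtain ⟨h, hh, hh'⟩ := hX c
          obtain ⟨k, hk, hk'⟩ := hY c
          refine ⟨h * k, M.mul_mem hh hk, fun z => ?_⟩
          rw [gl_mul_mulVec, hk', hh', map_add, hcokill, add_zero, smul_add, add_mulVec, tvec_add_left]
          abel
        zero_mem' := fun c => ⟨1, M.one_mem, fun z => by
          rw [Units.val_one, one_mulVec, smul_zero, zero_mulVec, tvec_zero_left, add_zero]⟩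
        smul_mem' := fun d X hX c => by rw [smul_smul]; exact hX _ }
    -- the commutators with the roots at `y`
    let X : Matrix (Fin r) (Fin r) F := Matrix.of fun i k => ψ (tvec e P (Pi.single k 1) y) i
    have hXmul : ∀ x, X *ᵥ x = ψ (tvec e P x y) := fun x => by
      let L : (Fin r → F) →ₗ[F] (Fin r → F) := ψ.comp
        (⟨⟨fun x => tvec e P x y, fun a a' => tvec_add_left a a' y⟩, fun c a => tvec_smul_left c a y⟩ :
          (Fin r → F) →ₗ[F] (Fin n → F))
      show _ = L x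
      conv_rhs => rw [pi_eq_sum_univ' x]
      funext i
      simp [map_sum, Matrix.mulVec, dotProduct, X, L, Finset.sum_apply, mul_comm]
    have hXS : X ∈ S := by
      intro c
      have hoy : (-(c • φ)) ⬝ᵥ y = 0 := by rw [neg_dotProduct, smul_dotProduct, hφy, smul_zero, neg_zero]
      have hroot : rootGL e P y _ hoy ∈ M := root_mem hHM _ _ hoy
      set k := rootGL e P y _ hoy with hk
      refine ⟨k * g * k⁻¹ * g⁻¹, M.mul_mem (M.mul_mem (M.mul_mem hroot hg) (M.inv_mem hroot)) (M.inv_mem hg),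
        fun z => ?_⟩
      obtain ⟨w, rfl⟩ : ∃ w, z = (g : Matrix (Fin n) (Fin n) F) *ᵥ ((k : Matrix (Fin n) (Fin n) F) *ᵥ w) :=
        ⟨((k⁻¹ : GL (Fin n) F) : Matrix (Fin n) (Fin n) F) *ᵥ (((g⁻¹ : GL (Fin n) F) : Matrix (Fin n) (Fin n) F) *ᵥ z),
          by rw [gl_mulVec_inv, gl_mulVec_inv]⟩
      have e1 : (k : Matrix (Fin n) (Fin n) F) *ᵥ w = w + tvec e P (-(c • co e P φ w)) y := by
        rw [hk, root_mulVec, ← neg_smul c φ, co_smul, neg_smul]
      have e2 : (k : Matrix (Fin n) (Fin n) F) *ᵥ ((g : Matrix (Fin n) (Fin n) F) *ᵥ w) =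
          (k : Matrix (Fin n) (Fin n) F) *ᵥ w + tvec e P (ψ w) b := by
        rw [hgψ, mulVec_add, hk, root_mulVec _ _ hoy (tvec e P (ψ w) b), co_tvec, neg_dotProduct, smul_dotProduct,
          hφb, smul_zero, neg_zero, zero_smul, tvec_zero_left, add_zero]
      have e3 : ψ ((k : Matrix (Fin n) (Fin n) F) *ᵥ w) = ψ w + -(c • (X *ᵥ co e P φ w)) := by
        rw [e1, map_add, ← hXmul, mulVec_neg, mulVec_smul]
      have e4 : co e P φ ((g : Matrix (Fin n) (Fin n) F) *ᵥ ((k : Matrix (Fin n) (Fin n) F) *ᵥ w)) = co e P φ w := by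
        rw [hgψ, map_add, hcokill, add_zero, e1, map_add, co_tvec, hφy, zero_smul, add_zero]
      rw [gl_mul_mulVec, gl_mul_mulVec, gl_mul_mulVec, gl_inv_mulVec, gl_inv_mulVec, e2, e4, hgψ (_ *ᵥ w), e3,
        smul_mulVec, add_assoc, ← tvec_add_left, add_assoc, neg_add_cancel, add_zero]
    have hconj : ∀ (a α : Fin r → F), α ⬝ᵥ a = 0 → ∀ Y ∈ S, (1 + vecMulVec a α) * Y * (1 - vecMulVec a α) ∈ S := by
      intro a α hα Y hY c
      obtain ⟨h, hh, hh'⟩ := hY c
      have hA := tensor_tv_mem hHM (tv a α hα) 1 (tv_det a α hα) (by simp)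
      set k := kg e P (tv a α hα) (1 : GL (Fin s) F)
      refine ⟨k * h * k⁻¹, M.mul_mem (M.mul_mem hA hh) (M.inv_mem hA), fun z => ?_⟩
      obtain ⟨w, rfl⟩ : ∃ w, z = (k : Matrix (Fin n) (Fin n) F) *ᵥ w :=
        ⟨((k⁻¹ : GL (Fin n) F) : Matrix (Fin n) (Fin n) F) *ᵥ z, by rw [gl_mulVec_inv]⟩
      rw [gl_mul_mulVec, gl_mul_mulVec, gl_inv_mulVec, hh', mulVec_add, kg_tvec, Units.val_one, one_mulVec]
      congr 2
      have hco : co e P φ ((k : Matrix (Fin n) (Fin n) F) *ᵥ w) = (tv a α hα : Matrix (Fin r) (Fin r) F) *ᵥ co e P φ w := by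
        refine LinearMap.congr_fun (lin_ext (e := e) (P := P) (f := (co e P φ).comp (Matrix.mulVecLin (k : Matrix (Fin n) (Fin n) F)))
          (g := (Matrix.mulVecLin (tv a α hα : Matrix (Fin r) (Fin r) F)).comp (co e P φ)) fun x v => ?_) w
        show co e P φ ((k : Matrix (Fin n) (Fin n) F) *ᵥ tvec e P x v) = _ *ᵥ co e P φ (tvec e P x v)
        rw [kg_tvec, co_tvec, co_tvec, mulVec_smul, Units.val_one, one_mulVec]
      rw [hco, ← smul_mul_assoc, ← mul_smul_comm, mulVec_mulVec]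
      have hinv : (1 - vecMulVec a α) * (tv a α hα : Matrix (Fin r) (Fin r) F) = 1 := (tv a α hα).inv_mul
      rw [show (1 + vecMulVec a α) = (tv a α hα : Matrix (Fin r) (Fin r) F) from rfl]
      simp only [mulVec_mulVec, mul_assoc, hinv, mul_one]
    obtain ⟨a, δ, ha, hδ, hδa, haS⟩ := exists_rank_one hr hex S hconj hXS fun ⟨c, hc⟩ =>
      hns ⟨c, fun x => by rw [← hXmul, hc]⟩
    refine hMne (full_of_transvection hr hs hM hHM ha hδ hb (fun h => by simp [h] at hφz) hδa hφb fun c => ?_)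
    obtain ⟨h, hh, hh'⟩ := haS c
    have horth : (c • tv2 e P δ φ) ⬝ᵥ tvec e P a b = 0 := by
      rw [smul_dotProduct, tv2_tvec, hφb, zero_mul, smul_zero]
    refine ⟨horth, ?_⟩
    rw [show tv (tvec e P a b) _ horth = h from gl_ext_vec fun z => by
      rw [tv_mulVec, hh', smul_mulVec, vecMulVec_mulVec, op_smul_eq_smul, smul_dotProduct, tv2_dot, smul_smul,
        tvec_smul_left, smul_eq_mul]]
    exact hh
  choose c hc using hscal
  refine ⟨fun j => c (Pi.single j 1), ?_, ?_⟩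
  all_goals
    have key : ∀ x y, ψ (tvec e P x y) = ((fun j => c (Pi.single j 1)) ⬝ᵥ y) • x := by
      intro x y
      let L : (Fin s → F) →ₗ[F] (Fin r → F) := ψ.comp
        (⟨⟨fun y => tvec e P x y, fun a a' => tvec_add_right x a a'⟩, fun c a => tvec_smul_right c x a⟩ :
          (Fin s → F) →ₗ[F] (Fin n → F))
      show L y = _
      conv_lhs => rw [pi_eq_sum_univ' y]
      rw [map_sum, dotProduct, Finset.sum_smul]
      refine Finset.sum_congr rfl fun j _ => ?_
      rw [map_smul]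
      show y j • ψ (tvec e P x (Pi.single j 1)) = _
      rw [hc, smul_smul, mul_comm]
  · have h0 := key (Pi.single ⟨0, by omega⟩ 1) b
    rw [hψ] at h0
    simpa using (congrFun h0 ⟨0, by omega⟩).symm
  · intro z
    exact LinearMap.congr_fun (lin_ext (e := e) (P := P) fun x y => by rw [key, co_tvec]) z

/-- elements moving a pure subspace to a pure subspace lie in the tensor product subgroup -/
theorem pure_rigid [Fintype F] (hr : 2 ≤ r) (hs : 3 ≤ s) (hex : 3 ≤ r ∨ 3 ≤ Fintype.card F)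
    (hM : M ≤ specialLinear (Fin n) F) (hMne : M ≠ specialLinear (Fin n) F)
    (hHM : tensorProductSubgroup r s e P ⊓ specialLinear (Fin n) F ≤ M) {b : Fin s → F} (hb : b ≠ 0) :
    PureRigid e P M b := by
  intro g hg b'' hb'' hpure
  choose C hC using hpure
  obtain ⟨γ'', hγ''⟩ := exists_dot_one hb''
  obtain ⟨γb, hγb⟩ := exists_dot_one hb
  let C' : (Fin r → F) →ₗ[F] (Fin r → F) := (co e P γ'').comp ((Matrix.mulVecLin (g : Matrix (Fin n) (Fin n) F)).comp
    (⟨⟨fun x => tvec e P x b, fun x x' => tvec_add_left x x' b⟩, fun c x => tvec_smul_left c x b⟩ :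
      (Fin r → F) →ₗ[F] (Fin n → F)))
  have hC' : ∀ x, (g : Matrix (Fin n) (Fin n) F) *ᵥ tvec e P x b = tvec e P (C' x) b'' := fun x => by
    rw [hC, show C' x = C x by
      show co e P γ'' ((g : Matrix (Fin n) (Fin n) F) *ᵥ tvec e P x b) = C x
      rw [hC, co_tvec, hγ'', one_smul]]
  have hCinj : Function.Injective C' := (injective_iff_map_eq_zero C').2 fun x hx => by
    have h1 := hC' x
    rw [hx, tvec_zero_left, gl_mulVec_eq_zero] at h1
    exact tvec_left_inj hb (h1.trans (tvec_zero_left b).symm)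
  have hCsurj : Function.Surjective C' := LinearMap.surjective_of_injective hCinj
  -- the images of the roots at `b`
  have hδ : ∀ β : Fin s → F, β ⬝ᵥ b = 0 → ∃ δ : Fin s → F, δ ⬝ᵥ b'' = 0 ∧
      ∀ z, C' (co e P β (((g⁻¹ : GL (Fin n) F) : Matrix (Fin n) (Fin n) F) *ᵥ z)) = co e P δ z := by
    intro β hβ
    refine insertion_scalar hr hs hex hM hMne hHM hb''
      (C'.comp ((co e P β).comp (Matrix.mulVecLin ((g⁻¹ : GL (Fin n) F) : Matrix (Fin n) (Fin n) F)))) (fun x => ?_)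
      (M.mul_mem (M.mul_mem hg (root_mem hHM b β hβ)) (M.inv_mem hg)) fun z => by
        rw [conj_root_mulVec, hC']
        rfl
    obtain ⟨x', rfl⟩ := hCsurj x
    show C' (co e P β (((g⁻¹ : GL (Fin n) F) : Matrix (Fin n) (Fin n) F) *ᵥ tvec e P (C' x') b'')) = 0
    rw [← hC', gl_inv_mulVec, co_tvec, hβ, zero_smul, map_zero]
  choose δ hδ0 hδ1 using hδ
  obtain ⟨x0, hx0⟩ : ∃ x0 : Fin r → F, x0 ≠ 0 := ⟨Pi.single ⟨0, by omega⟩ 1, by simp⟩
  obtain ⟨γ, hγ⟩ := exists_dot_one (show C' x0 ≠ 0 from fun h => hx0 (hCinj (by rw [h, map_zero])))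
  let D : (Fin s → F) →ₗ[F] (Fin s → F) := (rc e P γ).comp ((Matrix.mulVecLin (g : Matrix (Fin n) (Fin n) F)).comp
    (⟨⟨fun y => tvec e P x0 y, fun y y' => tvec_add_right x0 y y'⟩, fun c y => tvec_smul_right c x0 y⟩ :
      (Fin s → F) →ₗ[F] (Fin n → F)))
  have hcoδ : ∀ β hβ x y, co e P (δ β hβ) ((g : Matrix (Fin n) (Fin n) F) *ᵥ tvec e P x y) = (β ⬝ᵥ y) • C' x := by
    intro β hβ x y
    rw [← hδ1 β hβ, gl_inv_mulVec, co_tvec, map_smul]
  have hDdot : ∀ β hβ y, δ β hβ ⬝ᵥ D y = β ⬝ᵥ y := by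
    intro β hβ y
    show δ β hβ ⬝ᵥ rc e P γ ((g : Matrix (Fin n) (Fin n) F) *ᵥ tvec e P x0 y) = _
    rw [co_rc, hcoδ, dotProduct_smul, hγ, smul_eq_mul, mul_one]
  have hDb : D b = b'' := by
    show rc e P γ ((g : Matrix (Fin n) (Fin n) F) *ᵥ tvec e P x0 b) = _
    rw [hC', rc_tvec, hγ, one_smul]
  have hDinj : Function.Injective D := (injective_iff_map_eq_zero D).2 fun y hy => by
    have hy0 : ∀ β, β ⬝ᵥ b = 0 → β ⬝ᵥ y = 0 := fun β hβ => by rw [← hDdot β hβ, hy, dotProduct_zero]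
    by_cases hsp : y ∈ Submodule.span F {b}
    · obtain ⟨c, rfl⟩ := Submodule.mem_span_singleton.1 hsp
      rw [map_smul, hDb, smul_eq_zero] at hy
      rw [hy.resolve_right hb'', zero_smul]
    · obtain ⟨β, h1, h0⟩ := exists_dual _ hsp
      rw [hy0 β (h0 b (Submodule.mem_span_singleton_self b))] at h1
      exact absurd h1 zero_ne_one
  -- the Kronecker element
  have hCu : IsUnit (LinearMap.toMatrix' C') := by
    rw [← Matrix.mulVec_injective_iff_isUnit]
    rwa [show (LinearMap.toMatrix' C').mulVec = ⇑C' from funext (LinearMap.toMatrix'_mulVec C')]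
  have hDu : IsUnit (LinearMap.toMatrix' D) := by
    rw [← Matrix.mulVec_injective_iff_isUnit]
    rwa [show (LinearMap.toMatrix' D).mulVec = ⇑D from funext (LinearMap.toMatrix'_mulVec D)]
  obtain ⟨Cg, hCg⟩ := hCu
  obtain ⟨Dg, hDg⟩ := hDu
  set h := kg e P Cg Dg with hh
  have hhx : ∀ x y, (h : Matrix (Fin n) (Fin n) F) *ᵥ tvec e P x y = tvec e P (C' x) (D y) := fun x y => by
    rw [hh, kg_tvec, hCg, hDg, LinearMap.toMatrix'_mulVec, LinearMap.toMatrix'_mulVec]
  -- `g` and `h` agree modulo the pure subspace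
  have hkill : ∀ δ' : Fin s → F, δ' ⬝ᵥ b'' = 0 → ∀ x y,
      co e P δ' ((g : Matrix (Fin n) (Fin n) F) *ᵥ tvec e P x y) = (δ' ⬝ᵥ D y) • C' x := by
    intro δ' hδ' x y
    set β := δ' ᵥ* LinearMap.toMatrix' D with hβdef
    have hβy : ∀ y, β ⬝ᵥ y = δ' ⬝ᵥ D y := fun y => by
      rw [hβdef, ← dotProduct_mulVec, LinearMap.toMatrix'_mulVec]
    have hβ : β ⬝ᵥ b = 0 := by rw [hβy, hDb, hδ']
    have hδeq : δ β hβ = δ' := by
      refine dotProduct_eq _ _ fun w => ?_
      obtain ⟨v, rfl⟩ := LinearMap.surjective_of_injective hDinj w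
      rw [hDdot, hβy]
    rw [← hδeq, hcoδ, hδeq, hβy]
  set u := h⁻¹ * g with hu
  let ψ : (Fin n → F) →ₗ[F] (Fin r → F) := (co e P γb).comp
    (Matrix.mulVecLin (u : Matrix (Fin n) (Fin n) F) - LinearMap.id)
  have hudiff : ∀ x y, (u : Matrix (Fin n) (Fin n) F) *ᵥ tvec e P x y =
      tvec e P x y + tvec e P (ψ (tvec e P x y)) b := by
    intro x y
    have h1 := pure_of_co (e := e) (P := P) hγ''
      (z := (g : Matrix (Fin n) (Fin n) F) *ᵥ tvec e P x y - tvec e P (C' x) (D y)) fun δ' hδ' => by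
      rw [map_sub, hkill δ' hδ', co_tvec, sub_self]
    obtain ⟨w, hw⟩ := hCsurj (co e P γ'' ((g : Matrix (Fin n) (Fin n) F) *ᵥ tvec e P x y - tvec e P (C' x) (D y)))
    rw [← hw, ← hDb, ← hhx, ← hhx, sub_eq_iff_eq_add] at h1
    have h2 : (u : Matrix (Fin n) (Fin n) F) *ᵥ tvec e P x y = tvec e P w b + tvec e P x y := by
      rw [hu, gl_mul_mulVec, h1, mulVec_add, gl_inv_mulVec, gl_inv_mulVec]
    have h3 : ψ (tvec e P x y) = w := by
      show co e P γb ((u : Matrix (Fin n) (Fin n) F) *ᵥ tvec e P x y - tvec e P x y) = w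
      rw [h2, add_sub_cancel_right, co_tvec, hγb, one_smul]
    rw [h3, h2, add_comm]
  have hψb : ∀ x, ψ (tvec e P x b) = 0 := by
    intro x
    show co e P γb ((u : Matrix (Fin n) (Fin n) F) *ᵥ tvec e P x b - tvec e P x b) = 0
    rw [hu, gl_mul_mulVec, hC', ← hDb, ← hhx, gl_inv_mulVec, sub_self, map_zero]
  have hudiff' : ∀ z, (u : Matrix (Fin n) (Fin n) F) *ᵥ z = z + tvec e P (ψ z) b := by
    intro z
    induction tvec_span (e := e) (P := P) z using Submodule.span_induction with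
    | mem v hv =>
      obtain ⟨x, y, rfl⟩ := hv
      exact hudiff x y
    | zero => rw [mulVec_zero, map_zero, tvec_zero_left, add_zero]
    | add v w _ _ h1 h2 => rw [mulVec_add, h1, h2, map_add, tvec_add_left]; abel
    | smul c v _ h1 => rw [mulVec_smul, h1, map_smul, tvec_smul_left, smul_add]
  have hudet : (u : Matrix (Fin n) (Fin n) F).det = 1 := by
    let I : (Fin r → F) →ₗ[F] (Fin n → F) :=
      ⟨⟨fun x => tvec e P x b, fun x x' => tvec_add_left x x' b⟩, fun c x => tvec_smul_left c x b⟩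
    have h1 : (u : Matrix (Fin n) (Fin n) F) = 1 + LinearMap.toMatrix' I * LinearMap.toMatrix' ψ :=
      Matrix.ext_iff_mulVec.2 fun z => by
        rw [hudiff', add_mulVec, one_mulVec, ← mulVec_mulVec, LinearMap.toMatrix'_mulVec,
          LinearMap.toMatrix'_mulVec]
        rfl
    rw [h1, Matrix.det_one_add_mul_comm, ← LinearMap.toMatrix'_comp,
      show ψ.comp I = 0 from LinearMap.ext hψb, map_zero, add_zero, Matrix.det_one]
  have hhSL : h ∈ specialLinear (Fin n) F := by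
    refine Units.ext ?_
    show (h : Matrix (Fin n) (Fin n) F).det = 1
    have h1 : (g : Matrix (Fin n) (Fin n) F).det = 1 := congrArg Units.val (hM hg)
    rw [show g = h * u by rw [hu, mul_inv_cancel_left], Units.val_mul, Matrix.det_mul, hudet, mul_one] at h1
    exact h1
  have hhM : h ∈ M := hHM ⟨kg_mem Cg Dg, hhSL⟩
  obtain ⟨δ0, hδ00, hδψ⟩ := insertion_scalar hr hs hex hM hMne hHM hb ψ hψb (M.mul_mem (M.inv_mem hhM) hg) hudiff'
  have hur : u = rootGL e P b δ0 hδ00 := gl_ext_vec fun z => by rw [hudiff', hδψ, root_mulVec]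
  rw [show g = h * u by rw [hu, mul_inv_cancel_left], hur]
  exact Subgroup.mul_mem _ (kg_mem Cg Dg) (kg_mem _ _)

/-- the stabiliser of a tensor decomposition is maximal in `SL` -/
theorem sl_tensor_maximal [Fintype F] (hr : 2 ≤ r) (hrs : r < s) (hex : ¬ (r = 2 ∧ Fintype.card F = 2)) :
    IsMaximalIn (specialLinear (Fin n) F) (tensorProductSubgroup r s e P ⊓ specialLinear (Fin n) F) := by
  have hs : 3 ≤ s := by omega
  have hex' : 3 ≤ r ∨ 3 ≤ Fintype.card F := by
    by_contra hcon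
    have := Fintype.one_lt_card (α := F)
    exact hex ⟨by omega, by omega⟩
  refine ⟨lt_SL_of_not_le ?_, fun M hHM hMSL => ?_⟩
  · intro hle
    -- a transvection between pure vectors
    let a : Fin r → F := Pi.single ⟨0, by omega⟩ 1
    let a' : Fin r → F := Pi.single ⟨1, by omega⟩ 1
    let b : Fin s → F := Pi.single ⟨0, by omega⟩ 1
    let b' : Fin s → F := Pi.single ⟨1, by omega⟩ 1
    have horth : tv2 e P a b ⬝ᵥ tvec e P a' b' = 0 := by
      rw [tv2_tvec]; simp [a, a', b, b']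
    obtain ⟨A, B, hAB⟩ := mem_tensor (hle (tv_mem_SL _ _ horth))
    set x := (A : Matrix (Fin r) (Fin r) F) *ᵥ a
    set y := (B : Matrix (Fin s) (Fin s) F) *ᵥ b
    have h1 : tvec e P x y = tvec e P a b + tvec e P a' b' := by
      rw [← hAB, tv_mulVec, tv2_tvec]; simp [a, b]
    have hc : ∀ i j, x i * y j = a i * b j + a' i * b' j := fun i j => by
      have := congrArg (fun z => crd e P z (i, j)) h1
      simpa [crd_tvec, map_add] using this
    have h00 := hc ⟨0, by omega⟩ ⟨0, by omega⟩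
    have h11 := hc ⟨1, by omega⟩ ⟨1, by omega⟩
    have h01 := hc ⟨0, by omega⟩ ⟨1, by omega⟩
    simp [a, a', b, b', Fin.ext_iff] at h00 h11 h01
    rcases h01 with h | h <;> simp [h] at h00 h11
  · by_cases hMne : M = specialLinear (Fin n) F
    · exact Or.inr hMne
    refine Or.inl (le_antisymm (le_inf ?_ hMSL) hHM)
    refine descend (by omega) hrs M (fun b β => b ≠ 0 ∧ β ≠ 0 ∧ β ⬝ᵥ b = 0)
      (fun b β ⟨hb, hβ, h⟩ => ⟨h, hb, hβ, root_mem hHM b β h⟩) ?_
      (fun b hb => pure_rigid hr hs hex' hMSL hMne hHM hb) ?_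
    · refine ⟨Pi.single ⟨0, by omega⟩ 1, Pi.single ⟨1, by omega⟩ 1, by simp, by simp, ?_⟩
      simp
    · intro g hg b₀ hb₀ A hA0 hA1
      obtain ⟨a, -, ha⟩ := SetLike.exists_of_lt hA1.lt_top
      refine ⟨a, ha, ?_⟩
      -- the functionals orthogonal to `b₀` pulled back to the quotient by `A`
      let G : (Fin s → F) →ₗ[F] (Fin r → F) :=
        { toFun := fun β => co e P β (((g⁻¹ : GL (Fin n) F) : Matrix (Fin n) (Fin n) F) *ᵥ tvec e P a b₀)
          map_add' := fun β β' => co_add β β' _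
          map_smul' := fun c β => co_smul c β _ }
      let L : (Fin s → F) →ₗ[F] ((Fin r → F) ⧸ A) × F := LinearMap.prod (A.mkQ.comp G)
        { toFun := fun β => β ⬝ᵥ b₀, map_add' := fun u v => add_dotProduct _ _ _,
          map_smul' := fun c u => smul_dotProduct _ _ _ }
      have hlt : Module.finrank F (((Fin r → F) ⧸ A) × F) < Module.finrank F (Fin s → F) := by
        have h1 := Submodule.finrank_quotient_add_finrank A
        have h2 : 1 ≤ Module.finrank F A := Submodule.one_le_finrank_iff.2 hA0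
        rw [Module.finrank_prod, Module.finrank_self]
        simp at h1 ⊢
        omega
      obtain ⟨β, hβ, hβ0⟩ := Submodule.exists_mem_ne_zero_of_ne_bot (LinearMap.ker_ne_bot_of_finrank_lt (f := L) hlt)
      have hβ' := Prod.ext_iff.1 (LinearMap.mem_ker.1 hβ)
      exact ⟨b₀, β, ⟨hb₀, hβ0, hβ'.2⟩, hβ'.2, Or.inr ⟨rfl, (Submodule.Quotient.mk_eq_zero A).1 hβ'.1⟩⟩

end CfsgLib.Perm.Trans.TensorMax
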