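import Cfsg.Agent.Lib.Perm.LinDecomp.Decomp
import Cfsg.Agent.Lib.Perm.ExtField.Matrix
import Cfsg.Agent.Lib.Perm.Trans.TensorSLMax
import Cfsg.Agent.Lib.Perm.Trans.SubfSLMax
import Cfsg.Agent.Lib.Perm.Trans.Herm
import Cfsg.Agent.Lib.Perm.Trans.OrthSim

/-!
# Geometric maximal subgroups of special linear groups of dimension at least six
-/

set_option autoImplicit false
set_option linter.all false

namespace CfsgLib.Perm.Trans.GeomSL

open scoped Matrix
open Matrix Cfsg.Geo CfsgLib.Perm.Asch CfsgLib.Perm.Trans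

variable {F : Type*} [Field F] [Fintype F] {n : ℕ}

/-- similarity groups of quadratic forms are maximal -/
theorem quad_similarity_maximal (hn : 6 ≤ n) (hodd : Odd (Fintype.card F)) {Q : (Fin n → F) → F}
    (hQ : IsNondegenerateQuadraticForm Q) :
    IsMaximalIn (specialLinear (Fin n) F) (quadSimilarityGroup Q ⊓ specialLinear (Fin n) F) := by
  have h2 : (2 : F) ≠ 0 := Ring.two_ne_zero fun h => by
    have := FiniteField.even_card_iff_char_two.1 h
    rw [Nat.odd_iff] at hodd
    omega
  have hself : ∀ v, QuadraticMap.polar Q v v = 2 * Q v := fun v => by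
    rw [QuadraticMap.polar, ← two_smul F v, hQ.smul]
    ring
  have hf : IsSymmetricForm (QuadraticMap.polar Q) :=
    ⟨hQ.polar_bilinear, QuadraticMap.polar_comm Q, hQ.nondegenerate⟩
  have heq : quadSimilarityGroup Q = similarityGroup (QuadraticMap.polar Q) := by
    refine le_antisymm quadSimilarity_le_polar ?_
    rintro g ⟨c, hc⟩
    refine ⟨c, fun v => mul_left_cancel₀ h2 ?_⟩
    rw [← hself, hc, hself, mul_left_comm]
  rw [heq]
  refine ⟨lt_SL_of_not_le (not_le_similarityGroup (by omega)
    hf.bilinear.add_left hf.bilinear.smul_left hf.nondegenerate), fun M hHM hMSL => ?_⟩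
  by_cases hMS : M ≤ similarityGroup (QuadraticMap.polar Q)
  · exact Or.inl (le_antisymm (le_inf hMS hMSL) hHM)
  · exact Or.inr (eq_SL_of_fullSub hMSL
      (Orth.fullSub_top_of_not_le hf h2 hHM (by rw [Fintype.card_fin]; exact hn) hMS))

end CfsgLib.Perm.Trans.GeomSL
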