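import Cfsg.Agent.Lib.Perm.Trans.UnitSubfRing

/-!
# Unitary subfield subgroups of odd degree are maximal
-/

set_option autoImplicit false
set_option linter.all false

namespace CfsgLib.Perm.Trans.Unit

open scoped Matrix
open Matrix Cfsg.Geo CfsgLib.Perm.Asch CfsgLib.Perm.Trans
open CfsgLib.Perm.Trans.Subf (em lift em_add em_neg em_sub em_smul em_sum em_zero em_injective em_ne_zero exists_coords lift_em lift_mem ext_em)

attribute [local instance] subfieldFintype

variable {ι : Type} [Fintype ι] [DecidableEq ι] {F : Type*} [Field F] [Fintype F]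
variable {σ : F ≃+* F} {f : (ι → F) → (ι → F) → F}

section Generic

variable (hf : IsUnitaryForm σ f)
include hf

/-- the determinant of an isometry has norm one -/
theorem isoU_det_norm {g : GL ι F} (hg : g ∈ isoU f) :
    (g : Matrix ι ι F).det * σ (g : Matrix ι ι F).det = 1 := by
  obtain ⟨G, hG⟩ : ∃ G : Matrix ι ι F, G = Matrix.of fun i j => f (Pi.single i 1) (Pi.single j 1) := ⟨_, rfl⟩
  have hform : ∀ x y : ι → F, f x y = x ⬝ᵥ (G *ᵥ fun j => σ (y j)) := by
    have h1 : ∀ (s : Finset ι) (v : ι → F) (y : ι → F), f v (∑ j ∈ s, y j • Pi.single j 1) =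
        ∑ j ∈ s, σ (y j) * f v (Pi.single j 1) := by
      intro s v y
      induction s using Finset.induction_on with
      | empty => simp [herm_zero_right hf]
      | @insert i s hi ih => rw [Finset.sum_insert hi, Finset.sum_insert hi, herm_add_right hf, herm_smul_right hf, ih]
    have h2 : ∀ (s : Finset ι) (x v : ι → F), f (∑ j ∈ s, x j • Pi.single j 1) v =
        ∑ j ∈ s, x j * f (Pi.single j 1) v := by
      intro s x v
      induction s using Finset.induction_on with
      | empty => simp [herm_zero_left hf]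
      | @insert i s hi ih => rw [Finset.sum_insert hi, Finset.sum_insert hi, hf.add_left, hf.smul_left, ih]
    intro x y
    conv_lhs => rw [pi_eq_sum_univ' x, pi_eq_sum_univ' y, h2]
    simp only [h1, dotProduct, mulVec, hG, Matrix.of_apply]
    refine Finset.sum_congr rfl fun i _ => ?_
    congr 1
    exact Finset.sum_congr rfl fun j _ => mul_comm _ _
  have hGdet : G.det ≠ 0 := by
    intro h0
    obtain ⟨v, hv, hGv⟩ := Matrix.exists_mulVec_eq_zero_iff.2 h0
    obtain ⟨x, hx⟩ := (hf.nondegenerate (fun j => σ (v j)) (fun h => hv (funext fun j => by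
      simpa using congrFun h j))).1
    refine hx ?_
    rw [hform, show (fun j => σ (σ (v j))) = v from funext fun j => hf.involutive _, hGv, dotProduct_zero]
  have hmat : (g : Matrix ι ι F)ᵀ * G * (g : Matrix ι ι F).map σ = G := by
    ext i j
    have h := mem_isoU.1 hg (Pi.single i 1) (Pi.single j 1)
    rw [hform] at h
    have h3 : (fun k => σ (((g : Matrix ι ι F) *ᵥ Pi.single j 1) k)) = fun k => ((g : Matrix ι ι F).map σ) k j :=
      funext fun k => by rw [Matrix.mulVec_single_one]; rfl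
    rw [h3, Matrix.mulVec_single_one] at h
    conv_rhs => rw [hG, Matrix.of_apply, ← h]
    rw [Matrix.mul_assoc, Matrix.mul_apply]
    rfl
  have h := congrArg Matrix.det hmat
  rw [det_mul, det_mul, det_transpose, show (g : Matrix ι ι F).map σ = (σ : F →+* F).mapMatrix (g : Matrix ι ι F)
    from rfl, ← RingHom.map_det] at h
  replace h : (g : Matrix ι ι F).det * G.det * σ (g : Matrix ι ι F).det = G.det := h
  exact mul_right_cancel₀ hGdet (show (g : Matrix ι ι F).det * σ (g : Matrix ι ι F).det * G.det = 1 * G.det by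
    rw [one_mul]; linear_combination h)

theorem finrank_pair {e h : ι → F} (hee : f e e = 0) (hhh : f h h = 0) (heh : f e h = 1) :
    Module.finrank F (Submodule.span F ({e, h} : Set (ι → F))) = 2 := by
  have hhe : f h e = 1 := by rw [hf.herm, heh, map_one]
  rw [← Matrix.range_cons_cons_empty e h, finrank_span_eq_card]
  · simp
  · rw [LinearIndependent.pair_iff]
    intro s t hst
    have h5 := congrArg (fun v => f v e) hst
    have h6 := congrArg (fun v => f v h) hst
    simp only [hf.add_left, hf.smul_left, hee, hhh, heh, hhe, herm_zero_left hf] at h5 h6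
    exact ⟨by linear_combination h6, by linear_combination h5⟩

/-- special isometries of a subspace are transitive on the vectors of a given norm -/
theorem fixU_norm_move {W : Submodule F (ι → F)} (hW : IsNondegenerateOn f W) (hdim : 2 ≤ Module.finrank F W)
    {a a' : ι → F} (ha : a ∈ W) (ha' : a' ∈ W) (h : f a a = f a' a') (h0 : f a a ≠ 0) :
    ∃ g ∈ fixU hf W, (g : Matrix ι ι F) *ᵥ a = a' := by
  obtain ⟨g, hg, hgP, hga⟩ := exists_norm_move hf ha ha' h h0
  have h0' : f a' a' ≠ 0 := h ▸ h0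
  obtain ⟨hnd, hsum⟩ := sub_perp hf hW (isNondegenerateOn_singleton hf h0')
    ((Submodule.span_singleton_le_iff_mem _ _).2 ha')
  obtain ⟨p, hp, hpp⟩ := exists_anisotropic hf hnd (fun hb => by
    rw [hb, finrank_bot, finrank_span_singleton (fun h1 => h0' (by rw [h1, herm_zero_left hf]))] at hsum
    omega)
  have hn := isoU_det_norm hf hg.1
  obtain ⟨q, hq, hqdet, hqf⟩ := exists_qref hf hpp (ζ := (g : Matrix ι ι F).det⁻¹) (by
    rw [map_inv₀, ← mul_inv, hn, inv_one])
  refine ⟨q * g, ⟨⟨(isoU f).mul_mem hq hg.1, Units.ext ?_⟩, fun x hx => ?_⟩, ?_⟩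
  · show ((q * g : GL ι F) : Matrix ι ι F).det = 1
    rw [Units.val_mul, det_mul, hqdet, inv_mul_cancel₀ (left_ne_zero_of_mul_eq_one hn)]
  · rw [gl_mul_mulVec, hgP x hx, hqf, hx p hp.1, mul_zero, zero_smul, add_zero]
  · rw [gl_mul_mulVec, hga, hqf, herm_swap_zero hf (hp.2 a' (Submodule.mem_span_singleton_self a')), mul_zero,
      zero_smul, add_zero]

theorem nondeg_sup_singleton {W : Submodule F (ι → F)} (hW : IsNondegenerateOn f W) {d : ι → F} (hdd : f d d ≠ 0)
    (hd : d ∈ perp hf W) : IsNondegenerateOn f (W ⊔ Submodule.span F {d}) := by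
  intro v hv hv0
  obtain ⟨w, hw, _, hy, rfl⟩ := Submodule.mem_sup.1 hv
  obtain ⟨s, rfl⟩ := Submodule.mem_span_singleton.1 hy
  have hd' : d ∈ W ⊔ Submodule.span F {d} := Submodule.mem_sup_right (Submodule.mem_span_singleton_self d)
  by_cases hs : s = 0
  · subst hs
    rw [zero_smul, add_zero] at hv0 ⊢
    obtain ⟨⟨x, hx, h1⟩, ⟨y, hy', h2⟩⟩ := hW w hw hv0
    exact ⟨⟨x, Submodule.mem_sup_left hx, h1⟩, ⟨y, Submodule.mem_sup_left hy', h2⟩⟩
  · have h1 : f (w + s • d) d ≠ 0 := by
      rw [hf.add_left, hf.smul_left, herm_swap_zero hf (hd w hw), zero_add]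
      exact mul_ne_zero hs hdd
    exact ⟨⟨d, hd', fun h => h1 (herm_swap_zero hf h)⟩, ⟨d, hd', h1⟩⟩

end Generic

variable {F₀ : Subfield F} {P : GL ι F} {r : ℕ}
variable (D : HermRat σ f F₀ P r)
include D

omit D in
theorem em_image_span (S : Submodule F₀ (ι → F₀)) (d : ι → F₀) :
    Submodule.span F (em F₀ P '' ↑(S ⊔ Submodule.span F₀ {d})) =
      Submodule.span F (em F₀ P '' ↑S) ⊔ Submodule.span F {em F₀ P d} := by
  refine le_antisymm (Submodule.span_le.2 ?_) (sup_le (Submodule.span_mono (Set.image_mono (le_sup_left : S ≤ _)))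
    ((Submodule.span_singleton_le_iff_mem _ _).2
      (Submodule.subset_span ⟨d, Submodule.mem_sup_right (Submodule.mem_span_singleton_self d), rfl⟩)))
  rintro _ ⟨v, hv, rfl⟩
  obtain ⟨w, hw, _, hy, rfl⟩ := Submodule.mem_sup.1 hv
  obtain ⟨s, rfl⟩ := Submodule.mem_span_singleton.1 hy
  rw [em_add, em_smul]
  exact Submodule.add_mem_sup (Submodule.subset_span ⟨w, hw, rfl⟩)
    (Submodule.smul_mem _ _ (Submodule.mem_span_singleton_self _))

/-- full transvection groups at rational points give all transvections -/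
theorem centres_of_rat (hn : 4 ≤ Fintype.card ι) {M : Subgroup (GL ι F)} (hM : M ≤ isoU f)
    (hrat : ∀ a : ι → F₀, hrForm D a a = 0 → em F₀ P a ∈ centres D.form M) :
    ∀ u, f u u = 0 → u ∈ centres D.form M := by
  have hf := D.form
  have hf' := hrForm_unitary D
  obtain ⟨e, -, he0, hee⟩ := exists_isotropic hf' (W := (⊤ : Submodule F₀ (ι → F₀))) (by
    rw [finrank_top, Module.finrank_fintype_fun_eq_card]; omega)
  obtain ⟨z, hz⟩ := (hf'.nondegenerate e he0).2
  obtain ⟨h, -, hhh, heh, -⟩ := exists_partner hf' (X := ⊤) Submodule.mem_top hee (y := z) Submodule.mem_top hz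
  have hee' := hr_em_iso D hee
  have hhh' := hr_em_iso D hhh
  have heh' := hr_em_one D heh
  have hcardF : 4 < Fintype.card F := by
    rw [D.card]
    have h2 : 2 ≤ Nat.card F₀ := Finite.one_lt_card
    have h3 : 2 ^ 3 ≤ Nat.card F₀ ^ r :=
      (Nat.pow_le_pow_left h2 3).trans (Nat.pow_le_pow_right (by omega) D.two_lt)
    omega
  suffices key : ∀ k : ℕ, k + 2 ≤ Fintype.card ι → ∃ S : Submodule F₀ (ι → F₀), IsNondegenerateOn (hrForm D) S ∧
      k + 2 ≤ Module.finrank F₀ S ∧ e ∈ S ∧ h ∈ S ∧ IsNondegenerateOn f (Submodule.span F (em F₀ P '' ↑S)) ∧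
      ∀ u ∈ Submodule.span F (em F₀ P '' ↑S), f u u = 0 → u ∈ centres D.form M by
    intro u huu
    obtain ⟨S, -, hS, -, -, -, hall⟩ := key (Fintype.card ι - 2) (by omega)
    have htop : S = ⊤ := Submodule.eq_top_of_finrank_eq (le_antisymm (Submodule.finrank_le S) (by
      rw [Module.finrank_fintype_fun_eq_card]; omega))
    refine hall u ?_ huu
    obtain ⟨a, rfl⟩ := exists_coords F₀ P u
    exact Submodule.sum_mem _ fun i _ =>
      Submodule.smul_mem _ _ (Submodule.subset_span ⟨_, htop ▸ Submodule.mem_top, rfl⟩)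
  intro k hk
  induction k with
  | zero =>
    refine ⟨Submodule.span F₀ {e, h}, isNondegenerateOn_pair hf' hee hhh heh, (finrank_pair hf' hee hhh heh).ge,
      Submodule.subset_span (by simp), Submodule.subset_span (by simp), ?_⟩
    have hspan : Submodule.span F (em F₀ P '' ↑(Submodule.span F₀ ({e, h} : Set (ι → F₀)))) =
        Submodule.span F {em F₀ P e, em F₀ P h} := by
      refine le_antisymm (Submodule.span_le.2 ?_) (Submodule.span_le.2 ?_)
      · rintro _ ⟨v, hv, rfl⟩
        obtain ⟨s, t, rfl⟩ := Submodule.mem_span_pair.1 hv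
        rw [em_add, em_smul, em_smul]
        exact Submodule.mem_span_pair.2 ⟨_, _, rfl⟩
      · rintro _ (rfl | rfl)
        · exact Submodule.subset_span ⟨e, Submodule.subset_span (by simp), rfl⟩
        · exact Submodule.subset_span ⟨h, Submodule.subset_span (by simp), rfl⟩
    rw [hspan]
    refine ⟨isNondegenerateOn_pair hf hee' hhh' heh', fun u hu huu => ?_⟩
    obtain ⟨s, t, rfl⟩ := Submodule.mem_span_pair.1 hu
    rcases eq_or_ne s 0 with rfl | hs
    · rw [zero_smul, zero_add]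
      exact centres_smul hf (hrat h hhh) t
    rw [show s • em F₀ P e + t • em F₀ P h = s • (em F₀ P e + (t / s) • em F₀ P h) by
      rw [smul_add, smul_smul, mul_div_cancel₀ _ hs]] at huu ⊢
    refine centres_smul hf (centres_line hf hM (hrat e hee) (hrat h hhh) (by rw [heh']; exact one_ne_zero) ?_) s
    rw [hf.smul_left, herm_smul_right hf] at huu
    exact (mul_eq_zero.1 ((mul_eq_zero.1 huu).resolve_left hs)).resolve_left (by simpa using hs)
  | succ k ih =>
    obtain ⟨S, hS, hSk, heS, hhS, hW, hall⟩ := ih (by omega)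
    by_cases hbig : k + 1 + 2 ≤ Module.finrank F₀ S
    · exact ⟨S, hS, hbig, heS, hhS, hW, hall⟩
    obtain ⟨d, hd, hdd⟩ := exists_anisotropic hf' (isNondegenerateOn_perp hf' hS) (fun hb => by
      have := finrank_add_perp hf' hS
      rw [hb, finrank_bot] at this
      omega)
    obtain ⟨W, hWdef⟩ : ∃ W, W = Submodule.span F (em F₀ P '' ↑S) := ⟨_, rfl⟩
    rw [← hWdef] at hW hall
    obtain ⟨k₀, hk₀⟩ : ∃ k₀, k₀ = f (em F₀ P d) (em F₀ P d) := ⟨_, rfl⟩
    have hk₀0 : k₀ ≠ 0 := fun h0 => hdd (Subtype.ext (by rw [hrForm_coe, ← hk₀, h0]; rfl))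
    have hdW : em F₀ P d ∈ perp hf W := by
      intro w hw
      rw [hWdef] at hw
      induction hw using Submodule.span_induction with
      | mem x hx => obtain ⟨s, hs, rfl⟩ := hx; exact hr_em_zero D (hd s hs)
      | zero => exact herm_zero_right hf _
      | add x y _ _ hx hy => rw [herm_add_right hf, hx, hy, add_zero]
      | smul c x _ hx => rw [herm_smul_right hf, hx, mul_zero]
    refine ⟨S ⊔ Submodule.span F₀ {d}, nondeg_sup_singleton hf' hS hdd hd, ?_, Submodule.mem_sup_left heS,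
      Submodule.mem_sup_left hhS, ?_⟩
    · have hlt : S < S ⊔ Submodule.span F₀ {d} := lt_of_le_of_ne le_sup_left fun hEq => hdd (hd d (by
        rw [hEq]; exact Submodule.mem_sup_right (Submodule.mem_span_singleton_self d)))
      have := Submodule.finrank_lt_finrank_of_lt hlt
      omega
    rw [em_image_span, ← hWdef]
    refine ⟨nondeg_sup_singleton hf hW (hk₀ ▸ hk₀0) hdW, fun u hu huu => ?_⟩
    obtain ⟨w, hw, _, hy, rfl⟩ := Submodule.mem_sup.1 hu
    obtain ⟨t, rfl⟩ := Submodule.mem_span_singleton.1 hy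
    rcases eq_or_ne t 0 with rfl | ht
    · rw [zero_smul, add_zero] at huu ⊢
      exact hall w hw huu
    obtain ⟨w', hw'⟩ : ∃ w', w' = t⁻¹ • w := ⟨_, rfl⟩
    have hw'W : w' ∈ W := hw' ▸ W.smul_mem _ hw
    rw [show w + t • em F₀ P d = t • (w' + em F₀ P d) by
      rw [smul_add, hw', smul_smul, mul_inv_cancel₀ ht, one_smul]] at huu ⊢
    refine centres_smul hf ?_ t
    have hn' : f w' w' = -k₀ := by
      rw [hf.smul_left, herm_smul_right hf] at huu
      have h1 := (mul_eq_zero.1 ((mul_eq_zero.1 huu).resolve_left ht)).resolve_left (by simpa using ht)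
      rw [hf.add_left, herm_add_right hf, herm_add_right hf, herm_swap_zero hf (hdW w' hw'W), hdW w' hw'W,
        ← hk₀] at h1
      linear_combination h1
    obtain ⟨κ, hκ⟩ := exists_trace hf' (d := -hrForm D d d) (by rw [map_neg, ← hf'.herm])
    have hiso : hrForm D (e + κ • h + d) (e + κ • h + d) = 0 := by
      have hde : hrForm D d e = 0 := hd e heS
      have hdh : hrForm D d h = 0 := hd h hhS
      simp only [hf'.add_left, herm_add_right hf', hf'.smul_left, herm_smul_right hf', hee, hhh, heh,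
        show hrForm D h e = 1 by rw [hf'.herm, heh, map_one], hde, hdh, herm_swap_zero hf' hde,
        herm_swap_zero hf' hdh]
      linear_combination hκ
    obtain ⟨w₀, hw₀⟩ : ∃ w₀, w₀ = em F₀ P (e + κ • h) := ⟨_, rfl⟩
    have hw₀W : w₀ ∈ W :=
      hw₀ ▸ hWdef ▸ Submodule.subset_span ⟨_, S.add_mem heS (S.smul_mem κ hhS), rfl⟩
    have hn₀ : f w₀ w₀ = -k₀ := by
      have h1 := hr_em_iso D hiso
      rw [em_add, ← hw₀, hf.add_left, herm_add_right hf, herm_add_right hf, herm_swap_zero hf (hdW w₀ hw₀W),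
        hdW w₀ hw₀W, ← hk₀] at h1
      linear_combination h1
    have hdim : 2 ≤ Module.finrank F W := by
      rw [← finrank_pair hf hee' hhh' heh']
      refine Submodule.finrank_mono (Submodule.span_le.2 ?_)
      rintro _ (rfl | rfl)
      · exact hWdef ▸ Submodule.subset_span ⟨e, heS, rfl⟩
      · exact hWdef ▸ Submodule.subset_span ⟨h, hhS, rfl⟩
    obtain ⟨g, hg, hgw⟩ := fixU_norm_move hf hW hdim hw₀W hw'W (hn₀.trans hn'.symm)
      (by rw [hn₀]; exact neg_ne_zero.2 hk₀0)
    have hgM : g ∈ M := mem_of_fix hf hW (fun u hu huu c hc => (hall u hu huu).2 c hc) (Or.inr hcardF) hg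
    have h2 := centres_conj hf hM hgM (hrat _ hiso)
    rwa [em_add, ← hw₀, mulVec_add, hgw, hg.2 _ hdW] at h2

/-- two classes of involutions in characteristic two -/
theorem exists_involutions_two (hn : 4 ≤ Fintype.card ι) (h2 : (2 : F) = 0) :
    ∃ i₁ ∈ subfieldSubgroup F₀ P ⊓ (isoU f ⊓ specialLinear ι F),
      ∃ i₂ ∈ subfieldSubgroup F₀ P ⊓ (isoU f ⊓ specialLinear ι F),
        i₁ * i₁ = 1 ∧ i₂ * i₂ = 1 ∧ i₁ ≠ 1 ∧ i₂ ≠ 1 ∧ Narrow 1 i₁ ∧ Narrow 2 i₂ ∧
          ∀ g : GL ι F, g * i₁ * g⁻¹ ≠ i₂ := by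
  have hf := D.form
  have hf' := hrForm_unitary D
  obtain ⟨δ, hδ, hδσ⟩ := exists_trace_zero hf'
  have hδ' : (δ : F) ≠ 0 := fun h => hδ (Subtype.ext h)
  obtain ⟨a, ha0, haa, -, -⟩ := hr_exists_orth D (by omega) 0 0
  obtain ⟨z, hz⟩ := (hf'.nondegenerate a ha0).2
  obtain ⟨a', -, ha'a', haa', -⟩ := exists_partner hf' (X := ⊤) Submodule.mem_top haa (y := z) Submodule.mem_top hz
  obtain ⟨b, hb0, hbb, hba, hba'⟩ := hr_exists_orth D (by omega) a a'
  obtain ⟨φ, hφb, hφa⟩ := exists_dual (Submodule.span F₀ ({a} : Set (ι → F₀))) (x := b) (fun hm => by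
    obtain ⟨s, rfl⟩ := Submodule.mem_span_singleton.1 hm
    rw [hf'.smul_left, haa', mul_one] at hba'
    exact hb0 (by rw [hba', zero_smul]))
  obtain ⟨y, hy⟩ := exists_rep hf' φ
  obtain ⟨t₁, ht₁, h₁⟩ := hr_rat_tv D (le_refl _) haa hδσ
  obtain ⟨t₂, ht₂, h₂⟩ := hr_rat_tv D (le_refl _) hbb hδσ
  have ha' := hr_em_iso D haa
  have hb' := hr_em_iso D hbb
  have hba₁ := hr_em_zero D hba
  have hab₁ := herm_swap_zero hf hba₁
  have hp : ∀ x, ((t₁ * t₂ : GL ι F) : Matrix ι ι F) *ᵥ x =
      x + ((δ : F) * f x (em F₀ P b)) • em F₀ P b + ((δ : F) * f x (em F₀ P a)) • em F₀ P a := fun x => by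
    rw [gl_mul_mulVec, h₁, h₂, hf.add_left, hf.smul_left, hba₁]
    module
  have hchar : ∀ v : ι → F, v + v = 0 := fun v => by rw [← two_smul F v, h2, zero_smul]
  refine ⟨t₁, ht₁, t₁ * t₂, mul_mem ht₁ ht₂, gl_ext_vec fun x => ?_, gl_ext_vec fun x => ?_, fun h => ?_,
    fun h => ?_, ⟨Submodule.span F {em F₀ P a}, ?_, fun w => ?_⟩,
    ⟨Submodule.span F {em F₀ P a, em F₀ P b}, ?_, fun w => ?_⟩, fun g hg => ?_⟩
  · rw [gl_mul_mulVec, h₁, h₁, Units.val_one, one_mulVec, hf.add_left, hf.smul_left, ha', mul_zero, add_zero,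
      add_assoc, hchar, add_zero]
  · rw [gl_mul_mulVec, hp, hp, Units.val_one, one_mulVec, hf.add_left, hf.add_left, hf.smul_left, hf.smul_left,
      hf.add_left, hf.add_left, hf.smul_left, hf.smul_left, ha', hb', hba₁, hab₁]
    simp only [mul_zero, add_zero]
    match_scalars
    all_goals first
      | ring1
      | linear_combination ((δ : F) * f x (em F₀ P a)) * h2
      | linear_combination ((δ : F) * f x (em F₀ P b)) * h2
  · have h3 := h₁ (em F₀ P a')
    rw [h, Units.val_one, one_mulVec, hr_em_one D (show hrForm D a' a = 1 by rw [hf'.herm, haa', map_one]),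
      mul_one, left_eq_add, smul_eq_zero] at h3
    exact h3.elim hδ' (em_ne_zero F₀ P ha0)
  · have h3 := hp (em F₀ P a')
    rw [h, Units.val_one, one_mulVec, hr_em_one D (show hrForm D a' a = 1 by rw [hf'.herm, haa', map_one]),
      hr_em_zero D (herm_swap_zero hf' hba'), mul_zero, zero_smul, add_zero, mul_one, left_eq_add,
      smul_eq_zero] at h3
    exact h3.elim hδ' (em_ne_zero F₀ P ha0)
  · exact (finrank_span_singleton (em_ne_zero F₀ P ha0)).le
  · rw [h₁, add_sub_cancel_left]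
    exact Submodule.smul_mem _ _ (Submodule.mem_span_singleton_self _)
  · classical
    refine (finrank_span_le_card _).trans ?_
    rw [Set.toFinset_insert, Set.toFinset_singleton]
    exact Finset.card_le_two
  · rw [hp, add_assoc, add_sub_cancel_left]
    exact Submodule.add_mem _ (Submodule.smul_mem _ _ (Submodule.subset_span (by simp)))
      (Submodule.smul_mem _ _ (Submodule.subset_span (by simp)))
  · -- the moved space of the conjugate is a line
    have hline : ∀ x, ∃ s : F, ((t₁ * t₂ : GL ι F) : Matrix ι ι F) *ᵥ x - x =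
        s • ((g : Matrix ι ι F) *ᵥ em F₀ P a) := fun x => by
      refine ⟨(δ : F) * f (((g⁻¹ : GL ι F) : Matrix ι ι F) *ᵥ x) (em F₀ P a), ?_⟩
      rw [← hg, gl_mul_mulVec, gl_mul_mulVec, h₁, mulVec_add, mulVec_smul, gl_mulVec_inv, add_sub_cancel_left]
    obtain ⟨s₁, hs₁⟩ := hline (em F₀ P a')
    obtain ⟨s₂, hs₂⟩ := hline (em F₀ P y)
    rw [hp, hr_em_one D (show hrForm D a' a = 1 by rw [hf'.herm, haa', map_one]),
      hr_em_zero D (herm_swap_zero hf' hba'), mul_zero, zero_smul, add_zero, mul_one, add_sub_cancel_left] at hs₁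
    rw [hp, hr_em_zero D (herm_swap_zero hf' (show hrForm D a y = 0 by
        rw [hy, hφa a (Submodule.mem_span_singleton_self a)])),
      hr_em_one D (show hrForm D y b = 1 by rw [hf'.herm, hy, hφb, map_one]), mul_zero, zero_smul, add_zero,
      mul_one, add_sub_cancel_left] at hs₂
    have hs₁0 : s₁ ≠ 0 := fun h => by
      rw [h, zero_smul, smul_eq_zero] at hs₁
      exact hs₁.elim hδ' (em_ne_zero F₀ P ha0)
    have h5 : em F₀ P b = (s₂ / s₁) • em F₀ P a := by
      refine smul_right_injective (ι → F) hδ' ?_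
      show (δ : F) • em F₀ P b = (δ : F) • (s₂ / s₁) • em F₀ P a
      rw [hs₂, smul_comm (δ : F) (s₂ / s₁), hs₁, smul_smul, div_mul_cancel₀ _ hs₁0]
    have h6 := congrArg (Subf.extFun F₀ P φ) h5
    rw [map_smul, Subf.extFun_em, Subf.extFun_em, hφb, hφa a (Submodule.mem_span_singleton_self a)] at h6
    simp at h6


/-- two classes of small involutions -/
theorem exists_involutions (hn : 8 ≤ Fintype.card ι) :
    ∃ i₁ ∈ subfieldSubgroup F₀ P ⊓ (isoU f ⊓ specialLinear ι F),
      ∃ i₂ ∈ subfieldSubgroup F₀ P ⊓ (isoU f ⊓ specialLinear ι F),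
        i₁ * i₁ = 1 ∧ i₂ * i₂ = 1 ∧ i₁ ≠ 1 ∧ i₂ ≠ 1 ∧ Narrow 2 i₁ ∧ Narrow 4 i₂ ∧
          ∀ g : GL ι F, g * i₁ * g⁻¹ ≠ i₂ := by
  have hf := D.form
  have hf' := hrForm_unitary D
  by_cases h2 : (2 : F) = 0
  · obtain ⟨i₁, hi₁, i₂, hi₂, e₁, e₂, n₁, n₂, ⟨S₁, hS₁, m₁⟩, ⟨S₂, hS₂, m₂⟩, hnc⟩ :=
      exists_involutions_two D (by omega) h2
    exact ⟨i₁, hi₁, i₂, hi₂, e₁, e₂, n₁, n₂, ⟨S₁, hS₁.trans one_le_two, m₁⟩, ⟨S₂, hS₂.trans (by norm_num), m₂⟩, hnc⟩
  · -- four orthogonal anisotropic vectors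
    have h20 : (2 : F₀) ≠ 0 := fun h => h2 (by have := congrArg Subtype.val h; push_cast at this; exact this)
    have hex : ∀ k ≤ 4, ∃ p : Fin k → ι → F₀, (∀ i, hrForm D (p i) (p i) ≠ 0) ∧
        ∀ i j, i ≠ j → hrForm D (p i) (p j) = 0 := by
      intro k hk
      induction k with
      | zero => exact ⟨Fin.elim0, fun i => i.elim0, fun i => i.elim0⟩
      | succ k ih =>
        obtain ⟨p, hp, hpo⟩ := ih (by omega)
        let L : (ι → F₀) →ₗ[F₀] (Fin k → F₀) :=
          { toFun := fun z i => hrForm D z (p i)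
            map_add' := fun a b => funext fun i => hf'.add_left a b _
            map_smul' := fun c a => funext fun i => hf'.smul_left c a _ }
        have h1 := LinearMap.finrank_range_add_finrank_ker L
        have h3 : Module.finrank F₀ (LinearMap.range L) ≤ k := (Submodule.finrank_le _).trans (by simp)
        rw [Module.finrank_fintype_fun_eq_card] at h1
        obtain ⟨q, hq, hqq⟩ : ∃ q ∈ LinearMap.ker L, hrForm D q q ≠ 0 := by
          by_contra hcon
          push Not at hcon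
          have := two_mul_finrank_le hf' (Z := LinearMap.ker L) (fun u hu v hv' => by
            by_contra huv
            obtain ⟨d, hd⟩ := exists_trace_ne_zero hf'
            have h4 := hcon _ (Submodule.add_mem _ (Submodule.smul_mem _ (d / hrForm D u v) hu) hv')
            rw [hf'.add_left, herm_add_right hf', herm_add_right hf', hf'.smul_left, hf'.smul_left,
              herm_smul_right hf', herm_smul_right hf', hcon u hu, hcon v hv', hf'.herm v u, ← map_mul,
              div_mul_cancel₀ d huv] at h4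
            exact hd (by linear_combination h4)) (isNondegenerateOn_top hf') le_top
          rw [finrank_top, Module.finrank_fintype_fun_eq_card] at this
          omega
        have hqp : ∀ i, hrForm D q (p i) = 0 := fun i => congrFun (LinearMap.mem_ker.1 hq) i
        refine ⟨Fin.cons q p, fun i => ?_, fun i j hij => ?_⟩
        · refine Fin.cases ?_ (fun i => ?_) i <;> simp [hqq, hp]
        · revert hij
          refine Fin.cases ?_ (fun i => ?_) i <;> refine Fin.cases ?_ (fun j => ?_) j <;> intro hij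
          · exact absurd rfl hij
          · simpa using hqp j
          · simpa using herm_swap_zero hf' (hqp i)
          · simpa using hpo i j (fun h => hij (by rw [h]))
    obtain ⟨p, hp, hpo⟩ := hex 4 le_rfl
    have hq : ∀ i, ∃ g ∈ isoU (hrForm D), (g : Matrix ι ι F₀).det = -1 ∧ ∀ x, (g : Matrix ι ι F₀) *ᵥ x =
        x + ((-1 - 1) / hrForm D (p i) (p i) * hrForm D x (p i)) • p i := fun i =>
      exists_qref hf' (hp i) (by rw [map_neg, map_one, neg_mul_neg, one_mul])
    choose q hqiso hqdet hqf using hq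
    have hqp : ∀ i, (q i : Matrix ι ι F₀) *ᵥ p i = -p i := fun i => by
      rw [hqf, div_mul_cancel₀ _ (hp i), sub_smul, neg_one_smul, one_smul]
      abel
    have hqo : ∀ i j, i ≠ j → (q i : Matrix ι ι F₀) *ᵥ p j = p j := fun i j hij => by
      rw [hqf, hpo j i (Ne.symm hij), mul_zero, zero_smul, add_zero]
    have hqq : ∀ i, q i * q i = 1 := fun i => gl_ext_vec fun x => by
      rw [gl_mul_mulVec, hqf i x, mulVec_add, mulVec_smul, hqf i x, hqp, Units.val_one, one_mulVec]
      module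
    have hqc : ∀ i j, q i * q j = q j * q i := fun i j => by
      rcases eq_or_ne i j with rfl | hij
      · rfl
      refine gl_ext_vec fun x => ?_
      rw [gl_mul_mulVec, gl_mul_mulVec, hqf j x, hqf i x, mulVec_add, mulVec_add, mulVec_smul, mulVec_smul,
        hqo i j hij, hqo j i hij.symm, hqf i x, hqf j x]
      abel
    obtain ⟨u, hu⟩ : ∃ u, u = q 0 * q 1 := ⟨_, rfl⟩
    obtain ⟨u', hu'⟩ : ∃ u', u' = q 2 * q 3 := ⟨_, rfl⟩
    have huu : u * u = 1 := by
      rw [hu, mul_assoc, ← mul_assoc (q 1), hqc 1 0, mul_assoc, hqq, mul_one, hqq]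
    have huu' : u' * u' = 1 := by
      rw [hu', mul_assoc, ← mul_assoc (q 3), hqc 3 2, mul_assoc, hqq, mul_one, hqq]
    have hcomm : u * u' = u' * u := by
      rw [hu, hu']
      calc q 0 * q 1 * (q 2 * q 3) = q 0 * (q 1 * q 2) * q 3 := by group
        _ = q 0 * (q 2 * q 1) * q 3 := by rw [hqc 1 2]
        _ = q 0 * q 2 * (q 1 * q 3) := by group
        _ = q 2 * q 0 * (q 3 * q 1) := by rw [hqc 0 2, hqc 1 3]
        _ = q 2 * (q 0 * q 3) * q 1 := by group
        _ = q 2 * (q 3 * q 0) * q 1 := by rw [hqc 0 3]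
        _ = q 2 * q 3 * (q 0 * q 1) := by group
    have hudet : (u : Matrix ι ι F₀).det = 1 := by
      rw [hu, Units.val_mul, det_mul, hqdet, hqdet, neg_mul_neg, one_mul]
    have huudet : ((u * u' : GL ι F₀) : Matrix ι ι F₀).det = 1 := by
      rw [Units.val_mul, det_mul, hudet, hu', Units.val_mul, det_mul, hqdet, hqdet, neg_mul_neg, one_mul, one_mul]
    have hu0 : (u : Matrix ι ι F₀) *ᵥ p 0 = -p 0 := by rw [hu, gl_mul_mulVec, hqo 1 0 (by decide), hqp]
    have hu1 : (u : Matrix ι ι F₀) *ᵥ p 1 = -p 1 := by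
      rw [hu, gl_mul_mulVec, hqp, mulVec_neg, hqo 0 1 (by decide)]
    have huu0 : ((u * u' : GL ι F₀) : Matrix ι ι F₀) *ᵥ p 0 = -p 0 := by
      rw [gl_mul_mulVec, hu', gl_mul_mulVec, hqo 3 0 (by decide), hqo 2 0 (by decide), hu0]
    have huu1 : ((u * u' : GL ι F₀) : Matrix ι ι F₀) *ᵥ p 1 = -p 1 := by
      rw [gl_mul_mulVec, hu', gl_mul_mulVec, hqo 3 1 (by decide), hqo 2 1 (by decide), hu1]
    have huu2 : ((u * u' : GL ι F₀) : Matrix ι ι F₀) *ᵥ p 2 = -p 2 := by
      rw [gl_mul_mulVec, hu', gl_mul_mulVec, hqo 3 2 (by decide), hqp, mulVec_neg, hu, gl_mul_mulVec,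
        hqo 1 2 (by decide), hqo 0 2 (by decide)]
    have hne : ∀ a : ι → F₀, a ≠ 0 → -a ≠ a := fun a ha h => ha (by
      have h3 : (2 : F₀) • a = 0 := by
        rw [two_smul]
        nth_rewrite 1 [← h]
        rw [neg_add_cancel]
      exact (smul_eq_zero.1 h3).resolve_left h20)
    have hp00 : p 0 ≠ 0 := fun h => hp 0 (by rw [h, herm_zero_left hf'])
    -- moved spaces
    have hmove : ∀ x, ∃ s t : F₀, (u : Matrix ι ι F₀) *ᵥ x - x = s • p 0 + t • p 1 := fun x => by
      refine ⟨(-1 - 1) / hrForm D (p 0) (p 0) * hrForm D x (p 0),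
        (-1 - 1) / hrForm D (p 1) (p 1) * hrForm D x (p 1), ?_⟩
      rw [hu, gl_mul_mulVec, hqf 1 x, mulVec_add, mulVec_smul, hqo 0 1 (by decide), hqf 0 x]
      abel
    have hmove' : ∀ x, ∃ s t : F₀, (u' : Matrix ι ι F₀) *ᵥ x - x = s • p 2 + t • p 3 := fun x => by
      refine ⟨(-1 - 1) / hrForm D (p 2) (p 2) * hrForm D x (p 2),
        (-1 - 1) / hrForm D (p 3) (p 3) * hrForm D x (p 3), ?_⟩
      rw [hu', gl_mul_mulVec, hqf 3 x, mulVec_add, mulVec_smul, hqo 2 3 (by decide), hqf 2 x]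
      abel
    obtain ⟨S, hS⟩ : ∃ S, S = Submodule.span F ({em F₀ P (p 0), em F₀ P (p 1)} : Set (ι → F)) := ⟨_, rfl⟩
    obtain ⟨S', hS'⟩ : ∃ S', S' = Submodule.span F ({em F₀ P (p 2), em F₀ P (p 3)} : Set (ι → F)) := ⟨_, rfl⟩
    have hSfr : ∀ a b : ι → F, Module.finrank F (Submodule.span F ({a, b} : Set (ι → F))) ≤ 2 := fun a b => by
      classical
      refine (finrank_span_le_card _).trans ?_
      rw [Set.toFinset_insert, Set.toFinset_singleton]
      exact Finset.card_le_two
    have hext : ∀ (g : GL ι F₀) (T : Submodule F (ι → F)),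
        (∀ a, em F₀ P ((g : Matrix ι ι F₀) *ᵥ a - a) ∈ T) → ∀ w, (lift F₀ P g : Matrix ι ι F) *ᵥ w - w ∈ T := by
      intro g T hg w
      obtain ⟨a, rfl⟩ := exists_coords F₀ P w
      rw [mulVec_sum, ← Finset.sum_sub_distrib]
      refine Submodule.sum_mem _ fun k _ => ?_
      rw [mulVec_smul, lift_em, ← smul_sub, ← em_sub]
      exact T.smul_mem _ (hg _)
    have huS : ∀ w, (lift F₀ P u : Matrix ι ι F) *ᵥ w - w ∈ S := hext u S fun a => by
      obtain ⟨s, t, hst⟩ := hmove a
      rw [hst, em_add, em_smul, em_smul, hS]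
      exact Submodule.mem_span_pair.2 ⟨_, _, rfl⟩
    have hu'S : ∀ w, (lift F₀ P u' : Matrix ι ι F) *ᵥ w - w ∈ S' := hext u' S' fun a => by
      obtain ⟨s, t, hst⟩ := hmove' a
      rw [hst, em_add, em_smul, em_smul, hS']
      exact Submodule.mem_span_pair.2 ⟨_, _, rfl⟩
    have hiso : u ∈ isoU (hrForm D) := hu ▸ mul_mem (hqiso 0) (hqiso 1)
    refine ⟨lift F₀ P u, hr_lift_su D hiso hudet, lift F₀ P (u * u'),
      hr_lift_su D (mul_mem hiso (hu' ▸ mul_mem (hqiso 2) (hqiso 3))) huudet, ?_, ?_, fun h => ?_, fun h => ?_,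
      ⟨S, hS ▸ hSfr _ _, huS⟩, ⟨S ⊔ S', ?_, fun w => ?_⟩, fun g hg => ?_⟩
    · rw [← map_mul, huu, map_one]
    · rw [← map_mul, show u * u' * (u * u') = u * (u' * u) * u' by group, ← hcomm,
        show u * (u * u') * u' = u * u * (u' * u') by group, huu, huu', one_mul, map_one]
    · have h3 := lift_em F₀ P u (p 0)
      rw [h, Units.val_one, one_mulVec, hu0] at h3
      exact hne _ hp00 (em_injective F₀ P h3.symm)
    · have h3 := lift_em F₀ P (u * u') (p 0)
      rw [h, Units.val_one, one_mulVec, huu0] at h3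
      exact hne _ hp00 (em_injective F₀ P h3.symm)
    · have h3 := Submodule.finrank_add_le_finrank_add_finrank S S'
      have := hSfr (em F₀ P (p 0)) (em F₀ P (p 1))
      have := hSfr (em F₀ P (p 2)) (em F₀ P (p 3))
      rw [← hS] at *
      rw [← hS'] at *
      omega
    · rw [map_mul, gl_mul_mulVec, show ∀ a b : ι → F, (lift F₀ P u : Matrix ι ι F) *ᵥ a - b =
          ((lift F₀ P u : Matrix ι ι F) *ᵥ a - a) + (a - b) from fun a b => (sub_add_sub_cancel _ _ _).symm]
      exact Submodule.add_mem_sup (huS _) (hu'S _)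
    · -- three independent vectors in a plane
      have hmem : ∀ j : Fin 3, em F₀ P (p j.castSucc) ∈ S.map (Matrix.mulVecLin (g : Matrix ι ι F)) := by
        intro j
        have hneg : ((u * u' : GL ι F₀) : Matrix ι ι F₀) *ᵥ p j.castSucc = -p j.castSucc := by
          fin_cases j
          · exact huu0
          · exact huu1
          · exact huu2
        have h3 := lift_em F₀ P (u * u') (p j.castSucc)
        rw [hneg, ← hg, em_neg, gl_mul_mulVec, gl_mul_mulVec] at h3
        obtain ⟨w, hw⟩ : ∃ w, w = ((g⁻¹ : GL ι F) : Matrix ι ι F) *ᵥ em F₀ P (p j.castSucc) := ⟨_, rfl⟩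
        rw [← hw] at h3
        have h4 : (g : Matrix ι ι F) *ᵥ ((lift F₀ P u : Matrix ι ι F) *ᵥ w - w) = (-2 : F) • em F₀ P (p j.castSucc) := by
          rw [mulVec_sub, h3, hw, gl_mulVec_inv]
          module
        have h5 : (-2 : F) • em F₀ P (p j.castSucc) ∈ S.map (Matrix.mulVecLin (g : Matrix ι ι F)) :=
          ⟨_, huS w, h4⟩
        rwa [Submodule.smul_mem_iff _ (neg_ne_zero.2 h2)] at h5
      have hindep : LinearIndependent F fun j : Fin 3 => em F₀ P (p j.castSucc) := by
        rw [Fintype.linearIndependent_iff]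
        intro c hc i
        have h3 := congrArg (fun v => f v (em F₀ P (p i.castSucc))) hc
        simp only [Fin.sum_univ_three, hf.add_left, hf.smul_left, herm_zero_left hf] at h3
        have hz : ∀ j, j ≠ i → f (em F₀ P (p j.castSucc)) (em F₀ P (p i.castSucc)) = 0 := fun j hj =>
          hr_em_zero D (hpo _ _ (fun h => hj (Fin.castSucc_injective _ h)))
        have hnz : f (em F₀ P (p i.castSucc)) (em F₀ P (p i.castSucc)) ≠ 0 := fun h =>
          hp _ (Subtype.ext h)
        obtain rfl | rfl | rfl : i = 0 ∨ i = 1 ∨ i = 2 := by fin_cases i <;> simp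
        · rw [hz 1 (by decide), hz 2 (by decide), mul_zero, mul_zero, add_zero, add_zero] at h3
          exact (mul_eq_zero.1 h3).resolve_right hnz
        · rw [hz 0 (by decide), hz 2 (by decide), mul_zero, mul_zero, zero_add, add_zero] at h3
          exact (mul_eq_zero.1 h3).resolve_right hnz
        · rw [hz 0 (by decide), hz 1 (by decide), mul_zero, mul_zero, zero_add, zero_add] at h3
          exact (mul_eq_zero.1 h3).resolve_right hnz
      have h6 := Submodule.finrank_mono (Submodule.span_le.2 (Set.range_subset_iff.2 hmem))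
      rw [finrank_span_eq_card hindep, Fintype.card_fin] at h6
      have h7 := (Submodule.finrank_map_le (Matrix.mulVecLin (g : Matrix ι ι F)) S).trans (hS ▸ hSfr _ _)
      omega

/-- subfield subgroups of odd degree are maximal once small transvection groups force rationality -/
theorem herm_subfield_maximal_of (hn : 4 ≤ Fintype.card ι)
    (htight : ∀ M : Subgroup (GL ι F), subfieldSubgroup F₀ P ⊓ (isoU f ⊓ specialLinear ι F) ≤ M →
      M ≤ isoU f ⊓ specialLinear ι F → Tight D M → M ≤ subfieldSubgroup F₀ P ⊓ (isoU f ⊓ specialLinear ι F)) :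
    IsMaximalIn (isoU f ⊓ specialLinear ι F) (subfieldSubgroup F₀ P ⊓ (isoU f ⊓ specialLinear ι F)) := by
  have hf := D.form
  have hf' := hrForm_unitary D
  refine isMaximalIn_of_centres hf (by omega) (fun hle => ?_) fun M hHM hM hMH => ?_
  · obtain ⟨e, -, he0, hee⟩ := exists_isotropic hf' (W := (⊤ : Submodule F₀ (ι → F₀))) (by
      rw [finrank_top, Module.finrank_fintype_fun_eq_card]; omega)
    obtain ⟨z, hz⟩ := (hf'.nondegenerate e he0).2
    obtain ⟨h, -, hhh, heh, hhe⟩ := exists_partner hf' (X := ⊤) Submodule.mem_top hee (y := z) Submodule.mem_top hz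
    obtain ⟨x, hx0, hxx, hxe, hxh⟩ := hr_exists_orth D (by omega) e h
    obtain ⟨δ, hδ, hδσ⟩ := exists_trace_zero hf'
    have hδ' : (δ : F) ≠ 0 := fun h => hδ (Subtype.ext h)
    obtain ⟨γ, hγ⟩ : ∃ γ : F, γ ∉ F₀ := by
      by_contra hcon
      push Not at hcon
      have h1 : Nat.card F ≤ Nat.card F₀ := Nat.card_le_card_of_injective (fun x => (⟨x, hcon x⟩ : F₀))
        fun p q h => congrArg Subtype.val h
      rw [Nat.card_eq_fintype_card, D.card] at h1
      exact absurd h1 (not_le.2 (lt_self_pow₀ Finite.one_lt_card (by have := D.two_lt; omega)))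
    obtain ⟨v, hv⟩ : ∃ v, v = em F₀ P e + γ • em F₀ P x := ⟨_, rfl⟩
    have hvv : f v v = 0 := by
      rw [hv, herm_line hf, hr_em_iso D hee, hr_em_iso D hxx, hr_em_zero D hxe,
        herm_swap_zero hf (hr_em_zero D hxe)]
      ring
    have hδ'σ : σ (δ : F) = -(δ : F) := by rw [← hrBar_coe D, hδσ]; rfl
    have h0 := utv_orth hf hvv (δ : F)
    obtain ⟨c, hc⟩ := Subf.subfield_image F₀ P
      (hle ⟨mem_isoU.2 (utv_isometry hf v hvv hδ'σ h0), tv_mem_SL _ _ _⟩)
    have hTx : ∀ w, (tv v ((δ : F) • CfsgLib.Perm.Trans.hv hf v) h0 : Matrix ι ι F) *ᵥ w = w + ((δ : F) * f w v) • v := fun w => by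
      rw [tv_mulVec, smul_dotProduct, hv_dot, smul_eq_mul]
    obtain ⟨be, hbe⟩ := hc e
    obtain ⟨bh, hbh⟩ := hc h
    rw [hTx, hv, herm_add_right hf, herm_smul_right hf, hr_em_iso D hee,
      herm_swap_zero hf (hr_em_zero D hxe)] at hbe
    simp only [mul_zero, add_zero, zero_smul] at hbe
    rw [hTx, hv, herm_add_right hf, herm_smul_right hf, hr_em_one D hhe,
      herm_swap_zero hf (hr_em_zero D hxh)] at hbh
    simp only [mul_zero, add_zero, mul_one] at hbh
    obtain ⟨φ, hφe, -⟩ := exists_dual (⊥ : Submodule F₀ (ι → F₀)) (fun hm => he0 ((Submodule.mem_bot F₀).1 hm))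
    have hxspan : x ∉ Submodule.span F₀ ({e, h} : Set (ι → F₀)) := fun hm => by
      obtain ⟨s, t, rfl⟩ := Submodule.mem_span_pair.1 hm
      rw [hf'.add_left, hf'.smul_left, hf'.smul_left, hee, hhe] at hxe
      rw [hf'.add_left, hf'.smul_left, hf'.smul_left, heh, hhh] at hxh
      simp only [mul_zero, mul_one, zero_add, add_zero] at hxe hxh
      exact hx0 (by rw [hxe, hxh, zero_smul, zero_smul, add_zero])
    obtain ⟨ψ, hψx, hψ⟩ := exists_dual _ hxspan
    have h1 := congrArg (Subf.extFun F₀ P φ) hbe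
    rw [map_smul, Subf.extFun_em, Subf.extFun_em, hφe, smul_eq_mul] at h1
    push_cast at h1
    have hcF : c ∈ F₀ := by
      rw [eq_inv_of_mul_eq_one_left h1.symm]
      exact F₀.inv_mem (φ ⬝ᵥ be).2
    have h2 := congrArg (Subf.extFun F₀ P ψ) hbh
    simp only [map_add, map_smul, Subf.extFun_em, hψx, hψ h (Submodule.subset_span (by simp)),
      hψ e (Submodule.subset_span (by simp)), smul_eq_mul] at h2
    push_cast at h2
    refine hγ ?_
    rw [show γ = c * ((ψ ⬝ᵥ bh : F₀) : F) / (δ : F) by rw [eq_div_iff hδ']; linear_combination h2]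
    exact F₀.div_mem (F₀.mul_mem hcF (ψ ⬝ᵥ bh).2) δ.2
  have hMiso : M ≤ isoU f := hM.trans inf_le_left
  obtain ⟨a₀, ha₀0, ha₀, c₀, hc₀σ, hc₀, hc₀F⟩ : ∃ a : ι → F₀, a ≠ 0 ∧ hrForm D a a = 0 ∧
      ∃ c, σ c = -c ∧ UT f M (em F₀ P a) c ∧ c ∉ F₀ := by
    by_contra hcon
    push Not at hcon
    exact hMH ((htight M hHM hM fun a ha0 haa c hc hUT => hcon a ha0 haa c hc hUT).trans inf_le_left)
  refine centres_of_rat D (by omega) hMiso fun a ha => ⟨hr_em_iso D ha, fun c hc => ?_⟩
  obtain ⟨t, ht, htx⟩ := ut_of_large D hHM hM (by omega) ha₀0 ha₀ hc₀σ hc₀ hc₀F ha hc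
  refine ⟨utv_orth hf (hr_em_iso D ha) c, ?_⟩
  convert ht using 1
  refine gl_ext_vec fun w => ?_
  rw [htx, tv_mulVec, smul_dotProduct, hv_dot, smul_eq_mul]

/-- subfield subgroups of odd degree are maximal -/
theorem herm_subfield_maximal (hn : 8 ≤ Fintype.card ι) :
    IsMaximalIn (isoU f ⊓ specialLinear ι F) (subfieldSubgroup F₀ P ⊓ (isoU f ⊓ specialLinear ι F)) := by
  refine herm_subfield_maximal_of D (by omega) fun M hHM hM hT => ?_
  obtain ⟨i₁, h₁, i₂, h₂, h₁₂, h₂₂, h₁1, h₂1, hn₁, hn₂, hnc⟩ := exists_involutions D hn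
  exact tight_le D hHM hM hT (k₁ := 2) (k₂ := 4) (by omega) (by omega) h₁ h₂ h₁₂ h₂₂ h₁1 h₂1 hn₁ hn₂ hnc

end CfsgLib.Perm.Trans.Unit
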