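import Mathlib
import Cfsg.Agent.Lib.Perm.Trans.TensorCore
import Cfsg.Agent.Lib.Perm.Trans.UnitSubfMax

/-!
# Tensor products of hermitian spaces: elements and pairings
-/

set_option autoImplicit false
set_option linter.all false

namespace CfsgLib.Perm.Trans.TensorHerm

open scoped Matrix
open Matrix Cfsg.Geo CfsgLib.Perm.Asch CfsgLib.Perm.Trans CfsgLib.Perm.Trans.Unit
open CfsgLib.Perm.Trans.TensorFrame CfsgLib.Perm.Trans.TensorMax

variable {F : Type*} [Field F] [Fintype F]

/-! ### One hermitian space -/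

section One

variable {κ : Type} [Fintype κ] [DecidableEq κ] {σ : F ≃+* F} {h : (κ → F) → (κ → F) → F} (hh : IsUnitaryForm σ h)
include hh

omit hh in
theorem hasTv_all (hh : IsUnitaryForm σ h) : HasTv hh (⊤ : Subgroup (GL κ F)) ⊤ :=
  fun u _ huu c _ => ⟨utv_orth hh huu c, Subgroup.mem_top _⟩

/-- transvections as special isometries -/
theorem exists_tvS {a : κ → F} (haa : h a a = 0) {c : F} (hc : σ c = -c) :
    ∃ A ∈ isoU h ⊓ specialLinear κ F, ∀ x, (A : Matrix κ κ F) *ᵥ x = x + (c * h x a) • a := by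
  obtain ⟨t, ⟨-, ht⟩, htx⟩ := exists_tv hh (hasTv_all hh) (Submodule.mem_top (x := a)) haa hc
  exact ⟨t, ht.1, htx⟩

/-- Heisenberg elements as special isometries -/
theorem exists_heisS {b w : κ → F} {τ : F} (hbb : h b b = 0) (hwb : h w b = 0) (hτ : τ + σ τ + h w w = 0) :
    ∃ B ∈ isoU h ⊓ specialLinear κ F, ∀ y, (B : Matrix κ κ F) *ᵥ y =
      y + h y b • w + (τ * h y b - h y w) • b := by
  obtain ⟨A, hA⟩ : ∃ A : Matrix κ κ F, A = 1 + vecMulVec w (hv hh b) + vecMulVec b (τ • hv hh b - hv hh w) :=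
    ⟨_, rfl⟩
  have hdet : A.det = 1 := by
    rw [hA, det_one_add_two hh, sub_dotProduct, sub_dotProduct, smul_dotProduct, smul_dotProduct, hv_dot, hv_dot,
      hv_dot, hv_dot, hbb, hwb, herm_swap_zero hh hwb]
    simp
  have hAy : ∀ y, A *ᵥ y = y + h y b • w + (τ * h y b - h y w) • b := fun y => by
    rw [hA, add_mulVec, add_mulVec, one_mulVec, vecMulVec_mulVec, vecMulVec_mulVec, op_smul_eq_smul, op_smul_eq_smul,
      sub_dotProduct, smul_dotProduct, hv_dot, hv_dot, smul_eq_mul]
  refine ⟨Matrix.GeneralLinearGroup.mkOfDetNeZero A (by rw [hdet]; exact one_ne_zero),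
    ⟨mem_isoU.2 fun x y => ?_, Units.ext hdet⟩, hAy⟩
  show h (A *ᵥ x) (A *ᵥ y) = h x y
  simp only [hAy, hh.add_left, herm_add_right hh, hh.smul_left, herm_smul_right hh, hbb, hwb, herm_swap_zero hh hwb,
    map_sub, map_mul, ← hh.herm]
  linear_combination (h x b * h b y) * hτ

/-- `ζ` of norm one which is not fixed -/
theorem exists_norm_one_not_fixed : ∃ ζ : F, ζ * σ ζ = 1 ∧ σ ζ ≠ ζ := by
  obtain ⟨a₀, ha₀⟩ := exists_not_fixed hh
  obtain ⟨a, ha, ha'⟩ : ∃ a : F, σ a ≠ a ∧ σ a ≠ -a := by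
    by_cases h1 : σ a₀ = -a₀
    · refine ⟨a₀ + 1, by simpa using ha₀, fun h2 => ?_⟩
      rw [map_add, map_one, h1] at h2
      exact ha₀ (by linear_combination h1 - a₀ * h2)
    · exact ⟨a₀, ha₀, h1⟩
  have ha0 : a ≠ 0 := fun h0 => ha (by rw [h0, map_zero])
  have hσa : σ a ≠ 0 := by simpa using ha0
  refine ⟨a / σ a, by rw [map_div₀, hh.involutive]; field_simp, fun h1 => ?_⟩
  rw [map_div₀, hh.involutive, div_eq_div_iff ha0 hσa] at h1
  rcases mul_eq_zero.1 (show (σ a - a) * (σ a + a) = 0 by linear_combination h1) with h2 | h2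
  · exact ha (sub_eq_zero.1 h2)
  · exact ha' (eq_neg_of_add_eq_zero_left h2)

/-- an orthogonal basis starting at a given anisotropic vector -/
theorem exists_frame : ∀ (m : ℕ) (W : Submodule F (κ → F)), IsNondegenerateOn h W → Module.finrank F W = m →
    ∃ l : List (κ → F), (∀ x ∈ l, x ∈ W ∧ h x x ≠ 0) ∧ l.Pairwise (fun x y => h x y = 0) ∧
      ∀ x ∈ W, x ∈ Submodule.span F {y | y ∈ l} := by
  intro m
  induction m with
  | zero =>
    intro W _ hm
    refine ⟨[], by simp, List.Pairwise.nil, fun x hx => ?_⟩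
    rw [Submodule.finrank_eq_zero.1 hm] at hx
    rw [(Submodule.mem_bot F).1 hx]
    exact Submodule.zero_mem _
  | succ m ih =>
    intro W hW hm
    obtain ⟨p, hp, hpp⟩ := exists_anisotropic hh hW fun h0 => by rw [h0, finrank_bot] at hm; omega
    have hp0 : p ≠ 0 := fun h0 => hpp (by rw [h0, herm_zero_left hh])
    obtain ⟨hnd, hfr⟩ := sub_perp hh hW (isNondegenerateOn_singleton hh hpp)
      ((Submodule.span_singleton_le_iff_mem _ _).2 hp)
    rw [finrank_span_singleton hp0] at hfr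
    obtain ⟨l, hl, hpair, hspan⟩ := ih _ hnd (by omega)
    refine ⟨p :: l, ?_, List.pairwise_cons.2 ⟨fun x hx => herm_swap_zero hh
      ((hl x hx).1.2 p (Submodule.mem_span_singleton_self p)), hpair⟩, fun x hx => ?_⟩
    · intro x hx
      rcases List.mem_cons.1 hx with rfl | hx
      · exact ⟨hp, hpp⟩
      · exact ⟨(hl x hx).1.1, (hl x hx).2⟩
    · obtain ⟨w, hw, hxw⟩ := exists_decomp hh (isNondegenerateOn_singleton hh hpp) x
      have hle : Submodule.span F {y | y ∈ l} ≤ Submodule.span F {y | y ∈ p :: l} :=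
        Submodule.span_mono fun y hy => List.mem_cons_of_mem _ hy
      have h1 := hle (hspan _ ⟨W.sub_mem hx ((Submodule.span_singleton_le_iff_mem p W).2 hp hw), hxw⟩)
      have h2 : w ∈ Submodule.span F {y | y ∈ p :: l} :=
        (Submodule.span_singleton_le_iff_mem p _).2
          (Submodule.subset_span (s := {y | y ∈ p :: l}) (List.mem_cons_self ..)) hw
      have := Submodule.add_mem _ h1 h2
      rwa [sub_add_cancel] at this

/-- a map with all isotropic vectors as eigenvectors is scalar -/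
theorem scalar_of_isotropic_eigen (h2 : 2 ≤ Fintype.card κ) (S : (κ → F) →ₗ[F] (κ → F))
    (heig : ∀ a, a ≠ 0 → h a a = 0 → S a ∈ Submodule.span F {a}) : ∃ s : F, ∀ x, S x = s • x := by
  obtain ⟨e, -, he0, hee⟩ := exists_isotropic hh (W := (⊤ : Submodule F (κ → F)))
    (by rw [finrank_top, Module.finrank_fintype_fun_eq_card]; exact h2)
  obtain ⟨y, hy⟩ := (hh.nondegenerate e he0).2
  obtain ⟨f, -, hff, hef, hfe⟩ := exists_partner hh (X := ⊤) Submodule.mem_top hee (y := y) Submodule.mem_top hy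
  obtain ⟨s, hs⟩ := Submodule.mem_span_singleton.1 (heig e he0 hee)
  -- two isotropic vectors which are not orthogonal have the same eigenvalue
  have key : ∀ a z, h a a = 0 → h z z = 0 → h a z ≠ 0 → ∀ α β : F, S a = α • a → S z = β • z → α = β := by
    intro a z haa hzz haz α β hα hβ
    obtain ⟨θ, hθ, hθσ⟩ := exists_trace_zero hh
    obtain ⟨ν, hν⟩ : ∃ ν, ν = θ / σ (h a z) := ⟨_, rfl⟩
    have hσaz : σ (h a z) ≠ 0 := by simpa using haz
    have hν0 : ν ≠ 0 := hν ▸ div_ne_zero hθ hσaz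
    have hiso : h (a + ν • z) (a + ν • z) = 0 := by
      rw [hh.add_left, herm_add_right hh, herm_add_right hh, hh.smul_left, hh.smul_left, herm_smul_right hh,
        herm_smul_right hh, haa, hzz, hν, map_div₀, hθσ, hh.involutive, ← hh.herm]
      rw [hh.herm z a]
      field_simp
      ring
    have h0 : a + ν • z ≠ 0 := fun h0 => haz (by
      rw [eq_neg_of_add_eq_zero_left h0, herm_neg_left hh, hh.smul_left, hzz, mul_zero, neg_zero])
    obtain ⟨γ, hγ⟩ := Submodule.mem_span_singleton.1 (heig _ h0 hiso)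
    rw [map_add, map_smul, hα, hβ] at hγ
    have e1 := congrArg (fun v => h v a) hγ
    have e2 := congrArg (fun v => h v z) hγ
    simp only [hh.add_left, hh.smul_left, haa, hzz, mul_zero, add_zero, zero_add] at e1 e2
    have hza : h z a ≠ 0 := fun h0 => haz (herm_swap_zero hh h0)
    have h3 : γ = β := mul_right_cancel₀ (mul_ne_zero hν0 hza) (by linear_combination e1)
    have h4 : γ = α := mul_right_cancel₀ haz e2
    rw [← h4, h3]
  have hf0 : f ≠ 0 := fun h0 => one_ne_zero (hef.symm.trans (by rw [h0, herm_zero_right hh]))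
  have hfs : S f = s • f := by
    obtain ⟨s', hs'⟩ := Submodule.mem_span_singleton.1 (heig f hf0 hff)
    rw [key e f hee hff (by rw [hef]; exact one_ne_zero) s s' hs.symm hs'.symm, hs']
  let K : Submodule F (κ → F) :=
    { carrier := {x | S x = s • x}
      add_mem' := fun {x z} hx hz => by
        show S (x + z) = s • (x + z)
        rw [map_add, show S x = s • x from hx, show S z = s • z from hz, smul_add]
      zero_mem' := by
        show S 0 = s • 0
        rw [map_zero, smul_zero]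
      smul_mem' := fun c x hx => by
        show S (c • x) = s • c • x
        rw [map_smul, show S x = s • x from hx, smul_comm] }
  refine ⟨s, fun x => subspace_le_of_pair hh (X := ⊤) (S := K) Submodule.mem_top hee Submodule.mem_top hff hef hs.symm
    (fun z _ hzz hez => ?_) (Submodule.mem_top (x := x))⟩
  have hz0 : z ≠ 0 := fun h0 => hez (by rw [h0, herm_zero_right hh])
  obtain ⟨s', hs'⟩ := Submodule.mem_span_singleton.1 (heig z hz0 hzz)
  show S z = s • z
  rw [key e z hee hzz hez s s' hs.symm hs'.symm, hs']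

/-- an anisotropic vector orthogonal to an isotropic vector -/
theorem exists_aniso_perp (h3 : 3 ≤ Fintype.card κ) {a : κ → F} (ha : a ≠ 0) (haa : h a a = 0) :
    ∃ p, h p a = 0 ∧ h p p ≠ 0 := by
  obtain ⟨y, hy⟩ := (hh.nondegenerate a ha).2
  obtain ⟨f, -, hff, haf, -⟩ := exists_partner hh (X := ⊤) Submodule.mem_top haa (y := y) Submodule.mem_top hy
  obtain ⟨p, -, hpa, -, hpp⟩ := exists_third hh (isNondegenerateOn_top hh)
    (by rw [finrank_top, Module.finrank_fintype_fun_eq_card]; exact h3) Submodule.mem_top Submodule.mem_top haa hff haf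
  exact ⟨p, hpa, hpp⟩

/-- a vector with prescribed pairing with an isotropic vector, orthogonal to it -/
theorem exists_isotropic_partner {a : κ → F} (ha : a ≠ 0) (haa : h a a = 0) :
    ∃ p, h p p = 0 ∧ h a p = 1 ∧ h p a = 1 := by
  obtain ⟨y, hy⟩ := (hh.nondegenerate a ha).2
  obtain ⟨f, -, h1, h2, h3⟩ := exists_partner hh (X := ⊤) Submodule.mem_top haa (y := y) Submodule.mem_top hy
  exact ⟨f, h1, h2, h3⟩

omit hh in
theorem sl_det {g : GL κ F} (hg : g ∈ specialLinear κ F) : (g : Matrix κ κ F).det = 1 := congrArg Units.val hg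

end One

/-! ### The setting -/

variable {ι : Type} [Fintype ι] [DecidableEq ι] {r s : ℕ} {e : ι ≃ Fin r × Fin s} {P : GL ι F}
variable {σ : F ≃+* F} {f : (ι → F) → (ι → F) → F} {M : Subgroup (GL ι F)}
variable {f₁ : (Fin r → F) → (Fin r → F) → F} {f₂ : (Fin s → F) → (Fin s → F) → F} {k : F}

/-- an overgroup of a tensor product of unitary groups -/
structure TU (σ : F ≃+* F) (f : (ι → F) → (ι → F) → F) (f₁ : (Fin r → F) → (Fin r → F) → F)
    (f₂ : (Fin s → F) → (Fin s → F) → F) (e : ι ≃ Fin r × Fin s) (P : GL ι F) (k : F) (M : Subgroup (GL ι F)) :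
    Prop where
  form : IsUnitaryForm σ f
  u1 : IsUnitaryForm σ f₁
  u2 : IsUnitaryForm σ f₂
  kne : k ≠ 0
  kfix : σ k = k
  pol : ∀ x y x' y', f (tvec e P x y) (tvec e P x' y') = k * (f₁ x x' * f₂ y y')
  le : M ≤ isoU f
  hK : ∀ {A : GL (Fin r) F} {B : GL (Fin s) F}, A ∈ isoU f₁ ⊓ specialLinear (Fin r) F →
    B ∈ isoU f₂ ⊓ specialLinear (Fin s) F → kg e P A B ∈ M

theorem iso_of_tvec (hf : IsUnitaryForm σ f) {g : GL ι F} (hg : ∀ x y x' y', f ((g : Matrix ι ι F) *ᵥ tvec e P x y)
    ((g : Matrix ι ι F) *ᵥ tvec e P x' y') = f (tvec e P x y) (tvec e P x' y')) : g ∈ isoU f := by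
  have h1 : ∀ x y w, f ((g : Matrix ι ι F) *ᵥ tvec e P x y) ((g : Matrix ι ι F) *ᵥ w) = f (tvec e P x y) w := by
    intro x y w
    induction tvec_span (e := e) (P := P) w using Submodule.span_induction with
    | mem u hu => obtain ⟨x', y', rfl⟩ := hu; exact hg x y x' y'
    | zero => rw [mulVec_zero, herm_zero_right hf, herm_zero_right hf]
    | add a b _ _ e1 e2 => rw [mulVec_add, herm_add_right hf, e1, e2, herm_add_right hf]
    | smul c a _ e1 => rw [mulVec_smul, herm_smul_right hf, e1, herm_smul_right hf]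
  refine mem_isoU.2 fun v w => ?_
  induction tvec_span (e := e) (P := P) v using Submodule.span_induction with
  | mem u hu => obtain ⟨x', y', rfl⟩ := hu; exact h1 x' y' w
  | zero => rw [mulVec_zero, herm_zero_left hf, herm_zero_left hf]
  | add a b _ _ e1 e2 => rw [mulVec_add, hf.add_left, e1, e2, hf.add_left]
  | smul c a _ e1 => rw [mulVec_smul, hf.smul_left, e1, hf.smul_left]

/-- an overgroup of all determinant-one isometries preserving the decomposition -/
theorem TU.of_inf (hf : IsUnitaryForm σ f) (h1 : IsUnitaryForm σ f₁) (h2 : IsUnitaryForm σ f₂) (hk : k ≠ 0)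
    (hkσ : σ k = k) (hpol : ∀ x y x' y', f (tvec e P x y) (tvec e P x' y') = k * (f₁ x x' * f₂ y y'))
    (hle : M ≤ isoU f) (hH : tensorProductSubgroup r s e P ⊓ (isoU f ⊓ specialLinear ι F) ≤ M) :
    TU σ f f₁ f₂ e P k M := by
  refine ⟨hf, h1, h2, hk, hkσ, hpol, hle, fun {A B} hA hB => ?_⟩
  refine hH ⟨kg_mem A B, iso_of_tvec (e := e) (P := P) hf fun x y x' y' => ?_, Units.ext ?_⟩
  · rw [kg_tvec, kg_tvec, hpol, hpol, mem_isoU.1 hA.1, mem_isoU.1 hB.1]
  · show ((kg e P A B : GL ι F) : Matrix ι ι F).det = 1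
    rw [kg_det, sl_det hA.2, sl_det hB.2, one_pow, one_pow, one_mul]

variable (D : TU σ f f₁ f₂ e P k M)
include D

/-- products of special isometries of the factors lie in `M` -/
theorem kg_mem_M {A : GL (Fin r) F} {B : GL (Fin s) F} (hA : A ∈ isoU f₁ ⊓ specialLinear (Fin r) F)
    (hB : B ∈ isoU f₂ ⊓ specialLinear (Fin s) F) : kg e P A B ∈ M := D.hK hA hB

/-- elements of the second factor in `M` -/
theorem right_elem {B : GL (Fin s) F} (hB : B ∈ isoU f₂ ⊓ specialLinear (Fin s) F) :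
    ∃ g ∈ M, (∀ x y, (g : Matrix ι ι F) *ᵥ tvec e P x y = tvec e P x ((B : Matrix (Fin s) (Fin s) F) *ᵥ y)) ∧
      g ∈ tensorProductSubgroup r s e P :=
  ⟨kg e P 1 B, kg_mem_M D (one_mem _) hB, fun x y => by rw [kg_tvec, Units.val_one, one_mulVec], kg_mem _ _⟩

/-- elements of the first factor in `M` -/
theorem left_elem {A : GL (Fin r) F} (hA : A ∈ isoU f₁ ⊓ specialLinear (Fin r) F) :
    ∃ g ∈ M, ∀ x y, (g : Matrix ι ι F) *ᵥ tvec e P x y = tvec e P ((A : Matrix (Fin r) (Fin r) F) *ᵥ x) y :=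
  ⟨kg e P A 1, kg_mem_M D hA (one_mem _), fun x y => by rw [kg_tvec, Units.val_one, one_mulVec]⟩

/-- contraction with `b` -/
def cob (b : Fin s → F) : (ι → F) →ₗ[F] (Fin r → F) := co e P (hv D.u2 b)

theorem cob_tvec (b : Fin s → F) (x : Fin r → F) (y : Fin s → F) : cob D b (tvec e P x y) = f₂ y b • x := by
  rw [cob, co_tvec, hv_dot]

theorem cob_add (b b' : Fin s → F) (z : ι → F) : cob D (b + b') z = cob D b z + cob D b' z := by
  rw [cob, hv_add, co_add]
  rfl

theorem cob_smul (c : F) (b : Fin s → F) (z : ι → F) : cob D (c • b) z = σ c • cob D b z := by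
  rw [cob, hv_smul, co_smul]
  rfl

theorem cob_zero (z : ι → F) : cob D 0 z = 0 := by
  rw [← zero_smul F (0 : Fin s → F), cob_smul D, map_zero, zero_smul]

theorem pair (z : ι → F) (x : Fin r → F) (b : Fin s → F) : f z (tvec e P x b) = k * f₁ (cob D b z) x := by
  induction tvec_span (e := e) (P := P) z using Submodule.span_induction with
  | mem u hu => obtain ⟨x', y', rfl⟩ := hu; rw [cob_tvec, D.pol, D.u1.smul_left]; ring
  | zero => rw [herm_zero_left D.form, map_zero, herm_zero_left D.u1, mul_zero]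
  | add a c _ _ e1 e2 => rw [D.form.add_left, e1, e2, map_add, D.u1.add_left, mul_add]
  | smul c a _ e1 => rw [D.form.smul_left, e1, map_smul, D.u1.smul_left]; ring

theorem pair' (z : ι → F) (x : Fin r → F) (b : Fin s → F) : f (tvec e P x b) z = k * f₁ x (cob D b z) := by
  rw [D.form.herm, pair D, map_mul, D.kfix, ← D.u1.herm]

theorem ext_pair {z z' : ι → F} (h : ∀ x y, f z (tvec e P x y) = f z' (tvec e P x y)) : z = z' := by
  refine eq_of_herm D.form fun w => ?_
  rw [D.form.herm w z, D.form.herm w z']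
  congr 1
  induction tvec_span (e := e) (P := P) w using Submodule.span_induction with
  | mem u hu => obtain ⟨x', y', rfl⟩ := hu; exact h x' y'
  | zero => rw [herm_zero_right D.form, herm_zero_right D.form]
  | add a c _ _ e1 e2 => rw [herm_add_right D.form, e1, e2, herm_add_right D.form]
  | smul c a _ e1 => rw [herm_smul_right D.form, e1, herm_smul_right D.form]

/-- the roots -/
theorem exists_root {b : Fin s → F} (hbb : f₂ b b = 0) {c : F} (hc : σ c = -c) :
    ∃ h : (c • hv D.u2 b) ⬝ᵥ b = 0, rootGL e P b (c • hv D.u2 b) h ∈ M ∧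
      ∀ z, (rootGL e P b (c • hv D.u2 b) h : Matrix ι ι F) *ᵥ z = z + tvec e P (c • cob D b z) b := by
  have h := utv_orth D.u2 hbb c
  refine ⟨h, kg_mem_M D (one_mem _) ⟨mem_isoU.2 (utv_isometry D.u2 b hbb hc h), tv_mem_SL _ _ _⟩, fun z => ?_⟩
  rw [root_mulVec, co_smul]
  rfl

/-- the transvections of the first factor -/
theorem exists_tA {a : Fin r → F} (haa : f₁ a a = 0) {c : F} (hc : σ c = -c) :
    ∃ g ∈ M, ∀ x y, (g : Matrix ι ι F) *ᵥ tvec e P x y = tvec e P (x + (c * f₁ x a) • a) y := by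
  obtain ⟨A, hA, hAx⟩ := exists_tvS D.u1 haa hc
  obtain ⟨g, hg, hgT⟩ := left_elem D hA
  exact ⟨g, hg, fun x y => by rw [hgT, hAx]⟩

/-- the Heisenberg elements of the second factor -/
theorem exists_hB {b w : Fin s → F} {τ : F} (hbb : f₂ b b = 0) (hwb : f₂ w b = 0)
    (hτ : τ + σ τ + f₂ w w = 0) :
    ∃ g ∈ M, g ∈ tensorProductSubgroup r s e P ∧ ∀ z, (g : Matrix ι ι F) *ᵥ z =
      z + tvec e P (cob D b z) w + tvec e P (τ • cob D b z - cob D w z) b := by
  obtain ⟨B, hB, hBy⟩ := exists_heisS D.u2 hbb hwb hτ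
  obtain ⟨g, hg, hgT, hgH⟩ := right_elem D hB
  refine ⟨g, hg, hgH, fun z => ?_⟩
  induction tvec_span (e := e) (P := P) z using Submodule.span_induction with
  | mem u hu =>
    obtain ⟨x, y, rfl⟩ := hu
    rw [hgT, hBy, cob_tvec, cob_tvec, smul_smul, ← sub_smul, tvec_smul_left, tvec_smul_left, tvec_add_right,
      tvec_add_right, tvec_smul_right, tvec_smul_right]
  | zero =>
    rw [mulVec_zero, map_zero, map_zero, smul_zero, sub_zero, tvec_zero_left, tvec_zero_left, add_zero, add_zero]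
  | add a c _ _ e1 e2 =>
    rw [mulVec_add, e1, e2, map_add, map_add, smul_add, add_sub_add_comm, tvec_add_left, tvec_add_left]
    abel
  | smul c a _ e1 =>
    rw [mulVec_smul, e1, map_smul, map_smul, smul_comm τ c, ← smul_sub, tvec_smul_left, tvec_smul_left, smul_add,
      smul_add]

end CfsgLib.Perm.Trans.TensorHerm
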