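import Mathlib
import Cfsg.Agent.Lib.Perm.Trans.TensorHermCore

/-!
# One pure isotropic centre gives all unitary transvections
-/

set_option autoImplicit false
set_option linter.all false

namespace CfsgLib.Perm.Trans.TensorHerm

open scoped Matrix
open Matrix Cfsg.Geo CfsgLib.Perm.Asch CfsgLib.Perm.Trans CfsgLib.Perm.Trans.Unit
open CfsgLib.Perm.Trans.TensorFrame CfsgLib.Perm.Trans.TensorMax

variable {F : Type*} [Field F] [Fintype F]

/-- special isometries are transitive on isotropic lines -/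
theorem exists_line_move {κ : Type} [Fintype κ] [DecidableEq κ] {σ : F ≃+* F} {h : (κ → F) → (κ → F) → F}
    (hh : IsUnitaryForm σ h) {a a' : κ → F} (ha : a ≠ 0) (ha' : a' ≠ 0) (haa : h a a = 0) (haa' : h a' a' = 0) :
    ∃ A ∈ isoU h ⊓ specialLinear κ F, ∃ ν : F, ν ≠ 0 ∧ (A : Matrix κ κ F) *ᵥ a = ν • a' := by
  by_cases h3 : 3 ≤ Fintype.card κ
  · obtain ⟨t, ⟨-, ht⟩, hta⟩ := move_iso_vec hh (hasTv_all hh) (isNondegenerateOn_top hh)
      (by rw [finrank_top, Module.finrank_fintype_fun_eq_card]; exact h3) (Submodule.mem_top (x := a))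
      (Submodule.mem_top (x := a')) ha ha' haa haa'
    exact ⟨t, ht.1, 1, one_ne_zero, by rw [hta, one_smul]⟩
  by_cases hd : h a a' = 0
  · obtain ⟨p, hpp, hap, hpa⟩ := exists_isotropic_partner hh ha haa
    obtain ⟨z, hz⟩ : ∃ z, z = a' - h a' p • a := ⟨_, rfl⟩
    have hP := isNondegenerateOn_pair hh haa hpp hap
    have hzP : z ∈ perp hh (Submodule.span F ({a, p} : Set (κ → F))) := by
      intro w hw
      obtain ⟨u, v, rfl⟩ := Submodule.mem_span_pair.1 hw
      rw [hz, herm_add_right hh, herm_smul_right hh, herm_smul_right hh, herm_sub_left hh, herm_sub_left hh,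
        hh.smul_left, hh.smul_left, haa, hap, herm_swap_zero hh hd]
      ring
    have h1 := finrank_add_perp hh hP
    rw [finrank_pair hh haa hpp hap] at h1
    have h0 : perp hh (Submodule.span F ({a, p} : Set (κ → F))) = ⊥ := Submodule.finrank_eq_zero.1 (by omega)
    rw [h0, Submodule.mem_bot, hz, sub_eq_zero] at hzP
    have hν : h a' p ≠ 0 := fun h2 => ha' (by rw [hzP, h2, zero_smul])
    refine ⟨1, one_mem _, (h a' p)⁻¹, inv_ne_zero hν, ?_⟩
    rw [Units.val_one, one_mulVec, eq_inv_smul_iff₀ hν]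
    exact hzP.symm
  · obtain ⟨δ, hδ, hδσ⟩ := exists_trace_zero hh
    obtain ⟨μ, hμ⟩ : ∃ μ, μ = σ (δ / h a a') := ⟨_, rfl⟩
    have hμ0 : μ ≠ 0 := hμ ▸ (map_ne_zero σ).2 (div_ne_zero hδ hd)
    obtain ⟨t, ⟨-, ht⟩, hta, -⟩ := move_direct hh (hasTv_all hh) (Submodule.mem_top (x := a))
      (Submodule.mem_top (x := μ • a')) haa
      (by rw [hh.smul_left, herm_smul_right hh, haa', mul_zero, mul_zero])
      (d := δ) (by rw [herm_smul_right hh, hμ, hh.involutive, div_mul_cancel₀ _ hd]) hδ hδσ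
    exact ⟨t, ht.1, μ, hμ0, hta⟩

variable {ι : Type} [Fintype ι] [DecidableEq ι] {r s : ℕ} {e : ι ≃ Fin r × Fin s} {P : GL ι F}
variable {σ : F ≃+* F} {f : (ι → F) → (ι → F) → F} {M : Subgroup (GL ι F)}
variable {f₁ : (Fin r → F) → (Fin r → F) → F} {f₂ : (Fin s → F) → (Fin s → F) → F} {k : F}
variable (D : TU σ f f₁ f₂ e P k M)
include D

/-- all products of isotropic vectors are centres -/
theorem centre_iso {a : Fin r → F} {b : Fin s → F} (ha : a ≠ 0) (hb : b ≠ 0) (haa : f₁ a a = 0) (hbb : f₂ b b = 0)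
    (h : tvec e P a b ∈ centres D.form M) {a' : Fin r → F} {b' : Fin s → F} (haa' : f₁ a' a' = 0)
    (hbb' : f₂ b' b' = 0) : tvec e P a' b' ∈ centres D.form M := by
  rcases eq_or_ne a' 0 with rfl | ha'
  · rw [tvec_zero_left]; exact centres_zero D.form M
  rcases eq_or_ne b' 0 with rfl | hb'
  · rw [tvec_zero_right]; exact centres_zero D.form M
  obtain ⟨A, hA, ν, hν, hAa⟩ := exists_line_move D.u1 ha ha' haa haa'
  obtain ⟨B, hB, μ, hμ, hBb⟩ := exists_line_move D.u2 hb hb' hbb hbb'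
  have h1 := centres_smul D.form (centres_conj D.form D.le (kg_mem_M D hA hB) h) (ν * μ)⁻¹
  rwa [kg_tvec, hAa, hBb, tvec_smul_left, tvec_smul_right, smul_smul, smul_smul, mul_assoc, inv_mul_cancel₀ (mul_ne_zero hν hμ),
    one_smul] at h1

/-- a centre with anisotropic first component -/
theorem centre_aniso (hr : 2 ≤ r) (hs : 3 ≤ s)
    (hC : ∀ a b, f₁ a a = 0 → f₂ b b = 0 → tvec e P a b ∈ centres D.form M) :
    ∃ c b, f₁ c c ≠ 0 ∧ b ≠ 0 ∧ f₂ b b = 0 ∧ tvec e P c b ∈ centres D.form M := by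
  have h1 := D.u1
  have h2 := D.u2
  obtain ⟨a, -, ha, haa⟩ := exists_isotropic h1 (W := (⊤ : Submodule F (Fin r → F)))
    (by rw [finrank_top, Module.finrank_fin_fun]; omega)
  obtain ⟨a', haa', haa1, ha'a⟩ := exists_isotropic_partner h1 ha haa
  obtain ⟨b, -, hb, hbb⟩ := exists_isotropic h2 (W := (⊤ : Submodule F (Fin s → F)))
    (by rw [finrank_top, Module.finrank_fin_fun]; omega)
  obtain ⟨b', hbb', hbb1, hb'b⟩ := exists_isotropic_partner h2 hb hbb
  obtain ⟨d, -, hdb, hdb', hdd⟩ := exists_third h2 (isNondegenerateOn_top h2)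
    (by rw [finrank_top, Module.finrank_fin_fun]; omega) Submodule.mem_top Submodule.mem_top hbb hbb' hbb1
  have hbd := herm_swap_zero h2 hdb
  have hb'd := herm_swap_zero h2 hdb'
  have hεσ : σ (f₂ d d) = f₂ d d := (h2.herm d d).symm
  obtain ⟨θ, hθ, hθσ⟩ := exists_trace_zero h1
  obtain ⟨ζ, hζ, hζ'⟩ : ∃ ζ : F, ζ * σ ζ = 1 ∧ ζ + σ ζ ≠ 0 := by
    by_cases hc : (2 : F) = 0
    · obtain ⟨ζ, hζ, hζ'⟩ := exists_norm_one_not_fixed h1
      exact ⟨ζ, hζ, fun h0 => hζ' (by linear_combination h0 - ζ * hc)⟩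
    · exact ⟨1, by rw [map_one, one_mul], by rw [map_one, one_add_one_eq_two]; exact hc⟩
  obtain ⟨t, ht⟩ : ∃ t, t = ζ + σ ζ := ⟨_, rfl⟩
  rw [← ht] at hζ'
  have htσ : σ t = t := by rw [ht, map_add, h1.involutive, add_comm]
  obtain ⟨g₁, hg₁⟩ := exists_trace h1 (d := -f₂ d d) (by rw [map_neg, hεσ])
  obtain ⟨γ, hγ, hγ0⟩ : ∃ γ : F, γ + σ γ = -f₂ d d ∧ γ - σ γ ≠ 0 := by
    by_cases hg : g₁ - σ g₁ = 0
    · refine ⟨g₁ + θ, by rw [map_add, hθσ]; linear_combination hg₁, fun h0 => ?_⟩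
      rw [map_add, hθσ] at h0
      have h3 : (2 : F) = 0 := (mul_eq_zero.1 (show (2 : F) * θ = 0 by linear_combination h0 - hg)).resolve_right hθ
      exact hdd (by linear_combination hg₁ + hg - g₁ * h3)
    · exact ⟨g₁, hg₁, hg⟩
  obtain ⟨c, hc⟩ : ∃ c, c = -θ⁻¹ := ⟨_, rfl⟩
  have hcσ : σ c = -c := by rw [hc, map_neg, map_inv₀, hθσ, inv_neg]
  have hc0 : c ≠ 0 := hc ▸ neg_ne_zero.2 (inv_ne_zero hθ)
  -- the first line
  obtain ⟨u, hu⟩ : ∃ u, u = tvec e P a b + θ • tvec e P a' b' := ⟨_, rfl⟩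
  have huC : u ∈ centres D.form M := by
    rw [hu]
    refine centres_line D.form D.le (hC a b haa hbb) (hC a' b' haa' hbb') ?_ ?_
    · rw [D.pol, haa1, hbb1, mul_one, mul_one]; exact D.kne
    · simp only [herm_line D.form, D.pol, haa, hbb, haa', hbb', haa1, hbb1, ha'a, hb'b]
      rw [hθσ]
      ring
  obtain ⟨y, hy⟩ : ∃ y, y = b' + d + γ • b := ⟨_, rfl⟩
  have hyy : f₂ y y = 0 := by
    simp only [hy, h2.add_left, herm_add_right h2, h2.smul_left, herm_smul_right h2, hbb, hbb', hb'd, hdb', hb'b, hbb1,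
      hbd, hdb]
    linear_combination hγ
  obtain ⟨v₁, hv₁, hv₁C⟩ : ∃ v₁, v₁ = tvec e P a' d + γ • tvec e P a' b + c • tvec e P a b ∧
      v₁ ∈ centres D.form M := by
    refine ⟨_, rfl, ?_⟩
    have hθc : c * θ = -1 := by rw [hc, neg_mul, inv_mul_cancel₀ hθ]
    have e1 : tvec e P a' d + γ • tvec e P a' b + c • tvec e P a b = tvec e P a' y + c • u := by
      rw [hu, hy, tvec_add_right, tvec_add_right, tvec_smul_right, smul_add, smul_smul, hθc]
      module
    rw [e1]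
    have hyb : f₂ y b = 1 := by
      rw [hy, h2.add_left, h2.add_left, h2.smul_left, hb'b, hdb, hbb]; ring
    have hfu : f (tvec e P a' y) u = k := by
      rw [hu, herm_add_right D.form, herm_smul_right D.form, D.pol, D.pol, ha'a, haa', hyb]; ring
    refine centres_line D.form D.le (hC a' y haa' hyy) huC (by rw [hfu]; exact D.kne) ?_
    rw [herm_line D.form, hfu, D.form.herm u, hfu, D.pol, haa', huC.1, D.kfix, hcσ]
    ring
  -- remove the middle component
  have hstep : ∀ (w : ι → F) (ν μ : F), w ∈ centres D.form M → f w (tvec e P a' (b' + ν • d + μ • b)) = c * k →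
      ν * σ ν = 1 → μ + σ μ = -f₂ d d → ∀ ρ : F, σ ρ = ρ →
      w + ρ • tvec e P a' (b' + ν • d + μ • b) ∈ centres D.form M := by
    intro w ν μ hw hwf hν hμ ρ hρ
    have hyy' : f₂ (b' + ν • d + μ • b) (b' + ν • d + μ • b) = 0 := by
      simp only [h2.add_left, herm_add_right h2, h2.smul_left, herm_smul_right h2, hbb, hbb', hb'd, hdb', hb'b, hbb1,
        hbd, hdb]
      linear_combination hμ + f₂ d d * hν
    refine centres_line D.form D.le hw (hC _ _ haa' hyy') (by rw [hwf]; exact mul_ne_zero hc0 D.kne) ?_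
    rw [herm_line D.form, hwf, D.form.herm (tvec e P a' (b' + ν • d + μ • b)) w, hwf, hw.1, D.pol, haa', hρ, map_mul, hcσ, D.kfix]
    ring
  obtain ⟨ρ, hρ⟩ : ∃ ρ, ρ = -t⁻¹ := ⟨_, rfl⟩
  have hρσ : σ ρ = ρ := by rw [hρ, map_neg, map_inv₀, htσ]
  obtain ⟨y₁, hy₁⟩ : ∃ y₁, y₁ = b' + ζ • d + γ • b := ⟨_, rfl⟩
  obtain ⟨y₂, hy₂⟩ : ∃ y₂, y₂ = b' + (-σ ζ) • d + γ • b := ⟨_, rfl⟩
  have hv₁f : ∀ ν μ : F, f v₁ (tvec e P a' (b' + ν • d + μ • b)) = c * k := fun ν μ => by
    simp only [hv₁, D.form.add_left, D.form.smul_left, D.pol, haa', haa1, herm_add_right h2, herm_smul_right h2, hbb,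
      hbb1, hbd]
    ring
  have hv₂C := hstep v₁ ζ γ hv₁C (hv₁f ζ γ) hζ hγ ρ hρσ
  rw [← hy₁] at hv₂C
  have hv₂f : f (v₁ + ρ • tvec e P a' y₁) (tvec e P a' (b' + (-σ ζ) • d + γ • b)) = c * k := by
    rw [D.form.add_left, D.form.smul_left, D.pol, haa', hv₁f]; ring
  have hv₃C := hstep _ (-σ ζ) γ hv₂C hv₂f (by rw [map_neg, h1.involutive]; linear_combination hζ) hγ (-ρ)
    (by rw [map_neg, hρσ])
  refine ⟨γ • a' + c • a, b, ?_, hb, hbb, ?_⟩
  · simp only [h1.add_left, herm_add_right h1, h1.smul_left, herm_smul_right h1, haa, haa', haa1, ha'a, hcσ]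
    intro h0
    exact mul_ne_zero hc0 hγ0 (by linear_combination -h0)
  · have hρt : ρ * t = -1 := by rw [hρ, neg_mul, inv_mul_cancel₀ hζ']
    have e1 : tvec e P (γ • a' + c • a) b =
        v₁ + ρ • tvec e P a' y₁ + (-ρ) • tvec e P a' (b' + (-σ ζ) • d + γ • b) := by
      simp only [hv₁, hy₁, tvec_add_left, tvec_smul_left, tvec_add_right, tvec_smul_right, smul_add, smul_smul]
      match_scalars <;> try linear_combination (-1 : F) * hρt + ρ * ht
      all_goals ring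
    rw [e1]
    exact hv₃C

/-- products with an isotropic second component are centres -/
theorem centre_any_iso (hr : 2 ≤ r) {c : Fin r → F} {b : Fin s → F} (hc : f₁ c c ≠ 0) (hb : b ≠ 0) (hbb : f₂ b b = 0)
    (h : tvec e P c b ∈ centres D.form M)
    (hC : ∀ a b, f₁ a a = 0 → f₂ b b = 0 → tvec e P a b ∈ centres D.form M) (x : Fin r → F) {y : Fin s → F}
    (hy : f₂ y y = 0) : tvec e P x y ∈ centres D.form M := by
  by_cases hx : f₁ x x = 0
  · exact hC x y hx hy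
  rcases eq_or_ne y 0 with rfl | hy0
  · rw [tvec_zero_right]; exact centres_zero D.form M
  obtain ⟨B, hB, μ, hμ, hBb⟩ := exists_line_move D.u2 hb hy0 hbb hy
  obtain ⟨ν, hν⟩ := exists_norm D.u1 (d := f₁ c c / f₁ x x)
    (by rw [map_div₀, ← D.u1.herm, ← D.u1.herm])
  have hν0 : ν ≠ 0 := fun h0 => div_ne_zero hc hx (by rw [← hν, h0, zero_mul])
  obtain ⟨A, hA, hAc⟩ := fixU_norm_move D.u1 (isNondegenerateOn_top D.u1)
    (by rw [finrank_top, Module.finrank_fin_fun]; omega) (Submodule.mem_top (x := c))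
    (Submodule.mem_top (x := ν • x))
    (by rw [D.u1.smul_left, herm_smul_right D.u1, ← mul_assoc, hν, div_mul_cancel₀ _ hx]) hc
  have h1 := centres_smul D.form (centres_conj D.form D.le (kg_mem_M D hA.1 hB) h) (ν * μ)⁻¹
  rwa [kg_tvec, hAc, hBb, tvec_smul_left, tvec_smul_right, smul_smul, smul_smul, mul_assoc, inv_mul_cancel₀ (mul_ne_zero hν0 hμ),
    one_smul] at h1

/-- the bridge between two blocks -/
theorem bridge (hs : 3 ≤ s) (hC : ∀ x y, f₂ y y = 0 → tvec e P x y ∈ centres D.form M) {c x : Fin r → F}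
    (hc : f₁ c c ≠ 0) (hx : f₁ x x ≠ 0) (hcx : f₁ c x = 0) {y : Fin s → F} (hy : f₂ y y ≠ 0) :
    ∃ w, tvec e P c w + tvec e P x y ∈ centres D.form M := by
  have h1 := D.u1
  have h2 := D.u2
  have hxc := herm_swap_zero h1 hcx
  obtain ⟨y₁, -, hy₁0, hy₁⟩ := exists_isotropic h2 (W := (⊤ : Submodule F (Fin s → F)))
    (by rw [finrank_top, Module.finrank_fin_fun]; omega)
  obtain ⟨z, hzz, hy₁z, hzy₁⟩ := exists_isotropic_partner h2 hy₁0 hy₁
  obtain ⟨ζ, hζ, hζ'⟩ := exists_norm_one_not_fixed h1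
  obtain ⟨δ, hδ, hδσ⟩ := exists_trace_zero h1
  obtain ⟨ρ, hρ⟩ := exists_norm h1 (d := -f₁ c c / f₁ x x) (by rw [map_div₀, map_neg, ← h1.herm, ← h1.herm])
  have hρ' : ρ * σ ρ * f₁ x x = -f₁ c c := by rw [hρ, div_mul_cancel₀ _ hx]
  have hρ0 : ρ ≠ 0 := fun h0 => hc (by rw [h0, zero_mul, zero_mul] at hρ'; linear_combination hρ')
  obtain ⟨u, hu⟩ : ∃ u, u = tvec e P (c + ρ • x) y₁ := ⟨_, rfl⟩
  obtain ⟨u', hu'⟩ : ∃ u', u' = tvec e P (c + (ζ * ρ) • x) z := ⟨_, rfl⟩
  obtain ⟨K, hK⟩ : ∃ K, K = k * f₁ c c := ⟨_, rfl⟩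
  have hKσ : σ K = K := by rw [hK, map_mul, D.kfix, ← h1.herm]
  have hK0 : K ≠ 0 := hK ▸ mul_ne_zero D.kne hc
  have hσζ1 : 1 - σ ζ ≠ 0 := fun h0 => hζ' (by
    have h3 : σ ζ = 1 := by linear_combination -h0
    have h4 := congrArg σ h3
    rw [h1.involutive, map_one] at h4
    rw [h3, h4])
  have hφ : f u u' = K * (1 - σ ζ) := by
    rw [hu, hu', D.pol, hy₁z, hK]
    simp only [h1.add_left, herm_add_right h1, h1.smul_left, herm_smul_right h1, hcx, hxc, map_mul]
    linear_combination k * σ ζ * hρ'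
  have hφ0 : f u u' ≠ 0 := hφ ▸ mul_ne_zero hK0 hσζ1
  obtain ⟨q, hq⟩ : ∃ q, q = σ (δ / f u u') := ⟨_, rfl⟩
  have huu : f u u = 0 := by rw [hu, D.pol, hy₁, mul_zero, mul_zero]
  have hu'u' : f u' u' = 0 := by rw [hu', D.pol, hzz, mul_zero, mul_zero]
  have hC1 : u + q • u' ∈ centres D.form M := by
    refine centres_line D.form D.le (hu ▸ hC _ _ hy₁) (hu' ▸ hC _ _ hzz) hφ0 ?_
    have hσφ : σ (f u u') ≠ 0 := by simpa using hφ0
    rw [herm_line D.form, huu, hu'u', D.form.herm u' u, hq, D.form.involutive, map_div₀, hδσ]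
    field_simp
    ring
  obtain ⟨y₀, hy₀⟩ : ∃ y₀, y₀ = y₁ + (q * ζ) • z := ⟨_, rfl⟩
  have hy₀0 : f₂ y₀ y₀ ≠ 0 := by
    have hσφ : σ (f u u') ≠ 0 := by simpa using hφ0
    simp only [hy₀, h2.add_left, herm_add_right h2, h2.smul_left, herm_smul_right h2, hy₁, hzz, hy₁z, hzy₁, mul_zero,
      add_zero, zero_add, mul_one, map_mul]
    intro h0
    rw [hq, h1.involutive, map_div₀, hδσ, hφ, map_mul, hKσ, map_sub, map_one, h1.involutive] at h0
    have hζ1 : 1 - ζ ≠ 0 := fun h3 => hσζ1 (by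
      rw [show ζ = 1 by linear_combination -h3, map_one, sub_self])
    field_simp at h0
    exact hζ' (mul_left_cancel₀ hδ (by linear_combination h0))
  obtain ⟨ν, hν⟩ := exists_norm h2 (d := f₂ y₀ y₀ / f₂ y y) (by rw [map_div₀, ← h2.herm, ← h2.herm])
  have hν0 : ν ≠ 0 := fun h0 => div_ne_zero hy₀0 hy (by rw [← hν, h0, zero_mul])
  obtain ⟨B, hB, hBy⟩ := fixU_norm_move h2 (isNondegenerateOn_top h2)
    (by rw [finrank_top, Module.finrank_fin_fun]; omega) (Submodule.mem_top (x := y₀))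
    (Submodule.mem_top (x := ν • y))
    (by rw [h2.smul_left, herm_smul_right h2, ← mul_assoc, hν, div_mul_cancel₀ _ hy]) hy₀0
  obtain ⟨g, hg, hgT, -⟩ := right_elem D hB.1
  have h3 := centres_smul D.form (centres_conj D.form D.le hg hC1) (ρ * ν)⁻¹
  refine ⟨(ρ * ν)⁻¹ • (B : Matrix (Fin s) (Fin s) F) *ᵥ (y₁ + q • z), ?_⟩
  have e1 : u + q • u' = tvec e P c (y₁ + q • z) + ρ • tvec e P x y₀ := by
    rw [hu, hu', hy₀]
    simp only [tvec_add_left, tvec_smul_left, tvec_add_right, tvec_smul_right, smul_add, smul_smul]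
    module
  rw [e1, mulVec_add, mulVec_smul, hgT, hgT, hBy, tvec_smul_right, smul_add, smul_smul, smul_smul,
    mul_assoc, inv_mul_cancel₀ (mul_ne_zero hρ0 hν0), one_smul] at h3
  rwa [tvec_smul_right]

omit D in
/-- adjoining an orthogonal vector -/
theorem glue {ι : Type} [Fintype ι] [DecidableEq ι] {σ : F ≃+* F} {f : (ι → F) → (ι → F) → F}
    (hf : IsUnitaryForm σ f) {M : Subgroup (GL ι F)} (hM : M ≤ isoU f) {S : Submodule F (ι → F)}
    (hS : IsNondegenerateOn f S) (h4 : 4 ≤ Module.finrank F S ∨ 3 ≤ Module.finrank F S ∧ 4 < Fintype.card F) (hall : ∀ u ∈ S, f u u = 0 → u ∈ centres hf M)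
    {d : ι → F} (hdd : f d d ≠ 0) (hd : d ∈ perp hf S) {w₀ : ι → F} (hw₀ : w₀ ∈ S)
    (hC : w₀ + d ∈ centres hf M) :
    ∀ u ∈ S ⊔ Submodule.span F {d}, f u u = 0 → u ∈ centres hf M := by
  intro u hu huu
  obtain ⟨w, hw, _, hy, rfl⟩ := Submodule.mem_sup.1 hu
  obtain ⟨t, rfl⟩ := Submodule.mem_span_singleton.1 hy
  rcases eq_or_ne t 0 with rfl | ht
  · rw [zero_smul, add_zero] at huu ⊢
    exact hall w hw huu
  obtain ⟨w', hw'⟩ : ∃ w', w' = t⁻¹ • w := ⟨_, rfl⟩
  have hw'S : w' ∈ S := hw' ▸ S.smul_mem _ hw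
  rw [show w + t • d = t • (w' + d) by rw [smul_add, hw', smul_smul, mul_inv_cancel₀ ht, one_smul]] at huu ⊢
  refine centres_smul hf ?_ t
  have key : ∀ v ∈ S, f (v + d) (v + d) = f v v + f d d := fun v hv => by
    rw [hf.add_left, herm_add_right hf, herm_add_right hf, herm_swap_zero hf (hd v hv), hd v hv]; ring
  rw [hf.smul_left, herm_smul_right hf] at huu
  have h1 := (mul_eq_zero.1 ((mul_eq_zero.1 huu).resolve_left ht)).resolve_left (by simpa using ht)
  have h2 := hC.1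
  rw [key _ hw'S] at h1
  rw [key _ hw₀] at h2
  obtain ⟨g, hg, hgw⟩ := fixU_norm_move hf hS (by omega) hw₀ hw'S (by linear_combination h2 - h1)
    (fun h0 => hdd (by linear_combination h2 - h0))
  have hgM : g ∈ M := mem_of_fix hf hS (fun u hu huu c hc => (hall u hu huu).2 c hc)
    (h4.elim (fun h => Or.inl (by omega)) fun h => Or.inr h.2) hg
  have h3 := centres_conj hf hM hgM hC
  rwa [mulVec_add, hgw, hg.2 _ hd] at h3

/-- one pure isotropic centre gives the special unitary group -/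
theorem full_of_centre (hr : 2 ≤ r) (hs : 4 ≤ s ∨ 3 ≤ s ∧ 4 < Fintype.card F) {a : Fin r → F} {b : Fin s → F} (ha : a ≠ 0) (hb : b ≠ 0)
    (haa : f₁ a a = 0) (hbb : f₂ b b = 0) (h : tvec e P a b ∈ centres D.form M) :
    isoU f ⊓ specialLinear ι F ≤ M := by
  have hf := D.form
  have h1 := D.u1
  have h2 := D.u2
  have hCi : ∀ a' b', f₁ a' a' = 0 → f₂ b' b' = 0 → tvec e P a' b' ∈ centres D.form M :=
    fun a' b' ha' hb' => centre_iso D ha hb haa hbb h ha' hb'
  obtain ⟨c₀, b₀, hc₀, hb₀, hbb₀, hc₀C⟩ := centre_aniso D hr (by omega) hCi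
  have hCx : ∀ x y, f₂ y y = 0 → tvec e P x y ∈ centres D.form M :=
    fun x y hy => centre_any_iso D hr hc₀ hb₀ hbb₀ hc₀C hCi x hy
  obtain ⟨lU, hlU, hpU, hsU⟩ := exists_frame h1 r ⊤ (isNondegenerateOn_top h1)
    (by rw [finrank_top, Module.finrank_fin_fun])
  obtain ⟨lW, hlW, hpW, hsW⟩ := exists_frame h2 s ⊤ (isNondegenerateOn_top h2)
    (by rw [finrank_top, Module.finrank_fin_fun])
  cases lU with
  | nil =>
    exfalso
    refine ha ?_
    have h3 := hsU a Submodule.mem_top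
    simp at h3
    exact h3
  | cons x₁ rest =>
  rw [List.pairwise_cons] at hpU
  have hx₁ : f₁ x₁ x₁ ≠ 0 := (hlU x₁ (List.mem_cons_self ..)).2
  have hx₁0 : x₁ ≠ 0 := fun h0 => hx₁ (by rw [h0, herm_zero_left h1])
  let T : (Fin r → F) → (Fin s → F) →ₗ[F] (ι → F) := fun x =>
    ⟨⟨fun y => tvec e P x y, fun y y' => tvec_add_right x y y'⟩, fun c y => tvec_smul_right c x y⟩
  let Good : Submodule F (ι → F) → Prop := fun S => LinearMap.range (T x₁) ≤ S ∧ IsNondegenerateOn f S ∧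
    (4 ≤ Module.finrank F S ∨ 3 ≤ Module.finrank F S ∧ 4 < Fintype.card F) ∧ ∀ u ∈ S, f u u = 0 → u ∈ centres hf M
  -- the first block
  have hS₀ : Good (LinearMap.range (T x₁)) := by
    refine ⟨le_rfl, ?_, ?_, ?_⟩
    · rintro v ⟨y, rfl⟩ hv
      have hy0 : y ≠ 0 := fun h0 => hv (by rw [h0, map_zero])
      obtain ⟨⟨y', hy'⟩, ⟨y'', hy''⟩⟩ := h2.nondegenerate y hy0
      refine ⟨⟨T x₁ y', ⟨y', rfl⟩, ?_⟩, ⟨T x₁ y'', ⟨y'', rfl⟩, ?_⟩⟩
      · show f (tvec e P x₁ y') (tvec e P x₁ y) ≠ 0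
        rw [D.pol]
        exact mul_ne_zero D.kne (mul_ne_zero hx₁ hy')
      · show f (tvec e P x₁ y) (tvec e P x₁ y'') ≠ 0
        rw [D.pol]
        exact mul_ne_zero D.kne (mul_ne_zero hx₁ hy'')
    · rw [LinearMap.finrank_range_of_inj (f := T x₁) ((injective_iff_map_eq_zero _).2 fun y hy => by
        by_contra hy0
        exact tvec_ne_zero hx₁0 hy0 hy), Module.finrank_fin_fun]
      omega
    · rintro _ ⟨y, rfl⟩ huu
      refine hCx _ _ ?_
      have h3 : f (tvec e P x₁ y) (tvec e P x₁ y) = 0 := huu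
      rw [D.pol] at h3
      exact (mul_eq_zero.1 ((mul_eq_zero.1 h3).resolve_left D.kne)).resolve_left hx₁
  -- one block
  have inner : ∀ x, f₁ x x ≠ 0 → f₁ x₁ x = 0 → ∀ l : List (Fin s → F), (∀ y ∈ l, f₂ y y ≠ 0) →
      l.Pairwise (fun y y' => f₂ y y' = 0) → ∀ S, Good S → (∀ y ∈ l, tvec e P x y ∈ perp hf S) →
      ∃ S', S ≤ S' ∧ Good S' ∧ (∀ y ∈ l, tvec e P x y ∈ S') ∧
        ∀ v ∈ perp hf S, (∀ y ∈ l, f v (tvec e P x y) = 0) → v ∈ perp hf S' := by
    intro x hxx hx1 l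
    induction l with
    | nil => exact fun _ _ S hS _ => ⟨S, le_rfl, hS, by simp, fun v hv _ => hv⟩
    | cons y l ih =>
      intro hl hp S hS hperp
      rw [List.pairwise_cons] at hp
      have hyy := hl y (List.mem_cons_self ..)
      have hdd : f (tvec e P x y) (tvec e P x y) ≠ 0 := by
        rw [D.pol]; exact mul_ne_zero D.kne (mul_ne_zero hxx hyy)
      have hd := hperp y (List.mem_cons_self ..)
      obtain ⟨w, hw⟩ := bridge D (by omega) hCx hx₁ hxx hx1 hyy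
      have hgood : Good (S ⊔ Submodule.span F {tvec e P x y}) :=
        ⟨hS.1.trans le_sup_left, nondeg_sup_singleton hf hS.2.1 hdd hd,
          hS.2.2.1.imp (fun h => h.trans (Submodule.finrank_mono le_sup_left))
            (fun h => ⟨h.1.trans (Submodule.finrank_mono le_sup_left), h.2⟩),
          glue hf D.le hS.2.1 hS.2.2.1 hS.2.2.2 hdd hd (hS.1 ⟨w, rfl⟩) hw⟩
      have hext : ∀ v ∈ perp hf S, f v (tvec e P x y) = 0 →
          v ∈ perp hf (S ⊔ Submodule.span F {tvec e P x y}) := by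
        intro v hv hvy u hu
        obtain ⟨u₁, hu₁, u₂, hu₂, rfl⟩ := Submodule.mem_sup.1 hu
        obtain ⟨t, rfl⟩ := Submodule.mem_span_singleton.1 hu₂
        rw [herm_add_right hf, herm_smul_right hf, hv u₁ hu₁, hvy, mul_zero, add_zero]
      obtain ⟨S', hle, hS', hmem, hkeep⟩ := ih (fun y' hy' => hl y' (List.mem_cons_of_mem _ hy')) hp.2 _ hgood
        (fun y' hy' => hext _ (hperp y' (List.mem_cons_of_mem _ hy')) (by
          rw [D.pol, herm_swap_zero h2 (hp.1 y' hy'), mul_zero, mul_zero]))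
      refine ⟨S', le_sup_left.trans hle, hS', fun y' hy' => ?_, fun v hv hvl => hkeep v
        (hext v hv (hvl y (List.mem_cons_self ..))) fun y' hy' => hvl y' (List.mem_cons_of_mem _ hy')⟩
      rcases List.mem_cons.1 hy' with rfl | hy'
      · exact hle (Submodule.mem_sup_right (Submodule.mem_span_singleton_self _))
      · exact hmem y' hy'
  -- all blocks
  have outer : ∀ l : List (Fin r → F), (∀ x ∈ l, f₁ x x ≠ 0 ∧ f₁ x₁ x = 0) →
      l.Pairwise (fun x x' => f₁ x x' = 0) → ∀ S, Good S → (∀ x ∈ l, ∀ y, tvec e P x y ∈ perp hf S) →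
      ∃ S', S ≤ S' ∧ Good S' ∧ ∀ x ∈ l, ∀ y ∈ lW, tvec e P x y ∈ S' := by
    intro l
    induction l with
    | nil => exact fun _ _ S hS _ => ⟨S, le_rfl, hS, by simp⟩
    | cons x l ih =>
      intro hl hp S hS hperp
      rw [List.pairwise_cons] at hp
      obtain ⟨hxx, hx1⟩ := hl x (List.mem_cons_self ..)
      obtain ⟨S₁, hle₁, hS₁, hmem₁, hkeep⟩ := inner x hxx hx1 lW (fun y hy => (hlW y hy).2) hpW S hS
        fun y _ => hperp x (List.mem_cons_self ..) y
      obtain ⟨S', hle, hS', hmem⟩ := ih (fun x' hx' => hl x' (List.mem_cons_of_mem _ hx')) hp.2 S₁ hS₁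
        fun x' hx' y => hkeep _ (hperp x' (List.mem_cons_of_mem _ hx') y) fun y' _ => by
          rw [D.pol, herm_swap_zero h1 (hp.1 x' hx'), zero_mul, mul_zero]
      refine ⟨S', hle₁.trans hle, hS', fun x' hx' y hy => ?_⟩
      rcases List.mem_cons.1 hx' with rfl | hx'
      · exact hle (hmem₁ y hy)
      · exact hmem x' hx' y hy
  obtain ⟨S, -, hS, hmem⟩ := outer rest
    (fun x hx => ⟨(hlU x (List.mem_cons_of_mem _ hx)).2, hpU.1 x hx⟩) hpU.2 _ hS₀
    (fun x hx y => by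
      rintro _ ⟨y', rfl⟩
      show f (tvec e P x y) (tvec e P x₁ y') = 0
      rw [D.pol, herm_swap_zero h1 (hpU.1 x hx), zero_mul, mul_zero])
  have hall : ∀ z : ι → F, z ∈ S := fun z => by
    refine (Submodule.span_le.2 ?_) (tvec_span (e := e) (P := P) z)
    rintro _ ⟨x, y, rfl⟩
    induction hsU x Submodule.mem_top using Submodule.span_induction with
    | mem x hx =>
      rcases List.mem_cons.1 hx with rfl | hx
      · exact hS.1 ⟨y, rfl⟩
      · induction hsW y Submodule.mem_top using Submodule.span_induction with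
        | mem y hy => exact hmem x hx y hy
        | zero => rw [tvec_zero_right]; exact S.zero_mem
        | add u v _ _ e1 e2 => rw [tvec_add_right]; exact S.add_mem e1 e2
        | smul c u _ e1 => rw [tvec_smul_right]; exact S.smul_mem c e1
    | zero => rw [tvec_zero_left]; exact S.zero_mem
    | add u v _ _ e1 e2 => rw [tvec_add_left]; exact S.add_mem e1 e2
    | smul c u _ e1 => rw [tvec_smul_left]; exact S.smul_mem c e1
  refine isoU_inf_SL_le hf (fun u _ huu c hc => (hS.2.2.2 u (hall u) huu).2 c hc) (Or.inl ?_)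
  have := Fintype.card_congr e
  simp at this
  rw [this]
  exact le_trans (by omega : 4 ≤ 2 * 3) (Nat.mul_le_mul hr (by omega))

end CfsgLib.Perm.Trans.TensorHerm
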