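import Mathlib
import Cfsg.Agent.Lib.Perm.Trans.TensorHermCentres

/-!
# Tensor products of hermitian spaces: conjugates of roots and rigidity
-/

set_option autoImplicit false
set_option linter.all false

namespace CfsgLib.Perm.Trans.TensorHerm

open scoped Matrix
open Matrix Cfsg.Geo CfsgLib.Perm.Asch CfsgLib.Perm.Trans CfsgLib.Perm.Trans.Unit
open CfsgLib.Perm.Trans.TensorFrame CfsgLib.Perm.Trans.TensorMax

variable {F : Type*} [Field F] [Fintype F]

/-! ### One hermitian space -/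

section One

variable {κ : Type} [Fintype κ] [DecidableEq κ] {σ : F ≃+* F} {h : (κ → F) → (κ → F) → F} (hh : IsUnitaryForm σ h)
include hh

/-- vectors with the same pairings are equal -/
theorem eq_of_left {a b : κ → F} (H : ∀ x, h a x = h b x) : a = b :=
  eq_of_herm hh fun x => by rw [hh.herm x a, hh.herm x b, H]

/-- a vector pairing to one -/
theorem exists_left_one {b : κ → F} (hb : b ≠ 0) : ∃ y, h y b = 1 ∧ h b y = 1 := by
  obtain ⟨w, hw⟩ := (hh.nondegenerate b hb).1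
  have h1 : h ((h w b)⁻¹ • w) b = 1 := by rw [hh.smul_left, inv_mul_cancel₀ hw]
  exact ⟨_, h1, by rw [hh.herm, h1, map_one]⟩

/-- an isometry moves to the other side as its inverse -/
theorem inv_adj {A : GL κ F} (hA : A ∈ isoU h) (x v : κ → F) :
    h (((A⁻¹ : GL κ F) : Matrix κ κ F) *ᵥ x) v = h x ((A : Matrix κ κ F) *ᵥ v) := by
  conv_rhs => rw [← gl_mulVec_inv A x, mem_isoU.1 hA]

/-- `x ↦ h x q • p` -/
def rk (p q : κ → F) : (κ → F) →ₗ[F] (κ → F) := (hFun hh q).smulRight p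

theorem rk_apply (p q x : κ → F) : rk hh p q x = h x q • p := rfl

omit hh in
/-- conjugation of linear maps -/
def conj1 (A : GL κ F) (S : (κ → F) →ₗ[F] (κ → F)) : (κ → F) →ₗ[F] (κ → F) :=
  (Matrix.mulVecLin (A : Matrix κ κ F)).comp (S.comp (Matrix.mulVecLin ((A⁻¹ : GL κ F) : Matrix κ κ F)))

omit hh in
theorem conj1_apply (A : GL κ F) (S : (κ → F) →ₗ[F] (κ → F)) (x : κ → F) :
    conj1 A S x = (A : Matrix κ κ F) *ᵥ S (((A⁻¹ : GL κ F) : Matrix κ κ F) *ᵥ x) := rfl

end One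

/-! ### The setting -/

variable {ι : Type} [Fintype ι] [DecidableEq ι] {r s : ℕ} {e : ι ≃ Fin r × Fin s} {P : GL ι F}
variable {σ : F ≃+* F} {f : (ι → F) → (ι → F) → F} {M : Subgroup (GL ι F)}
variable {f₁ : (Fin r → F) → (Fin r → F) → F} {f₂ : (Fin s → F) → (Fin s → F) → F} {k : F}

/-- `x ↦ x ⊗ y` -/
def tlm (e : ι ≃ Fin r × Fin s) (P : GL ι F) (y : Fin s → F) : (Fin r → F) →ₗ[F] (ι → F) :=
  ⟨⟨fun x => tvec e P x y, fun x x' => tvec_add_left x x' y⟩, fun c x => tvec_smul_left c x y⟩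

theorem tlm_apply (y : Fin s → F) (x : Fin r → F) : tlm e P y x = tvec e P x y := rfl

/-- `y ↦ x ⊗ y` -/
def trm (e : ι ≃ Fin r × Fin s) (P : GL ι F) (x : Fin r → F) : (Fin s → F) →ₗ[F] (ι → F) :=
  ⟨⟨fun y => tvec e P x y, fun y y' => tvec_add_right x y y'⟩, fun c y => tvec_smul_right c x y⟩

theorem trm_apply (x : Fin r → F) (y : Fin s → F) : trm e P x y = tvec e P x y := rfl

variable (D : TU σ f f₁ f₂ e P k M)
include D

theorem tvec_neg_l (x : Fin r → F) (y : Fin s → F) : tvec e P (-x) y = -tvec e P x y := by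
  rw [← neg_one_smul F x, tvec_smul_left, neg_one_smul]

theorem tvec_sub_l (x x' : Fin r → F) (y : Fin s → F) :
    tvec e P (x - x') y = tvec e P x y - tvec e P x' y := by
  rw [sub_eq_add_neg, tvec_add_left, tvec_neg_l D, sub_eq_add_neg]

/-- an element fixing `U ⊗ b` preserves the contraction with `b` -/
theorem cob_of_fix {m : GL ι F} (hm : m ∈ M) {b : Fin s → F}
    (hfix : ∀ x, (m : Matrix ι ι F) *ᵥ tvec e P x b = tvec e P x b) (z : ι → F) :
    cob D b ((m : Matrix ι ι F) *ᵥ z) = cob D b z := by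
  refine eq_of_left D.u1 fun x => mul_left_cancel₀ D.kne ?_
  rw [← pair D, ← pair D]
  conv_lhs => rw [← hfix x]
  exact mem_isoU.1 (D.le hm) _ _

/-- a vector orthogonal to all `x ⊗ w` with `w ⊥ b` -/
theorem pure_b {b y₁ : Fin s → F} (hy₁ : f₂ b y₁ = 1) {z : ι → F}
    (h : ∀ w, f₂ w b = 0 → cob D w z = 0) : z = tvec e P (cob D y₁ z) b := by
  refine pure_of_co (e := e) (P := P) (b := b) (γ := hv D.u2 y₁) (by rw [hv_dot, hy₁]) fun δ hδ => ?_
  obtain ⟨w, rfl⟩ := hv_surjective D.u2 δ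
  rw [hv_dot] at hδ
  exact h w (herm_swap_zero D.u2 hδ)

/-- `z ↦ z + S (cob b z) ⊗ b` -/
def Cen (b : Fin s → F) (S : (Fin r → F) →ₗ[F] (Fin r → F)) (m : GL ι F) : Prop :=
  ∀ z, (m : Matrix ι ι F) *ᵥ z = z + tvec e P (S (cob D b z)) b

theorem cob_cen_shift {b : Fin s → F} (hbb : f₂ b b = 0) (z : ι → F) (u : Fin r → F) :
    cob D b (z + tvec e P u b) = cob D b z := by
  rw [map_add, cob_tvec, hbb, zero_smul, add_zero]

theorem cen_skew {b : Fin s → F} (hb : b ≠ 0) (hbb : f₂ b b = 0) {S : (Fin r → F) →ₗ[F] (Fin r → F)}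
    {m : GL ι F} (hm : m ∈ M) (h : Cen D b S m) (x x' : Fin r → F) : f₁ (S x) x' + f₁ x (S x') = 0 := by
  obtain ⟨y, hy, hy'⟩ := exists_left_one D.u2 hb
  have h1 := mem_isoU.1 (D.le hm) (tvec e P x y) (tvec e P x' y)
  rw [h, h, cob_tvec, cob_tvec, hy, one_smul, one_smul, D.form.add_left, herm_add_right D.form,
    herm_add_right D.form, D.pol, D.pol, D.pol, D.pol, hy, hy', hbb] at h1
  exact mul_left_cancel₀ D.kne (by linear_combination h1)

/-- the maps `S` with `Cen b S` in `M` -/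
def cenSet (b : Fin s → F) (hbb : f₂ b b = 0) : AddSubgroup ((Fin r → F) →ₗ[F] (Fin r → F)) where
  carrier := {S | ∃ m ∈ M, Cen D b S m}
  add_mem' := fun {S S'} ⟨m, hm, h⟩ ⟨m', hm', h'⟩ => ⟨m * m', M.mul_mem hm hm', fun z => by
    rw [gl_mul_mulVec, h', h, cob_cen_shift D hbb, LinearMap.add_apply, tvec_add_left]
    abel⟩
  zero_mem' := ⟨1, M.one_mem, fun z => by
    rw [Units.val_one, one_mulVec, LinearMap.zero_apply, tvec_zero_left, add_zero]⟩
  neg_mem' := fun {S} ⟨m, hm, h⟩ => ⟨m⁻¹, M.inv_mem hm, fun z => by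
    have h1 : (m : Matrix ι ι F) *ᵥ (z + tvec e P ((-S) (cob D b z)) b) = z := by
      rw [h, cob_cen_shift D hbb, LinearMap.neg_apply, tvec_neg_l D]
      abel
    conv_lhs => rw [← h1, gl_inv_mulVec]⟩

theorem cenSet_conj {b : Fin s → F} (hbb : f₂ b b = 0) {S : (Fin r → F) →ₗ[F] (Fin r → F)}
    (hS : S ∈ cenSet D b hbb) {A : GL (Fin r) F} (hA : A ∈ isoU f₁ ⊓ specialLinear (Fin r) F) :
    conj1 A S ∈ cenSet D b hbb := by
  obtain ⟨m, hm, h⟩ := hS
  obtain ⟨g, hg, hgT⟩ := left_elem D hA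
  have hcob : ∀ z, cob D b ((g : Matrix ι ι F) *ᵥ z) = (A : Matrix (Fin r) (Fin r) F) *ᵥ cob D b z := by
    intro z
    induction tvec_span (e := e) (P := P) z using Submodule.span_induction with
    | mem u hu => obtain ⟨x, y, rfl⟩ := hu; rw [hgT, cob_tvec, cob_tvec, mulVec_smul]
    | zero => rw [mulVec_zero, map_zero, mulVec_zero]
    | add a c _ _ e1 e2 => rw [mulVec_add, map_add, e1, e2, map_add, mulVec_add]
    | smul c a _ e1 => rw [mulVec_smul, map_smul, e1, map_smul, mulVec_smul]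
  refine ⟨g * m * g⁻¹, M.mul_mem (M.mul_mem hg hm) (M.inv_mem hg), fun z => ?_⟩
  obtain ⟨w, rfl⟩ : ∃ w, z = (g : Matrix ι ι F) *ᵥ w :=
    ⟨((g⁻¹ : GL ι F) : Matrix ι ι F) *ᵥ z, by rw [gl_mulVec_inv]⟩
  rw [gl_mul_mulVec, gl_mul_mulVec, gl_inv_mulVec, h, mulVec_add, hgT, hcob, conj1_apply, gl_inv_mulVec]

theorem cenSet_scale (hs : 3 ≤ s) {b : Fin s → F} (hb : b ≠ 0) (hbb : f₂ b b = 0)
    {S : (Fin r → F) →ₗ[F] (Fin r → F)} (hS : S ∈ cenSet D b hbb) {μ : F} (hμ : μ ≠ 0) :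
    (μ * σ μ) • S ∈ cenSet D b hbb := by
  obtain ⟨m, hm, h⟩ := hS
  obtain ⟨B, ⟨-, hB⟩, hBb⟩ := move_scalar D.u2 (hasTv_all D.u2) (isNondegenerateOn_top D.u2)
    (by rw [finrank_top, Module.finrank_fin_fun]; exact hs) (Submodule.mem_top (x := b)) hb hbb hμ
  obtain ⟨g, hg, hgT, -⟩ := right_elem D hB.1
  have hBy : ∀ y, σ μ * f₂ ((B : Matrix (Fin s) (Fin s) F) *ᵥ y) b = f₂ y b := fun y => by
    rw [← herm_smul_right D.u2, ← hBb, mem_isoU.1 hB.1.1]
  have hcob : ∀ z, σ μ • cob D b ((g : Matrix ι ι F) *ᵥ z) = cob D b z := by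
    intro z
    induction tvec_span (e := e) (P := P) z using Submodule.span_induction with
    | mem u hu => obtain ⟨x, y, rfl⟩ := hu; rw [hgT, cob_tvec, cob_tvec, smul_smul, hBy]
    | zero => rw [mulVec_zero, map_zero, smul_zero]
    | add a c _ _ e1 e2 => rw [mulVec_add, map_add, smul_add, e1, e2, map_add]
    | smul c a _ e1 => rw [mulVec_smul, map_smul, smul_comm, e1, map_smul]
  refine ⟨g * m * g⁻¹, M.mul_mem (M.mul_mem hg hm) (M.inv_mem hg), fun z => ?_⟩
  obtain ⟨w, rfl⟩ : ∃ w, z = (g : Matrix ι ι F) *ᵥ w :=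
    ⟨((g⁻¹ : GL ι F) : Matrix ι ι F) *ᵥ z, by rw [gl_mulVec_inv]⟩
  rw [gl_mul_mulVec, gl_mul_mulVec, gl_inv_mulVec, h, mulVec_add, hgT, hBb, tvec_smul_right, ← hcob w,
    map_smul, tvec_smul_left, LinearMap.smul_apply, tvec_smul_left, smul_smul]

section Gen

variable (hr : 2 ≤ r) (hs' : 4 ≤ s ∨ 3 ≤ s ∧ 4 < Fintype.card F)
variable (hex : 3 ≤ r ∨ ∃ t : F, σ t = t ∧ t ≠ 0 ∧ t ≠ 1) (hΩ : ¬ isoU f ⊓ specialLinear ι F ≤ M)
include hr hs' hex hΩ

/-- the maps `S` with `Cen b S` in `M` are scalar -/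
theorem cen_scalar' {b : Fin s → F} (hb : b ≠ 0) (hbb : f₂ b b = 0) {S : (Fin r → F) →ₗ[F] (Fin r → F)}
    {m : GL ι F} (hm : m ∈ M) (h : Cen D b S m) : ∃ c : F, ∀ x, S x = c • x := by
  have h1 := D.u1
  refine scalar_of_isotropic_eigen h1 (by rw [Fintype.card_fin]; exact hr) S fun a ha haa => ?_
  by_contra hnot
  have hS : S ∈ cenSet D b hbb := ⟨m, hm, h⟩
  obtain ⟨d, hd⟩ : ∃ d, d = S a := ⟨_, rfl⟩
  rw [← hd] at hnot
  obtain ⟨q, hq⟩ : ∃ q, q = f₁ d a := ⟨_, rfl⟩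
  have hsk := cen_skew D hb hbb hm h
  have hqσ : σ q = -q := by
    rw [hq, ← h1.herm, hd]
    linear_combination hsk a a
  have hadj : ∀ x, f₁ (S x) a = -f₁ x d := fun x => by
    rw [hd]; linear_combination hsk x a
  -- conjugation by transvections
  have hSδ : ∀ δ : F, σ δ = -δ →
      (-δ) • (rk h1 a d + rk h1 d a) + (-(δ * δ * q)) • rk h1 a a ∈ cenSet D b hbb := by
    intro δ hδ
    obtain ⟨A, hA, hAx⟩ := exists_tvS h1 haa hδ
    have hAi : ∀ x, ((A⁻¹ : GL (Fin r) F) : Matrix (Fin r) (Fin r) F) *ᵥ x = x + (-δ * f₁ x a) • a := fun x => by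
      have e1 : (A : Matrix (Fin r) (Fin r) F) *ᵥ (x + (-δ * f₁ x a) • a) = x := by
        rw [hAx, h1.add_left, h1.smul_left, haa, mul_zero, add_zero, neg_mul, neg_smul]
        abel
      conv_lhs => rw [← e1, gl_inv_mulVec]
    have e2 := (cenSet D b hbb).sub_mem (cenSet_conj D hbb hS hA) hS
    rw [show (-δ) • (rk h1 a d + rk h1 d a) + (-(δ * δ * q)) • rk h1 a a = conj1 A S - S from
      LinearMap.ext fun x => by
        simp only [LinearMap.add_apply, LinearMap.smul_apply, LinearMap.sub_apply, conj1_apply, rk_apply, hAi, hAx,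
          map_add, map_smul, h1.add_left, h1.smul_left, hadj, ← hd, ← hq]
        module]
    exact e2
  obtain ⟨δ, hδ0, hδσ⟩ := exists_trace_zero h1
  -- all multiples of the rank one map give centres
  refine hΩ (full_of_centre D hr hs' ha hb haa hbb ⟨by rw [D.pol, haa, zero_mul, mul_zero], fun c hc => ?_⟩)
  suffices hall : (c * k) • rk h1 a a ∈ cenSet D b hbb by
    obtain ⟨m', hm', h'⟩ := hall
    refine ⟨utv_orth D.form (by rw [D.pol, haa, zero_mul, mul_zero]) c, ?_⟩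
    rwa [show tv (tvec e P a b) (c • hv D.form (tvec e P a b))
        (utv_orth D.form (by rw [D.pol, haa, zero_mul, mul_zero]) c) = m' from gl_ext_vec fun z => by
      rw [tv_mulVec, h', smul_dotProduct, hv_dot, pair D, LinearMap.smul_apply, rk_apply, tvec_smul_left,
        tvec_smul_left, smul_smul, smul_eq_mul, mul_assoc]]
  have hck : σ (c * k) = -(c * k) := by rw [map_mul, hc, D.kfix, neg_mul]
  have hP : IsNondegenerateOn f₁ (⊤ : Submodule F (Fin r → F)) := isNondegenerateOn_top h1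
  rcases (show 3 ≤ r ∨ r = 2 by omega) with hr3 | hr2
  · -- conjugation by Heisenberg elements
    have hD : ∀ u τ, f₁ u a = 0 → τ + σ τ + f₁ u u = 0 →
        (-(δ * q)) • (rk h1 u a - rk h1 a u) + (-(δ * (τ * q - f₁ d u + σ (τ * q - f₁ d u)))) • rk h1 a a ∈
          cenSet D b hbb := by
      intro u τ hua hτ
      obtain ⟨E, hE, hEy⟩ := exists_heisS h1 haa hua hτ
      have hau : f₁ a u = 0 := herm_swap_zero h1 hua
      have hEa : (E : Matrix (Fin r) (Fin r) F) *ᵥ a = a := by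
        rw [hEy, haa, hau, mul_zero, zero_smul, sub_zero, zero_smul, add_zero, add_zero]
      have e2 := (cenSet D b hbb).sub_mem (cenSet_conj D hbb (hSδ δ hδσ) hE) (hSδ δ hδσ)
      rw [show (-(δ * q)) • (rk h1 u a - rk h1 a u) + (-(δ * (τ * q - f₁ d u + σ (τ * q - f₁ d u)))) • rk h1 a a =
          conj1 E ((-δ) • (rk h1 a d + rk h1 d a) + (-(δ * δ * q)) • rk h1 a a) -
            ((-δ) • (rk h1 a d + rk h1 d a) + (-(δ * δ * q)) • rk h1 a a) from
        LinearMap.ext fun x => by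
          simp only [LinearMap.add_apply, LinearMap.smul_apply, LinearMap.sub_apply, conj1_apply, rk_apply,
            mulVec_add, mulVec_smul, inv_adj h1 hE.1, hEa]
          rw [hEy d, ← hq]
          simp only [herm_add_right h1, herm_smul_right h1, hqσ, map_sub, map_mul, ← h1.herm]
          module]
      exact e2
    by_cases hq0 : q = 0
    · -- `d ⊥ a`
      obtain ⟨φ, hφd, hφa⟩ := exists_dual (Submodule.span F {a}) hnot
      obtain ⟨u₀, rfl⟩ := hv_surjective h1 φ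
      rw [hv_dot] at hφd
      have hu₀a : f₁ u₀ a = 0 := by
        have := hφa a (Submodule.mem_span_singleton_self a)
        rw [hv_dot] at this
        exact herm_swap_zero h1 this
      have hcδ : σ (c * k / δ) = c * k / δ := by rw [map_div₀, hck, hδσ, neg_div_neg_eq]
      obtain ⟨t, ht⟩ := exists_trace h1 hcδ
      obtain ⟨u, hu⟩ : ∃ u, u = σ t • u₀ := ⟨_, rfl⟩
      obtain ⟨τ, hτ⟩ := exists_trace h1 (d := -f₁ u u) (by rw [map_neg, ← h1.herm])
      have e2 := hD u τ (by rw [hu, h1.smul_left, hu₀a, mul_zero]) (by linear_combination hτ)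
      have hdu : f₁ d u = t := by rw [hu, herm_smul_right h1, hφd, h1.involutive, mul_one]
      rw [hq0, hdu, mul_zero, mul_zero, neg_zero, zero_smul, zero_add, zero_sub, map_neg] at e2
      rwa [show -(δ * (-t + -σ t)) = c * k by
        have h2 : (t + σ t) * δ = c * k := by rw [ht, div_mul_cancel₀ _ hδ0]
        linear_combination h2] at e2
    · obtain ⟨p, hpa, hpp⟩ := exists_aniso_perp h1 (by rw [Fintype.card_fin]; exact hr3) ha haa
      obtain ⟨ε, hε⟩ : ∃ ε, ε = f₁ p p := ⟨_, rfl⟩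
      rw [← hε] at hpp
      have hεσ : σ ε = ε := by rw [hε, ← h1.herm]
      have hden : δ * q * ε ≠ 0 := mul_ne_zero (mul_ne_zero hδ0 hq0) hpp
      obtain ⟨g, hg⟩ : ∃ g, g = c * k / (δ * q * ε) := ⟨_, rfl⟩
      have hgσ : σ g = -g := by
        rw [hg, map_div₀, hck, map_mul, map_mul, hδσ, hqσ, hεσ, neg_mul_neg, neg_div]
      obtain ⟨t, ht⟩ := exists_trace h1 (d := (1 : F)) (map_one σ)
      obtain ⟨μ, hμ⟩ : ∃ μ, μ = -(t * g) := ⟨_, rfl⟩
      have hμg : σ μ - μ = g := by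
        rw [hμ, map_neg, map_mul, hgσ]
        linear_combination g * ht
      obtain ⟨τ, hτ⟩ := exists_trace h1 (d := -f₁ p p) (by rw [map_neg, ← h1.herm])
      obtain ⟨τ', hτ'⟩ := exists_trace h1 (d := -f₁ (μ • p) (μ • p)) (by rw [map_neg, ← h1.herm])
      have e1 := hD p τ hpa (by linear_combination hτ)
      have e2 := hD (μ • p) τ' (by rw [h1.smul_left, hpa, mul_zero]) (by linear_combination hτ')
      have e3 := hD (p + μ • p) (τ + τ' + -f₁ p (μ • p)) (by rw [h1.add_left, h1.smul_left, hpa, mul_zero, add_zero])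
        (by
          rw [h1.add_left, herm_add_right h1, herm_add_right h1, map_add, map_add, map_neg, ← h1.herm]
          linear_combination hτ + hτ')
      have e4 := (cenSet D b hbb).sub_mem ((cenSet D b hbb).sub_mem e3 e1) e2
      have hval : δ * q * ε * (σ μ - μ) = c * k := by rw [hμg, hg, mul_div_cancel₀ _ hden]
      convert e4 using 1
      refine LinearMap.ext fun x => ?_
      simp only [LinearMap.add_apply, LinearMap.smul_apply, LinearMap.sub_apply, rk_apply, h1.add_left,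
          herm_add_right h1, herm_smul_right h1, ← hε, map_add, map_sub, map_mul, map_neg, hqσ, hεσ, h1.involutive,
          smul_add, add_smul, mul_add]
      rw [← hval]
      module
  · -- scaling
    obtain ⟨t, htσ, ht0, ht1⟩ := hex.resolve_left (by omega)
    have hq0 : q ≠ 0 := by
      intro h0
      refine hnot ?_
      obtain ⟨p, hpp, hap, hpa⟩ := exists_isotropic_partner h1 ha haa
      obtain ⟨w, hw⟩ : ∃ w, w = d - f₁ d p • a := ⟨_, rfl⟩
      have hwP : w ∈ perp h1 (Submodule.span F ({a, p} : Set (Fin r → F))) := by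
        intro v hv
        obtain ⟨u₁, u₂, rfl⟩ := Submodule.mem_span_pair.1 hv
        rw [hw, herm_add_right h1, herm_smul_right h1, herm_smul_right h1, herm_sub_left h1, herm_sub_left h1,
          h1.smul_left, h1.smul_left, haa, hap, ← hq, h0]
        ring
      have h2 := finrank_add_perp h1 (isNondegenerateOn_pair h1 haa hpp hap)
      rw [finrank_pair h1 haa hpp hap, Fintype.card_fin] at h2
      have h3 : perp h1 (Submodule.span F ({a, p} : Set (Fin r → F))) = ⊥ := Submodule.finrank_eq_zero.1 (by omega)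
      rw [h3, Submodule.mem_bot, hw, sub_eq_zero] at hwP
      exact Submodule.mem_span_singleton.2 ⟨_, hwP.symm⟩
    rcases eq_or_ne (c * k) 0 with hc0 | hc0
    · rw [hc0, zero_smul]; exact (cenSet D b hbb).zero_mem
    obtain ⟨μt, hμt⟩ := exists_norm h1 htσ
    have hμt0 : μt ≠ 0 := fun h0 => ht0 (by rw [← hμt, h0, zero_mul])
    have e1 := (cenSet D b hbb).sub_mem (hSδ (t * δ) (by rw [map_mul, htσ, hδσ, mul_neg]))
      (cenSet_scale D (by rcases hs' with h | h <;> omega) hb hbb (hSδ δ hδσ) hμt0)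
    rw [hμt] at e1
    have hden : -((t * t - t) * (δ * δ * q)) ≠ 0 :=
      neg_ne_zero.2 (mul_ne_zero (fun h0 => ht1 (mul_left_cancel₀ ht0 (by linear_combination h0)))
        (mul_ne_zero (mul_ne_zero hδ0 hδ0) hq0))
    obtain ⟨μ, hμ⟩ := exists_norm h1 (d := c * k / -((t * t - t) * (δ * δ * q))) (by
      rw [map_div₀, map_neg, hck, map_mul, map_mul, map_mul, map_sub, map_mul, htσ, hδσ, hqσ, neg_mul_neg, mul_neg,
        mul_neg, neg_div_neg_eq, div_neg])
    have hμ0 : μ ≠ 0 := fun h0 => div_ne_zero hc0 hden (by rw [← hμ, h0, zero_mul])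
    have e2 := cenSet_scale D (by rcases hs' with h | h <;> omega) hb hbb e1 hμ0
    convert e2 using 1
    refine LinearMap.ext fun x => ?_
    simp only [LinearMap.add_apply, LinearMap.smul_apply, LinearMap.sub_apply]
    rw [← div_mul_cancel₀ (c * k) hden, ← hμ]
    module

/-- such elements lie in the tensor product subgroup -/
theorem cen_tensor' {b : Fin s → F} (hb : b ≠ 0) (hbb : f₂ b b = 0) {S : (Fin r → F) →ₗ[F] (Fin r → F)}
    {m : GL ι F} (hm : m ∈ M) (h : Cen D b S m) : m ∈ tensorProductSubgroup r s e P := by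
  obtain ⟨c, hc⟩ := cen_scalar' D hr hs' hex hΩ hb hbb hm h
  have h0 : (c • hv D.u2 b) ⬝ᵥ b = 0 := utv_orth D.u2 hbb c
  rw [show m = rootGL e P b (c • hv D.u2 b) h0 from gl_ext_vec fun z => by
    rw [h, hc, root_mulVec, co_smul]; rfl]
  exact kg_mem _ _

/-- an element which is trivial on `U ⊗ b` and on the quotient `b⊥ / b` -/
theorem middle_scalar' {b : Fin s → F} (hb : b ≠ 0) (hbb : f₂ b b = 0) {m : GL ι F} (hm : m ∈ M)
    (hfix : ∀ x, (m : Matrix ι ι F) *ᵥ tvec e P x b = tvec e P x b)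
    (hrad : ∀ x y, f₂ y b = 0 → ∃ u, (m : Matrix ι ι F) *ᵥ tvec e P x y = tvec e P x y + tvec e P u b)
    {w : Fin s → F} (hw : f₂ w b = 0) :
    ∃ c : F, ∀ x, (m : Matrix ι ι F) *ᵥ tvec e P x w = tvec e P x w + tvec e P (c • x) b := by
  obtain ⟨y₁, hy₁b, hby₁⟩ := exists_left_one D.u2 hb
  let Φ : (ι → F) →ₗ[F] (ι → F) := Matrix.mulVecLin (m : Matrix ι ι F) - LinearMap.id
  have hΦ : ∀ z, Φ z = (m : Matrix ι ι F) *ᵥ z - z := fun z => rfl
  have hmΦ : ∀ z, (m : Matrix ι ι F) *ᵥ z = z + Φ z := fun z => by rw [hΦ]; abel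
  let X : (Fin s → F) → (Fin r → F) →ₗ[F] (Fin r → F) := fun y => (cob D y₁).comp (Φ.comp (tlm e P y))
  have hXa : ∀ y x, X y x = cob D y₁ (Φ (tvec e P x y)) := fun y x => rfl
  have hX : ∀ y, f₂ y b = 0 → ∀ x, Φ (tvec e P x y) = tvec e P (X y x) b := by
    intro y hy x
    obtain ⟨u, hu⟩ := hrad x y hy
    have h1 : Φ (tvec e P x y) = tvec e P u b := by rw [hΦ, hu, add_sub_cancel_left]
    rw [hXa, h1, cob_tvec, hby₁, one_smul]
  have hcobΦ : ∀ z, cob D b (Φ z) = 0 := fun z => by rw [hΦ, map_sub, cob_of_fix D hm hfix, sub_self]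
  have hpair : ∀ y, f₂ y b = 0 → ∀ z x, f₁ (cob D y (Φ z)) x = -f₁ (cob D b z) (X y x) := by
    intro y hy z x
    have h1 := mem_isoU.1 (D.le hm) z (tvec e P x y)
    rw [hmΦ z, hmΦ (tvec e P x y), hX y hy, D.form.add_left, herm_add_right D.form, herm_add_right D.form,
      pair D z, pair D (Φ z), pair D z, pair D (Φ z), hcobΦ, herm_zero_left D.u1, mul_zero, add_zero] at h1
    exact mul_left_cancel₀ D.kne (by linear_combination h1)
  -- commutators with Heisenberg elements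
  have key : ∀ y, f₂ y b = 0 → ∃ c : F, ∀ x x', f₁ x (X y x') - f₁ (X y x) x' = c * f₁ x x' := by
    intro y hy
    obtain ⟨τ, hτ⟩ := exists_trace D.u2 (d := -f₂ y y) (by rw [map_neg, ← D.u2.herm])
    obtain ⟨B, hB, -, hBz⟩ := exists_hB D hbb hy (τ := τ) (by linear_combination hτ)
    let S : (Fin r → F) →ₗ[F] (Fin r → F) := -((cob D y).comp (Φ.comp (tlm e P y₁))) - X y
    have hSf : ∀ x x', f₁ (S x) x' = f₁ x (X y x') - f₁ (X y x) x' := fun x x' => by
      show f₁ (-(cob D y (Φ (tvec e P x y₁))) - X y x) x' = _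
      rw [herm_sub_left D.u1, herm_neg_left D.u1, hpair y hy, cob_tvec, hy₁b, one_smul, neg_neg]
    have hC : Cen D b S (B * m * B⁻¹ * m⁻¹) := by
      intro z
      obtain ⟨w₀, rfl⟩ : ∃ w₀, z = (m : Matrix ι ι F) *ᵥ ((B : Matrix ι ι F) *ᵥ w₀) :=
        ⟨((B⁻¹ : GL ι F) : Matrix ι ι F) *ᵥ (((m⁻¹ : GL ι F) : Matrix ι ι F) *ᵥ z),
          by rw [gl_mulVec_inv, gl_mulVec_inv]⟩
      rw [gl_mul_mulVec, gl_mul_mulVec, gl_mul_mulVec, gl_inv_mulVec, gl_inv_mulVec]
      obtain ⟨c₀, hc₀⟩ : ∃ c₀, c₀ = cob D b w₀ := ⟨_, rfl⟩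
      have hBc : cob D b ((B : Matrix ι ι F) *ᵥ w₀) = c₀ := by
        rw [hBz, map_add, map_add, cob_tvec, cob_tvec, hy, hbb, zero_smul, zero_smul, add_zero, add_zero, hc₀]
      have e1 : (B : Matrix ι ι F) *ᵥ Φ w₀ = Φ w₀ + tvec e P (-(cob D y (Φ w₀))) b := by
        rw [hBz, hcobΦ, smul_zero, zero_sub, tvec_zero_left, add_zero]
      have e2 : Φ ((B : Matrix ι ι F) *ᵥ w₀) = Φ w₀ + tvec e P (X y c₀) b := by
        rw [hBz, map_add, map_add, hX y hy, ← hc₀]
        rw [show Φ (tvec e P (τ • c₀ - cob D y w₀) b) = 0 by rw [hΦ, hfix, sub_self], add_zero]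
      have e3 : cob D y (Φ w₀) = cob D y (Φ (tvec e P c₀ y₁)) := eq_of_left D.u1 fun x => by
        rw [hpair y hy, hpair y hy, cob_tvec, hy₁b, one_smul, hc₀]
      rw [cob_of_fix D hm hfix, hBc, hmΦ w₀, mulVec_add, e1, hmΦ ((B : Matrix ι ι F) *ᵥ w₀), e2, e3]
      show _ = _ + tvec e P (-(cob D y (Φ (tvec e P c₀ y₁))) - X y c₀) b
      rw [tvec_sub_l D]
      abel
    obtain ⟨c, hc⟩ := cen_scalar' D hr hs' hex hΩ hb hbb
      (M.mul_mem (M.mul_mem (M.mul_mem hB hm) (M.inv_mem hB)) (M.inv_mem hm)) hC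
    exact ⟨c, fun x x' => by rw [← hSf, hc, D.u1.smul_left]⟩
  obtain ⟨ν, hν⟩ := exists_not_fixed D.u1
  obtain ⟨c₁, hc₁⟩ := key w hw
  obtain ⟨c₂, hc₂⟩ := key (ν • w) (by rw [D.u2.smul_left, hw, mul_zero])
  have hne : σ ν - ν ≠ 0 := sub_ne_zero.2 hν
  refine ⟨(c₂ - σ ν * c₁) / (σ ν - ν), fun x => ?_⟩
  rw [hmΦ, hX w hw]
  congr 2
  refine eq_of_left D.u1 fun x' => ?_
  have h1 := hc₁ x x'
  have h2 := hc₂ x x'
  rw [hXa (ν • w) x', hXa (ν • w) x, tvec_smul_right, tvec_smul_right, map_smul, map_smul, map_smul, map_smul,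
    ← hXa, ← hXa, herm_smul_right D.u1, D.u1.smul_left] at h2
  rw [D.u1.smul_left, div_mul_eq_mul_div, eq_div_iff hne]
  linear_combination h2 - σ ν * h1

end Gen

variable (hr : 2 ≤ r) (hs : 4 ≤ s) (hex : 3 ≤ r ∨ ∃ t : F, σ t = t ∧ t ≠ 0 ∧ t ≠ 1)
variable (hΩ : ¬ isoU f ⊓ specialLinear ι F ≤ M)
include hr hs hex hΩ

/-- a conjugate of a root fixing some `U ⊗ b` pointwise lies in the tensor product subgroup -/
theorem fix_tensor {T : GL ι F} (hT : T ∈ M) {N : (ι → F) →ₗ[F] (ι → F)}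
    (hTN : ∀ z, (T : Matrix ι ι F) *ᵥ z = z + N z) (hN2 : ∀ z, N (N z) = 0) (hNiso : ∀ z z', f (N z) (N z') = 0)
    {L : (Fin r → F) →ₗ[F] (ι → F)} (hL : ∀ z, ∃ v, N z = L v)
    {b : Fin s → F} (hb : b ≠ 0) (hbb : f₂ b b = 0)
    (hfix : ∀ x, (T : Matrix ι ι F) *ᵥ tvec e P x b = tvec e P x b) : T ∈ tensorProductSubgroup r s e P := by
  have h1 := D.u1
  have h2 := D.u2
  obtain ⟨y₁, hy₁b, hby₁⟩ := exists_left_one h2 hb
  have hNb : ∀ x, N (tvec e P x b) = 0 := fun x => by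
    have := hTN (tvec e P x b)
    rwa [hfix, left_eq_add] at this
  have hskew : ∀ z z', f (N z) z' + f z (N z') = 0 := fun z z' => by
    have e1 := mem_isoU.1 (D.le hT) z z'
    rw [hTN, hTN, D.form.add_left, herm_add_right D.form, herm_add_right D.form, hNiso] at e1
    linear_combination e1
  have hcobN : ∀ z, cob D b (N z) = 0 := fun z => by
    have := cob_of_fix D hT hfix z
    rwa [hTN, map_add, add_eq_left] at this
  have hTi : ∀ z, ((T⁻¹ : GL ι F) : Matrix ι ι F) *ᵥ z = z - N z := fun z => by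
    have e1 : (T : Matrix ι ι F) *ᵥ (z - N z) = z := by
      rw [hTN, map_sub, hN2, sub_zero, sub_add_cancel]
    conv_lhs => rw [← e1, gl_inv_mulVec]
  -- the action on the middle
  have hθ : ∀ w y, f₂ w b = 0 → f₂ y b = 0 → ∃ c : F, ∀ x, cob D w (N (tvec e P x y)) = c • x := by
    intro w y hw hy
    obtain ⟨τ, hτ⟩ := exists_trace h2 (d := -f₂ w w) (by rw [map_neg, ← h2.herm])
    obtain ⟨B, hB, -, hBz⟩ := exists_hB D hbb hw (τ := τ) (by linear_combination hτ)
    have hBb : ∀ u, (B : Matrix ι ι F) *ᵥ tvec e P u b = tvec e P u b := fun u => by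
      rw [hBz, cob_tvec, cob_tvec, hbb, herm_swap_zero h2 hw, zero_smul, smul_zero, sub_zero,
        tvec_zero_left, tvec_zero_left, add_zero, add_zero]
    have hBbi : ∀ u, ((B⁻¹ : GL ι F) : Matrix ι ι F) *ᵥ tvec e P u b = tvec e P u b := fun u => by
      conv_lhs => rw [← hBb u, gl_inv_mulVec]
    have hfix' : ∀ x, ((T * B * T⁻¹ * B⁻¹ : GL ι F) : Matrix ι ι F) *ᵥ tvec e P x b = tvec e P x b := fun x => by
      rw [gl_mul_mulVec, gl_mul_mulVec, gl_mul_mulVec, hBbi, hTi, hNb, sub_zero, hBb, hfix]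
    have hcomm : ∀ x y', f₂ y' b = 0 → ((T * B * T⁻¹ * B⁻¹ : GL ι F) : Matrix ι ι F) *ᵥ tvec e P x y' =
        tvec e P x y' + tvec e P (cob D w (N (tvec e P x y'))) b := by
      intro x y' hy'
      have e1 : ((B⁻¹ : GL ι F) : Matrix ι ι F) *ᵥ tvec e P x y' = tvec e P x y' + tvec e P (f₂ y' w • x) b := by
        have e2 : (B : Matrix ι ι F) *ᵥ (tvec e P x y' + tvec e P (f₂ y' w • x) b) = tvec e P x y' := by
          rw [mulVec_add, hBb, hBz, cob_tvec, cob_tvec, hy', zero_smul, smul_zero, zero_sub, tvec_zero_left,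
            add_zero, tvec_neg_l D, neg_add_cancel_right]
        conv_lhs => rw [← e2, gl_inv_mulVec]
      rw [gl_mul_mulVec, gl_mul_mulVec, gl_mul_mulVec, e1, hTi, map_add, hNb, add_zero, mulVec_sub, mulVec_add, hBb,
        hBz (tvec e P x y'), hBz (N _), hcobN, cob_tvec, cob_tvec, hy', zero_smul, smul_zero, zero_sub, zero_sub,
        tvec_zero_left, add_zero, add_zero, tvec_neg_l D, tvec_neg_l D]
      simp only [hTN, map_add, map_sub, map_neg, hN2, hNb]
      abel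
    obtain ⟨c, hc⟩ := middle_scalar' D hr (Or.inl hs) hex hΩ hb hbb
      (M.mul_mem (M.mul_mem (M.mul_mem hT hB) (M.inv_mem hT)) (M.inv_mem hB)) hfix'
      (fun x y' hy' => ⟨_, hcomm x y' hy'⟩) hy
    refine ⟨c, fun x => tvec_left_inj (e := e) (P := P) hb ?_⟩
    exact add_left_cancel ((hcomm x y hy).symm.trans (hc x))
  obtain ⟨x₀, hx₀⟩ : ∃ x₀ : Fin r → F, x₀ ≠ 0 := ⟨Pi.single ⟨0, by omega⟩ 1, by simp⟩
  obtain ⟨γ, hγ⟩ := exists_dot_one hx₀
  have hν : ∀ y, f₂ y b = 0 → f₂ (rc e P γ (N (tvec e P x₀ y))) b = 0 ∧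
      ∀ x, ∃ u, N (tvec e P x y) = tvec e P x (rc e P γ (N (tvec e P x₀ y))) + tvec e P u b := by
    intro y hy
    obtain ⟨v, hv'⟩ : ∃ v, v = rc e P γ (N (tvec e P x₀ y)) := ⟨_, rfl⟩
    rw [← hv']
    have hco : ∀ w, f₂ v w = γ ⬝ᵥ cob D w (N (tvec e P x₀ y)) := fun w => by
      rw [← hv_dot h2, hv', co_rc]; rfl
    have hvb : f₂ v b = 0 := by rw [hco, hcobN, dotProduct_zero]
    refine ⟨hvb, fun x => ⟨cob D y₁ (N (tvec e P x y) - tvec e P x v), ?_⟩⟩
    have e1 := pure_b D hby₁ (z := N (tvec e P x y) - tvec e P x v) fun w hw => by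
      obtain ⟨c, hc⟩ := hθ w y hw hy
      rw [map_sub, hc, cob_tvec, hco, hc, dotProduct_smul, hγ, smul_eq_mul, mul_one, sub_self]
    rw [← e1]
    abel
  -- the image is a graph
  have himage : ∀ (G : (Fin r → F) →ₗ[F] (ι → F)), Function.Injective G → (∀ x, ∃ z, G x = N z) →
      ∀ z, ∃ x, N z = G x := by
    intro G hG hGN z
    have hle : LinearMap.range G ≤ LinearMap.range L := by
      rintro _ ⟨x, rfl⟩
      obtain ⟨z', hz'⟩ := hGN x
      obtain ⟨v, hv'⟩ := hL z'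
      exact ⟨v, by rw [hz', hv']⟩
    have heq := Submodule.eq_of_le_of_finrank_le hle
      ((LinearMap.finrank_range_le L).trans (LinearMap.finrank_range_of_inj hG).ge)
    obtain ⟨v, hv'⟩ := hL z
    obtain ⟨x, hx⟩ : N z ∈ LinearMap.range G := by rw [heq]; exact ⟨v, hv'.symm⟩
    exact ⟨x, hx.symm⟩
  -- an element with image in a pure subspace
  have hfinish : ∀ y', y' ≠ 0 → f₂ y' y' = 0 → (∀ z, ∃ u, N z = tvec e P u y') →
      T ∈ tensorProductSubgroup r s e P := by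
    intro y' hy'0 hy' himg
    obtain ⟨y₃, hy₃, hy₃'⟩ := exists_left_one h2 hy'0
    have hker : ∀ z, cob D y' z = 0 → N z = 0 := fun z hz => eq_of_left D.form fun z' => by
      obtain ⟨u, hu⟩ := himg z'
      have := hskew z z'
      rw [hu, pair D, hz, herm_zero_left h1, mul_zero, add_zero] at this
      rw [this, herm_zero_left D.form]
    refine cen_tensor' D hr (Or.inl hs) hex hΩ hy'0 hy' (S := (cob D y₃).comp (N.comp (tlm e P y₃))) hT fun z => ?_
    rw [hTN]
    congr 1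
    show N z = tvec e P (cob D y₃ (N (tvec e P (cob D y' z) y₃))) y'
    have e1 := hker (z - tvec e P (cob D y' z) y₃) (by rw [map_sub, cob_tvec, hy₃, one_smul, sub_self])
    rw [map_sub, sub_eq_zero] at e1
    rw [← e1]
    obtain ⟨u, hu⟩ := himg z
    rw [hu, cob_tvec, hy₃', one_smul]
  by_cases hA : ∀ y, f₂ y b = 0 → rc e P γ (N (tvec e P x₀ y)) ∈ Submodule.span F {b}
  · -- radical elements
    have hrad : ∀ x y, f₂ y b = 0 → ∃ u, (T : Matrix ι ι F) *ᵥ tvec e P x y = tvec e P x y + tvec e P u b := by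
      intro x y hy
      obtain ⟨a, ha⟩ := Submodule.mem_span_singleton.1 (hA y hy)
      obtain ⟨u, hu⟩ := (hν y hy).2 x
      refine ⟨a • x + u, ?_⟩
      rw [hTN, hu, ← ha, tvec_smul_right, tvec_add_left, tvec_smul_left]
    have hc : ∀ y, f₂ y b = 0 → ∀ x, N (tvec e P x y) = 0 := by
      intro y hy
      obtain ⟨c, hc⟩ := middle_scalar' D hr (Or.inl hs) hex hΩ hb hbb hT hfix hrad hy
      have hNy : ∀ x, N (tvec e P x y) = tvec e P (c • x) b := fun x =>
        add_left_cancel ((hTN (tvec e P x y)).symm.trans (hc x))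
      rcases eq_or_ne c 0 with hc0 | hc0
      · intro x; rw [hNy, hc0, zero_smul, tvec_zero_left]
      intro x
      refine eq_of_left D.form fun z' => ?_
      obtain ⟨u, hu⟩ := himage (c • tlm e P b)
        (fun x x' hxx => tvec_left_inj hb (smul_right_injective _ hc0 hxx))
        (fun x' => ⟨tvec e P x' y, by rw [hNy, LinearMap.smul_apply, tlm_apply, tvec_smul_left]⟩) z'
      have := hskew (tvec e P x y) z'
      rw [hu, LinearMap.smul_apply, tlm_apply, herm_smul_right D.form, D.pol, hy, mul_zero, mul_zero, mul_zero,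
        add_zero] at this
      rw [this, herm_zero_left D.form]
    refine hfinish b hb hbb fun z => ⟨_, pure_b D hby₁ fun w hw => eq_of_left h1 fun x => mul_left_cancel₀ D.kne ?_⟩
    have := hskew z (tvec e P x w)
    rw [hc w hw x, herm_zero_right D.form, add_zero, pair D] at this
    rw [this, herm_zero_left h1, mul_zero]
  · push Not at hA
    obtain ⟨y, hy, hy₀b⟩ := hA
    obtain ⟨y₀, hy₀⟩ : ∃ y₀, y₀ = rc e P γ (N (tvec e P x₀ y)) := ⟨_, rfl⟩
    obtain ⟨hy₀p, hNy⟩ := hν y hy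
    rw [← hy₀] at hy₀b hy₀p hNy
    let S : (Fin r → F) →ₗ[F] (Fin r → F) := (cob D y₁).comp (N.comp (tlm e P y) - tlm e P y₀)
    have hS : ∀ x, N (tvec e P x y) = tvec e P x y₀ + tvec e P (S x) b := fun x => by
      obtain ⟨u, hu⟩ := hNy x
      show _ = _ + tvec e P (cob D y₁ (N (tvec e P x y) - tvec e P x y₀)) b
      rw [hu, add_sub_cancel_left, cob_tvec, hby₁, one_smul]
    have hNy₀ : ∀ x, N (tvec e P x y₀) = 0 := fun x => by
      have := congrArg N (hS x)
      rwa [hN2, map_add, hNb, add_zero, eq_comm] at this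
    -- commutators with the first factor
    have hAS : ∀ A ∈ isoU f₁ ⊓ specialLinear (Fin r) F, ∃ c : F, ∀ x,
        conj1 A S x - S x = c • x := by
      intro A hA'
      obtain ⟨g, hg, hgT⟩ := left_elem D hA'
      have hgi : ∀ x y', ((g⁻¹ : GL ι F) : Matrix ι ι F) *ᵥ tvec e P x y' =
          tvec e P (((A⁻¹ : GL (Fin r) F) : Matrix (Fin r) (Fin r) F) *ᵥ x) y' := fun x y' => by
        conv_lhs => rw [← gl_mulVec_inv A x, ← hgT, gl_inv_mulVec]
      have hfix' : ∀ x, ((T⁻¹ * (g * T * g⁻¹) : GL ι F) : Matrix ι ι F) *ᵥ tvec e P x b = tvec e P x b := fun x => by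
        rw [gl_mul_mulVec, gl_mul_mulVec, gl_mul_mulVec, hgi, hfix, hgT, gl_mulVec_inv, hTi, hNb, sub_zero]
      have hform : ∀ x y', f₂ y' b = 0 → ∀ S' : (Fin r → F) →ₗ[F] (Fin r → F), ∀ v,
          (∀ x', N (tvec e P x' y') = tvec e P x' v + tvec e P (S' x') b) → (∀ x', N (tvec e P x' v) = 0) →
          ((T⁻¹ * (g * T * g⁻¹) : GL ι F) : Matrix ι ι F) *ᵥ tvec e P x y' =
            tvec e P x y' + tvec e P (conj1 A S' x - S' x) b := by
        intro x y' hy' S' v hS' hv'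
        rw [gl_mul_mulVec, gl_mul_mulVec, gl_mul_mulVec, hgi, hTN, hS']
        simp only [mulVec_add, hgT, gl_mulVec_inv, hTi, map_add, hv', hNb, hS', add_zero, conj1_apply, tvec_sub_l D]
        abel
      obtain ⟨c, hc⟩ := middle_scalar' D hr (Or.inl hs) hex hΩ hb hbb
        (M.mul_mem (M.inv_mem hT) (M.mul_mem (M.mul_mem hg hT) (M.inv_mem hg))) hfix' (fun x y' hy' => by
          obtain ⟨-, hN'⟩ := hν y' hy'
          obtain ⟨v, hv'⟩ : ∃ v, v = rc e P γ (N (tvec e P x₀ y')) := ⟨_, rfl⟩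
          rw [← hv'] at hN'
          refine ⟨_, hform x y' hy' ((cob D y₁).comp (N.comp (tlm e P y') - tlm e P v)) v (fun x' => ?_) fun x' => ?_⟩
          · obtain ⟨u, hu⟩ := hN' x'
            show _ = _ + tvec e P (cob D y₁ (N (tvec e P x' y') - tvec e P x' v)) b
            rw [hu, add_sub_cancel_left, cob_tvec, hby₁, one_smul]
          · obtain ⟨u, hu⟩ := hN' x'
            have := congrArg N hu
            rwa [hN2, map_add, hNb, add_zero, eq_comm] at this) hy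
      refine ⟨c, fun x => tvec_left_inj (e := e) (P := P) hb ?_⟩
      exact add_left_cancel ((hform x y hy S y₀ hS hNy₀).symm.trans (hc x))
    obtain ⟨c₀, hc₀⟩ : ∃ c₀ : F, ∀ x, S x = c₀ • x := by
      refine scalar_of_isotropic_eigen h1 (by rw [Fintype.card_fin]; exact hr) S fun a ha haa => ?_
      obtain ⟨δ, hδ0, hδσ⟩ := exists_trace_zero h1
      obtain ⟨q, hq⟩ : ∃ q, q = f₁ (S a) a := ⟨_, rfl⟩
      have heq : ∀ l : F, σ l = -l → l ≠ 0 → ∀ x,
          f₁ (S x) a • a - f₁ x a • S a = q • x + (l * q * f₁ x a) • a := by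
        intro l hl hl0 x
        obtain ⟨A, hA', hAx⟩ := exists_tvS h1 haa hl
        obtain ⟨c, hc⟩ := hAS A hA'
        have hA1 : ∀ x, (l * f₁ (S x) a) • a - (l * f₁ x a) • S a = c • x + (c * (l * f₁ x a)) • a := fun x => by
          have e1 := hc ((A : Matrix (Fin r) (Fin r) F) *ᵥ x)
          rw [conj1_apply, gl_inv_mulVec, hAx, hAx, map_add, map_smul, smul_add, smul_smul] at e1
          rw [← e1]
          abel
        have e2 : c = l * q := by
          have e1 := hA1 a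
          rw [haa, mul_zero, mul_zero, zero_smul, zero_smul, sub_zero, add_zero, ← hq] at e1
          exact (smul_left_injective F ha e1).symm
        have e3 := hA1 x
        rw [e2, ← smul_smul, ← smul_smul l (f₁ x a), ← smul_sub, ← smul_smul l q] at e3
        rw [show (l * q * (l * f₁ x a)) • a = l • (l * q * f₁ x a) • a by rw [smul_smul]; ring_nf, ← smul_add] at e3
        exact smul_right_injective _ hl0 e3
      obtain ⟨p, hpp, hap, hpa⟩ := exists_isotropic_partner h1 ha haa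
      have hq0 : q = 0 := by
        rcases hex with hr3 | ⟨t, htσ, ht0, ht1⟩
        · obtain ⟨p', hp'a, hp'p'⟩ := exists_aniso_perp h1 (by rw [Fintype.card_fin]; exact hr3) ha haa
          have e1 := congrArg (fun v => f₁ v p') (heq δ hδσ hδ0 p')
          simp only [hp'a, zero_smul, sub_zero, mul_zero, add_zero, h1.smul_left, herm_swap_zero h1 hp'a] at e1
          exact (mul_eq_zero.1 e1.symm).resolve_right hp'p'
        · have e1 := (heq δ hδσ hδ0 p).symm.trans (heq (t * δ) (by rw [map_mul, htσ, hδσ, mul_neg])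
            (mul_ne_zero ht0 hδ0) p)
          rw [add_right_inj, hpa, mul_one, mul_one] at e1
          have e2 := smul_left_injective F ha e1
          by_contra hq0
          exact ht1 (mul_right_cancel₀ (mul_ne_zero hδ0 hq0) (by linear_combination -e2))
      have e1 := heq δ hδσ hδ0 p
      rw [hq0, hpa, one_smul, zero_smul, mul_zero, zero_mul, zero_smul, add_zero, sub_eq_zero] at e1
      exact Submodule.mem_span_singleton.2 ⟨_, e1⟩
    obtain ⟨y', hy'⟩ : ∃ y', y' = y₀ + c₀ • b := ⟨_, rfl⟩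
    have hy'0 : y' ≠ 0 := fun h0 => hy₀b (Submodule.mem_span_singleton.2
      ⟨-c₀, by rw [hy'] at h0; rw [eq_neg_of_add_eq_zero_left h0, neg_smul]⟩)
    have hNy' : ∀ x, N (tvec e P x y) = tvec e P x y' := fun x => by
      rw [hS, hy', hc₀, tvec_add_right, tvec_smul_right, tvec_smul_left]
    refine hfinish y' hy'0 ?_ (himage (tlm e P y') (fun x x' hxx => tvec_left_inj hy'0 hxx)
      fun x => ⟨_, (hNy' x).symm⟩)
    obtain ⟨x, hx, hxx⟩ := exists_anisotropic h1 (isNondegenerateOn_top h1) (fun h0 => by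
      have := congrArg (fun W : Submodule F (Fin r → F) => Module.finrank F W) h0
      simp at this
      omega)
    have e1 := hNiso (tvec e P x y) (tvec e P x y)
    rw [hNy', D.pol] at e1
    exact (mul_eq_zero.1 ((mul_eq_zero.1 e1).resolve_left D.kne)).resolve_left hxx

/-- conjugates of roots fixing some `U ⊗ b` pointwise lie in the tensor product subgroup -/
theorem conj_root_fix {g : GL ι F} (hg : g ∈ M) {b₀ : Fin s → F} (hbb₀ : f₂ b₀ b₀ = 0) {c : F}
    {h : (c • hv D.u2 b₀) ⬝ᵥ b₀ = 0} (hmem : rootGL e P b₀ (c • hv D.u2 b₀) h ∈ M)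
    {b : Fin s → F} (hb : b ≠ 0) (hbb : f₂ b b = 0)
    (hfix : ∀ x, ((g * rootGL e P b₀ (c • hv D.u2 b₀) h * g⁻¹ : GL ι F) : Matrix ι ι F) *ᵥ tvec e P x b =
      tvec e P x b) :
    g * rootGL e P b₀ (c • hv D.u2 b₀) h * g⁻¹ ∈ tensorProductSubgroup r s e P := by
  refine fix_tensor D hr hs hex hΩ (M.mul_mem (M.mul_mem hg hmem) (M.inv_mem hg))
    (N := ((Matrix.mulVecLin (g : Matrix ι ι F)).comp ((tlm e P b₀).comp
      ((co e P (c • hv D.u2 b₀)).comp (Matrix.mulVecLin ((g⁻¹ : GL ι F) : Matrix ι ι F))))))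
    (fun z => conj_root_mulVec g b₀ _ h z) (fun z => ?_) (fun z z' => ?_)
    (L := (Matrix.mulVecLin (g : Matrix ι ι F)).comp (tlm e P b₀)) (fun z => ⟨_, rfl⟩) hb hbb hfix
  · show (g : Matrix ι ι F) *ᵥ tvec e P (co e P _ (((g⁻¹ : GL ι F) : Matrix ι ι F) *ᵥ
      ((g : Matrix ι ι F) *ᵥ tvec e P _ b₀))) b₀ = 0
    rw [gl_inv_mulVec, co_tvec, h, zero_smul, tvec_zero_left, mulVec_zero]
  · show f ((g : Matrix ι ι F) *ᵥ tvec e P _ b₀) ((g : Matrix ι ι F) *ᵥ tvec e P _ b₀) = 0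
    rw [mem_isoU.1 (D.le hg), D.pol, hbb₀, mul_zero, mul_zero]

/-- elements mapping one isotropic `U ⊗ b` to a pure subspace lie in the tensor product subgroup -/
theorem rigid (hrs : r < s) {b : Fin s → F} (hb : b ≠ 0) (hbb : f₂ b b = 0) : PureRigid e P M b := by
  intro g hg b'' hb'' hpure
  have h1 := D.u1
  have h2 := D.u2
  have hr0 : 0 < r := by omega
  obtain ⟨x₀, hx₀⟩ : ∃ x₀ : Fin r → F, x₀ ≠ 0 := ⟨Pi.single ⟨0, by omega⟩ 1, by simp⟩
  let Pure : (Fin s → F) → Prop := fun y => ∃ y' : Fin s → F, y' ≠ 0 ∧ f₂ y' y' = 0 ∧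
    ∃ C : (Fin r → F) →ₗ[F] (Fin r → F), Function.Injective C ∧
      ∀ x, (g : Matrix ι ι F) *ᵥ tvec e P x y = tvec e P (C x) y'
  have mk : ∀ y y' : Fin s → F, y ≠ 0 → f₂ y y = 0 → y' ≠ 0 →
      (∀ x, ∃ x', (g : Matrix ι ι F) *ᵥ tvec e P x y = tvec e P x' y') → Pure y := by
    intro y y' hy hyy hy' hx
    obtain ⟨p, hp, hp'⟩ := exists_left_one h2 hy'
    let C : (Fin r → F) →ₗ[F] (Fin r → F) :=
      (cob D p).comp ((Matrix.mulVecLin (g : Matrix ι ι F)).comp (tlm e P y))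
    have hC : ∀ x, (g : Matrix ι ι F) *ᵥ tvec e P x y = tvec e P (C x) y' := fun x => by
      obtain ⟨x', hx'⟩ := hx x
      show _ = tvec e P (cob D p ((g : Matrix ι ι F) *ᵥ tvec e P x y)) y'
      rw [hx', cob_tvec, hp', one_smul]
    have hCi : Function.Injective C := (injective_iff_map_eq_zero C).2 fun x hx0 => by
      have e1 := hC x
      rw [hx0, tvec_zero_left, gl_mulVec_eq_zero] at e1
      exact tvec_left_inj hy (e1.trans (tvec_zero_left y).symm)
    refine ⟨y', hy', ?_, C, hCi, hC⟩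
    obtain ⟨x, hxx⟩ : ∃ x, f₁ x x ≠ 0 := by
      obtain ⟨x, -, hxx⟩ := exists_anisotropic h1 (isNondegenerateOn_top h1) (fun h0 => hx₀ (by
        have := Submodule.mem_top (R := F) (x := x₀)
        rw [h0] at this
        exact (Submodule.mem_bot F).1 this))
      exact ⟨x, hxx⟩
    obtain ⟨x', rfl⟩ := LinearMap.surjective_of_injective hCi x
    have e1 := mem_isoU.1 (D.le hg) (tvec e P x' y) (tvec e P x' y)
    rw [hC, D.pol, D.pol, hyy, mul_zero, mul_zero] at e1
    exact (mul_eq_zero.1 ((mul_eq_zero.1 e1).resolve_left D.kne)).resolve_left hxx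
  -- propagation to orthogonal isotropic vectors
  have hstep : ∀ y z, Pure y → f₂ y y = 0 → z ≠ 0 → f₂ z z = 0 → f₂ y z = 0 → Pure z := by
    intro y z hy hyy hz hzz hyz
    obtain ⟨y', hy', hy'y', C, hCi, hC⟩ := hy
    obtain ⟨c, hc0, hcσ⟩ := exists_trace_zero h2
    obtain ⟨h0, hmem, hroot⟩ := exists_root D hzz hcσ
    have hfix : ∀ x, ((g * rootGL e P z (c • hv h2 z) h0 * g⁻¹ : GL ι F) : Matrix ι ι F) *ᵥ tvec e P x y' =
        tvec e P x y' := fun x => by
      obtain ⟨x', rfl⟩ := LinearMap.surjective_of_injective hCi x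
      rw [gl_mul_mulVec, gl_mul_mulVec, ← hC, gl_inv_mulVec, hroot, cob_tvec, hyz, zero_smul, smul_zero,
        tvec_zero_left, add_zero]
    obtain ⟨p, hp, -⟩ := exists_left_one h2 hz
    obtain ⟨z', hz', hx⟩ := fold hr0 hrs h0 hz (smul_ne_zero hc0 fun e1 => one_ne_zero (α := F) (by
      rw [← hp, ← hv_dot h2, e1, zero_dotProduct])) (conj_root_fix D hr hs hex hΩ hg hzz hmem hy' hy'y' hfix)
    exact mk z z' hz hzz hz' hx
  have hP0 : Pure b := mk b b'' hb hbb hb'' hpure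
  have hall : ∀ y, y ≠ 0 → f₂ y y = 0 → Pure y ∧ ∃ z, z ≠ 0 ∧ f₂ z z = 0 ∧ f₂ b z = 0 ∧ f₂ z y = 0 ∧ Pure z := by
    intro y hy hyy
    obtain ⟨z, hzW, hz, hzz⟩ := exists_isotropic h2 (W := ((⊤ : Submodule F (Fin s → F)) ⊓ perpOf h2 b) ⊓ perpOf h2 y)
      (by
        have e1 := finrank_inf_perp h2 ⊤ b
        have e2 := finrank_inf_perp h2 ((⊤ : Submodule F (Fin s → F)) ⊓ perpOf h2 b) y
        rw [finrank_top, Module.finrank_fin_fun] at e1
        omega)
    have hbz : f₂ b z = 0 := herm_swap_zero h2 hzW.1.2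
    have hzP := hstep b z hP0 hbb hz hzz hbz
    exact ⟨hstep z y hzP hzz hy hyy hzW.2, z, hz, hzz, hbz, hzW.2, hzP⟩
  obtain ⟨b', hb', -, C, hCi, hC⟩ := hP0
  have hCs := LinearMap.surjective_of_injective hCi
  let Good : Submodule F (Fin s → F) :=
    { carrier := {y | ∃ y', ∀ x, (g : Matrix ι ι F) *ᵥ tvec e P x y = tvec e P (C x) y'}
      add_mem' := fun {y z} ⟨y', hy⟩ ⟨z', hz⟩ => ⟨y' + z', fun x => by
        rw [tvec_add_right, mulVec_add, hy, hz, tvec_add_right]⟩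
      zero_mem' := ⟨0, fun x => by rw [tvec_zero_right, mulVec_zero, tvec_zero_right]⟩
      smul_mem' := fun a y ⟨y', hy⟩ => ⟨a • y', fun x => by rw [tvec_smul_right, mulVec_smul, hy, tvec_smul_right]⟩ }
  -- orthogonal isotropic vectors share the same first factor
  have hshare : ∀ y z, y ≠ 0 → f₂ y y = 0 → y ∈ Good → z ≠ 0 → f₂ z z = 0 → f₂ y z = 0 → z ∈ Good := by
    intro y z hy hyy hyG hz hzz hyz
    by_cases hsp : z ∈ Submodule.span F {y}
    · obtain ⟨a, rfl⟩ := Submodule.mem_span_singleton.1 hsp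
      exact Good.smul_mem a hyG
    obtain ⟨y', hy'⟩ := hyG
    obtain ⟨z', hz', -, Cz, hCzi, hCz⟩ := (hall z hz hzz).1
    have hyz0 : y + z ≠ 0 := fun h0 => hsp (Submodule.mem_span_singleton.2
      ⟨-1, by rw [neg_one_smul, eq_neg_of_add_eq_zero_right h0]⟩)
    obtain ⟨u', hu', -, Cu, -, hCu⟩ := (hall (y + z) hyz0 (by
      rw [h2.add_left, herm_add_right h2, herm_add_right h2, hyy, hzz, hyz, herm_swap_zero h2 hyz]; ring)).1
    have hy'0 : y' ≠ 0 := fun h0 => tvec_ne_zero hx₀ hy (by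
      rw [← gl_mulVec_eq_zero (g := g), hy', h0, tvec_zero_right])
    have hind : z' ∉ Submodule.span F {y'} := by
      intro hmem
      obtain ⟨a, ha⟩ := Submodule.mem_span_singleton.1 hmem
      obtain ⟨x', hx'⟩ := hCs (a • Cz x₀)
      have e1 : (g : Matrix ι ι F) *ᵥ tvec e P x₀ z = (g : Matrix ι ι F) *ᵥ tvec e P x' y := by
        rw [hCz, ← ha, hy', hx', tvec_smul_right, tvec_smul_left]
      have e2 := congrArg (fun v => ((g⁻¹ : GL ι F) : Matrix ι ι F) *ᵥ v) e1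
      simp only [gl_inv_mulVec] at e2
      obtain ⟨φ, hφ1, hφ0⟩ := exists_dual _ hsp
      have e3 := congrArg (co e P φ) e2
      rw [co_tvec, co_tvec, hφ1, hφ0 y (Submodule.mem_span_singleton_self y), one_smul, zero_smul] at e3
      exact hx₀ e3
    have hind' : y' ∉ Submodule.span F {z'} := fun hmem => by
      obtain ⟨a, ha⟩ := Submodule.mem_span_singleton.1 hmem
      rcases eq_or_ne a 0 with ha0 | ha0
      · exact hy'0 (by rw [← ha, ha0, zero_smul])
      · exact hind (Submodule.mem_span_singleton.2 ⟨a⁻¹, by rw [← ha, inv_smul_smul₀ ha0]⟩)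
    have hsum : ∀ x, tvec e P (C x) y' + tvec e P (Cz x) z' = tvec e P (Cu x) u' := fun x => by
      rw [← hy', ← hCz, ← mulVec_add, ← tvec_add_right, hCu]
    obtain ⟨φ, hφ1, hφ0⟩ := exists_dual _ hind'
    obtain ⟨ψ, hψ1, hψ0⟩ := exists_dual _ hind
    have ea : ∀ x, C x = (φ ⬝ᵥ u') • Cu x := fun x => by
      have := congrArg (co e P φ) (hsum x)
      rwa [map_add, co_tvec, co_tvec, co_tvec, hφ1, hφ0 z' (Submodule.mem_span_singleton_self z'), one_smul, zero_smul,
        add_zero] at this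
    have eb : ∀ x, Cz x = (ψ ⬝ᵥ u') • Cu x := fun x => by
      have := congrArg (co e P ψ) (hsum x)
      rwa [map_add, co_tvec, co_tvec, co_tvec, hψ1, hψ0 y' (Submodule.mem_span_singleton_self y'), one_smul, zero_smul,
        zero_add] at this
    have hμ : φ ⬝ᵥ u' ≠ 0 := fun h0 => hx₀ (hCi (by rw [ea, h0, zero_smul, map_zero]))
    refine ⟨((ψ ⬝ᵥ u') / (φ ⬝ᵥ u')) • z', fun x => ?_⟩
    rw [hCz, tvec_smul_right, ← tvec_smul_left, eb, ea, smul_smul, div_mul_cancel₀ _ hμ]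
  have hbG : b ∈ Good := ⟨b', hC⟩
  have hiso : ∀ y, y ≠ 0 → f₂ y y = 0 → y ∈ Good := by
    intro y hy hyy
    obtain ⟨-, z, hz, hzz, hbz, hzy, -⟩ := hall y hy hyy
    exact hshare z y hz hzz (hshare b z hb hbb hbG hz hzz hbz) hy hyy hzy
  obtain ⟨p, hpp, hbp, -⟩ := exists_isotropic_partner h2 hb hbb
  have htop : ∀ y, y ∈ Good := fun y => subspace_le_of_pair h2 (X := ⊤) (S := Good) Submodule.mem_top hbb
    Submodule.mem_top hpp hbp hbG
    (fun v _ hvv hbv => hiso v (fun h0 => hbv (by rw [h0, herm_zero_right h2])) hvv) (Submodule.mem_top (x := y))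
  obtain ⟨γ, hγ⟩ := exists_dot_one (show C x₀ ≠ 0 from fun h => hx₀ (hCi (by rw [h, map_zero])))
  let B : (Fin s → F) →ₗ[F] (Fin s → F) :=
    (rc e P γ).comp ((Matrix.mulVecLin (g : Matrix ι ι F)).comp (trm e P x₀))
  have hB : ∀ x y, (g : Matrix ι ι F) *ᵥ tvec e P x y = tvec e P (C x) (B y) := fun x y => by
    obtain ⟨y', hy'⟩ := htop y
    rw [hy']
    congr 1
    show y' = rc e P γ ((g : Matrix ι ι F) *ᵥ tvec e P x₀ y)
    rw [hy', rc_tvec, hγ, one_smul]
  have hBi : Function.Injective B := (injective_iff_map_eq_zero B).2 fun y hy => by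
    have e1 := hB x₀ y
    rw [hy, tvec_zero_right, gl_mulVec_eq_zero] at e1
    by_contra hy0
    exact tvec_ne_zero hx₀ hy0 e1
  have hCu : IsUnit (LinearMap.toMatrix' C) := by
    rw [← Matrix.mulVec_injective_iff_isUnit]
    rwa [show (LinearMap.toMatrix' C).mulVec = ⇑C from funext (LinearMap.toMatrix'_mulVec C)]
  have hBu : IsUnit (LinearMap.toMatrix' B) := by
    rw [← Matrix.mulVec_injective_iff_isUnit]
    rwa [show (LinearMap.toMatrix' B).mulVec = ⇑B from funext (LinearMap.toMatrix'_mulVec B)]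
  obtain ⟨Cg, hCg⟩ := hCu
  obtain ⟨Bg, hBg⟩ := hBu
  rw [show g = kg e P Cg Bg from gl_ext_tvec (e := e) (P := P) fun x y => by
    rw [hB, kg_tvec, hCg, hBg, LinearMap.toMatrix'_mulVec, LinearMap.toMatrix'_mulVec]]
  exact kg_mem _ _

end CfsgLib.Perm.Trans.TensorHerm
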