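import Mathlib
import Cfsg.Agent.Lib.Perm.Trans.TensorHermRigid

/-!
# Tensor product subgroups of unitary groups are maximal
-/

set_option autoImplicit false
set_option linter.all false

namespace CfsgLib.Perm.Trans.TensorHerm

open scoped Matrix
open Matrix Cfsg.Geo CfsgLib.Perm.Asch CfsgLib.Perm.Trans CfsgLib.Perm.Trans.Unit
open CfsgLib.Perm.Trans.TensorFrame CfsgLib.Perm.Trans.TensorMax

variable {F : Type*} [Field F] [Fintype F]

/-- two polynomials with values in a fixed field of index two have a common non-trivial fixed zero -/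
theorem cw_fixed {σ : F ≃+* F} (hinv : ∀ a, σ (σ a) = a) {t : F} (ht : t + σ t = 1) {V : Type} [Fintype V]
    (p q : MvPolynomial V F) (hdeg : p.totalDegree + q.totalDegree < Fintype.card V)
    (hp : ∀ x : V → F, (∀ i, σ (x i) = x i) → σ (MvPolynomial.eval x p) = MvPolynomial.eval x p)
    (hq : ∀ x : V → F, (∀ i, σ (x i) = x i) → σ (MvPolynomial.eval x q) = MvPolynomial.eval x q)
    (hp0 : MvPolynomial.eval (0 : V → F) p = 0) (hq0 : MvPolynomial.eval (0 : V → F) q = 0) :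
    ∃ x : V → F, (∀ i, σ (x i) = x i) ∧ x ≠ 0 ∧ MvPolynomial.eval x p = 0 ∧ MvPolynomial.eval x q = 0 := by
  classical
  let F₀ : Subfield F := RingHom.eqLocusField (σ : F →+* F) (RingHom.id F)
  let π : F → F₀ := fun a => ⟨t * a + σ (t * a), by
    show σ (t * a + σ (t * a)) = t * a + σ (t * a)
    rw [map_add, hinv, add_comm]⟩
  let res : MvPolynomial V F → MvPolynomial V F₀ := fun P =>
    ∑ d ∈ P.support, MvPolynomial.monomial d (π (P.coeff d))
  have hfix : ∀ (x : V → F₀) (i : V), σ (x i : F) = x i := fun x i => (x i).2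
  have hev : ∀ (P : MvPolynomial V F) (x : V → F₀),
      (∀ y : V → F, (∀ i, σ (y i) = y i) → σ (MvPolynomial.eval y P) = MvPolynomial.eval y P) →
      ((MvPolynomial.eval x (res P) : F₀) : F) = MvPolynomial.eval (fun i => (x i : F)) P := by
    intro P x hP
    have h1 : ((MvPolynomial.eval x (res P) : F₀) : F) =
        t * MvPolynomial.eval (fun i => (x i : F)) P + σ (t * MvPolynomial.eval (fun i => (x i : F)) P) := by
      show F₀.subtype (MvPolynomial.eval x (res P)) = _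
      simp only [res, MvPolynomial.eval_eq (f := P), map_sum, MvPolynomial.eval_monomial, map_mul, Finset.mul_sum,
        ← Finset.sum_add_distrib, map_finsuppProd, map_pow]
      refine Finset.sum_congr rfl fun d _ => ?_
      have hm : σ (∏ i ∈ d.support, (x i : F) ^ d i) = ∏ i ∈ d.support, (x i : F) ^ d i := by
        simp only [map_prod, map_pow, hfix]
      show (t * P.coeff d + σ (t * P.coeff d)) * (∏ i ∈ d.support, (x i : F) ^ d i) = _
      simp only [map_prod, map_pow, hfix, map_mul]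
      ring
    rw [h1, map_mul, hP _ (hfix x), ← add_mul, ht, one_mul]
  have hdegle : ∀ P : MvPolynomial V F, (res P).totalDegree ≤ P.totalDegree := fun P =>
    (MvPolynomial.totalDegree_finsetSum _ _).trans (Finset.sup_le fun d hd =>
      (MvPolynomial.totalDegree_monomial_le d _).trans (MvPolynomial.le_totalDegree hd))
  obtain ⟨ℓ, hℓ⟩ := CharP.exists F₀
  haveI : Fintype F₀ := Fintype.ofFinite _
  have hℓp : ℓ.Prime := CharP.char_is_prime F₀ ℓ
  have hdvd := char_dvd_card_solutions_of_add_lt ℓ (f₁ := res p) (f₂ := res q)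
    (lt_of_le_of_lt (Nat.add_le_add (hdegle p) (hdegle q)) hdeg)
  have h0 : MvPolynomial.eval (0 : V → F₀) (res p) = 0 ∧ MvPolynomial.eval (0 : V → F₀) (res q) = 0 :=
    ⟨Subtype.ext ((hev p 0 hp).trans hp0), Subtype.ext ((hev q 0 hq).trans hq0)⟩
  have hne : Nonempty { x : V → F₀ // MvPolynomial.eval x (res p) = 0 ∧ MvPolynomial.eval x (res q) = 0 } :=
    ⟨⟨0, h0⟩⟩
  have h2 : 1 < Fintype.card { x : V → F₀ // MvPolynomial.eval x (res p) = 0 ∧ MvPolynomial.eval x (res q) = 0 } :=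
    lt_of_lt_of_le hℓp.one_lt (Nat.le_of_dvd Fintype.card_pos hdvd)
  obtain ⟨⟨x, hx1, hx2⟩, hxne⟩ := Fintype.exists_ne_of_one_lt_card h2 ⟨0, h0⟩
  refine ⟨fun i => (x i : F), hfix x, fun h => hxne (Subtype.ext (funext fun i => Subtype.ext (congrFun h i))), ?_, ?_⟩
  · rw [← hev p x hp, hx1, ZeroMemClass.coe_zero]
  · rw [← hev q x hq, hx2, ZeroMemClass.coe_zero]

theorem herm_sum_right {κ : Type} [Fintype κ] [DecidableEq κ] {σ : F ≃+* F} {h : (κ → F) → (κ → F) → F}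
    (hh : IsUnitaryForm σ h) {V : Type} (S : Finset V) (v : κ → F) (u : V → κ → F) :
    h v (∑ i ∈ S, u i) = ∑ i ∈ S, h v (u i) := by
  classical
  induction S using Finset.induction_on with
  | empty => rw [Finset.sum_empty, Finset.sum_empty, herm_zero_right hh]
  | insert a S ha ih => rw [Finset.sum_insert ha, Finset.sum_insert ha, herm_add_right hh, ih]

theorem herm_sum_left {κ : Type} [Fintype κ] [DecidableEq κ] {σ : F ≃+* F} {h : (κ → F) → (κ → F) → F}
    (hh : IsUnitaryForm σ h) {V : Type} (S : Finset V) (u : V → κ → F) (v : κ → F) :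
    h (∑ i ∈ S, u i) v = ∑ i ∈ S, h (u i) v := map_sum (hFun hh v) u S

variable {ι : Type} [Fintype ι] [DecidableEq ι] {r s : ℕ} {e : ι ≃ Fin r × Fin s} {P : GL ι F}
variable {σ : F ≃+* F} {f : (ι → F) → (ι → F) → F} {M : Subgroup (GL ι F)}
variable {f₁ : (Fin r → F) → (Fin r → F) → F} {f₂ : (Fin s → F) → (Fin s → F) → F} {k : F}

variable (D : TU σ f f₁ f₂ e P k M)
include D

/-- the parameters of the commutator which enlarges the fixed space -/
theorem exists_param (hr : 2 ≤ r) (hs : 4 ≤ s) (hrs : r < s) {b₀ : Fin s → F} (hb₀ : b₀ ≠ 0) (hbb₀ : f₂ b₀ b₀ = 0)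
    {N : (ι → F) →ₗ[F] (ι → F)} {A : Submodule F (Fin r → F)} (hA : A ≠ ⊤) (hAnd : IsNondegenerateOn f₁ A)
    (hsmall : ¬ (A = ⊥ ∧ r = 3 ∧ s = 4))
    (hNA : ∀ x ∈ A, N (tvec e P x b₀) = 0)
    (hΦK : ∀ y ∈ perp D.u1 A, ∃ x ∈ perp D.u1 A, cob D b₀ (N (tvec e P x b₀)) = y)
    (hΦA : ∀ x, cob D b₀ (N (tvec e P x b₀)) ∈ perp D.u1 A)
    (hΦi : ∀ x ∈ perp D.u1 A, cob D b₀ (N (tvec e P x b₀)) = 0 → x = 0) :
    ∃ w τ, f₂ w b₀ = 0 ∧ f₂ w w = 0 ∧ w ∉ Submodule.span F {b₀} ∧ σ τ = -τ ∧ ∃ c ∉ A, ∀ x,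
      f₁ (cob D b₀ (N (tvec e P c b₀))) (cob D w (N (tvec e P x b₀))) -
        f₁ (cob D w (N (tvec e P c b₀))) (cob D b₀ (N (tvec e P x b₀))) +
        τ * f₁ (cob D b₀ (N (tvec e P c b₀))) (cob D b₀ (N (tvec e P x b₀))) = 0 := by
  classical
  have h1 := D.u1
  have h2 := D.u2
  obtain ⟨b', -, hb', -⟩ := exists_isotropic_partner h2 hb₀ hbb₀
  obtain ⟨θ, hθ, hθσ⟩ := exists_trace_zero h1
  obtain ⟨ε, hε⟩ := exists_not_fixed h1
  obtain ⟨t, ht⟩ := exists_trace h1 (d := (1 : F)) (map_one σ)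
  obtain ⟨W, hW⟩ : ∃ W : Submodule F (Fin s → F),
      W = ((⊤ : Submodule F (Fin s → F)) ⊓ perpOf h2 b₀) ⊓ perpOf h2 b' := ⟨_, rfl⟩
  have hWdim : s ≤ Module.finrank F W + 2 := by
    have e1 := finrank_inf_perp h2 ⊤ b₀
    have e2 := finrank_inf_perp h2 ((⊤ : Submodule F (Fin s → F)) ⊓ perpOf h2 b₀) b'
    rw [finrank_top, Module.finrank_fin_fun] at e1
    rw [← hW] at e2
    omega
  let Bw := Module.finBasis F W
  let ab := Module.finBasis F (perp h1 A)
  let Φ : (Fin r → F) →ₗ[F] (Fin r → F) := (cob D b₀).comp (N.comp (tlm e P b₀))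
  let Mw : (Fin s → F) → (Fin r → F) →ₗ[F] (Fin r → F) := fun w => (cob D w).comp (N.comp (tlm e P b₀))
  let El : (Fin s → F) → F → (Fin r → F) → (Fin r → F) →ₗ[F] F := fun w τ x =>
    (hFun h1 (Mw w x)).comp Φ - (hFun h1 (Φ x)).comp (Mw w) + τ • (hFun h1 (Φ x)).comp Φ
  have hEl : ∀ w τ c x, El w τ x c = f₁ (Φ c) (Mw w x) - f₁ (Mw w c) (Φ x) + τ * f₁ (Φ c) (Φ x) :=
    fun w τ c x => rfl
  let u : (Fin (Module.finrank F W) ⊕ Fin (Module.finrank F W)) ⊕ Unit → Fin s → F :=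
    Sum.elim (Sum.elim (fun i => (Bw i : Fin s → F)) fun i => ε • (Bw i : Fin s → F)) fun _ => 0
  let τv : (Fin (Module.finrank F W) ⊕ Fin (Module.finrank F W)) ⊕ Unit → F :=
    Sum.elim (fun _ => 0) fun _ => θ
  let H : (Fin (Module.finrank F W) ⊕ Fin (Module.finrank F W)) ⊕ Unit →
      Fin (Module.finrank F (perp h1 A)) → Fin (Module.finrank F (perp h1 A)) → F := fun v i j =>
    t * (θ * El (u v) (τv v) (ab j) (ab i)) + σ (t * (θ * El (u v) (τv v) (ab i) (ab j)))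
  let G : Matrix (Fin (Module.finrank F (perp h1 A))) (Fin (Module.finrank F (perp h1 A)))
      (MvPolynomial ((Fin (Module.finrank F W) ⊕ Fin (Module.finrank F W)) ⊕ Unit) F) :=
    Matrix.of fun i j => ∑ v, MvPolynomial.C (H v i j) * MvPolynomial.X v
  let q : MvPolynomial ((Fin (Module.finrank F W) ⊕ Fin (Module.finrank F W)) ⊕ Unit) F :=
    ∑ v, ∑ v', MvPolynomial.C (f₂ (u v) (u v')) * (MvPolynomial.X v * MvPolynomial.X v')
  let wOf : ((Fin (Module.finrank F W) ⊕ Fin (Module.finrank F W)) ⊕ Unit → F) → Fin s → F :=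
    fun x => ∑ v, x v • u v
  let τOf : ((Fin (Module.finrank F W) ⊕ Fin (Module.finrank F W)) ⊕ Unit → F) → F := fun x => ∑ v, x v * τv v
  have hqev : ∀ x, (∀ v, σ (x v) = x v) → MvPolynomial.eval x q = f₂ (wOf x) (wOf x) := by
    intro x hx
    simp only [q, wOf, map_sum, map_mul, MvPolynomial.eval_C, MvPolynomial.eval_X, herm_sum_left h2,
      herm_sum_right h2, h2.smul_left, herm_smul_right h2, hx, Finset.mul_sum]
    exact Finset.sum_congr rfl fun v _ => Finset.sum_congr rfl fun v' _ => by ring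
  have hGev : ∀ x i j, MvPolynomial.eval x (G i j) = ∑ v, H v i j * x v := fun x i j => by
    simp only [G, Matrix.of_apply, map_sum, map_mul, MvPolynomial.eval_C, MvPolynomial.eval_X]
  have hdetev : ∀ x, MvPolynomial.eval x G.det = (Matrix.of fun i j => ∑ v, H v i j * x v).det := fun x => by
    rw [RingHom.map_det]
    congr 1
    ext i j
    exact hGev x i j
  have hW' : ∀ w ∈ W, f₂ w b₀ = 0 ∧ f₂ w b' = 0 := fun w hw => by
    rw [hW] at hw; exact ⟨hw.1.2, hw.2⟩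
  haveI : Nonempty (Fin (Module.finrank F (perp h1 A))) := by
    refine ⟨⟨0, ?_⟩⟩
    have e1 := finrank_add_perp h1 hAnd
    have e2 := Submodule.finrank_lt hA
    simp at e1 e2
    omega
  obtain ⟨x, hx, hx0, hxG, hxq⟩ := cw_fixed (σ := σ) h1.involutive ht G.det q (by
      have e1 : G.det.totalDegree ≤ Module.finrank F (perp h1 A) := by
        rw [Matrix.det_apply]
        refine (MvPolynomial.totalDegree_finsetSum _ _).trans (Finset.sup_le fun π _ => ?_)
        refine (MvPolynomial.totalDegree_smul_le _ _).trans ((MvPolynomial.totalDegree_finsetProd _ _).trans ?_)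
        refine (Finset.sum_le_sum fun i _ => show _ ≤ 1 from ?_).trans (by simp)
        simp only [G, Matrix.of_apply]
        refine (MvPolynomial.totalDegree_finsetSum _ _).trans (Finset.sup_le fun v _ => ?_)
        refine (MvPolynomial.totalDegree_mul _ _).trans ?_
        rw [MvPolynomial.totalDegree_C, MvPolynomial.totalDegree_X]
      have e2 : q.totalDegree ≤ 2 := by
        refine (MvPolynomial.totalDegree_finsetSum _ _).trans (Finset.sup_le fun v _ => ?_)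
        refine (MvPolynomial.totalDegree_finsetSum _ _).trans (Finset.sup_le fun v' _ => ?_)
        refine (MvPolynomial.totalDegree_mul _ _).trans ?_
        rw [MvPolynomial.totalDegree_C, zero_add]
        refine (MvPolynomial.totalDegree_mul _ _).trans ?_
        rw [MvPolynomial.totalDegree_X, MvPolynomial.totalDegree_X]
      have e3 : Module.finrank F (perp h1 A) ≤ r := (Submodule.finrank_le _).trans (by simp)
      have e4 : r = 3 → s = 4 → Module.finrank F (perp h1 A) ≤ 2 := fun hr3 hs4 => by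
        have e5 := finrank_add_perp h1 hAnd
        rw [Fintype.card_fin] at e5
        rcases Nat.eq_zero_or_pos (Module.finrank F A) with h0 | h0
        · exact absurd ⟨Submodule.finrank_eq_zero.1 h0, hr3, hs4⟩ hsmall
        · omega
      simp only [Fintype.card_sum, Fintype.card_fin, Fintype.card_unit]
      omega)
    (fun x hx => by
      rw [hdetev]
      have e1 : (Matrix.of fun i j => ∑ v, H v i j * x v).map σ =
          (Matrix.of fun i j => ∑ v, H v i j * x v)ᵀ := by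
        ext i j
        simp only [Matrix.map_apply, Matrix.transpose_apply, Matrix.of_apply, map_sum, map_mul, hx]
        refine Finset.sum_congr rfl fun v _ => ?_
        simp only [H, map_add, map_mul, h1.involutive]
        ring
      rw [show σ (Matrix.of fun i j => ∑ v, H v i j * x v).det =
        ((Matrix.of fun i j => ∑ v, H v i j * x v).map σ).det from (RingEquiv.map_det σ _), e1, Matrix.det_transpose])
    (fun x hx => by rw [hqev x hx, ← h2.herm])
    (by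
      rw [hdetev, show (Matrix.of fun i j => ∑ v, H v i j * (0 : (Fin (Module.finrank F W) ⊕ Fin (Module.finrank F W)) ⊕ Unit → F) v) = 0 by ext i j; simp, Matrix.det_zero])
    (by rw [hqev 0 fun v => map_zero σ, show wOf 0 = 0 by simp [wOf], herm_zero_left h2])
  obtain ⟨w, hw⟩ : ∃ w, w = wOf x := ⟨_, rfl⟩
  obtain ⟨τ, hτ⟩ : ∃ τ, τ = τOf x := ⟨_, rfl⟩
  have hww : f₂ w w = 0 := by rw [hw, ← hqev x hx, hxq]
  have hτσ : σ τ = -τ := by
    rw [hτ]
    simp only [τOf, map_sum, map_mul, hx, ← Finset.sum_neg_distrib]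
    refine Finset.sum_congr rfl fun v _ => ?_
    rcases v with v | v <;> simp [τv, hθσ]
  -- linearity in the parameters
  have hlin : ∀ c y, El w τ y c = ∑ v, x v * El (u v) (τv v) y c := by
    intro c y
    rw [hw, hτ]
    simp only [wOf, τOf]
    generalize (Finset.univ : Finset ((Fin (Module.finrank F W) ⊕ Fin (Module.finrank F W)) ⊕ Unit)) = S
    induction S using Finset.induction_on with
    | empty =>
      simp only [Finset.sum_empty, hEl, Mw, LinearMap.comp_apply, cob_zero D, herm_zero_left h1, herm_zero_right h1,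
        zero_mul, sub_zero, add_zero]
    | insert a S ha ih =>
      rw [Finset.sum_insert ha, Finset.sum_insert ha, Finset.sum_insert ha, ← ih]
      simp only [hEl, Mw, LinearMap.comp_apply, cob_add D, cob_smul D, hx, h1.add_left, herm_add_right h1,
        h1.smul_left, herm_smul_right h1]
      ring
  -- at a zero the matrix is that of the hermitian form
  have hherm : ∀ c y, σ (θ * El w τ c y) = θ * El w τ y c := by
    intro c y
    simp only [hEl, map_mul, map_add, map_sub, ← h1.herm, hθσ, hτσ]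
    ring
  have hmat : (Matrix.of fun i j => ∑ v, H v i j * x v) = Matrix.of fun i j => θ * El w τ (ab j) (ab i) := by
    ext i j
    simp only [Matrix.of_apply, H, add_mul, Finset.sum_add_distrib]
    have e1 : ∀ a : F, ∀ c y, ∑ v, a * (θ * El (u v) (τv v) y c) * x v = a * (θ * El w τ y c) := by
      intro a c y
      rw [hlin, Finset.mul_sum, Finset.mul_sum]
      exact Finset.sum_congr rfl fun v _ => by ring
    have e2 : ∑ v, σ (t * (θ * El (u v) (τv v) (ab i) (ab j))) * x v =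
        σ (∑ v, t * (θ * El (u v) (τv v) (ab i) (ab j)) * x v) := by
      rw [map_sum]
      exact Finset.sum_congr rfl fun v _ => by rw [map_mul (f := σ) (t * _), hx]
    rw [e2, e1, e1, map_mul, hherm, ← add_mul, ht, one_mul]
  rw [hdetev, hmat, ← Matrix.exists_vecMul_eq_zero_iff] at hxG
  obtain ⟨v, hv0, hv⟩ := hxG
  obtain ⟨c, hc⟩ : ∃ c : perp h1 A, c = ∑ i, v i • ab i := ⟨_, rfl⟩
  have hc0 : c ≠ 0 := fun h0 => hv0 (funext fun i =>
    Fintype.linearIndependent_iff.1 ab.linearIndependent v (hc.symm.trans h0) i)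
  have hcb : ∀ j, El w τ (ab j) (c : Fin r → F) = 0 := by
    intro j
    have e1 := congrFun hv j
    simp only [Matrix.vecMul, dotProduct, Matrix.of_apply, Pi.zero_apply] at e1
    refine (mul_eq_zero.1 ?_).resolve_left hθ
    rw [hc, Submodule.coe_sum, map_sum, Finset.mul_sum, ← e1]
    exact Finset.sum_congr rfl fun i _ => by rw [Submodule.coe_smul, map_smul, smul_eq_mul]; ring
  let K : Submodule F (Fin r → F) :=
    { carrier := {y | El w τ y (c : Fin r → F) = 0}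
      add_mem' := fun {y z} hy hz => by
        show El w τ (y + z) (c : Fin r → F) = 0
        have hy' : El w τ y (c : Fin r → F) = 0 := hy
        have hz' : El w τ z (c : Fin r → F) = 0 := hz
        rw [hEl] at hy' hz' ⊢
        simp only [map_add, herm_add_right h1]
        linear_combination hy' + hz'
      zero_mem' := by
        show El w τ 0 (c : Fin r → F) = 0
        simp only [hEl, map_zero, herm_zero_right h1, mul_zero, sub_zero, add_zero]
      smul_mem' := fun a y hy => by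
        show El w τ (a • y) (c : Fin r → F) = 0
        have hy' : El w τ y (c : Fin r → F) = 0 := hy
        rw [hEl] at hy' ⊢
        simp only [map_smul, herm_smul_right h1]
        linear_combination σ a * hy' }
  have hall : ∀ y, El w τ y (c : Fin r → F) = 0 := by
    intro y
    obtain ⟨α, hα, hy⟩ := exists_decomp h1 hAnd y
    have e1 : α ∈ K := by
      show El w τ α (c : Fin r → F) = 0
      simp only [hEl, Φ, Mw, LinearMap.comp_apply, tlm_apply, hNA α hα, map_zero, herm_zero_right h1, mul_zero,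
        sub_zero, add_zero]
    have e2 : y - α ∈ K := by
      have e3 : Submodule.map (perp h1 A).subtype ⊤ ≤ K := by
        rw [← ab.span_eq, Submodule.map_span, Submodule.span_le]
        rintro _ ⟨_, ⟨j, rfl⟩, rfl⟩
        exact hcb j
      exact e3 ⟨⟨_, hy⟩, trivial, rfl⟩
    have := K.add_mem e1 e2
    rwa [add_sub_cancel] at this
  have hcA : (c : Fin r → F) ∉ A := fun hcA => hc0 (Subtype.ext (disjoint_perp h1 hAnd hcA c.2))
  have hwW : w ∈ W := by
    rw [hw]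
    refine W.sum_mem fun v _ => W.smul_mem _ ?_
    rcases v with (v | v) | v
    · exact (Bw v).2
    · exact W.smul_mem _ (Bw v).2
    · exact W.zero_mem
  refine ⟨w, τ, (hW' w hwW).1, hww, fun hsp => ?_, hτσ, c, hcA, fun y => by
    have := hall y; rw [hEl] at this; exact this⟩
  obtain ⟨a, ha⟩ := Submodule.mem_span_singleton.1 hsp
  have hw0 : w = 0 := by
    have e1 := (hW' w hwW).2
    rw [← ha, h2.smul_left, hb', mul_one] at e1
    rw [← ha, e1, zero_smul]
  -- then `τ ≠ 0`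
  have hτ0 : τ ≠ 0 := by
    intro hτ0
    apply hx0
    have e1 : ∑ i, (x (Sum.inl (Sum.inl i)) + x (Sum.inl (Sum.inr i)) * ε) • Bw i = 0 := by
      refine Subtype.ext ?_
      rw [Submodule.coe_sum, ZeroMemClass.coe_zero, ← hw0, hw]
      simp only [wOf, u, Fintype.sum_sum_type, Sum.elim_inl, Sum.elim_inr, smul_zero, Finset.sum_const_zero, add_zero,
        Submodule.coe_smul, Submodule.coe_add, ← Finset.sum_add_distrib, add_smul, mul_smul]
    have e2 := Fintype.linearIndependent_iff.1 Bw.linearIndependent _ e1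
    have e3 : ∀ i, x (Sum.inl (Sum.inr i)) = 0 := fun i => by
      have e4 := e2 i
      have e5 := congrArg σ e4
      rw [map_add, map_mul, hx, hx, map_zero] at e5
      by_contra hne
      exact hε (mul_left_cancel₀ hne (by linear_combination e5 - e4))
    funext v
    rcases v with (i | i) | v
    · show x (Sum.inl (Sum.inl i)) = 0
      have e4 := e2 i
      rwa [e3, zero_mul, add_zero] at e4
    · exact e3 i
    · rw [hτ] at hτ0
      simpa [τOf, τv, Fintype.sum_sum_type, hθ] using hτ0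
  refine hc0 (Subtype.ext (hΦi c c.2 (?_ : Φ (c : Fin r → F) = 0)))
  have hmem : Φ (c : Fin r → F) ∈ perp h1 (perp h1 A) := fun z hz => by
    obtain ⟨y, -, rfl⟩ := hΦK z hz
    have e1 := hall y
    simp only [hEl, hw0, Mw, LinearMap.comp_apply, cob_zero D, herm_zero_left h1, herm_zero_right h1, sub_zero,
      zero_add] at e1
    exact (mul_eq_zero.1 e1).resolve_left hτ0
  exact disjoint_perp h1 hAnd (perp_perp h1 hAnd hmem) (hΦA _)

/-- the first step of the descent for factors of dimensions three and four: a hermitian matrix on a totally isotropic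
plane of the second factor has, by Chevalley–Warning, a degenerate pairing on the image of `U ⊗ b` -/
theorem three_four (hr3 : r = 3) (hs4 : s = 4) (hΩ : ¬ isoU f ⊓ specialLinear ι F ≤ M)
    (IH : ∀ g ∈ M, ∀ b : Fin s → F, b ≠ 0 → f₂ b b = 0 → ∀ x : Fin r → F, x ≠ 0 →
      (g : Matrix ι ι F) *ᵥ tvec e P x b = tvec e P x b → g ∈ tensorProductSubgroup r s e P)
    {g : GL ι F} (hg : g ∈ M) {b : Fin s → F} (hb : b ≠ 0) (hbb : f₂ b b = 0) :
    g ∈ tensorProductSubgroup r s e P := by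
  classical
  have h1 := D.u1
  have h2 := D.u2
  obtain ⟨θ, hθ, hθσ⟩ := exists_trace_zero h2
  obtain ⟨ε, hε⟩ := exists_not_fixed h1
  obtain ⟨t, ht⟩ := exists_trace h1 (d := (1 : F)) (map_one σ)
  -- a vanishing contraction at an isotropic vector
  have reduce : ∀ g' ∈ M, ∀ x : Fin r → F, x ≠ 0 → ∀ z : Fin s → F, z ≠ 0 → f₂ z z = 0 →
      ∀ y : Fin s → F, y ≠ 0 → f₂ y y = 0 → cob D y ((g' : Matrix ι ι F) *ᵥ tvec e P x z) = 0 →
      g' ∈ tensorProductSubgroup r s e P := by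
    intro g' hg' x hx z hz hzz y hy hyy h0
    obtain ⟨hh, htM, htz⟩ := exists_root D hyy hθσ
    obtain ⟨p, hp, -⟩ := exists_left_one h2 hy
    have hβ : θ • hv h2 y ≠ 0 := smul_ne_zero hθ fun e1 => one_ne_zero (α := F) (by
      rw [← hp, ← hv_dot h2, e1, zero_dotProduct])
    have hEM := M.mul_mem (M.mul_mem (M.inv_mem hg') htM) hg'
    have hEH := IH _ hEM z hz hzz x hx (by
      rw [gl_mul_mulVec, gl_mul_mulVec, htz, h0, smul_zero, tvec_zero_left, add_zero, gl_inv_mulVec])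
    have hmem : g'⁻¹ * rootGL e P y (θ • hv h2 y) hh * g'⁻¹⁻¹ ∈ tensorProductSubgroup r s e P := by
      rw [inv_inv]; exact hEH
    obtain ⟨b'', hb'', hx''⟩ := fold (by omega) (by omega) hh hy hβ hmem
    have h3 := rigid D (by omega) (by omega) (Or.inl (by omega)) hΩ (by omega) hy hyy g'⁻¹ (M.inv_mem hg') b'' hb'' hx''
    exact inv_inv g' ▸ inv_mem h3
  -- a totally isotropic plane
  obtain ⟨b', hb'b', hbb', hb'b⟩ := exists_isotropic_partner h2 hb hbb
  obtain ⟨l, hlW, hl0, hll⟩ := exists_isotropic h2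
    (W := ((⊤ : Submodule F (Fin s → F)) ⊓ perpOf h2 b) ⊓ perpOf h2 b') (by
      have e1 := finrank_inf_perp h2 ⊤ b
      have e2 := finrank_inf_perp h2 ((⊤ : Submodule F (Fin s → F)) ⊓ perpOf h2 b) b'
      rw [finrank_top, Module.finrank_fin_fun] at e1
      omega)
  have hlb : f₂ l b = 0 := hlW.1.2
  have hbl : f₂ b l = 0 := herm_swap_zero h2 hlb
  have hlb' : f₂ l b' = 0 := hlW.2
  have hbL : b ∉ Submodule.span F {l} := fun hm => by
    obtain ⟨c, hc⟩ := Submodule.mem_span_singleton.1 hm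
    rw [← hc, h2.smul_left, hlb', mul_zero] at hbb'
    exact zero_ne_one hbb'
  obtain ⟨Φ₁, hΦ₁⟩ : ∃ Φ₁, Φ₁ = (cob D b).comp ((Matrix.mulVecLin (g : Matrix ι ι F)).comp (tlm e P b)) := ⟨_, rfl⟩
  obtain ⟨Φ₂, hΦ₂⟩ : ∃ Φ₂, Φ₂ = (cob D l).comp ((Matrix.mulVecLin (g : Matrix ι ι F)).comp (tlm e P b)) := ⟨_, rfl⟩
  have hΦ₁x : ∀ x, Φ₁ x = cob D b ((g : Matrix ι ι F) *ᵥ tvec e P x b) := fun x => by rw [hΦ₁]; rfl
  have hΦ₂x : ∀ x, Φ₂ x = cob D l ((g : Matrix ι ι F) *ᵥ tvec e P x b) := fun x => by rw [hΦ₂]; rfl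
  let R : F → F → F → (Fin r → F) → (Fin r → F) → F := fun a d u c x =>
    a * f₁ (Φ₁ c) (Φ₁ x) + u * f₁ (Φ₂ c) (Φ₁ x) + σ u * f₁ (Φ₁ c) (Φ₂ x) + d * f₁ (Φ₂ c) (Φ₂ x)
  have hRσ : ∀ a d u c x, σ a = a → σ d = d → σ (R a d u c x) = R a d u x c := fun a d u c x ha hd => by
    simp only [R, map_add, map_mul, h1.involutive, ha, hd, ← h1.herm]
    ring
  let bas : Fin r → Fin r → F := fun i => Pi.single i 1
  let A₀ : Fin 4 → F := ![1, 0, 0, 0]
  let D₀ : Fin 4 → F := ![0, 1, 0, 0]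
  let U₀ : Fin 4 → F := ![0, 0, 1, ε]
  let Hc : Fin 4 → Fin r → Fin r → F := fun v i j => R (A₀ v) (D₀ v) (U₀ v) (bas i) (bas j)
  let G : Matrix (Fin r) (Fin r) (MvPolynomial (Fin 4) F) :=
    Matrix.of fun i j => ∑ v, MvPolynomial.C (Hc v i j) * MvPolynomial.X v
  have hdetev : ∀ x, (∀ i, σ (x i) = x i) → MvPolynomial.eval x G.det =
      (Matrix.of fun i j => R (x 0) (x 1) (x 2 + x 3 * ε) (bas i) (bas j)).det := fun x hx => by
    rw [RingHom.map_det]
    congr 1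
    ext i j
    simp only [G, RingHom.mapMatrix_apply, Matrix.map_apply, Matrix.of_apply, map_sum, map_mul, MvPolynomial.eval_C,
      MvPolynomial.eval_X, Fin.sum_univ_four, Hc, R, A₀, D₀, U₀, Matrix.cons_val_zero, Matrix.cons_val_one,
      Matrix.cons_val, map_zero, map_one, map_add, hx]
    ring
  obtain ⟨xs, hxs, hxs0, hxG, -⟩ := cw_fixed (σ := σ) h1.involutive ht G.det 0 (by
      rw [MvPolynomial.totalDegree_zero, add_zero, Fintype.card_fin]
      refine lt_of_le_of_lt ?_ (show r < 4 by omega)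
      rw [Matrix.det_apply]
      refine (MvPolynomial.totalDegree_finsetSum _ _).trans (Finset.sup_le fun π _ => ?_)
      refine (MvPolynomial.totalDegree_smul_le _ _).trans ((MvPolynomial.totalDegree_finsetProd _ _).trans ?_)
      refine (Finset.sum_le_sum fun i _ => show _ ≤ 1 from ?_).trans (by simp)
      simp only [G, Matrix.of_apply]
      refine (MvPolynomial.totalDegree_finsetSum _ _).trans (Finset.sup_le fun v _ => ?_)
      refine (MvPolynomial.totalDegree_mul _ _).trans ?_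
      rw [MvPolynomial.totalDegree_C, MvPolynomial.totalDegree_X])
    (fun x hx => by
      rw [hdetev x hx]
      have e1 : (Matrix.of fun i j => R (x 0) (x 1) (x 2 + x 3 * ε) (bas i) (bas j)).map σ =
          (Matrix.of fun i j => R (x 0) (x 1) (x 2 + x 3 * ε) (bas i) (bas j))ᵀ := by
        ext i j
        exact hRσ _ _ _ _ _ (hx 0) (hx 1)
      rw [show σ (Matrix.of fun i j => R (x 0) (x 1) (x 2 + x 3 * ε) (bas i) (bas j)).det =
        ((Matrix.of fun i j => R (x 0) (x 1) (x 2 + x 3 * ε) (bas i) (bas j)).map σ).det from RingEquiv.map_det σ _,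
        e1, Matrix.det_transpose])
    (fun x _ => by rw [map_zero, map_zero])
    (by
      haveI : Nonempty (Fin r) := ⟨⟨0, by omega⟩⟩
      rw [hdetev 0 fun i => map_zero σ, show (Matrix.of fun i j => R ((0 : Fin 4 → F) 0) ((0 : Fin 4 → F) 1)
        ((0 : Fin 4 → F) 2 + (0 : Fin 4 → F) 3 * ε) (bas i) (bas j)) = 0 by ext i j; simp [R], Matrix.det_zero])
    (map_zero _)
  obtain ⟨a, ha⟩ : ∃ a, a = xs 0 := ⟨_, rfl⟩
  obtain ⟨d, hd⟩ : ∃ d, d = xs 1 := ⟨_, rfl⟩
  obtain ⟨u, hu⟩ : ∃ u, u = xs 2 + xs 3 * ε := ⟨_, rfl⟩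
  have haσ : σ a = a := ha ▸ hxs 0
  have hdσ : σ d = d := hd ▸ hxs 1
  have hne : ¬ (a = 0 ∧ d = 0 ∧ u = 0) := by
    rintro ⟨ha0, hd0, hu0⟩
    have h4 := congrArg σ hu0
    rw [hu, map_add, map_mul, hxs, hxs, map_zero] at h4
    rw [hu] at hu0
    have h5 : xs 3 = 0 := by
      by_contra h6
      exact hε (mul_left_cancel₀ h6 (by linear_combination h4 - hu0))
    rw [h5, zero_mul, add_zero] at hu0
    refine hxs0 (funext fun i => ?_)
    fin_cases i
    · exact ha ▸ ha0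
    · exact hd ▸ hd0
    · exact hu0
    · exact h5
  rw [hdetev xs hxs, ← ha, ← hd, ← hu, ← Matrix.exists_vecMul_eq_zero_iff] at hxG
  obtain ⟨w, hw0, hw⟩ := hxG
  obtain ⟨c, hc⟩ : ∃ c : Fin r → F, c = w := ⟨_, rfl⟩
  have hcR : ∀ x, R a d u c x = 0 := by
    have hlinc : ∀ v : Fin r → F, ∀ x, R a d u v x = ∑ i, v i * R a d u (bas i) x := fun v x => by
      conv_lhs => rw [pi_eq_sum_univ' v]
      simp only [R, map_sum, map_smul, herm_sum_left h1, h1.smul_left, Finset.mul_sum, ← Finset.sum_add_distrib, bas]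
      exact Finset.sum_congr rfl fun i _ => by ring
    have hlinx : ∀ v x : Fin r → F, R a d u v x = ∑ j, σ (x j) * R a d u v (bas j) := fun v x => by
      conv_lhs => rw [pi_eq_sum_univ' x]
      simp only [R, map_sum, map_smul, herm_sum_right h1, herm_smul_right h1, Finset.mul_sum,
        ← Finset.sum_add_distrib, bas]
      exact Finset.sum_congr rfl fun i _ => by ring
    intro x
    rw [hlinx]
    refine Finset.sum_eq_zero fun j _ => ?_
    have e1 := congrFun hw j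
    simp only [Matrix.vecMul, dotProduct, Matrix.of_apply, Pi.zero_apply] at e1
    rw [hlinc, hc, e1, mul_zero]
  have hc0 : c ≠ 0 := hc ▸ hw0
  by_cases hdet : a * d = u * σ u
  · -- a single isotropic vector of the plane
    obtain ⟨y, hy, hyy, κ, hκ0, hκ⟩ : ∃ y : Fin s → F, y ≠ 0 ∧ f₂ y y = 0 ∧ ∃ κ : F, κ ≠ 0 ∧ ∀ x,
        κ * R a d u c x = f₁ (cob D y ((g : Matrix ι ι F) *ᵥ tvec e P c b))
          (cob D y ((g : Matrix ι ι F) *ᵥ tvec e P x b)) := by
      by_cases ha0 : a = 0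
      · have hu0 : u = 0 := by
          rcases mul_eq_zero.1 (show u * σ u = 0 by rw [← hdet, ha0, zero_mul]) with h | h
          · exact h
          · exact (map_eq_zero_iff σ σ.injective).1 h
        have hd0 : d ≠ 0 := fun hd0 => hne ⟨ha0, hd0, hu0⟩
        refine ⟨l, hl0, hll, d⁻¹, inv_ne_zero hd0, fun x => ?_⟩
        rw [← hΦ₂x, ← hΦ₂x]
        simp only [R, ha0, hu0, map_zero, zero_mul, zero_add, ← mul_assoc, inv_mul_cancel₀ hd0, one_mul]
      · refine ⟨a • b + σ u • l, fun h0 => ?_, ?_, a, ha0, fun x => ?_⟩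
        · refine hbL (Submodule.mem_span_singleton.2 ⟨-(a⁻¹ * σ u), ?_⟩)
          rw [neg_smul, ← smul_smul, eq_comm, eq_neg_iff_add_eq_zero]
          rw [← inv_smul_smul₀ ha0 b, ← smul_add, h0, smul_zero]
        · simp only [h2.add_left, herm_add_right h2, h2.smul_left, herm_smul_right h2, hbb, hll, hlb, hbl]
          ring
        · simp only [cob_add D, cob_smul D, h1.involutive, haσ, ← hΦ₁x, ← hΦ₂x, h1.add_left, herm_add_right h1,
            h1.smul_left, herm_smul_right h1, R]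
          linear_combination (f₁ (Φ₂ c) (Φ₂ x)) * hdet
    obtain ⟨Φ, hΦ⟩ : ∃ Φ, Φ = (cob D y).comp ((Matrix.mulVecLin (g : Matrix ι ι F)).comp (tlm e P b)) := ⟨_, rfl⟩
    have hΦx : ∀ x, Φ x = cob D y ((g : Matrix ι ι F) *ᵥ tvec e P x b) := fun x => by rw [hΦ]; rfl
    obtain ⟨c', hc'0, hc'⟩ : ∃ c', c' ≠ 0 ∧ Φ c' = 0 := by
      by_contra hcon
      push Not at hcon
      have hinj : Function.Injective Φ := (injective_iff_map_eq_zero Φ).2 fun v hv => by
        by_contra hv0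
        exact hcon v hv0 hv
      refine hcon c hc0 (eq_of_left h1 fun v => ?_)
      obtain ⟨x, rfl⟩ := LinearMap.surjective_of_injective hinj v
      rw [herm_zero_left h1, hΦx, hΦx, ← hκ, hcR, mul_zero]
    exact reduce g hg c' hc'0 b hb hbb y hy hyy (by rw [← hΦx]; exact hc')
  -- a unipotent element of the second factor
  obtain ⟨h01, ht1M, ht1⟩ := exists_root D hbb (c := θ * a) (by rw [map_mul, hθσ, haσ, neg_mul])
  obtain ⟨h02, ht2M, ht2⟩ := exists_root D hll (c := θ * d) (by rw [map_mul, hθσ, hdσ, neg_mul])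
  obtain ⟨B, hBM, -, hB⟩ := exists_hB D hbb (w := (θ * σ u) • l) (τ := 0) (by rw [h2.smul_left, hlb, mul_zero]) (by
    rw [map_zero, h2.smul_left, herm_smul_right h2, hll, mul_zero, mul_zero, add_zero, add_zero])
  obtain ⟨hE, hhE⟩ : ∃ hE, hE = rootGL e P b ((θ * a) • hv h2 b) h01 * rootGL e P l ((θ * d) • hv h2 l) h02 * B :=
    ⟨_, rfl⟩
  have hhM : hE ∈ M := hhE ▸ M.mul_mem (M.mul_mem ht1M ht2M) hBM
  let NS : (ι → F) → (ι → F) := fun z =>
    tvec e P (θ • (a • cob D b z + u • cob D l z)) b + tvec e P (θ • (σ u • cob D b z + d • cob D l z)) l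
  have hh : ∀ z, (hE : Matrix ι ι F) *ᵥ z = z + NS z := fun z => by
    rw [hhE, gl_mul_mulVec, gl_mul_mulVec, hB, ht2, ht1]
    simp only [NS, map_add, cob_tvec, hbb, hll, hlb, hbl, h2.smul_left, zero_smul, mul_zero, add_zero, zero_smul,
      smul_zero, cob_smul D, map_mul, h1.involutive, hθσ, tvec_smul_right]
    simp only [← tvec_smul_left, smul_smul, smul_add, tvec_add_left, smul_sub, tvec_sub_l D, tvec_zero_left,
      neg_mul, neg_smul, tvec_neg_l D]
    simp only [cob_tvec, hll, hlb, zero_smul, smul_zero, tvec_zero_left, zero_add, add_zero]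
    abel_nf
  have hcobN : ∀ z, cob D b (NS z) = 0 ∧ cob D l (NS z) = 0 := fun z => by
    simp only [NS, map_add, cob_tvec, hbb, hll, hlb, hbl, zero_smul, add_zero, and_self]
  obtain ⟨m, hm⟩ : ∃ m, m = g⁻¹ * hE * g := ⟨_, rfl⟩
  have hmM : m ∈ M := hm ▸ M.mul_mem (M.mul_mem (M.inv_mem hg) hhM) hg
  have hmz : ∀ z, (m : Matrix ι ι F) *ᵥ z = z + ((g⁻¹ : GL ι F) : Matrix ι ι F) *ᵥ NS ((g : Matrix ι ι F) *ᵥ z) :=
    fun z => by rw [hm, gl_mul_mulVec, gl_mul_mulVec, hh, mulVec_add, gl_inv_mulVec]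
  have hNS0 : ∀ z, cob D b z = 0 → cob D l z = 0 → NS z = 0 := fun z h3 h4 => by
    simp only [NS, h3, h4, smul_zero, add_zero, tvec_zero_left]
  have hm2 : ∀ z, (m : Matrix ι ι F) *ᵥ ((m : Matrix ι ι F) *ᵥ z) + z = (2 : F) • ((m : Matrix ι ι F) *ᵥ z) :=
    fun z => by
    obtain ⟨n, hn⟩ : ∃ n, n = ((g⁻¹ : GL ι F) : Matrix ι ι F) *ᵥ NS ((g : Matrix ι ι F) *ᵥ z) := ⟨_, rfl⟩
    have e1 : (m : Matrix ι ι F) *ᵥ n = n := by
      rw [hmz, hn, gl_mulVec_inv, hNS0 _ (hcobN _).1 (hcobN _).2, mulVec_zero, add_zero]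
    rw [hmz z, ← hn, mulVec_add, hmz z, ← hn, e1, two_smul]
    abel
  have hmH : m ∈ tensorProductSubgroup r s e P := by
    refine reduce m hmM c hc0 b hb hbb b hb hbb (eq_of_left h1 fun x => mul_left_cancel₀ D.kne ?_)
    rw [← pair D, herm_zero_left h1, mul_zero, hmz, D.form.add_left, D.pol, hbb, mul_zero, mul_zero, zero_add,
      ← mem_isoU.1 (D.le hg), gl_mulVec_inv]
    simp only [NS, D.form.add_left, pair' D, ← hΦ₁x, ← hΦ₂x, h1.add_left, h1.smul_left]
    have e1 := hcR x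
    simp only [R] at e1
    linear_combination (k * θ) * e1
  obtain ⟨p, q, hpq⟩ := mem_tensor hmH
  let pm : (Fin r → F) →ₗ[F] (Fin r → F) := Matrix.mulVecLin (p : Matrix (Fin r) (Fin r) F)
  let qm : (Fin s → F) →ₗ[F] (Fin s → F) := Matrix.mulVecLin (q : Matrix (Fin s) (Fin s) F)
  have hpqm : ∀ x y, (m : Matrix ι ι F) *ᵥ tvec e P x y = tvec e P (pm x) (qm y) := hpq
  have hquad : ∀ x y, tvec e P (pm (pm x)) (qm (qm y)) + tvec e P x y = (2 : F) • tvec e P (pm x) (qm y) := by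
    intro x y
    have e1 := hm2 (tvec e P x y)
    rwa [hpqm, hpqm] at e1
  -- a vector `x` with `U`-factor fixed
  obtain ⟨x, hx, q', hxq⟩ : ∃ x, x ≠ 0 ∧ ∃ q' : (Fin s → F) →ₗ[F] (Fin s → F),
      ∀ y, (m : Matrix ι ι F) *ᵥ tvec e P x y = tvec e P x (q' y) := by
    by_cases hp : ∀ x, ∃ d : F, (p : Matrix (Fin r) (Fin r) F) *ᵥ x = d • x
    · obtain ⟨L, hL⟩ := scalar_of_eigen (by omega) hp
      refine ⟨c, hc0, L • qm, fun y => ?_⟩
      rw [hpqm, show pm c = L • c from hL c, tvec_smul_left, ← tvec_smul_right]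
      rfl
    push Not at hp
    obtain ⟨x₀, hx₀⟩ := hp
    have hx₀0 : x₀ ≠ 0 := fun h => hx₀ 0 (by rw [h, mulVec_zero, smul_zero])
    have hpx₀0 : pm x₀ ≠ 0 := fun h => hx₀0 (gl_mulVec_eq_zero.1 h)
    have hsp : x₀ ∉ Submodule.span F {pm x₀} := fun h => by
      obtain ⟨d', hd'⟩ := Submodule.mem_span_singleton.1 h
      have hd0 : d' ≠ 0 := fun h0 => hx₀0 (by rw [← hd', h0, zero_smul])
      exact hx₀ d'⁻¹ ((eq_inv_smul_iff₀ hd0).2 hd')
    obtain ⟨φ, hφ1, hφ0⟩ := exists_dual _ hsp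
    by_cases hq : ∀ y, ∃ d : F, (q : Matrix (Fin s) (Fin s) F) *ᵥ y = d • y
    · obtain ⟨L, hL⟩ := scalar_of_eigen (by omega) hq
      let p' : (Fin r → F) →ₗ[F] (Fin r → F) := L • pm
      have hp' : ∀ x y, (m : Matrix ι ι F) *ᵥ tvec e P x y = tvec e P (p' x) y := fun x y => by
        rw [hpqm, show qm y = L • y from hL y, tvec_smul_right, ← tvec_smul_left]; rfl
      have hp'2 : ∀ x, p' (p' x) - p' x = p' x - x := fun x => tvec_left_inj hb (by
        have e1 := hm2 (tvec e P x b)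
        rw [hp', hp', two_smul] at e1
        rw [tvec_sub_l D, tvec_sub_l D]
        linear_combination (norm := abel) e1)
      by_cases hfix : p' x₀ = x₀
      · exact ⟨x₀, hx₀0, LinearMap.id, fun y => by rw [hp', hfix]; rfl⟩
      · refine ⟨p' x₀ - x₀, sub_ne_zero.2 hfix, LinearMap.id, fun y => ?_⟩
        rw [hp', map_sub, hp'2]
        rfl
    push Not at hq
    obtain ⟨y₀, hy₀⟩ := hq
    have hy₀0 : y₀ ≠ 0 := fun h => hy₀ 0 (by rw [h, mulVec_zero, smul_zero])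
    have hspy : y₀ ∉ Submodule.span F {qm y₀} := fun h => by
      obtain ⟨d', hd'⟩ := Submodule.mem_span_singleton.1 h
      have hd0 : d' ≠ 0 := fun h0 => hy₀0 (by rw [← hd', h0, zero_smul])
      exact hy₀ d'⁻¹ ((eq_inv_smul_iff₀ hd0).2 hd')
    obtain ⟨ψ, hψ1, hψ0⟩ := exists_dual _ hspy
    obtain ⟨μ, hμ, hpp⟩ : ∃ μ : F, μ ≠ 0 ∧ ∀ x, pm (pm x) = μ • x := by
      have e0 : ∀ x, (ψ ⬝ᵥ qm (qm y₀)) • pm (pm x) = -x := fun x => by
        have e1 := congrArg (co e P ψ) (hquad x y₀)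
        rw [map_add, map_smul, co_tvec, co_tvec, co_tvec, hψ1, hψ0 _ (Submodule.mem_span_singleton_self _), one_smul,
          zero_smul, smul_zero] at e1
        exact eq_neg_of_add_eq_zero_left e1
      have hν : ψ ⬝ᵥ qm (qm y₀) ≠ 0 := fun h => hx₀0 (by
        have := e0 x₀
        rwa [h, zero_smul, eq_comm, neg_eq_zero] at this)
      exact ⟨-(ψ ⬝ᵥ qm (qm y₀))⁻¹, neg_ne_zero.2 (inv_ne_zero hν), fun x => by
        rw [neg_smul, ← smul_neg, eq_inv_smul_iff₀ hν, e0]⟩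
    -- a square root of `μ` from the determinant
    have hdetp : (p : Matrix (Fin r) (Fin r) F).det * (p : Matrix (Fin r) (Fin r) F).det = μ ^ 3 := by
      have e1 : (p : Matrix (Fin r) (Fin r) F) * (p : Matrix (Fin r) (Fin r) F) = μ • 1 :=
        Matrix.ext_iff_mulVec.2 fun v => by
          rw [← Matrix.mulVec_mulVec, Matrix.smul_mulVec, one_mulVec]
          exact hpp v
      rw [← det_mul, e1, det_smul, det_one, mul_one, Fintype.card_fin, hr3]
    obtain ⟨ν, hν⟩ : ∃ ν, ν = (p : Matrix (Fin r) (Fin r) F).det / μ := ⟨_, rfl⟩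
    have hν2 : ν * ν = μ := by
      rw [hν, div_mul_div_comm, hdetp, div_eq_iff (mul_ne_zero hμ hμ)]; ring
    refine ⟨pm x₀ + ν • x₀, fun h => hx₀ (-ν) ?_, ν • qm, fun y => ?_⟩
    · rw [neg_smul]; exact eq_neg_of_add_eq_zero_left h
    · rw [hpqm, map_add, map_smul, hpp, ← hν2, ← smul_smul, ← smul_add, add_comm (ν • x₀), tvec_smul_left,
        ← tvec_smul_right]
      rfl
  -- an isotropic fixed vector
  have hq2 : ∀ y, q' (q' y) - q' y = q' y - y := fun y => by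
    obtain ⟨φ, hφ⟩ := exists_dot_one hx
    have e1 := congrArg (rc e P φ) (hm2 (tvec e P x y))
    rw [hxq, hxq, map_add, map_smul, rc_tvec, rc_tvec, rc_tvec, hφ, one_smul, one_smul, one_smul, two_smul] at e1
    linear_combination (norm := abel) e1
  obtain ⟨z, hz, hzz, hzq⟩ : ∃ z, z ≠ 0 ∧ f₂ z z = 0 ∧ q' z = z := by
    have hle : LinearMap.range (q' - LinearMap.id) ≤ LinearMap.ker (q' - LinearMap.id) := by
      rintro _ ⟨y, rfl⟩
      rw [LinearMap.mem_ker]
      simp only [LinearMap.sub_apply, LinearMap.id_apply, map_sub]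
      rw [hq2 y, sub_self]
    have e1 := LinearMap.finrank_range_add_finrank_ker (q' - LinearMap.id)
    have e2 := Submodule.finrank_mono hle
    rw [Module.finrank_fin_fun] at e1
    obtain ⟨z, hzK, hz, hzz⟩ := exists_isotropic h2 (W := LinearMap.ker (q' - LinearMap.id)) (by omega)
    exact ⟨z, hz, hzz, sub_eq_zero.1 hzK⟩
  have hZ : NS ((g : Matrix ι ι F) *ᵥ tvec e P x z) = 0 := by
    have e1 := hxq z
    rw [hzq, hmz, add_eq_left] at e1
    exact gl_mulVec_eq_zero.1 e1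
  obtain ⟨X, hX⟩ : ∃ X, X = cob D b ((g : Matrix ι ι F) *ᵥ tvec e P x z) := ⟨_, rfl⟩
  obtain ⟨Y, hY⟩ : ∃ Y, Y = cob D l ((g : Matrix ι ι F) *ᵥ tvec e P x z) := ⟨_, rfl⟩
  have hsys : a • X + u • Y = 0 ∧ σ u • X + d • Y = 0 := by
    simp only [NS, ← hX, ← hY] at hZ
    obtain ⟨p₁, -, hp₁⟩ := exists_left_one h2 hb
    obtain ⟨p₂, -, hp₂⟩ := exists_left_one h2 hl0
    constructor
    · have e1 := congrArg (cob D b') hZ
      rw [map_zero, map_add, cob_tvec, cob_tvec, hbb', hlb', one_smul, zero_smul, add_zero] at e1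
      exact (smul_eq_zero.1 e1).resolve_left hθ
    · obtain ⟨δ, hδ1, hδ0⟩ := exists_dual (Submodule.span F {b}) (x := l) fun hm => by
        obtain ⟨c₁, hc₁⟩ := Submodule.mem_span_singleton.1 hm
        rw [← hc₁, h2.smul_left, hbb', mul_one] at hlb'
        exact hl0 (by rw [← hc₁, hlb', zero_smul])
      have e1 := congrArg (co e P δ) hZ
      rw [map_zero, map_add, co_tvec, co_tvec, hδ1, hδ0 b (Submodule.mem_span_singleton_self b), one_smul, zero_smul,
        zero_add] at e1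
      exact (smul_eq_zero.1 e1).resolve_left hθ
  have hX0 : X = 0 := by
    have e1 : (a * d - u * σ u) • X = 0 := by
      have e2 : d • (a • X + u • Y) - u • (σ u • X + d • Y) = 0 := by rw [hsys.1, hsys.2, smul_zero, smul_zero, sub_zero]
      rw [← e2]
      module
    exact (smul_eq_zero.1 e1).resolve_left (sub_ne_zero.2 hdet)
  exact reduce g hg x hx z hz hzz b hb hbb (hX ▸ hX0)

/-- the descent step: elements of `M` preserving `A ⊗ b₀` lie in the tensor product subgroup -/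
theorem step (hr : 2 ≤ r) (hs : 4 ≤ s) (hex : 3 ≤ r ∨ ∃ t : F, σ t = t ∧ t ≠ 0 ∧ t ≠ 1)
    (hΩ : ¬ isoU f ⊓ specialLinear ι F ≤ M) (hrs : r < s) (A : Submodule F (Fin r → F))
    (IH : ∀ g ∈ M, ∀ b : Fin s → F, b ≠ 0 → f₂ b b = 0 → ∀ A' : Submodule F (Fin r → F),
      Module.finrank F A < Module.finrank F A' →
      (∀ x ∈ A', ∃ x' ∈ A', (g : Matrix ι ι F) *ᵥ tvec e P x b = tvec e P x' b) →
      g ∈ tensorProductSubgroup r s e P)
    {g : GL ι F} (hg : g ∈ M) {b₀ : Fin s → F} (hb₀ : b₀ ≠ 0) (hbb₀ : f₂ b₀ b₀ = 0)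
    (hpres : ∀ x ∈ A, ∃ x' ∈ A, (g : Matrix ι ι F) *ᵥ tvec e P x b₀ = tvec e P x' b₀) :
    g ∈ tensorProductSubgroup r s e P := by
  classical
  have h1 := D.u1
  have h2 := D.u2
  have hr0 : 0 < r := by omega
  rcases eq_or_ne A ⊤ with rfl | hAt
  · exact rigid D hr hs hex hΩ hrs hb₀ hbb₀ g hg b₀ hb₀
      fun x => let ⟨x', _, hx'⟩ := hpres x Submodule.mem_top; ⟨x', hx'⟩
  by_cases hsmall : A = ⊥ ∧ r = 3 ∧ s = 4
  · obtain ⟨hA0, hr3, hs4⟩ := hsmall
    refine three_four D hr3 hs4 hΩ (fun g' hg' b hb hbb x hx hfix => IH g' hg' b hb hbb (Submodule.span F {x}) ?_ ?_)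
      hg hb₀ hbb₀
    · rw [hA0, finrank_bot, finrank_span_singleton hx]; exact Nat.one_pos
    · intro z hz
      obtain ⟨d, rfl⟩ := Submodule.mem_span_singleton.1 hz
      exact ⟨_, hz, by rw [tvec_smul_left, mulVec_smul, hfix]⟩
  obtain ⟨y₁, hy₁b, hby₁⟩ := exists_left_one h2 hb₀
  obtain ⟨c₀, hc₀, hc₀σ⟩ := exists_trace_zero h2
  obtain ⟨h0, ht₀M, ht₀⟩ := exists_root D hbb₀ hc₀σ
  obtain ⟨t₀, ht₀def⟩ : ∃ t₀, t₀ = rootGL e P b₀ (c₀ • hv h2 b₀) h0 := ⟨_, rfl⟩
  rw [← ht₀def] at ht₀M ht₀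
  have hβ : c₀ • hv h2 b₀ ≠ 0 := smul_ne_zero hc₀ fun e1 => one_ne_zero (α := F) (by
    rw [← hy₁b, ← hv_dot h2, e1, zero_dotProduct])
  have pull : ∀ h ∈ M, h * t₀ * h⁻¹ ∈ tensorProductSubgroup r s e P → h ∈ tensorProductSubgroup r s e P := by
    intro h hh hmem
    rw [ht₀def] at hmem
    obtain ⟨b'', hb'', hx⟩ := fold hr0 hrs h0 hb₀ hβ hmem
    exact rigid D hr hs hex hΩ hrs hb₀ hbb₀ h hh b'' hb'' hx
  -- the inverse preserves the same space
  have hpres' : ∀ x ∈ A, ∃ x' ∈ A, ((g⁻¹ : GL ι F) : Matrix ι ι F) *ᵥ tvec e P x b₀ = tvec e P x' b₀ := by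
    obtain ⟨W, hW⟩ : ∃ W : Submodule F (ι → F), W = A.map (tlm e P b₀) := ⟨_, rfl⟩
    have hle : W.map (Matrix.mulVecLin (g : Matrix ι ι F)) ≤ W := by
      rintro _ ⟨_, hw, rfl⟩
      rw [hW] at hw ⊢
      obtain ⟨x, hx, rfl⟩ := hw
      obtain ⟨x', hx', he⟩ := hpres x hx
      exact ⟨x', hx', he.symm⟩
    have heq : W.map (Matrix.mulVecLin (g : Matrix ι ι F)) = W :=
      Submodule.eq_of_le_of_finrank_le hle (le_of_eq ((Submodule.equivMapOfInjective _ (fun u v huv => by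
        have e1 := congrArg (fun z => ((g⁻¹ : GL ι F) : Matrix ι ι F) *ᵥ z) huv
        simpa [gl_inv_mulVec] using e1) W).finrank_eq))
    intro x hx
    obtain ⟨z, hz, hzx⟩ : tvec e P x b₀ ∈ W.map (Matrix.mulVecLin (g : Matrix ι ι F)) := by
      rw [heq, hW]; exact ⟨x, hx, rfl⟩
    rw [hW] at hz
    obtain ⟨x', hx', rfl⟩ := hz
    refine ⟨x', hx', ?_⟩
    rw [← hzx]
    exact gl_inv_mulVec g _
  -- the conjugate of the root
  obtain ⟨E, hE⟩ : ∃ E, E = g * t₀ * g⁻¹ := ⟨_, rfl⟩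
  have hEM : E ∈ M := hE ▸ M.mul_mem (M.mul_mem hg ht₀M) (M.inv_mem hg)
  refine pull g hg (hE ▸ ?_)
  by_contra hEH
  obtain ⟨N, hN⟩ : ∃ N : (ι → F) →ₗ[F] (ι → F), N = Matrix.mulVecLin (E : Matrix ι ι F) - LinearMap.id := ⟨_, rfl⟩
  have hNd : ∀ z, N z = (E : Matrix ι ι F) *ᵥ z - z := fun z => by rw [hN]; rfl
  have hEN : ∀ z, (E : Matrix ι ι F) *ᵥ z = z + N z := fun z => by rw [hNd]; abel
  have hNg : ∀ z, N z = (g : Matrix ι ι F) *ᵥ tvec e P (c₀ • cob D b₀ (((g⁻¹ : GL ι F) : Matrix ι ι F) *ᵥ z)) b₀ :=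
    fun z => by
    rw [hNd, hE, gl_mul_mulVec, gl_mul_mulVec, ht₀, mulVec_add, gl_mulVec_inv]
    abel
  have hN2 : ∀ z, N (N z) = 0 := fun z => by
    rw [hNg (N z), hNg z, gl_inv_mulVec, cob_tvec, hbb₀, zero_smul, smul_zero, tvec_zero_left, mulVec_zero]
  have hskew : ∀ z z', f (N z) z' + f z (N z') = 0 := fun z z' => by
    have e1 := mem_isoU.1 (D.le hEM) z z'
    rw [hEN, hEN, D.form.add_left, herm_add_right D.form, herm_add_right D.form, hNg z, hNg z',
      mem_isoU.1 (D.le hg), D.pol, hbb₀, mul_zero, mul_zero, ← hNg, ← hNg] at e1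
    linear_combination e1
  have hEi : ∀ z, ((E⁻¹ : GL ι F) : Matrix ι ι F) *ᵥ z = z - N z := fun z => by
    have e1 : (E : Matrix ι ι F) *ᵥ (z - N z) = z := by rw [hEN, map_sub, hN2, sub_zero, sub_add_cancel]
    conv_lhs => rw [← e1, gl_inv_mulVec]
  have hNA : ∀ x ∈ A, N (tvec e P x b₀) = 0 := fun x hx => by
    obtain ⟨x', -, he⟩ := hpres' x hx
    rw [hNg, he, cob_tvec, hbb₀, zero_smul, smul_zero, tvec_zero_left, mulVec_zero]
  have hEA : ∀ x ∈ A, (E : Matrix ι ι F) *ᵥ tvec e P x b₀ = tvec e P x b₀ := fun x hx => by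
    rw [hEN, hNA x hx, add_zero]
  have hEiA : ∀ x ∈ A, ((E⁻¹ : GL ι F) : Matrix ι ι F) *ᵥ tvec e P x b₀ = tvec e P x b₀ := fun x hx => by
    rw [hEi, hNA x hx, sub_zero]
  have pullE : E⁻¹ * t₀ * E ∈ tensorProductSubgroup r s e P → False := fun h => hEH (by
    have h' := pull E⁻¹ (M.inv_mem hEM) (by rwa [inv_inv])
    exact inv_inv E ▸ inv_mem h')
  have ht₀fix : ∀ z, cob D b₀ z = 0 → (t₀ : Matrix ι ι F) *ᵥ z = z := fun z hz => by
    rw [ht₀, hz, smul_zero, tvec_zero_left, add_zero]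
  obtain ⟨Φ, hΦ⟩ : ∃ Φ : (Fin r → F) →ₗ[F] (Fin r → F), Φ = (cob D b₀).comp (N.comp (tlm e P b₀)) := ⟨_, rfl⟩
  have hΦx : ∀ x, Φ x = cob D b₀ (N (tvec e P x b₀)) := fun x => by rw [hΦ]; rfl
  have hΦA0 : ∀ x ∈ A, Φ x = 0 := fun x hx => by rw [hΦx, hNA x hx, map_zero]
  have hΦskew : ∀ x x', f₁ (Φ x) x' + f₁ x (Φ x') = 0 := fun x x' => by
    have e1 := hskew (tvec e P x b₀) (tvec e P x' b₀)
    rw [pair D, pair' D, ← hΦx, ← hΦx, ← mul_add] at e1
    exact (mul_eq_zero.1 e1).resolve_left D.kne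
  have hΦperp : ∀ x, Φ x ∈ perp h1 A := fun x w hw => by
    have e1 := hΦskew x w
    rwa [hΦA0 w hw, herm_zero_right h1, add_zero] at e1
  have hgrow : ∀ u, u ∉ A → Module.finrank F A < Module.finrank F ↥(A ⊔ Submodule.span F {u}) := fun u hu =>
    Submodule.finrank_lt_finrank_of_lt (lt_of_le_of_ne le_sup_left fun h => hu (by
      rw [h]; exact Submodule.mem_sup_right (Submodule.mem_span_singleton_self u)))
  -- no vector outside `A` is sent into `A`
  have hout : ∀ x, x ∉ A → Φ x ∉ A := by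
    intro x hx hΦA'
    refine pullE (IH _ (M.mul_mem (M.mul_mem (M.inv_mem hEM) ht₀M) hEM) b₀ hb₀ hbb₀ _ (hgrow x hx) ?_)
    intro z hz
    obtain ⟨α, hα, _, hβ', rfl⟩ := Submodule.mem_sup.1 hz
    obtain ⟨a, rfl⟩ := Submodule.mem_span_singleton.1 hβ'
    have hΦz : Φ (α + a • x) ∈ A := by
      rw [map_add, map_smul, hΦA0 α hα, zero_add]; exact A.smul_mem _ hΦA'
    refine ⟨α + a • x + c₀ • Φ (α + a • x), Submodule.add_mem _ hz (Submodule.mem_sup_left (A.smul_mem _ hΦz)), ?_⟩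
    rw [gl_mul_mulVec, gl_mul_mulVec, ht₀, mulVec_add, gl_inv_mulVec, hEN, map_add, cob_tvec, hbb₀, zero_smul,
      zero_add, ← hΦx, hEiA _ (A.smul_mem c₀ hΦz), ← tvec_add_left]
  have hker : LinearMap.ker Φ = A := le_antisymm (fun x hx => by
    by_contra hxA
    exact hout x hxA (by rw [LinearMap.mem_ker.1 hx]; exact A.zero_mem)) fun x hx => LinearMap.mem_ker.2 (hΦA0 x hx)
  have hdisj : A ⊓ LinearMap.range Φ = ⊥ := by
    refine (Submodule.eq_bot_iff _).2 fun y hy => ?_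
    obtain ⟨hyA, x, rfl⟩ := hy
    by_contra hne
    exact hout x (fun hxA => hne (hΦA0 x hxA)) hyA
  have hsup : A ⊔ LinearMap.range Φ = ⊤ := by
    refine Submodule.eq_top_of_finrank_eq ?_
    have e1 := Submodule.finrank_sup_add_finrank_inf_eq A (LinearMap.range Φ)
    have e2 := LinearMap.finrank_range_add_finrank_ker Φ
    rw [hdisj, finrank_bot] at e1
    rw [hker] at e2
    omega
  have hzero : ∀ v ∈ A, v ∈ perp h1 A → v = 0 := fun v hvA hv => eq_of_left h1 fun x => by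
    obtain ⟨α, hα, _, ⟨z, rfl⟩, rfl⟩ := Submodule.mem_sup.1 (hsup.ge (Submodule.mem_top (x := x)))
    have e1 := hΦskew v z
    rw [hΦA0 v hvA, herm_zero_left h1, zero_add] at e1
    rw [herm_add_right h1, hv α hα, e1, herm_zero_left h1, add_zero]
  have hAnd : IsNondegenerateOn f₁ A := fun v hv hv0 => by
    obtain ⟨w, hw, hw'⟩ : ∃ w ∈ A, f₁ v w ≠ 0 := by
      by_contra hcon
      push Not at hcon
      exact hv0 (hzero v hv hcon)
    exact ⟨⟨w, hw, fun h => hw' (herm_swap_zero h1 h)⟩, ⟨w, hw, hw'⟩⟩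
  have hΦi : ∀ x ∈ perp h1 A, Φ x = 0 → x = 0 := fun x hx h => disjoint_perp h1 hAnd (hker ▸ LinearMap.mem_ker.2 h) hx
  have hΦK : ∀ y ∈ perp h1 A, ∃ x ∈ perp h1 A, Φ x = y := by
    intro y hy
    have hinj : Function.Injective (Φ.restrict fun x (_ : x ∈ perp h1 A) => hΦperp x) :=
      (injective_iff_map_eq_zero _).2 fun x hx => Subtype.ext (hΦi x x.2 (congrArg Subtype.val hx))
    obtain ⟨x, hx⟩ := LinearMap.surjective_of_injective hinj ⟨y, hy⟩
    exact ⟨x, x.2, congrArg Subtype.val hx⟩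
  -- the commutator enlarging `A`
  obtain ⟨w, τ, hwb, hww, hwsp, hτσ, c, hcA, hzE⟩ := exists_param D hr hs hrs hb₀ hbb₀ (N := N) hAt hAnd hsmall hNA
    (fun y hy => by simpa [hΦx] using hΦK y hy) (fun x => hΦx x ▸ hΦperp x)
    (fun x hx h => hΦi x hx (by rw [hΦx]; exact h))
  obtain ⟨B, hBM, hBH, hB⟩ := exists_hB D hbb₀ hwb (τ := τ) (by rw [hτσ, hww]; ring)
  have hbw : f₂ b₀ w = 0 := herm_swap_zero h2 hwb
  have hBb : ∀ x, (B : Matrix ι ι F) *ᵥ tvec e P x b₀ = tvec e P x b₀ := fun x => by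
    rw [hB, cob_tvec, cob_tvec, hbb₀, hbw, zero_smul, smul_zero, sub_zero, tvec_zero_left, tvec_zero_left, add_zero,
      add_zero]
  have hBbi : ∀ x, ((B⁻¹ : GL ι F) : Matrix ι ι F) *ᵥ tvec e P x b₀ = tvec e P x b₀ := fun x => by
    conv_lhs => rw [← hBb x, gl_inv_mulVec]
  obtain ⟨m, hm⟩ : ∃ m, m = E⁻¹ * B * E * B⁻¹ := ⟨_, rfl⟩
  have hmM : m ∈ M := hm ▸ M.mul_mem (M.mul_mem (M.mul_mem (M.inv_mem hEM) hBM) hEM) (M.inv_mem hBM)
  have hmA : ∀ x ∈ A, (m : Matrix ι ι F) *ᵥ tvec e P x b₀ = tvec e P x b₀ := fun x hx => by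
    rw [hm, gl_mul_mulVec, gl_mul_mulVec, gl_mul_mulVec, hBbi, hEA x hx, hBb, hEiA x hx]
  have hmc : cob D b₀ ((m : Matrix ι ι F) *ᵥ tvec e P c b₀) = 0 := by
    obtain ⟨u, hu⟩ : ∃ u, u = cob D w (N (tvec e P c b₀)) := ⟨_, rfl⟩
    have hZ : (B : Matrix ι ι F) *ᵥ ((E : Matrix ι ι F) *ᵥ tvec e P c b₀) =
        tvec e P c b₀ + N (tvec e P c b₀) + tvec e P (Φ c) w + tvec e P (τ • Φ c - u) b₀ := by
      rw [hEN, mulVec_add, hBb, hB, ← hΦx, ← hu]
      abel
    refine eq_of_left h1 fun x => mul_left_cancel₀ D.kne ?_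
    rw [hm, gl_mul_mulVec, gl_mul_mulVec, gl_mul_mulVec, hBbi, hZ, hEi, herm_zero_left h1, mul_zero, ← pair D,
      herm_sub_left D.form]
    have hsk := hskew (tvec e P c b₀ + N (tvec e P c b₀) + tvec e P (Φ c) w + tvec e P (τ • Φ c - u) b₀)
      (tvec e P x b₀)
    have hNN : f (N (tvec e P c b₀)) (N (tvec e P x b₀)) = 0 := by
      have := hskew (tvec e P c b₀) (N (tvec e P x b₀))
      rwa [hN2, herm_zero_right D.form, add_zero] at this
    rw [D.form.add_left, D.form.add_left, D.form.add_left (tvec e P c b₀) (N (tvec e P c b₀)), hNN, pair' D, pair' D,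
      pair' D, ← hΦx] at hsk
    rw [D.form.add_left, D.form.add_left, D.form.add_left, pair D, pair D, pair D, pair D, cob_tvec, cob_tvec, cob_tvec,
      hbb₀, hwb, zero_smul, zero_smul, zero_smul, ← hΦx, herm_zero_left h1, mul_zero]
    have e3 := hzE x
    rw [← hΦx, ← hΦx, ← hu] at e3
    rw [herm_sub_left h1, h1.smul_left] at hsk
    have e4 := hΦskew c x
    linear_combination hsk * (-1 : F) + k * e4 + k * e3
  have hmH : m ∈ tensorProductSubgroup r s e P := by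
    have hT : m⁻¹ * t₀ * m ∈ tensorProductSubgroup r s e P := by
      refine IH _ (M.mul_mem (M.mul_mem (M.inv_mem hmM) ht₀M) hmM) b₀ hb₀ hbb₀ _ (hgrow c hcA) fun z hz => ?_
      obtain ⟨α, hα, _, hβ', rfl⟩ := Submodule.mem_sup.1 hz
      obtain ⟨a, rfl⟩ := Submodule.mem_span_singleton.1 hβ'
      refine ⟨_, hz, ?_⟩
      rw [gl_mul_mulVec, gl_mul_mulVec, ht₀fix _ ?_, gl_inv_mulVec]
      rw [tvec_add_left, tvec_smul_left, mulVec_add, mulVec_smul, map_add, map_smul, hmA α hα, cob_tvec, hbb₀,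
        zero_smul, hmc, smul_zero, add_zero]
    have h' := pull m⁻¹ (M.inv_mem hmM) (by rwa [inv_inv])
    exact inv_inv m ▸ inv_mem h'
  -- the element `Y = 1 + (square zero)` of the tensor product subgroup
  obtain ⟨Y, hY⟩ : ∃ Y, Y = E⁻¹ * B * E := ⟨_, rfl⟩
  have hYM : Y ∈ M := hY ▸ M.mul_mem (M.mul_mem (M.inv_mem hEM) hBM) hEM
  have hYH : Y ∈ tensorProductSubgroup r s e P := by
    rw [show Y = m * B by rw [hY, hm, inv_mul_cancel_right]]
    exact mul_mem hmH hBH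
  have hYz : ∀ z, (Y : Matrix ι ι F) *ᵥ z - z = ((E⁻¹ : GL ι F) : Matrix ι ι F) *ᵥ
      ((B : Matrix ι ι F) *ᵥ ((E : Matrix ι ι F) *ᵥ z) - (E : Matrix ι ι F) *ᵥ z) := fun z => by
    rw [hY, gl_mul_mulVec, gl_mul_mulVec, mulVec_sub, gl_inv_mulVec]
  have hB0 : ∀ v, (B : Matrix ι ι F) *ᵥ v - v =
      tvec e P (cob D b₀ v) w + tvec e P (τ • cob D b₀ v - cob D w v) b₀ := fun v => by
    rw [hB]; abel
  have hYcob : ∀ z, cob D b₀ ((E : Matrix ι ι F) *ᵥ ((Y : Matrix ι ι F) *ᵥ z - z)) = 0 := fun z => by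
    rw [hYz, gl_mulVec_inv, hB0, map_add, cob_tvec, cob_tvec, hwb, hbb₀, zero_smul, zero_smul, add_zero]
  have hYiso : ∀ z z', f ((Y : Matrix ι ι F) *ᵥ z - z) ((Y : Matrix ι ι F) *ᵥ z' - z') = 0 := fun z z' => by
    rw [hYz, hYz, mem_isoU.1 (D.le (M.inv_mem hEM)), hB0, hB0, D.form.add_left, herm_add_right D.form,
      herm_add_right D.form, D.pol, D.pol, D.pol, D.pol, hww, hwb, hbw, hbb₀]
    ring
  have hY2 : ∀ z, (Y : Matrix ι ι F) *ᵥ ((Y : Matrix ι ι F) *ᵥ z - z) = (Y : Matrix ι ι F) *ᵥ z - z := fun z => by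
    rw [hYz, hY, gl_mul_mulVec, gl_mul_mulVec, gl_mulVec_inv]
    congr 1
    rw [hB0, mulVec_add, hBb, hB, cob_tvec, cob_tvec, hwb, hww, zero_smul, smul_zero, sub_zero, tvec_zero_left,
      tvec_zero_left, add_zero, add_zero]
  obtain ⟨T, hT⟩ : ∃ T, T = E⁻¹ * t₀ * E := ⟨_, rfl⟩
  have hTM : T ∈ M := hT ▸ M.mul_mem (M.mul_mem (M.inv_mem hEM) ht₀M) hEM
  have hTim : ∀ z, (T : Matrix ι ι F) *ᵥ ((Y : Matrix ι ι F) *ᵥ z - z) = (Y : Matrix ι ι F) *ᵥ z - z := fun z => by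
    rw [hT, gl_mul_mulVec, gl_mul_mulVec, ht₀fix _ (hYcob z), gl_inv_mulVec]
  have hTA : ∀ x ∈ A, (T : Matrix ι ι F) *ᵥ tvec e P x b₀ = tvec e P x b₀ := fun x hx => by
    rw [hT, gl_mul_mulVec, gl_mul_mulVec, hEA x hx, ht₀fix _ (by rw [cob_tvec, hbb₀, zero_smul]), hEiA x hx]
  refine pullE (hT ▸ ?_)
  obtain ⟨a, b, hab⟩ := mem_tensor hYH
  let am : (Fin r → F) →ₗ[F] (Fin r → F) := Matrix.mulVecLin (a : Matrix (Fin r) (Fin r) F)
  let bm : (Fin s → F) →ₗ[F] (Fin s → F) := Matrix.mulVecLin (b : Matrix (Fin s) (Fin s) F)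
  have hamb : ∀ x y, (Y : Matrix ι ι F) *ᵥ tvec e P x y = tvec e P (am x) (bm y) := hab
  have ha0 : ∀ x, am x = 0 → x = 0 := fun x h => gl_mulVec_eq_zero.1 h
  have hb0 : ∀ y, bm y = 0 → y = 0 := fun y h => gl_mulVec_eq_zero.1 h
  obtain ⟨xa, -, hxa⟩ := exists_anisotropic h1 (isNondegenerateOn_top h1) (fun h0 => by
    have := congrArg (fun W : Submodule F (Fin r → F) => Module.finrank F W) h0
    simp at this
    omega)
  -- a vector `u ⊗ b₀` fixed by `T` enlarges `A`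
  have hline : ∀ u, u ≠ 0 → u ∈ perp h1 A → (T : Matrix ι ι F) *ᵥ tvec e P u b₀ = tvec e P u b₀ →
      T ∈ tensorProductSubgroup r s e P := fun u hu hup hTu => by
    refine IH T hTM b₀ hb₀ hbb₀ _ (hgrow u fun huA => hu (disjoint_perp h1 hAnd huA hup)) fun z hz => ?_
    obtain ⟨α, hα, _, hβ', rfl⟩ := Submodule.mem_sup.1 hz
    obtain ⟨a', rfl⟩ := Submodule.mem_span_singleton.1 hβ'
    exact ⟨_, hz, by rw [tvec_add_left, tvec_smul_left, mulVec_add, mulVec_smul, hTA α hα, hTu]⟩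
  by_cases hasc : ∀ x, ∃ d : F, (a : Matrix (Fin r) (Fin r) F) *ᵥ x = d • x
  · -- `Y = 1 ⊗ B'`: a whole `U ⊗ y` is fixed
    obtain ⟨l, hl⟩ := scalar_of_eigen hr0 hasc
    obtain ⟨y, hy⟩ : ∃ y, l • bm y - y ≠ 0 := by
      by_contra hcon
      push Not at hcon
      refine hwsp ?_
      have hY1 : Y = 1 := gl_ext_tvec (e := e) (P := P) fun x y => by
        rw [hamb, show am x = l • x from hl x, tvec_smul_left, ← tvec_smul_right, sub_eq_zero.1 (hcon y),
          Units.val_one, one_mulVec]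
      have hB1 : B = 1 := by
        rw [hY] at hY1
        calc B = E * (E⁻¹ * B * E) * E⁻¹ := by group
          _ = 1 := by rw [hY1]; group
      have e1 := hB0 (tvec e P xa y₁)
      rw [hB1, Units.val_one, one_mulVec, sub_self, cob_tvec, cob_tvec, hy₁b, one_smul] at e1
      obtain ⟨φ, hφ⟩ := exists_dot_one (b := xa) fun h => hxa (by rw [h, herm_zero_left h1])
      have e2 := congrArg (rc e P φ) e1
      rw [map_zero, map_add, rc_tvec, rc_tvec, hφ, one_smul] at e2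
      exact Submodule.mem_span_singleton.2 ⟨_, (eq_neg_of_add_eq_zero_left e2.symm).trans (neg_smul _ _).symm |>.symm⟩
    have himg : ∀ x, (Y : Matrix ι ι F) *ᵥ tvec e P x y - tvec e P x y = tvec e P x (l • bm y - y) := fun x => by
      rw [hamb, show am x = l • x from hl x, tvec_smul_left, ← tvec_smul_right, sub_eq_add_neg (l • bm y),
        ← neg_one_smul F y, tvec_add_right, tvec_smul_right (-1 : F), neg_one_smul, ← sub_eq_add_neg]
    have hiso : f₂ (l • bm y - y) (l • bm y - y) = 0 := by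
      have e1 := hYiso (tvec e P xa y) (tvec e P xa y)
      rw [himg, D.pol] at e1
      exact (mul_eq_zero.1 ((mul_eq_zero.1 e1).resolve_left D.kne)).resolve_left hxa
    subst ht₀def
    have key := conj_root_fix D hr hs hex hΩ (M.inv_mem hEM) hbb₀ ht₀M hy hiso (fun x => by
      rw [inv_inv, ← hT, ← himg]; exact hTim _)
    rwa [inv_inv, ← hT] at key
  push Not at hasc
  obtain ⟨x₀, hx₀⟩ := hasc
  have hax₀ : am x₀ ∉ Submodule.span F {x₀} := fun h => by
    obtain ⟨d, hd⟩ := Submodule.mem_span_singleton.1 h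
    exact hx₀ d hd.symm
  have hx₀0 : x₀ ≠ 0 := fun h => hx₀ 0 (by rw [h, mulVec_zero, smul_zero])
  by_cases hbsc : ∀ y, ∃ d : F, (b : Matrix (Fin s) (Fin s) F) *ᵥ y = d • y
  · -- `Y = A' ⊗ 1`
    obtain ⟨l, hl⟩ := scalar_of_eigen (by omega) hbsc
    let a' : (Fin r → F) →ₗ[F] (Fin r → F) := l • am
    have hY' : ∀ x y, (Y : Matrix ι ι F) *ᵥ tvec e P x y = tvec e P (a' x) y := fun x y => by
      rw [hamb, show bm y = l • y from hl y, tvec_smul_right, ← tvec_smul_left]; rfl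
    have hiso : ∀ x x', f₁ (a' x) (a' x') = f₁ x x' := fun x x' => by
      have e1 := mem_isoU.1 (D.le hYM) (tvec e P x b₀) (tvec e P x' y₁)
      rw [hY', hY', D.pol, D.pol, hby₁, mul_one, mul_one] at e1
      exact mul_left_cancel₀ D.kne e1
    have hfixA : ∀ x ∈ A, a' x = x := fun x hx => tvec_left_inj hb₀ (by
      rw [← hY', hY, gl_mul_mulVec, gl_mul_mulVec, hEA x hx, hBb, hEiA x hx])
    refine hline (a' x₀ - x₀) (fun h => hax₀ (Submodule.mem_span_singleton.2 ⟨l⁻¹, ?_⟩)) (fun α hα => ?_) ?_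
    · have hl0 : l ≠ 0 := fun hl0 => hx₀0 (by
        have e1 : a' x₀ = x₀ := sub_eq_zero.1 h
        rw [← e1]; show l • am x₀ = 0; rw [hl0, zero_smul])
      conv_lhs => rw [← sub_eq_zero.1 h]
      show l⁻¹ • l • am x₀ = am x₀
      rw [inv_smul_smul₀ hl0]
    · rw [herm_sub_left h1]
      nth_rw 1 [← hfixA α hα]
      rw [hiso, sub_self]
    · rw [tvec_sub_l D, ← hY']; exact hTim _
  push Not at hbsc
  obtain ⟨y₀, hy₀⟩ := hbsc
  have hby₀ : bm y₀ ∉ Submodule.span F {y₀} := fun h => by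
    obtain ⟨d, hd⟩ := Submodule.mem_span_singleton.1 h
    exact hy₀ d hd.symm
  have hy₀0 : y₀ ≠ 0 := fun h => hy₀ 0 (by rw [h, mulVec_zero, smul_zero])
  -- both factors are non-scalar: the characteristic is two and both are involutions up to scalars
  have hquad : ∀ x y, tvec e P (am (am x)) (bm (bm y)) + tvec e P x y = (2 : F) • tvec e P (am x) (bm y) := by
    intro x y
    have e1 := hY2 (tvec e P x y)
    rw [mulVec_sub, hamb, hamb] at e1
    rw [two_smul]
    linear_combination (norm := abel) e1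
  obtain ⟨φ, hφ1, hφ0⟩ := exists_dual (Submodule.span F {am x₀}) (x := x₀) fun h => by
    obtain ⟨d, hd⟩ := Submodule.mem_span_singleton.1 h
    have hd0 : d ≠ 0 := fun h0 => hx₀0 (by rw [← hd, h0, zero_smul])
    exact hax₀ (Submodule.mem_span_singleton.2 ⟨d⁻¹, (eq_inv_smul_iff₀ hd0).2 hd |>.symm⟩)
  obtain ⟨ψ, hψ1, hψ0⟩ := exists_dual (Submodule.span F {bm y₀}) (x := y₀) fun h => by
    obtain ⟨d, hd⟩ := Submodule.mem_span_singleton.1 h
    have hd0 : d ≠ 0 := fun h0 => hy₀0 (by rw [← hd, h0, zero_smul])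
    exact hby₀ (Submodule.mem_span_singleton.2 ⟨d⁻¹, (eq_inv_smul_iff₀ hd0).2 hd |>.symm⟩)
  have hb2 : ∀ y, (φ ⬝ᵥ am (am x₀)) • bm (bm y) = -y := fun y => by
    have e1 := congrArg (rc e P φ) (hquad x₀ y)
    rw [map_add, map_smul, rc_tvec, rc_tvec, rc_tvec, hφ1, hφ0 _ (Submodule.mem_span_singleton_self _), one_smul,
      zero_smul, smul_zero] at e1
    exact eq_neg_of_add_eq_zero_left e1
  have hν : φ ⬝ᵥ am (am x₀) ≠ 0 := fun h => hy₀0 (by
    have := hb2 y₀
    rwa [h, zero_smul, eq_comm, neg_eq_zero] at this)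
  obtain ⟨lb, hlb⟩ : ∃ lb, lb = -(φ ⬝ᵥ am (am x₀))⁻¹ := ⟨_, rfl⟩
  have hbb : ∀ y, bm (bm y) = lb • y := fun y => by
    rw [hlb, neg_smul, ← smul_neg, eq_inv_smul_iff₀ hν, hb2]
  have ha2 : ∀ x, (ψ ⬝ᵥ bm (bm y₀)) • am (am x) = -x := fun x => by
    have e1 := congrArg (co e P ψ) (hquad x y₀)
    rw [map_add, map_smul, co_tvec, co_tvec, co_tvec, hψ1, hψ0 _ (Submodule.mem_span_singleton_self _), one_smul,
      zero_smul, smul_zero] at e1
    exact eq_neg_of_add_eq_zero_left e1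
  have hμ : ψ ⬝ᵥ bm (bm y₀) ≠ 0 := fun h => hx₀0 (by
    have := ha2 x₀
    rwa [h, zero_smul, eq_comm, neg_eq_zero] at this)
  obtain ⟨la, hla⟩ : ∃ la, la = -(ψ ⬝ᵥ bm (bm y₀))⁻¹ := ⟨_, rfl⟩
  have haa : ∀ x, am (am x) = la • x := fun x => by
    rw [hla, neg_smul, ← smul_neg, eq_inv_smul_iff₀ hμ, ha2]
  have hsum := hquad x₀ y₀
  rw [haa, hbb, tvec_smul_left, tvec_smul_right, smul_smul] at hsum
  have h2F : (2 : F) = 0 := by
    obtain ⟨φ', hφ'1, hφ'0⟩ := exists_dual _ hax₀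
    have e1 := congrArg (rc e P φ') hsum
    rw [map_add, map_smul, map_smul, rc_tvec, rc_tvec, hφ'1, hφ'0 _ (Submodule.mem_span_singleton_self _), one_smul,
      zero_smul, smul_zero, add_zero] at e1
    exact (smul_eq_zero.1 e1.symm).resolve_right fun h => hy₀0 (hb0 _ h)
  have hlab : la * lb = 1 := by
    rw [h2F, zero_smul] at hsum
    have e1 : (la * lb + 1) • tvec e P x₀ y₀ = 0 := by rw [add_smul, one_smul]; exact hsum
    have e2 := (smul_eq_zero.1 e1).resolve_right (tvec_ne_zero hx₀0 hy₀0)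
    linear_combination e2 - h2F
  have hla0 : la ≠ 0 := left_ne_zero_of_mul_eq_one hlab
  have hchar : ringChar F = 2 := (Nat.prime_dvd_prime_iff_eq (CharP.char_is_prime F (ringChar F)) Nat.prime_two).1
    (ringChar.dvd (by exact_mod_cast h2F))
  obtain ⟨ρ, hρ⟩ := FiniteField.isSquare_of_char_two hchar lb
  have hρ0 : ρ ≠ 0 := fun h => by rw [h, zero_mul] at hρ; rw [hρ, mul_zero] at hlab; exact zero_ne_one hlab
  let a' : (Fin r → F) →ₗ[F] (Fin r → F) := ρ • am
  let b' : (Fin s → F) →ₗ[F] (Fin s → F) := ρ⁻¹ • bm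
  have hY' : ∀ x y, (Y : Matrix ι ι F) *ᵥ tvec e P x y = tvec e P (a' x) (b' y) := fun x y => by
    rw [hamb]
    show _ = tvec e P (ρ • am x) (ρ⁻¹ • bm y)
    rw [tvec_smul_left, tvec_smul_right, smul_smul, mul_inv_cancel₀ hρ0, one_smul]
  have hb'b : ∀ y, b' (b' y) = y := fun y => by
    show ρ⁻¹ • bm (ρ⁻¹ • bm y) = y
    rw [map_smul, hbb, smul_smul, smul_smul, hρ, show ρ⁻¹ * ρ⁻¹ * (ρ * ρ) = (ρ⁻¹ * ρ) * (ρ⁻¹ * ρ) by ring,
      inv_mul_cancel₀ hρ0, one_mul, one_smul]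
  have hb'iso : ∀ y y', f₂ (b' y) (b' y') = f₂ y y' := by
    have hne : f₁ (a' xa) (a' xa) ≠ 0 := fun h => by
      obtain ⟨y, -, hy⟩ := exists_anisotropic h2 (isNondegenerateOn_top h2) (fun h0 => by
        have := congrArg (fun W : Submodule F (Fin s → F) => Module.finrank F W) h0
        simp at this
        omega)
      have e1 := mem_isoU.1 (D.le hYM) (tvec e P xa y) (tvec e P xa y)
      rw [hY', D.pol, D.pol, h, zero_mul, mul_zero] at e1
      exact mul_ne_zero D.kne (mul_ne_zero hxa hy) e1.symm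
    obtain ⟨κ, hκ⟩ : ∃ κ, κ = f₁ xa xa / f₁ (a' xa) (a' xa) := ⟨_, rfl⟩
    have hk : ∀ y y', f₂ (b' y) (b' y') = κ * f₂ y y' := fun y y' => by
      have e1 := mem_isoU.1 (D.le hYM) (tvec e P xa y) (tvec e P xa y')
      rw [hY', hY', D.pol, D.pol] at e1
      rw [hκ, div_mul_eq_mul_div, eq_div_iff hne]
      have e2 := mul_left_cancel₀ D.kne e1
      linear_combination e2
    have hκ2 : κ * κ = 1 := by
      have e1 := hk (b' b₀) (b' y₁)
      rw [hb'b, hb'b, hk, hby₁, mul_one] at e1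
      exact e1.symm
    have hκ1 : κ = 1 := by
      have e1 : (κ - 1) * (κ - 1) = 0 := by linear_combination hκ2 + (1 - κ) * h2F
      exact sub_eq_zero.1 (mul_self_eq_zero.1 e1)
    intro y y'
    rw [hk, hκ1, one_mul]
  have ha'iso : ∀ x x', f₁ (a' x) (a' x') = f₁ x x' := fun x x' => by
    have e1 := mem_isoU.1 (D.le hYM) (tvec e P x b₀) (tvec e P x' y₁)
    rw [hY', hY', D.pol, D.pol, hb'iso, hby₁, mul_one, mul_one] at e1
    exact mul_left_cancel₀ D.kne e1
  have hu0 : a' x₀ - x₀ ≠ 0 := fun h => hax₀ (Submodule.mem_span_singleton.2 ⟨ρ⁻¹, by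
    conv_lhs => rw [← sub_eq_zero.1 h]
    show ρ⁻¹ • ρ • am x₀ = am x₀
    rw [inv_smul_smul₀ hρ0]⟩)
  have himg : ∀ y, b' y = y → (T : Matrix ι ι F) *ᵥ tvec e P (a' x₀ - x₀) y = tvec e P (a' x₀ - x₀) y := by
    intro y hy
    have e1 : (Y : Matrix ι ι F) *ᵥ tvec e P x₀ y - tvec e P x₀ y = tvec e P (a' x₀ - x₀) y := by
      rw [hY', hy, tvec_sub_l D]
    rw [← e1]
    exact hTim _
  by_cases hA0 : A = ⊥
  · -- some isotropic `y` with `b' y = y`
    obtain ⟨y, hy⟩ : ∃ y, y = b' y₀ - y₀ := ⟨_, rfl⟩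
    have hy0 : y ≠ 0 := fun h => hby₀ (Submodule.mem_span_singleton.2 ⟨ρ, by
      rw [hy, sub_eq_zero] at h
      conv_lhs => rw [← h]
      show ρ • ρ⁻¹ • bm y₀ = bm y₀
      rw [smul_inv_smul₀ hρ0]⟩)
    have hyfix : b' y = y := by
      rw [hy, map_sub, hb'b]
      linear_combination (norm := module) h2F • (y₀ - b' y₀)
    have hyy : f₂ y y = 0 := by
      have e1 := hb'iso y₀ (b' y₀)
      rw [hb'b] at e1
      rw [hy, herm_sub_left h2, herm_sub_right h2, herm_sub_right h2, hb'iso, ← e1]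
      linear_combination (f₂ y₀ y₀ - f₂ (b' y₀) y₀) * h2F
    refine IH T hTM y hy0 hyy (Submodule.span F {a' x₀ - x₀}) ?_ fun z hz => ?_
    · rw [hA0, finrank_bot, finrank_span_singleton hu0]; exact Nat.one_pos
    · obtain ⟨d, rfl⟩ := Submodule.mem_span_singleton.1 hz
      exact ⟨_, hz, by rw [tvec_smul_left, mulVec_smul, himg y hyfix]⟩
  -- normalisation on `A`
  obtain ⟨α, hα, hα0⟩ := Submodule.exists_mem_ne_zero_of_ne_bot hA0
  have hYA : ∀ x ∈ A, tvec e P (a' x) (b' b₀) = tvec e P x b₀ := fun x hx => by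
    rw [← hY', hY, gl_mul_mulVec, gl_mul_mulVec, hEA x hx, hBb, hEiA x hx]
  have hb'b₀ : b' b₀ = b₀ := by
    obtain ⟨φ', hφ'⟩ := exists_dot_one (b := a' α) fun h => hα0 (by
      have e1 := hYA α hα
      rw [h, tvec_zero_left] at e1
      by_contra hne
      exact tvec_ne_zero hne hb₀ e1.symm)
    have e1 := congrArg (rc e P φ') (hYA α hα)
    rw [rc_tvec, rc_tvec, hφ', one_smul] at e1
    obtain ⟨ν, hν'⟩ : ∃ ν, ν = φ' ⬝ᵥ α := ⟨_, rfl⟩
    rw [← hν'] at e1
    have e2 := congrArg b' e1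
    rw [hb'b, map_smul, e1, smul_smul] at e2
    have e3 : (ν - 1) * (ν - 1) = 0 := by
      have e4 : (ν * ν - 1) • b₀ = 0 := by rw [sub_smul, one_smul, ← e2, sub_self]
      have e5 := (smul_eq_zero.1 e4).resolve_right hb₀
      linear_combination e5 + (1 - ν) * h2F
    rw [e1, sub_eq_zero.1 (mul_self_eq_zero.1 e3), one_smul]
  refine hline _ hu0 (fun β hβA => ?_) (himg b₀ hb'b₀)
  have e1 := hYA β hβA
  rw [hb'b₀] at e1
  rw [herm_sub_left h1]
  nth_rw 1 [← tvec_left_inj hb₀ e1]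
  rw [ha'iso, sub_self]

/-- the descent -/
theorem good (hr : 2 ≤ r) (hs : 4 ≤ s) (hex : 3 ≤ r ∨ ∃ t : F, σ t = t ∧ t ≠ 0 ∧ t ≠ 1)
    (hΩ : ¬ isoU f ⊓ specialLinear ι F ≤ M) (hrs : r < s) : M ≤ tensorProductSubgroup r s e P := by
  have main : ∀ j : ℕ, ∀ A : Submodule F (Fin r → F), r ≤ Module.finrank F A + j → ∀ g ∈ M, ∀ b : Fin s → F, b ≠ 0 →
      f₂ b b = 0 → (∀ x ∈ A, ∃ x' ∈ A, (g : Matrix ι ι F) *ᵥ tvec e P x b = tvec e P x' b) →
      g ∈ tensorProductSubgroup r s e P := by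
    intro j
    induction j with
    | zero =>
      intro A hA g hg b hb hbb hp
      refine step D hr hs hex hΩ hrs A (fun g' _ b' _ _ A' hlt => ?_) hg hb hbb hp
      have := A'.finrank_le
      simp at this
      omega
    | succ j ih =>
      intro A hA g hg b hb hbb hp
      exact step D hr hs hex hΩ hrs A (fun g' hg' b' hb' hbb' A' hlt hp' =>
        ih A' (by omega) g' hg' b' hb' hbb' hp') hg hb hbb hp
  obtain ⟨b, -, hb, hbb⟩ := exists_isotropic D.u2 (W := (⊤ : Submodule F (Fin s → F)))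
    (by rw [finrank_top, Module.finrank_fin_fun]; omega)
  exact fun g hg => main r ⊥ (by simp) g hg b hb hbb fun x hx => ⟨0, zero_mem _, by
    rw [(Submodule.mem_bot F).1 hx, tvec_zero_left, mulVec_zero]⟩

omit D in
/-- the special unitary group does not stabilise a tensor decomposition -/
theorem tensor_proper {σ : F ≃+* F} {f : (ι → F) → (ι → F) → F} {f₁ : (Fin r → F) → (Fin r → F) → F}
    {f₂ : (Fin s → F) → (Fin s → F) → F} {k : F} (hf : IsUnitaryForm σ f) (hu1 : IsUnitaryForm σ f₁)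
    (hu2 : IsUnitaryForm σ f₂) (hk : k ≠ 0)
    (hpol : ∀ x y x' y', f (tvec e P x y) (tvec e P x' y') = k * (f₁ x x' * f₂ y y'))
    (hr : 2 ≤ r) (hs : 2 ≤ s) : ¬ isoU f ⊓ specialLinear ι F ≤ tensorProductSubgroup r s e P := by
  intro hle
  obtain ⟨a, -, ha, haa⟩ := exists_isotropic hu1 (W := (⊤ : Submodule F (Fin r → F)))
    (by rw [finrank_top, Module.finrank_fin_fun]; omega)
  obtain ⟨a', haa', haa1, ha'a⟩ := exists_isotropic_partner hu1 ha haa
  obtain ⟨b, -, hb, hbb⟩ := exists_isotropic hu2 (W := (⊤ : Submodule F (Fin s → F)))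
    (by rw [finrank_top, Module.finrank_fin_fun]; omega)
  obtain ⟨y, hy, -⟩ := exists_left_one hu2 hb
  obtain ⟨c, hc, hcσ⟩ := exists_trace_zero hf
  obtain ⟨T, hT, hTx⟩ := exists_tvS hf (a := tvec e P a b) (by rw [hpol, haa, zero_mul, mul_zero]) hcσ
  obtain ⟨A, B, hAB⟩ := mem_tensor (hle hT)
  have e1 := hTx (tvec e P a' b)
  rw [hAB, hpol, hbb, mul_zero, mul_zero, mul_zero, zero_smul, add_zero] at e1
  have e2 := hTx (tvec e P a' y)
  rw [hAB, hpol, hy, ha'a, mul_one, mul_one] at e2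
  obtain ⟨ψ, hψ⟩ := exists_dot_one (b := (B : Matrix (Fin s) (Fin s) F) *ᵥ b)
    (fun h => hb (gl_mulVec_eq_zero.1 h))
  have hAa : (A : Matrix (Fin r) (Fin r) F) *ᵥ a' = (ψ ⬝ᵥ b) • a' := by
    have := congrArg (co e P ψ) e1
    rwa [co_tvec, co_tvec, hψ, one_smul] at this
  have hsp : a ∉ Submodule.span F {a'} := fun h => by
    obtain ⟨d, hd⟩ := Submodule.mem_span_singleton.1 h
    rw [← hd, hu1.smul_left, haa', mul_zero] at haa1
    exact zero_ne_one haa1
  obtain ⟨φ, hφ1, hφ0⟩ := exists_dual _ hsp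
  have e3 := congrArg (rc e P φ) e2
  rw [rc_tvec, hAa, dotProduct_smul, hφ0 a' (Submodule.mem_span_singleton_self a'), smul_zero, zero_smul, map_add,
    map_smul, rc_tvec, rc_tvec, hφ1, hφ0 a' (Submodule.mem_span_singleton_self a'), zero_smul, zero_add,
    one_smul] at e3
  exact hb ((smul_eq_zero.1 e3.symm).resolve_left (mul_ne_zero hc hk))

omit D in
/-- the stabiliser of a tensor decomposition is maximal in the special unitary group -/
theorem unitary_tensor_maximal {σ : F ≃+* F} {f : (ι → F) → (ι → F) → F} {f₁ : (Fin r → F) → (Fin r → F) → F}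
    {f₂ : (Fin s → F) → (Fin s → F) → F} {k : F} (hf : IsUnitaryForm σ f) (hu1 : IsUnitaryForm σ f₁)
    (hu2 : IsUnitaryForm σ f₂) (hk : k ≠ 0) (hkσ : σ k = k)
    (hpol : ∀ x y x' y', f (tvec e P x y) (tvec e P x' y') = k * (f₁ x x' * f₂ y y'))
    (hr : 2 ≤ r) (hs : 4 ≤ s) (hrs : r < s) (hex : 3 ≤ r ∨ ∃ t : F, σ t = t ∧ t ≠ 0 ∧ t ≠ 1) :
    IsMaximalIn (isoU f ⊓ specialLinear ι F) (tensorProductSubgroup r s e P ⊓ (isoU f ⊓ specialLinear ι F)) := by
  refine ⟨lt_of_le_of_ne inf_le_right fun heq => ?_, fun M hHM hM => ?_⟩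
  · exact tensor_proper hf hu1 hu2 hk hpol hr (by omega) (heq ▸ inf_le_left)
  · by_cases hΩ : isoU f ⊓ specialLinear ι F ≤ M
    · exact Or.inr (le_antisymm hM hΩ)
    · exact Or.inl (le_antisymm (le_inf (good (TU.of_inf hf hu1 hu2 hk hkσ hpol (hM.trans inf_le_left) hHM)
        hr hs hex hΩ hrs) hM) hHM)


end CfsgLib.Perm.Trans.TensorHerm
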