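import Cfsg.Agent.Lib.Perm.Trans.Unit

/-!
# Stabilisers of subspaces in unitary groups
-/

set_option autoImplicit false
set_option linter.all false

namespace CfsgLib.Perm.Trans.Unit

open scoped Matrix
open Matrix Cfsg.Geo CfsgLib.Perm.Asch CfsgLib.Perm.Trans

variable {ι : Type} [Fintype ι] [DecidableEq ι] {F : Type*} [Field F] [Fintype F]
variable {σ : F ≃+* F} {f : (ι → F) → (ι → F) → F} (hf : IsUnitaryForm σ f)
include hf

/-- isotropic centres whose transvections lie in `M` -/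
def centres (M : Subgroup (GL ι F)) : Set (ι → F) :=
  {u | f u u = 0 ∧ ∀ c : F, σ c = -c → Has M u (c • hv hf u)}

theorem centres_zero (M : Subgroup (GL ι F)) : (0 : ι → F) ∈ centres hf M :=
  ⟨herm_zero_left hf 0, fun c _ => has_zero_left _⟩

theorem centres_smul {M : Subgroup (GL ι F)} {u : ι → F} (hu : u ∈ centres hf M) (a : F) :
    a • u ∈ centres hf M := by
  refine ⟨by rw [hf.smul_left, herm_smul_right hf, hu.1, mul_zero, mul_zero], fun c hc => ?_⟩
  rw [has_smul_iff, hv_smul, smul_smul, smul_smul]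
  refine hu.2 _ ?_
  rw [map_mul, map_mul, hf.involutive, hc]
  ring

theorem centres_conj {M : Subgroup (GL ι F)} (hle : M ≤ isoU f) {g : GL ι F} (hg : g ∈ M) {u : ι → F}
    (hu : u ∈ centres hf M) : (g : Matrix ι ι F) *ᵥ u ∈ centres hf M := by
  refine ⟨by rw [mem_isoU.1 (hle hg), hu.1], fun c hc => ?_⟩
  have h1 := (hu.2 c hc).conj hg
  rwa [show (c • hv hf u) ᵥ* ((g⁻¹ : GL ι F) : Matrix ι ι F) = c • hv hf ((g : Matrix ι ι F) *ᵥ u) from
    dot_ext hf fun x => by
      rw [← dotProduct_mulVec, smul_dotProduct, smul_dotProduct, hv_dot, hv_dot]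
      conv_rhs => rw [← gl_mulVec_inv g x, mem_isoU.1 (hle hg)]] at h1

theorem centres_line {M : Subgroup (GL ι F)} (hle : M ≤ isoU f) {a b : ι → F} (ha : a ∈ centres hf M)
    (hb : b ∈ centres hf M) (hab : f a b ≠ 0) {r : F} (hr : f (a + r • b) (a + r • b) = 0) :
    a + r • b ∈ centres hf M := by
  have hc : σ (r / f a b) = -(r / f a b) := by
    rw [hf.add_left, herm_add_right hf, herm_add_right hf, hf.smul_left, hf.smul_left, herm_smul_right hf,
      herm_smul_right hf, ha.1, hb.1, hf.herm b a] at hr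
    have h1 : σ (f a b) ≠ 0 := by simpa using hab
    rw [map_div₀, ← neg_div, div_eq_div_iff h1 hab]
    linear_combination hr
  obtain ⟨h0, hmem⟩ := hb.2 _ hc
  have := centres_conj hf hle hmem ha
  rwa [tv_mulVec, smul_dotProduct, hv_dot, smul_eq_mul, div_mul_cancel₀ _ hab] at this

theorem mem_centres_of_stab {H M : Subgroup (GL ι F)} (hHM : H ⊓ (isoU f ⊓ specialLinear ι F) ≤ M) {u : ι → F}
    (huu : f u u = 0) (h : ∀ (c : F) (h0 : (c • hv hf u) ⬝ᵥ u = 0), tv u (c • hv hf u) h0 ∈ H) :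
    u ∈ centres hf M :=
  ⟨huu, fun c hc => ⟨utv_orth hf huu c,
    hHM ⟨h c _, mem_isoU.2 (utv_isometry hf u huu hc (utv_orth hf huu c)), tv_mem_SL _ _ _⟩⟩⟩

theorem stab_of_centre {W : Submodule F (ι → F)} {u : ι → F} (hu : u ∈ W ∨ u ∈ perp hf W) (c : F)
    (h0 : (c • hv hf u) ⬝ᵥ u = 0) : tv u (c • hv hf u) h0 ∈ subspaceStabilizer W :=
  tv_mem_stab _ (hu.imp id fun h w hw => by rw [smul_dotProduct, hv_dot, herm_swap_zero hf (h w hw), smul_zero])

theorem isMaximalIn_of_centres (hn : 4 ≤ Fintype.card ι) {H : Subgroup (GL ι F)}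
    (hproper : ¬ isoU f ⊓ specialLinear ι F ≤ H)
    (h : ∀ M : Subgroup (GL ι F), H ⊓ (isoU f ⊓ specialLinear ι F) ≤ M → M ≤ isoU f ⊓ specialLinear ι F →
      ¬ M ≤ H → ∀ u, f u u = 0 → u ∈ centres hf M) :
    IsMaximalIn (isoU f ⊓ specialLinear ι F) (H ⊓ (isoU f ⊓ specialLinear ι F)) := by
  refine ⟨lt_of_le_of_ne inf_le_right fun e => hproper (e ▸ inf_le_left), fun M hHM hM => ?_⟩
  by_cases hle : M ≤ H
  · exact Or.inl (le_antisymm (le_inf hle hM) hHM)
  · exact Or.inr (le_antisymm hM (isoU_inf_SL_le hf (fun u _ huu c hc => (h M hHM hM hle u huu).2 c hc)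
      (Or.inl hn)))

theorem herm_line (x y : ι → F) (r : F) :
    f (x + r • y) (x + r • y) = f x x + σ r * f x y + r * f y x + r * σ r * f y y := by
  rw [hf.add_left, herm_add_right hf, herm_add_right hf, hf.smul_left, hf.smul_left, herm_smul_right hf,
    herm_smul_right hf]
  ring

theorem exists_rep (φ : ι → F) : ∃ p, ∀ x, f x p = φ ⬝ᵥ x := by
  obtain ⟨p, rfl⟩ := hv_surjective hf φ
  exact ⟨p, fun x => (hv_dot hf p x).symm⟩

theorem exists_perp_ne {W : Submodule F (ι → F)} {v : ι → F} (hv' : v ∉ W) :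
    ∃ p ∈ perp hf W, f v p ≠ 0 := by
  obtain ⟨φ, hφ, hφW⟩ := exists_dual W hv'
  obtain ⟨p, hp⟩ := exists_rep hf φ
  exact ⟨p, fun w hw => herm_swap_zero hf (by rw [hp, hφW w hw]), by rw [hp, hφ]; exact one_ne_zero⟩

/-- stabilisers of totally singular subspaces are maximal -/
theorem singular_subspace_maximal (hn : 4 ≤ Fintype.card ι) {W : Submodule F (ι → F)} (hW0 : W ≠ ⊥)
    (hW : IsTotallySingularFor f W) :
    IsMaximalIn (isoU f ⊓ specialLinear ι F) (subspaceStabilizer W ⊓ (isoU f ⊓ specialLinear ι F)) := by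
  obtain ⟨w₀, hw₀, hw₀0⟩ := Submodule.exists_mem_ne_zero_of_ne_bot hW0
  refine isMaximalIn_of_centres hf hn (fun hle => ?_) fun M hHM hM hMW => ?_
  · obtain ⟨y, hy⟩ := (hf.nondegenerate w₀ hw₀0).2
    obtain ⟨u, -, huu, hwu, -⟩ := exists_partner hf (X := ⊤) Submodule.mem_top (hW w₀ hw₀ w₀ hw₀)
      (y := y) Submodule.mem_top hy
    obtain ⟨δ, hδ, hδσ⟩ := exists_trace_zero hf
    have h0 := utv_orth hf huu δ
    have hiff : w₀ ∈ W ↔ (tv u (δ • hv hf u) h0 : Matrix ι ι F) *ᵥ w₀ ∈ W :=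
      hle ⟨mem_isoU.2 (utv_isometry hf u huu hδσ h0), tv_mem_SL _ _ _⟩ w₀
    have h1 := hiff.1 hw₀
    rw [tv_mulVec, smul_dotProduct, hv_dot, hwu, smul_eq_mul, mul_one, W.add_mem_iff_right hw₀,
      W.smul_mem_iff hδ] at h1
    exact one_ne_zero (hwu.symm.trans (hW w₀ hw₀ u h1))
  have hMiso : M ≤ isoU f := fun g hg => (hM hg).1
  have hperp : ∀ u ∈ perp hf W, f u u = 0 → u ∈ centres hf M := fun u hu huu =>
    mem_centres_of_stab hf hHM huu fun c h0 => stab_of_centre hf (Or.inr hu) c h0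
  have hWperp : ∀ w ∈ W, w ∈ perp hf W := fun w hw => hW w hw
  obtain ⟨g, hgM, hg⟩ := SetLike.not_le_iff_exists.1 hMW
  obtain ⟨w, hw, hgw⟩ := exists_moved_of_not_stab hg
  obtain ⟨y, hyA, hyW⟩ : ∃ y, y ∈ centres hf M ∧ y ∉ perp hf W := by
    by_contra hcon
    push Not at hcon
    let S : Submodule F (ι → F) := (perp hf W).comap (Matrix.toLin' (g : Matrix ι ι F))
    have hS : ∀ {x}, x ∈ perp hf W → f x x = 0 → x ∈ S := fun {x} hx hxx => by
      show Matrix.toLin' (g : Matrix ι ι F) x ∈ perp hf W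
      rw [Matrix.toLin'_apply]
      exact hcon _ (centres_conj hf hMiso hgM (hperp x hx hxx))
    have hgwp : (g : Matrix ι ι F) *ᵥ w ∈ perp hf W := hcon _ (centres_conj hf hMiso hgM (hperp w (hWperp w hw)
      (hW w hw w hw)))
    have hgww : f ((g : Matrix ι ι F) *ᵥ w) ((g : Matrix ι ι F) *ᵥ w) = 0 := by
      rw [mem_isoU.1 (hMiso hgM), hW w hw w hw]
    obtain ⟨p, hp, hgp⟩ := exists_perp_ne hf hgw
    obtain ⟨h, hhX, hhh, heh, -⟩ := exists_partner hf hgwp hgww hp hgp
    have hle := subspace_le_of_pair hf (S := S) hgwp hgww hhX hhh heh (hS hgwp hgww) (fun z hz hzz _ => hS hz hzz)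
    have hgp' : g ∈ subspaceStabilizer (perp hf W) := by
      by_contra hn'
      obtain ⟨q, hq, hgq⟩ := exists_moved_of_not_stab hn'
      exact hgq (by simpa [S, Matrix.toLin'_apply] using hle hq)
    refine hgw ?_
    by_contra hnot
    obtain ⟨p, hp, hgp⟩ := exists_perp_ne hf hnot
    have hp' : ((g⁻¹ : GL ι F) : Matrix ι ι F) *ᵥ p ∈ perp hf W :=
      (((subspaceStabilizer (perp hf W)).inv_mem hgp') p).1 hp
    apply hgp
    rw [← gl_mulVec_inv g p, mem_isoU.1 (hMiso hgM)]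
    exact herm_swap_zero hf (hp' w hw)
  have hsame : ∀ x, f x x = 0 → ∀ v ∈ W, f x v = f y v → f y v ≠ 0 → x ∈ centres hf M := by
    intro x hxx v hv' hxv hyv
    obtain ⟨β, hβ⟩ : ∃ β, β = f y v := ⟨_, rfl⟩
    rw [← hβ] at hxv hyv
    obtain ⟨u, hu⟩ : ∃ u, u = β⁻¹ • (x - y) := ⟨_, rfl⟩
    have huv : f u v = 0 := by rw [hu, hf.smul_left, herm_sub_left hf, hxv, hβ, sub_self, mul_zero]
    obtain ⟨t, ht⟩ := exists_trace hf (d := f u u) (by rw [← hf.herm])
    obtain ⟨ψ, hψ⟩ : ∃ ψ, ψ = -(hv hf u + t • hv hf v) := ⟨_, rfl⟩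
    obtain ⟨A, hA⟩ : ∃ A : Matrix ι ι F, A = 1 + vecMulVec u (hv hf v) + vecMulVec v ψ := ⟨_, rfl⟩
    have hvv : f v v = 0 := hW v hv' v hv'
    have hdet : A.det = 1 := by
      rw [hA, det_one_add_two hf, hψ, neg_dotProduct, neg_dotProduct, add_dotProduct, add_dotProduct,
        smul_dotProduct, smul_dotProduct, hv_dot, hv_dot, hv_dot, hv_dot, huv, herm_swap_zero hf huv, hvv]
      simp
    let T : GL ι F := Matrix.GeneralLinearGroup.mkOfDetNeZero A (by rw [hdet]; exact one_ne_zero)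
    have hTx : ∀ z, (T : Matrix ι ι F) *ᵥ z = z + f z v • u - (f z u + t * f z v) • v := fun z => by
      show A *ᵥ z = _
      rw [hA, add_mulVec, add_mulVec, one_mulVec, vecMulVec_mulVec, vecMulVec_mulVec, op_smul_eq_smul,
        op_smul_eq_smul, hψ, neg_dotProduct, add_dotProduct, smul_dotProduct, hv_dot, hv_dot, smul_eq_mul, neg_smul,
        sub_eq_add_neg]
    have hTM : T ∈ M := by
      refine hHM ⟨fun z => ?_, mem_isoU.2 fun a b => ?_, Units.ext hdet⟩
      · show z ∈ W ↔ (T : Matrix ι ι F) *ᵥ z ∈ W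
        rw [hTx]
        constructor
        · intro hz
          rw [hW z hz v hv', zero_smul, add_zero]
          exact W.sub_mem hz (W.smul_mem _ hv')
        · intro hz
          have h1 := hW _ hz v hv'
          rw [herm_sub_left hf, hf.add_left, hf.smul_left, hf.smul_left, huv, hvv, mul_zero, mul_zero, add_zero,
            sub_zero] at h1
          rw [h1, zero_smul, add_zero] at hz
          simpa using W.add_mem hz (W.smul_mem (f z u + t * 0) hv')
      · simp only [hTx, herm_sub_left hf, herm_sub_right hf, hf.add_left, herm_add_right hf, hf.smul_left,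
          herm_smul_right hf, huv, herm_swap_zero hf huv, hvv, map_add, map_mul, ← hf.herm]
        linear_combination -(f a v * f v b) * ht
    have himg := centres_conj hf hMiso hTM hyA
    rw [hTx, ← hβ, hu, smul_smul, mul_inv_cancel₀ hyv, one_smul, add_sub_cancel] at himg
    obtain ⟨μ, hμ⟩ : ∃ μ, μ = f y (β⁻¹ • (x - y)) + t * β := ⟨_, rfl⟩
    rw [← hμ] at himg
    have h2 := centres_line hf hMiso himg (hperp v (hWperp v hv') hvv) (r := μ) (by
      rw [herm_sub_left hf, hf.smul_left, hvv, mul_zero, sub_zero, hxv]; exact hyv)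
      (by rw [sub_add_cancel]; exact hxx)
    rwa [sub_add_cancel] at h2
  intro x hxx
  by_cases hxW : x ∈ perp hf W
  · exact hperp x hxW hxx
  obtain ⟨z₀, hz₀, hxz₀⟩ : ∃ z₀ ∈ W, f x z₀ ≠ 0 := by
    by_contra hcon
    push Not at hcon
    exact hxW hcon
  obtain ⟨z₁, hz₁, hyz₁⟩ : ∃ z₁ ∈ W, f y z₁ ≠ 0 := by
    by_contra hcon
    push Not at hcon
    exact hyW hcon
  by_cases hex : ∃ v ∈ W, f x v = f y v ∧ f y v ≠ 0
  · obtain ⟨v, hv', h1, h2⟩ := hex
    exact hsame x hxx v hv' h1 h2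
  -- proportional functionals
  obtain ⟨a, ha⟩ : ∃ a, a = f x z₁ / f y z₁ := ⟨_, rfl⟩
  push Not at hex
  have hprop : ∀ v ∈ W, f x v = a * f y v := by
    intro v hv'
    by_cases he : f x z₁ = f y z₁
    · exact absurd (hex z₁ hz₁ he) hyz₁
    · have he' := sub_ne_zero.2 he
      obtain ⟨s, hs⟩ : ∃ s, σ s = (f x v - f y v) / (f x z₁ - f y z₁) := ⟨_, hf.involutive _⟩
      have h1 := hex (v - s • z₁) (W.sub_mem hv' (W.smul_mem _ hz₁)) (by
        rw [herm_sub_right hf, herm_sub_right hf, herm_smul_right hf, herm_smul_right hf, hs]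
        field_simp
        ring)
      rw [herm_sub_right hf, herm_smul_right hf, hs, sub_eq_zero] at h1
      rw [ha]
      field_simp at h1 ⊢
      linear_combination -h1
  have ha0 : a ≠ 0 := fun h0 => hxz₀ (by rw [hprop z₀ hz₀, h0, zero_mul])
  have h1 := hsame (a⁻¹ • x) (by rw [hf.smul_left, herm_smul_right hf, hxx, mul_zero, mul_zero]) z₁ hz₁
    (by rw [hf.smul_left, hprop z₁ hz₁, inv_mul_cancel_left₀ ha0]) hyz₁
  have h2 := centres_smul hf h1 a
  rwa [smul_smul, mul_inv_cancel₀ ha0, one_smul] at h2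

/-! ### Nondegenerate subspaces -/

/-- a quasi-reflection -/
theorem exists_qref {d : ι → F} (hd : f d d ≠ 0) {ζ : F} (hζ : ζ * σ ζ = 1) :
    ∃ g ∈ isoU f, (g : Matrix ι ι F).det = ζ ∧
      ∀ x, (g : Matrix ι ι F) *ᵥ x = x + ((ζ - 1) / f d d * f x d) • d := by
  obtain ⟨A, hA⟩ : ∃ A : Matrix ι ι F, A = 1 + vecMulVec d (((ζ - 1) / f d d) • hv hf d) := ⟨_, rfl⟩
  have hζ0 : ζ ≠ 0 := fun h => by rw [h, zero_mul] at hζ; exact zero_ne_one hζ
  have hdet : A.det = ζ := by
    rw [hA, vecMulVec_eq Unit, det_one_add_replicateCol_mul_replicateRow, smul_dotProduct, hv_dot, smul_eq_mul,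
      div_mul_cancel₀ _ hd, add_sub_cancel]
  refine ⟨Matrix.GeneralLinearGroup.mkOfDetNeZero A (by rw [hdet]; exact hζ0), ?_, hdet, fun x => ?_⟩
  · have hx : ∀ x, A *ᵥ x = x + ((ζ - 1) / f d d * f x d) • d := fun x => by
      rw [hA, add_mulVec, one_mulVec, vecMulVec_mulVec, op_smul_eq_smul, smul_dotProduct, hv_dot, smul_eq_mul]
    refine mem_isoU.2 fun a b => ?_
    show f (A *ᵥ a) (A *ᵥ b) = f a b
    rw [hx, hx, hf.add_left, herm_add_right hf, herm_add_right hf, hf.smul_left, hf.smul_left, herm_smul_right hf,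
      herm_smul_right hf, map_mul, map_div₀, map_sub, map_one, ← hf.herm d b, ← hf.herm d d]
    field_simp
    linear_combination (f a d * f d b) * hζ
  · show A *ᵥ x = _
    rw [hA, add_mulVec, one_mulVec, vecMulVec_mulVec, op_smul_eq_smul, smul_dotProduct, hv_dot, smul_eq_mul]

theorem qref_stab {W : Submodule F (ι → F)} {d : ι → F} (hd : d ∈ W ∨ d ∈ perp hf W) {r : F} {g : GL ι F}
    (hg : ∀ x, (g : Matrix ι ι F) *ᵥ x = x + (r * f x d) • d) : g ∈ subspaceStabilizer W := by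
  by_contra hn
  obtain ⟨w, hw, hgw⟩ := exists_moved_of_not_stab hn
  rw [hg] at hgw
  rcases hd with h | h
  · exact hgw (W.add_mem hw (W.smul_mem _ h))
  · rw [herm_swap_zero hf (h w hw), mul_zero, zero_smul, add_zero] at hgw
    exact hgw hw

/-- unitary groups of subspaces are transitive on the vectors of a given nonzero norm -/
theorem exists_norm_move {W : Submodule F (ι → F)} {a a' : ι → F} (ha : a ∈ W) (ha' : a' ∈ W)
    (h : f a a = f a' a') (h0 : f a a ≠ 0) :
    ∃ g ∈ isoU f ⊓ subspaceStabilizer W, (∀ x ∈ perp hf W, (g : Matrix ι ι F) *ᵥ x = x) ∧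
      (g : Matrix ι ι F) *ᵥ a = a' := by
  have step : ∀ a, a ∈ W → f a a = f a' a' → f (a' - a) (a' - a) ≠ 0 →
      ∃ g ∈ isoU f ⊓ subspaceStabilizer W, (∀ x ∈ perp hf W, (g : Matrix ι ι F) *ᵥ x = x) ∧
        (g : Matrix ι ι F) *ᵥ a = a' := by
    intro a ha h hd
    have hsum : f (a' - a) (a' - a) = -(f a (a' - a) + σ (f a (a' - a))) := by
      rw [herm_sub_left hf, herm_sub_right hf, herm_sub_right hf, map_sub, ← hf.herm, ← hf.herm, h]
      ring
    have hs0 : f a (a' - a) ≠ 0 := fun h1 => hd (by rw [hsum, h1, map_zero, add_zero, neg_zero])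
    obtain ⟨g, hg, -, hgf⟩ := exists_qref hf hd (ζ := -(σ (f a (a' - a)) / f a (a' - a))) (by
      rw [map_neg, map_div₀, hf.involutive, neg_mul_neg]
      field_simp [show σ (f a (a' - a)) ≠ 0 by simpa using hs0])
    have hd' : a' - a ∈ W := W.sub_mem ha' ha
    refine ⟨g, ⟨hg, qref_stab hf (Or.inl hd') hgf⟩, fun x hx => by rw [hgf, hx _ hd', mul_zero, zero_smul, add_zero],
      ?_⟩
    rw [hgf]
    have hc : (-(σ (f a (a' - a)) / f a (a' - a)) - 1) / f (a' - a) (a' - a) * f a (a' - a) = 1 := by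
      rw [div_mul_eq_mul_div, div_eq_one_iff_eq hd, hsum]
      field_simp
      ring
    rw [hc, one_smul, add_sub_cancel]
  by_cases hd : f (a' - a) (a' - a) = 0
  swap
  · exact step a ha h hd
  by_cases hs : f a (a' - a) = 0
  · obtain ⟨c, hc0, hcσ⟩ := exists_trace_zero hf
    obtain ⟨b, hb⟩ := exists_not_fixed hf
    have hb0 : b ≠ 0 := fun h1 => hb (by rw [h1, map_zero])
    have hσb : σ b ≠ 0 := by simpa using hb0
    obtain ⟨ζ, hζdef⟩ : ∃ ζ, ζ = b / σ b := ⟨_, rfl⟩
    have hζ : ζ * σ ζ = 1 := by rw [hζdef, map_div₀, hf.involutive]; field_simp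
    have hζ1 : ζ ≠ 1 := fun h1 => hb (by rw [hζdef, div_eq_one_iff_eq hσb] at h1; exact h1.symm)
    obtain ⟨g, hg, -, hgf⟩ := exists_qref hf h0 hζ
    have hga : (g : Matrix ι ι F) *ᵥ a = ζ • a := by
      rw [hgf, div_mul_cancel₀ _ h0, sub_smul, one_smul, add_sub_cancel]
    have hnorm : f (ζ • a) (ζ • a) = f a' a' := by
      rw [hf.smul_left, herm_smul_right hf, ← mul_assoc, hζ, one_mul, h]
    have hd' : f (a' - ζ • a) (a' - ζ • a) ≠ 0 := by
      have haa' : f a a' = f a a := by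
        rw [herm_sub_right hf] at hs
        linear_combination hs
      rw [herm_sub_left hf, herm_sub_right hf, herm_sub_right hf, hnorm, hf.smul_left, herm_smul_right hf,
        hf.herm a' a, haa', ← h, ← hf.herm a a]
      intro h1
      have h2 : (ζ - 1) ^ 2 * f a a = 0 := by linear_combination -ζ * h1 - f a a * hζ
      exact hζ1 (sub_eq_zero.1 (pow_eq_zero_iff two_ne_zero |>.1 ((mul_eq_zero.1 h2).resolve_right h0)))
    obtain ⟨k, hk, hkP, hka⟩ := step _ (W.smul_mem ζ ha) hnorm hd'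
    refine ⟨k * g, mul_mem hk ⟨hg, qref_stab hf (Or.inl ha) hgf⟩, fun x hx => ?_, by rw [gl_mul_mulVec, hga, hka]⟩
    rw [gl_mul_mulVec, hgf x, hx a ha, mul_zero, zero_smul, add_zero, hkP x hx]
  · obtain ⟨d, hddef⟩ : ∃ d, d = a' - a := ⟨_, rfl⟩
    have hσ : σ (f a d) = -f a d := by
      have h1 := hd
      rw [herm_sub_left hf, herm_sub_right hf, herm_sub_right hf, ← h, hf.herm a' a] at h1
      rw [hddef, herm_sub_right hf, map_sub, ← hf.herm a a]
      linear_combination -h1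
    rw [← hddef] at hd hs
    have h0' := utv_orth hf hd (f a d)⁻¹
    have hdW : d ∈ W := hddef ▸ W.sub_mem ha' ha
    refine ⟨tv d ((f a d)⁻¹ • hv hf d) h0', ⟨mem_isoU.2 (utv_isometry hf d hd (trace_zero_inv hf hσ) h0'),
      stab_of_centre hf (Or.inl hdW) _ h0'⟩, fun x hx => ?_, ?_⟩
    · rw [tv_mulVec, smul_dotProduct, hv_dot, hx d hdW, smul_zero, zero_smul, add_zero]
    · rw [tv_mulVec, smul_dotProduct, hv_dot, smul_eq_mul, inv_mul_cancel₀ hs, one_smul, hddef, add_sub_cancel]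

theorem two_mul_finrank_le {Z : Submodule F (ι → F)} (hZ : ∀ u ∈ Z, ∀ v ∈ Z, f u v = 0) {P : Submodule F (ι → F)}
    (hP : IsNondegenerateOn f P) (hZP : Z ≤ P) : 2 * Module.finrank F Z ≤ Module.finrank F P := by
  classical
  -- the functionals `f(·, z)` on `P` kill `Z`
  have hinj : ∀ z ∈ Z, (∀ p ∈ P, f p z = 0) → z = 0 := fun z hz h => by
    by_contra hne
    obtain ⟨p, hp, hpz⟩ := (hP z (hZP hz) hne).1
    exact hpz (h p hp)
  let L : Z → Module.Dual F P := fun z => (hFun hf (z : ι → F)).comp P.subtype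
  let K : Submodule F (Module.Dual F P) := LinearMap.ker ((Submodule.inclusion hZP).dualMap)
  have hmem : ∀ z : Z, L z ∈ K := fun z => LinearMap.mem_ker.2 (LinearMap.ext fun y => hZ _ y.2 _ z.2)
  have hLinj : Function.Injective fun z : Z => (⟨L z, hmem z⟩ : K) := by
    intro a b hab
    refine Subtype.ext (sub_eq_zero.1 (hinj _ (Z.sub_mem a.2 b.2) fun p hp => ?_))
    rw [herm_sub_right hf, show f p (a : ι → F) = f p (b : ι → F) from
      LinearMap.congr_fun (congrArg Subtype.val hab) ⟨p, hp⟩, sub_self]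
  have h1 := LinearMap.finrank_range_add_finrank_ker (Submodule.inclusion hZP).dualMap
  rw [LinearMap.range_eq_top.2 (LinearMap.dualMap_surjective_of_injective (Submodule.inclusion_injective hZP)),
    finrank_top, Subspace.dual_finrank_eq, Subspace.dual_finrank_eq] at h1
  haveI : Finite (Module.Dual F P) := Module.finite_of_finite F
  have h2 := Nat.card_le_card_of_injective _ hLinj
  rw [Module.natCard_eq_pow_finrank (K := F), Module.natCard_eq_pow_finrank (K := F) (V := K)] at h2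
  have h3 : Module.finrank F Z ≤ Module.finrank F K :=
    (Nat.pow_le_pow_iff_right (Nat.card_eq_fintype_card (α := F) ▸ Fintype.one_lt_card)).1 h2
  have h4 : Module.finrank F K + Module.finrank F Z = Module.finrank F P := by rw [add_comm]; exact h1
  omega

theorem herm_zero_of_norms {Z : Submodule F (ι → F)} (hcon : ∀ q ∈ Z, f q q = 0) {u v : ι → F} (hu : u ∈ Z)
    (hv' : v ∈ Z) : f u v = 0 := by
  by_contra huv
  obtain ⟨d, hd⟩ := exists_trace_ne_zero hf
  have h4 := hcon _ (Submodule.add_mem _ (Submodule.smul_mem _ (d / f u v) hu) hv')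
  rw [hf.add_left, herm_add_right hf, herm_add_right hf, hf.smul_left, hf.smul_left, herm_smul_right hf,
    herm_smul_right hf, hcon u hu, hcon v hv', hf.herm v u, ← map_mul, div_mul_cancel₀ d huv] at h4
  exact hd (by linear_combination h4)

/-- a maximal totally singular subspace orthogonal to `b` contains `b` -/
theorem mem_of_half {P : Submodule F (ι → F)} (hP : IsNondegenerateOn f P) {b : ι → F} (hb : b ∈ P)
    {Z : Submodule F (ι → F)} (hZdim : Module.finrank F P ≤ 2 * Module.finrank F Z) (hZP : Z ≤ P)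
    (hZ : ∀ u ∈ Z, ∀ v ∈ Z, f u v = 0) (hZb : ∀ u ∈ Z, f u b = 0) : b ∈ Z := by
  by_contra hbZ
  rcases eq_or_ne (f b b) 0 with hbb | hbb
  · have h1 := two_mul_finrank_le hf (Z := Z ⊔ Submodule.span F {b}) (fun u hu v hv' => by
      obtain ⟨u', hu', _, hx, rfl⟩ := Submodule.mem_sup.1 hu
      obtain ⟨v', hv'', _, hy, rfl⟩ := Submodule.mem_sup.1 hv'
      obtain ⟨r, rfl⟩ := Submodule.mem_span_singleton.1 hx
      obtain ⟨t, rfl⟩ := Submodule.mem_span_singleton.1 hy
      rw [hf.add_left, herm_add_right hf, herm_add_right hf, hf.smul_left, hf.smul_left, herm_smul_right hf,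
        herm_smul_right hf, hZ u' hu' v' hv'', hZb u' hu', herm_swap_zero hf (hZb v' hv''), hbb]
      ring) hP (sup_le hZP ((Submodule.span_singleton_le_iff_mem _ _).2 hb))
    have h2 := Submodule.finrank_lt_finrank_of_lt
      (show Z < Z ⊔ Submodule.span F {b} from lt_of_le_of_ne le_sup_left fun h => hbZ (by
        rw [h]; exact Submodule.mem_sup_right (Submodule.mem_span_singleton_self b)))
    omega
  · obtain ⟨hnd, hsum⟩ := sub_perp hf hP (isNondegenerateOn_singleton hf hbb)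
      ((Submodule.span_singleton_le_iff_mem _ _).2 hb)
    rw [finrank_span_singleton (fun h => hbb (by rw [h, herm_zero_left hf]))] at hsum
    have h1 := two_mul_finrank_le hf hZ hnd (le_inf hZP fun u hu w hw => by
      obtain ⟨c, rfl⟩ := Submodule.mem_span_singleton.1 hw
      rw [herm_smul_right hf, hZb u hu, mul_zero])
    omega

/-- a vector with prescribed products, prescribed norm -/
theorem exists_vec {P : Submodule F (ι → F)} (hP : IsNondegenerateOn f P) (hdim : 4 ≤ Module.finrank F P)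
    {b b' : ι → F} (hb : b ∈ P) (hb' : b' ∈ P) {z₀ : ι → F} (hz₀ : z₀ ∈ P) {μ : F} (hμ : σ μ = μ)
    (hbig : b' = b ∨ f z₀ b ≠ 0 ∨ f z₀ b' ≠ 0 ∨ f b b ≠ 0) :
    ∃ z ∈ P, f z b = f z₀ b ∧ f z b' = f z₀ b' ∧ f z z = μ := by
  obtain ⟨S, hS⟩ : ∃ S, S = P ⊓ perpOf hf b ⊓ perpOf hf b' := ⟨_, rfl⟩
  have hSb : ∀ u ∈ S, u ∈ P ∧ f u b = 0 ∧ f u b' = 0 := fun u hu => by
    rw [hS] at hu
    exact ⟨hu.1.1, hu.1.2, hu.2⟩
  by_cases hq : ∃ q ∈ S, f q q ≠ 0
  · obtain ⟨q, hq, hqq⟩ := hq
    obtain ⟨hqP, hqb, hqb'⟩ := hSb q hq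
    obtain ⟨z₁, hz₁⟩ : ∃ z₁, z₁ = z₀ - (f z₀ q / f q q) • q := ⟨_, rfl⟩
    have hz₁q : f z₁ q = 0 := by rw [hz₁, herm_sub_left hf, hf.smul_left, div_mul_cancel₀ _ hqq, sub_self]
    obtain ⟨c, hc⟩ := exists_norm hf (d := (μ - f z₁ z₁) / f q q) (by
      rw [map_div₀, map_sub, hμ, ← hf.herm, ← hf.herm])
    refine ⟨z₁ + c • q, P.add_mem (hz₁ ▸ P.sub_mem hz₀ (P.smul_mem _ hqP)) (P.smul_mem c hqP), ?_, ?_, ?_⟩
    · rw [hz₁, hf.add_left, herm_sub_left hf, hf.smul_left, hf.smul_left, hqb, mul_zero, mul_zero, sub_zero, add_zero]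
    · rw [hz₁, hf.add_left, herm_sub_left hf, hf.smul_left, hf.smul_left, hqb', mul_zero, mul_zero, sub_zero,
        add_zero]
    · rw [hf.add_left, herm_add_right hf, herm_add_right hf, hf.smul_left, hf.smul_left, herm_smul_right hf,
        herm_smul_right hf, hz₁q, herm_swap_zero hf hz₁q, mul_zero, mul_zero, add_zero, zero_add, ← mul_assoc, hc,
        div_mul_cancel₀ _ hqq, add_sub_cancel]
  push Not at hq
  by_cases hu : ∃ u ∈ S, f z₀ u ≠ 0
  · obtain ⟨u, hu, hzu⟩ := hu
    obtain ⟨huP, hub, hub'⟩ := hSb u hu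
    obtain ⟨x, hx⟩ := exists_trace hf (d := μ - f z₀ z₀) (by rw [map_sub, hμ, ← hf.herm])
    refine ⟨z₀ + σ (x / f z₀ u) • u, P.add_mem hz₀ (P.smul_mem _ huP), ?_, ?_, ?_⟩
    · rw [hf.add_left, hf.smul_left, hub, mul_zero, add_zero]
    · rw [hf.add_left, hf.smul_left, hub', mul_zero, add_zero]
    · have hσ : σ (f z₀ u) ≠ 0 := by simpa using hzu
      rw [herm_line hf, hq u hu, hf.involutive, hf.herm u z₀, map_div₀, div_mul_cancel₀ _ hzu, div_mul_cancel₀ _ hσ,
        mul_zero, add_zero]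
      linear_combination hx
  push Not at hu
  exfalso
  have hZ : ∀ u ∈ S, ∀ v ∈ S, f u v = 0 := fun u hu v hv' => herm_zero_of_norms hf hq hu hv'
  have hSP : S ≤ P := fun u hu => (hSb u hu).1
  have h1 := two_mul_finrank_le hf hZ hP hSP
  have h2 := finrank_inf_perp hf P b
  have h3 := finrank_inf_perp hf (P ⊓ perpOf hf b) b'
  rcases hbig with h | h
  · subst h
    rw [inf_assoc, inf_idem] at hS
    rw [← hS] at h2
    omega
  rw [← hS] at h3
  have hhalf : Module.finrank F P ≤ 2 * Module.finrank F S := by omega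
  have hb1 := hSb b (mem_of_half hf hP hb hhalf hSP hZ fun u hu => (hSb u hu).2.1)
  have hb2 := hSb b' (mem_of_half hf hP hb' hhalf hSP hZ fun u hu => (hSb u hu).2.2)
  have hz := hSb z₀ (mem_of_half hf hP hz₀ hhalf hSP hZ fun u hu' => herm_swap_zero hf (hu u hu'))
  rcases h with h | h | h
  · exact h hz.2.1
  · exact h hz.2.2
  · exact h hb1.2.1

/-- stabilisers of small nondegenerate subspaces are maximal -/
theorem nondeg_subspace_maximal (hn : 6 ≤ Fintype.card ι) {W : Submodule F (ι → F)} (hW0 : W ≠ ⊥)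
    (hW : IsNondegenerateOn f W) (hdim : 2 * Module.finrank F W < Fintype.card ι) :
    IsMaximalIn (isoU f ⊓ specialLinear ι F) (subspaceStabilizer W ⊓ (isoU f ⊓ specialLinear ι F)) := by
  have hP := isNondegenerateOn_perp hf hW
  have hsum := finrank_add_perp hf hW
  have hPdim : 4 ≤ Module.finrank F (perp hf W) := by omega
  obtain ⟨δ, hδ, hδσ⟩ := exists_trace_zero hf
  obtain ⟨a₀, ha₀, ha₀a₀⟩ := exists_anisotropic hf hW hW0
  have hvec := fun (b : ι → F) (hb : b ∈ perp hf W) (z₀ : ι → F) (hz₀ : z₀ ∈ perp hf W) (μ : F) (hμ : σ μ = μ) =>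
    exists_vec hf hP hPdim hb hb hz₀ hμ (Or.inl rfl)
  refine isMaximalIn_of_centres hf (by omega) (fun hle => ?_) fun M hHM hM hMW => ?_
  · obtain ⟨b, hb, -, -, hbb⟩ := hvec 0 (zero_mem _) 0 (zero_mem _) (-f a₀ a₀) (by rw [map_neg, ← hf.herm])
    obtain ⟨u, hu⟩ : ∃ u, u = a₀ + b := ⟨_, rfl⟩
    have huu : f u u = 0 := by
      rw [hu, hf.add_left, herm_add_right hf, herm_add_right hf, hbb, herm_swap_zero hf (hb a₀ ha₀), hb a₀ ha₀]
      ring
    have h0 := utv_orth hf huu δ
    have hiff : a₀ ∈ W ↔ (tv u (δ • hv hf u) h0 : Matrix ι ι F) *ᵥ a₀ ∈ W :=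
      hle ⟨mem_isoU.2 (utv_isometry hf u huu hδσ h0), tv_mem_SL _ _ _⟩ a₀
    have h1 := hiff.1 ha₀
    rw [tv_mulVec, smul_dotProduct, hv_dot, hu, herm_add_right hf, herm_swap_zero hf (hb a₀ ha₀), add_zero,
      smul_eq_mul, W.add_mem_iff_right ha₀, W.smul_mem_iff (mul_ne_zero hδ ha₀a₀), W.add_mem_iff_right ha₀] at h1
    have hb0 := disjoint_perp hf hW h1 hb
    rw [hb0, herm_zero_left hf] at hbb
    exact ha₀a₀ (neg_eq_zero.1 hbb.symm)
  have hMiso : M ≤ isoU f := fun g hg => (hM hg).1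
  have hWc : ∀ u ∈ W, f u u = 0 → u ∈ centres hf M := fun u hu huu =>
    mem_centres_of_stab hf hHM huu fun c h0 => stab_of_centre hf (Or.inl hu) c h0
  have hPc : ∀ u ∈ perp hf W, f u u = 0 → u ∈ centres hf M := fun u hu huu =>
    mem_centres_of_stab hf hHM huu fun c h0 => stab_of_centre hf (Or.inr hu) c h0
  have hsplit : ∀ a ∈ W, ∀ b ∈ perp hf W, ∀ a' ∈ W, ∀ b' ∈ perp hf W, f (a + b) (a' + b') = f a a' + f b b' := by
    intro a ha b hb a' ha' b' hb'
    rw [hf.add_left, herm_add_right hf, herm_add_right hf, hb a' ha', herm_swap_zero hf (hb' a ha)]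
    ring
  -- two vectors of `perp W` with the same norm
  have hchain : ∀ a ∈ W, ∀ b ∈ perp hf W, b ≠ 0 → a + b ∈ centres hf M → ∀ b' ∈ perp hf W, b' ≠ 0 →
      f b' b' = f b b → a + b' ∈ centres hf M := by
    intro a ha
    have step : ∀ b ∈ perp hf W, a + b ∈ centres hf M → ∀ b' ∈ perp hf W, f b' b' = f b b →
        f b b' = f b b - δ → a + b' ∈ centres hf M := by
      intro b hb hA b' hb' hN hv'
      have h1 := centres_line hf hMiso hA (hPc (b' - b) (sub_mem hb' hb) (by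
        rw [herm_sub_left hf, herm_sub_right hf, herm_sub_right hf, hN, hf.herm b' b, hv', map_sub, hδσ, ← hf.herm]
        ring)) (r := 1) (by
          rw [hf.add_left, herm_sub_right hf, herm_swap_zero hf (hb' a ha), herm_swap_zero hf (hb a ha),
            herm_sub_right hf, hv']
          simpa using hδ) (by
          rw [one_smul, show a + b + (b' - b) = a + b' by abel, hsplit a ha b' hb' a ha b' hb', hN,
            ← hsplit a ha b hb a ha b hb]
          exact hA.1)
      rwa [one_smul, show a + b + (b' - b) = a + b' by abel] at h1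
    have hind : ∀ b ∈ perp hf W, b ≠ 0 → a + b ∈ centres hf M → ∀ b' ∈ perp hf W,
        b' ∉ Submodule.span F {b} → f b' b' = f b b → a + b' ∈ centres hf M := by
      intro b hb hb0 hA b' hb' hdep hN
      obtain ⟨z₀, hz₀, h1, h2⟩ := exists_values hf hP hb hb' hb0 hdep (f b b + δ) (f b' b' - δ)
      obtain ⟨z, hz, hzb, hzb', hzz⟩ := exists_vec hf hP hPdim hb hb' hz₀ (μ := f b b) (by rw [← hf.herm]) (by
        rw [h1, h2, hN]
        rcases eq_or_ne (f b b) 0 with h0 | h0
        · exact Or.inr (Or.inl (by rw [h0, zero_add]; exact hδ))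
        · exact Or.inr (Or.inr (Or.inr h0)))
      have h3 := step b hb hA z hz hzz (by rw [hf.herm, hzb, h1, map_add, hδσ, ← hf.herm]; ring)
      exact step z hz h3 b' hb' (hN.trans hzz.symm) (by rw [hzb', h2, hN, hzz])
    intro b hb hb0 hA b' hb' hb'0 hN
    by_cases hdep : b' ∈ Submodule.span F {b}
    · obtain ⟨s, rfl⟩ := Submodule.mem_span_singleton.1 hdep
      obtain ⟨y, hy, hyb⟩ : ∃ y ∈ perp hf W, f y b = f b b + δ := by
        obtain ⟨φ, hφ, -⟩ := exists_dual (⊥ : Submodule F (ι → F)) (fun h => hb0 ((Submodule.mem_bot F).1 h))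
        obtain ⟨y, hy, hyf⟩ := exists_rep_on hf hP (σ (f b b + δ) • φ)
        exact ⟨y, hy, by rw [hf.herm, hyf b hb, smul_dotProduct, hφ, smul_eq_mul, mul_one, hf.involutive]⟩
      obtain ⟨z, hz, hzb, -, hzz⟩ := hvec b hb y hy (f b b) (by rw [← hf.herm])
      have hz0 : z ∉ Submodule.span F {b} := by
        intro hm
        obtain ⟨r, rfl⟩ := Submodule.mem_span_singleton.1 hm
        rw [hf.smul_left, hyb] at hzb
        rw [hf.smul_left, herm_smul_right hf] at hzz
        have h2 := congrArg σ hzb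
        rw [map_mul, map_add, hδσ, ← hf.herm] at h2
        have h3 : δ * δ = 0 := by
          linear_combination (σ r * f b b) * hzb + (f b b + δ) * h2 - f b b * hzz
        exact hδ (mul_self_eq_zero.1 h3)
      have hz0' : z ≠ 0 := fun h => hz0 (h ▸ zero_mem _)
      have h1 := hind b hb hb0 hA z hz hz0 hzz
      refine hind z hz hz0' h1 _ hb' (fun hm => hz0 ?_) (hN.trans hzz.symm)
      obtain ⟨r, hr⟩ := Submodule.mem_span_singleton.1 hm
      have hr0 : r ≠ 0 := fun h => hb'0 (by rw [← hr, h, zero_smul])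
      rw [show z = r⁻¹ • (s • b) by rw [← hr, smul_smul, inv_mul_cancel₀ hr0, one_smul]]
      exact Submodule.smul_mem _ _ (Submodule.smul_mem _ _ (Submodule.mem_span_singleton_self b))
    · exact hind b hb hb0 hA b' hb' hdep hN
  let Good : (ι → F) → Prop := fun a => a ∈ W ∧ ∀ b ∈ perp hf W, f b b = -f a a → a + b ∈ centres hf M
  have hgood : ∀ a ∈ W, f a a ≠ 0 → ∀ b ∈ perp hf W, a + b ∈ centres hf M → Good a := by
    intro a ha hne b hb hA
    refine ⟨ha, fun b' hb' hN => ?_⟩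
    have hbb : f b b = -f a a := by
      have h1 := hA.1
      rw [hsplit a ha b hb a ha b hb] at h1
      linear_combination h1
    exact hchain a ha b hb (fun h => hne (neg_eq_zero.1 (by rw [← hbb, h, herm_zero_left hf]))) hA b' hb'
      (fun h => hne (neg_eq_zero.1 (by rw [← hN, h, herm_zero_left hf]))) (hN.trans hbb.symm)
  have hmove : ∀ a, Good a → f a a ≠ 0 → ∀ a' ∈ W, f a' a' = f a a → Good a' := by
    intro a hG hne a' ha' hN
    obtain ⟨g, ⟨hgi, hgW⟩, hgP, hga⟩ := exists_norm_move hf hG.1 ha' hN.symm hne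
    -- compensate the determinant
    obtain ⟨p, hp, hpp⟩ := exists_anisotropic hf hP (fun h0 => by rw [h0, finrank_bot] at hPdim; omega)
    obtain ⟨ζ, hζdef⟩ : ∃ ζ, ζ = (g : Matrix ι ι F).det := ⟨_, rfl⟩
    have hζ0 : ζ ≠ 0 := hζdef ▸ (Matrix.isUnit_iff_isUnit_det _).1 g.isUnit |>.ne_zero
    have hnorm : ζ * σ ζ = 1 := by
      let J : Matrix ι ι F := Matrix.of fun i j => f (Pi.single i 1) (Pi.single j 1)
      have hJ : ∀ x y : ι → F, f x y = x ⬝ᵥ (J *ᵥ (σ ∘ y)) := by
        intro x y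
        have hsumR : ∀ (s : Finset ι) (c : ι → F) (v : ι → ι → F) (x : ι → F),
            f x (∑ j ∈ s, c j • v j) = ∑ j ∈ s, σ (c j) * f x (v j) := by
          intro s c v x
          induction s using Finset.induction_on with
          | empty => simp [herm_zero_right hf]
          | @insert i s hi ih => rw [Finset.sum_insert hi, Finset.sum_insert hi, herm_add_right hf,
              herm_smul_right hf, ih]
        have hsumL : ∀ (s : Finset ι) (c : ι → F) (v : ι → ι → F) (y : ι → F),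
            f (∑ j ∈ s, c j • v j) y = ∑ j ∈ s, c j * f (v j) y := by
          intro s c v y
          induction s using Finset.induction_on with
          | empty => simp [herm_zero_left hf]
          | @insert i s hi ih => rw [Finset.sum_insert hi, Finset.sum_insert hi, hf.add_left, hf.smul_left, ih]
        conv_lhs => rw [pi_eq_sum_univ' x, pi_eq_sum_univ' y, hsumL]
        simp only [hsumR, dotProduct, Matrix.mulVec, J, Matrix.of_apply, Function.comp_apply]
        refine Finset.sum_congr rfl fun i _ => ?_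
        congr 1
        exact Finset.sum_congr rfl fun j _ => mul_comm _ _
      have hJdet : J.det ≠ 0 := by
        intro h0
        obtain ⟨v, hv0, hv'⟩ := Matrix.exists_mulVec_eq_zero_iff.2 h0
        obtain ⟨x, hx⟩ := (hf.nondegenerate (σ ∘ v) (fun h => hv0 (funext fun i => by
          have := congrFun h i; simpa using this))).1
        refine hx ?_
        rw [hJ, show σ ∘ (σ ∘ v) = v from funext fun i => hf.involutive _, hv', dotProduct_zero]
      have hgJ : (g : Matrix ι ι F)ᵀ * J * (g : Matrix ι ι F).map σ = J := by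
        refine Matrix.ext_iff_mulVec.2 fun y => ?_
        refine dotProduct_eq _ _ fun x => ?_
        have hy : (σ ∘ fun i => σ (y i)) = y := funext fun i => hf.involutive _
        have hmap : σ ∘ ((g : Matrix ι ι F) *ᵥ fun i => σ (y i)) = (g : Matrix ι ι F).map σ *ᵥ y := funext fun i => by
          simp [Matrix.mulVec, dotProduct, map_sum, map_mul, hf.involutive]
        have h1 := mem_isoU.1 hgi x fun i => σ (y i)
        rw [hJ, hJ, hy, hmap] at h1
        rw [← mulVec_mulVec, ← mulVec_mulVec, dotProduct_comm _ x, dotProduct_comm _ x, dotProduct_mulVec,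
          ← mulVec_transpose, transpose_transpose]
        exact h1
      have h1 := congrArg Matrix.det hgJ
      have h2 : ((g : Matrix ι ι F).map σ).det = σ ζ := by
        rw [hζdef]; exact (RingHom.map_det (σ : F →+* F) _).symm
      rw [det_mul, det_mul, det_transpose, h2, ← hζdef, mul_comm ζ J.det, mul_assoc] at h1
      exact mul_left_cancel₀ hJdet (h1.trans (mul_one _).symm)
    obtain ⟨k, hk, hkdet, hkf⟩ := exists_qref hf hpp (ζ := ζ⁻¹) (by rw [map_inv₀, ← mul_inv, hnorm, inv_one])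
    have hkW : ∀ x ∈ W, (k : Matrix ι ι F) *ᵥ x = x := fun x hx => by
      rw [hkf, herm_swap_zero hf (hp x hx), mul_zero, zero_smul, add_zero]
    have hkg : k * g ∈ M := hHM ⟨mul_mem (qref_stab hf (Or.inr hp) hkf) hgW, mul_mem hk hgi, Units.ext (by
      show ((k * g : GL ι F) : Matrix ι ι F).det = 1
      rw [Units.val_mul, det_mul, hkdet, ← hζdef, inv_mul_cancel₀ hζ0])⟩
    obtain ⟨b, hb, -, -, hbb⟩ := hvec 0 (zero_mem _) 0 (zero_mem _) (-f a a) (by rw [map_neg, ← hf.herm])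
    have h1 := centres_conj hf hMiso hkg (hG.2 b hb hbb)
    rw [gl_mul_mulVec, mulVec_add, hga, hgP b hb, mulVec_add, hkW a' ha'] at h1
    refine hgood a' ha' (hN ▸ hne) _ ?_ h1
    rw [hkf]
    exact (perp hf W).add_mem hb ((perp hf W).smul_mem _ hp)
  -- scaling
  have hscale : ∀ a, Good a → f a a ≠ 0 → ∀ c : F, c ≠ 0 → c ≠ 1 → Good (c • a) := by
    intro a hG hne c hc0 hc1
    obtain ⟨b, hb, -, -, hbb⟩ := hvec 0 (zero_mem _) 0 (zero_mem _) (-f a a) (by rw [map_neg, ← hf.herm])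
    have hb0 : b ≠ 0 := fun h => hne (neg_eq_zero.1 (by rw [← hbb, h, herm_zero_left hf]))
    obtain ⟨η, hη⟩ : ∃ η, η = (c - 1) / δ - f a a := ⟨_, rfl⟩
    obtain ⟨φ, hφ, -⟩ := exists_dual (⊥ : Submodule F (ι → F)) (fun h => hb0 ((Submodule.mem_bot F).1 h))
    obtain ⟨y, hy, hyf⟩ := exists_rep_on hf hP (η • φ)
    obtain ⟨z, hz, hzb, -, hzz⟩ := hvec b hb y hy (-f a a) (by rw [map_neg, ← hf.herm])
    have hbz : f b z = η := by rw [hf.herm, hzb, ← hf.herm, hyf b hb, smul_dotProduct, hφ, smul_eq_mul, mul_one]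
    have h1 := hG.2 b hb hbb
    have h2 := hG.2 z hz hzz
    have hS : f (a + b) (a + z) = (c - 1) / δ := by rw [hsplit a hG.1 b hb a hG.1 z hz, hbz, hη]; ring
    have h3 := centres_line hf hMiso h1 h2 (r := c - 1) (by rw [hS]; exact div_ne_zero (sub_ne_zero.2 hc1) hδ) (by
      rw [herm_line hf, h1.1, h2.1, hf.herm (a + z) (a + b), hS, map_div₀, hδσ]
      field_simp
      ring)
    refine hgood _ (W.smul_mem c hG.1) ?_ (b + (c - 1) • z) (add_mem hb ((perp hf W).smul_mem _ hz)) ?_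
    · rw [hf.smul_left, herm_smul_right hf]
      exact mul_ne_zero hc0 (mul_ne_zero (by simpa using hc0) hne)
    · rwa [show a + b + (c - 1) • (a + z) = c • a + (b + (c - 1) • z) by module] at h3
  -- a first good vector
  obtain ⟨g, hgM, hg⟩ := SetLike.not_le_iff_exists.1 hMW
  obtain ⟨x, hxA, hxW, hxP⟩ : ∃ x, x ∈ centres hf M ∧ x ∉ W ∧ x ∉ perp hf W := by
    by_contra hcon
    push Not at hcon
    obtain ⟨e, he, he0, hee⟩ := exists_isotropic hf (W := perp hf W) (by omega)
    obtain ⟨y, hy, hey⟩ := (hP e he he0).2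
    obtain ⟨h, hh, hhh, heh, -⟩ := exists_partner hf he hee hy hey
    have hside : ∀ z ∈ perp hf W, f z z = 0 →
        (g : Matrix ι ι F) *ᵥ z ∈ W ∨ (g : Matrix ι ι F) *ᵥ z ∈ perp hf W := fun z hz hzz => by
      by_contra hn'
      push Not at hn'
      exact hn'.2 (hcon _ (centres_conj hf hMiso hgM (hPc z hz hzz)) hn'.1)
    have hiso := mem_isoU.1 (hMiso hgM)
    have hclose : ∀ T : Submodule F (ι → F), (T = W ∨ T = perp hf W) → (g : Matrix ι ι F) *ᵥ e ∈ T →
        ∀ z ∈ perp hf W, (g : Matrix ι ι F) *ᵥ z ∈ T := by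
      intro T hT heT
      have hle := subspace_le_of_pair hf (S := T.comap (Matrix.toLin' (g : Matrix ι ι F))) he hee hh hhh heh
        (by simpa [Matrix.toLin'_apply] using heT) (fun z hz hzz hne => by
          show Matrix.toLin' (g : Matrix ι ι F) z ∈ T
          rw [Matrix.toLin'_apply]
          rcases hT with rfl | rfl <;> rcases hside z hz hzz with h' | h'
          · exact h'
          · exact absurd (by rw [← hiso]; exact herm_swap_zero hf (h' _ heT)) hne
          · exact absurd (by rw [← hiso]; exact heT _ h') hne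
          · exact h')
      intro z hz
      simpa [Matrix.toLin'_apply] using hle hz
    have hinj : Function.Injective (Matrix.toLin' (g : Matrix ι ι F)) := fun a b hab => by
      have := congrArg (fun x => ((g⁻¹ : GL ι F) : Matrix ι ι F) *ᵥ x) hab
      simpa only [Matrix.toLin'_apply, gl_inv_mulVec] using this
    rcases hside e he hee with h1 | h1
    · have hle : (perp hf W).map (Matrix.toLin' (g : Matrix ι ι F)) ≤ W := by
        rintro _ ⟨z, hz, rfl⟩
        rw [Matrix.toLin'_apply]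
        exact hclose W (Or.inl rfl) h1 z hz
      have := Submodule.finrank_mono hle
      rw [← (Submodule.equivMapOfInjective _ hinj (perp hf W)).finrank_eq] at this
      omega
    · have hgP : g ∈ subspaceStabilizer (perp hf W) := by
        by_contra hn'
        obtain ⟨q, hq, hgq⟩ := exists_moved_of_not_stab hn'
        exact hgq (hclose _ (Or.inr rfl) h1 q hq)
      obtain ⟨w, hw, hgw⟩ := exists_moved_of_not_stab hg
      refine hgw (perp_perp hf hW fun p hp => ?_)
      have hp' : ((g⁻¹ : GL ι F) : Matrix ι ι F) *ᵥ p ∈ perp hf W :=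
        (((subspaceStabilizer (perp hf W)).inv_mem hgP) p).1 hp
      rw [← gl_mulVec_inv g p, hiso]
      exact herm_swap_zero hf (hp' w hw)
  obtain ⟨a, haG, hane⟩ : ∃ a, Good a ∧ f a a ≠ 0 := by
    obtain ⟨a, ha, hb⟩ := exists_decomp hf hW x
    obtain ⟨b, hbdef⟩ : ∃ b, b = x - a := ⟨_, rfl⟩
    rw [← hbdef] at hb
    have hx : x = a + b := by rw [hbdef]; abel
    rw [hx] at hxA hxW hxP
    by_cases hne : f a a = 0
    swap
    · exact ⟨a, hgood a ha hne b hb hxA, hne⟩
    have ha0 : a ≠ 0 := fun h0 => hxP (by rw [h0, zero_add]; exact hb)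
    have hb0 : b ≠ 0 := fun h0 => hxW (by rw [h0, add_zero]; exact ha)
    have hbb : f b b = 0 := by
      have h1 := hxA.1
      rw [hsplit a ha b hb a ha b hb, hne] at h1
      linear_combination h1
    obtain ⟨y, hy, hay⟩ := (hW a ha ha0).2
    obtain ⟨h, hh, hhh, hah, hha⟩ := exists_partner hf ha hne hy hay
    -- move `a` by a transvection of `W`
    obtain ⟨h0, hmem⟩ := (hWc h hh hhh).2 δ hδσ
    have h1 := centres_conj hf hMiso hmem hxA
    rw [tv_mulVec, smul_dotProduct, hv_dot, hf.add_left, hah, hb h hh, add_zero, smul_eq_mul, mul_one] at h1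
    obtain ⟨a', ha'⟩ : ∃ a', a' = a + δ • h := ⟨_, rfl⟩
    have ha'W : a' ∈ W := ha' ▸ W.add_mem ha (W.smul_mem δ hh)
    rw [show a + b + δ • h = a' + b by rw [ha']; abel] at h1
    have haa' : f a a' = -δ := by rw [ha', herm_add_right hf, hne, herm_smul_right hf, hah, hδσ]; ring
    obtain ⟨τ, hτ⟩ := exists_trace_ne_zero hf
    obtain ⟨φ, hφ, -⟩ := exists_dual (⊥ : Submodule F (ι → F)) (fun h => hb0 ((Submodule.mem_bot F).1 h))
    obtain ⟨w, hw, hwf⟩ := exists_rep_on hf hP (τ • φ)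
    obtain ⟨b', hb', hbw, -, hb'b'⟩ := hvec b hb w hw 0 (map_zero σ)
    have hbb' : f b b' = τ := by rw [hf.herm, hbw, ← hf.herm, hwf b hb, smul_dotProduct, hφ, smul_eq_mul, mul_one]
    have hb'0 : b' ≠ 0 := by
      intro h2
      rw [h2, herm_zero_right hf] at hbb'
      exact hτ (by rw [← hbb', map_zero, add_zero])
    have ha'a' : f a' a' = 0 := by
      rw [ha', hf.add_left, herm_add_right hf, herm_add_right hf, hf.smul_left, hf.smul_left, herm_smul_right hf,
        herm_smul_right hf, hne, hhh, hah, hha, hδσ]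
      ring
    have h2 := hchain a' ha'W b hb hb0 h1 b' hb' hb'0 (hb'b'.trans hbb.symm)
    have hS : f (a + b) (a' + b') = τ - δ := by rw [hsplit a ha b hb a' ha'W b' hb', haa', hbb']; ring
    obtain ⟨r, hr⟩ : ∃ r, r = δ * (τ - δ) := ⟨_, rfl⟩
    have hτδ : τ - δ ≠ 0 := fun h3 => hτ (by rw [sub_eq_zero.1 h3, hδσ, add_neg_cancel])
    have h3 := centres_line hf hMiso hxA h2 (r := r) (by rw [hS]; exact hτδ) (by
      rw [herm_line hf, hxA.1, h2.1, hf.herm (a' + b') (a + b), hS, hr, map_mul, hδσ]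
      ring)
    have hN : f (a + r • a') (a + r • a') = δ * δ * (τ + σ τ) := by
      rw [hf.add_left, herm_add_right hf, herm_add_right hf, hf.smul_left, hf.smul_left, herm_smul_right hf,
        herm_smul_right hf, hne, ha'a', hf.herm a' a, haa', map_neg, hδσ, hr, map_mul, map_sub, hδσ]
      ring
    refine ⟨a + r • a', hgood _ (W.add_mem ha (W.smul_mem r ha'W)) (hN ▸ mul_ne_zero (mul_ne_zero hδ hδ) hτ)
      (b + r • b') (add_mem hb ((perp hf W).smul_mem r hb')) ?_, hN ▸ mul_ne_zero (mul_ne_zero hδ hδ) hτ⟩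
    rwa [show a + b + r • (a' + b') = a + r • a' + (b + r • b') by module] at h3
  have hall : ∀ a' ∈ W, f a' a' ≠ 0 → Good a' := by
    intro a' ha' hne'
    obtain ⟨c, hc⟩ := exists_norm hf (d := f a' a' / f a a) (by rw [map_div₀, ← hf.herm, ← hf.herm])
    have hc0 : c ≠ 0 := fun h0 => by
      rw [h0, zero_mul, eq_comm, div_eq_zero_iff] at hc
      exact hc.elim hne' hane
    have hG : Good (c • a) := by
      rcases eq_or_ne c 1 with rfl | hc1
      · rw [one_smul]; exact haG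
      · exact hscale a haG hane c hc0 hc1
    have hN : f (c • a) (c • a) = f a' a' := by
      rw [hf.smul_left, herm_smul_right hf, ← mul_assoc, hc, div_mul_cancel₀ _ hane]
    exact hmove _ hG (hN ▸ hne') a' ha' hN.symm
  intro u huu
  obtain ⟨a', ha', hb⟩ := exists_decomp hf hW u
  obtain ⟨b', hb'def⟩ : ∃ b', b' = u - a' := ⟨_, rfl⟩
  rw [← hb'def] at hb
  have hu : u = a' + b' := by rw [hb'def]; abel
  rw [hu] at huu ⊢
  have hbb : f b' b' = -f a' a' := by
    rw [hsplit a' ha' b' hb a' ha' b' hb] at huu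
    linear_combination huu
  by_cases hne : f a' a' = 0
  swap
  · exact (hall a' ha' hne).2 b' hb hbb
  by_cases ha0 : a' = 0
  · rw [ha0, zero_add]
    exact hPc b' hb (by rw [hbb, hne, neg_zero])
  by_cases hb0 : b' = 0
  · rw [hb0, add_zero]
    exact hWc a' ha' hne
  -- an isotropic component: the sum of two good vectors
  obtain ⟨y, hy, hay⟩ := (hW a' ha' ha0).2
  obtain ⟨h, hh, hhh, hah, hha⟩ := exists_partner hf ha' hne hy hay
  obtain ⟨t, ht⟩ := exists_trace hf (d := (1 : F)) (map_one σ)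
  obtain ⟨a₁, ha₁⟩ : ∃ a₁, a₁ = h + t • a' := ⟨_, rfl⟩
  have ha₁W : a₁ ∈ W := ha₁ ▸ W.add_mem hh (W.smul_mem t ha')
  have hN₁ : f a₁ a₁ = 1 := by
    rw [ha₁, hf.add_left, herm_add_right hf, herm_add_right hf, hf.smul_left, hf.smul_left, herm_smul_right hf,
      herm_smul_right hf, hhh, hne, hah, hha]
    linear_combination ht
  have ha₁a' : f a₁ a' = 1 := by rw [ha₁, hf.add_left, hf.smul_left, hne, hha, mul_zero, add_zero]
  have hN₂ : f (a' - a₁) (a' - a₁) = -1 := by
    rw [herm_sub_left hf, herm_sub_right hf, herm_sub_right hf, hne, hN₁, hf.herm a' a₁, ha₁a', map_one]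
    ring
  obtain ⟨φ, hφ, -⟩ := exists_dual (⊥ : Submodule F (ι → F)) (fun h => hb0 ((Submodule.mem_bot F).1 h))
  obtain ⟨w, hw, hwf⟩ := exists_rep_on hf hP ((-1 - δ) • φ)
  obtain ⟨b₁, hb₁, hb₁b, -, hb₁b₁⟩ := hvec b' hb w hw (-1) (by rw [map_neg, map_one])
  have hvb : f b₁ b' = -1 + δ := by
    rw [hb₁b, hf.herm, hwf b' hb, smul_dotProduct, hφ, smul_eq_mul, mul_one, map_sub, map_neg, map_one, hδσ]
    ring
  have hb₂ : f (b' - b₁) (b' - b₁) = 1 := by
    rw [herm_sub_left hf, herm_sub_right hf, herm_sub_right hf, hbb, hne, hb₁b₁, hf.herm b' b₁, hvb, map_add,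
      map_neg, map_one, hδσ]
    ring
  have hne₁ : f a₁ a₁ ≠ 0 := by rw [hN₁]; exact one_ne_zero
  have hne₂ : f (a' - a₁) (a' - a₁) ≠ 0 := by rw [hN₂]; exact neg_ne_zero.2 one_ne_zero
  have h1 := (hall a₁ ha₁W hne₁).2 b₁ hb₁ (by rw [hb₁b₁, hN₁])
  have h2 := (hall _ (W.sub_mem ha' ha₁W) hne₂).2 (b' - b₁) ((perp hf W).sub_mem hb hb₁) (by rw [hb₂, hN₂, neg_neg])
  have hsum : a₁ + b₁ + (1 : F) • (a' - a₁ + (b' - b₁)) = a' + b' := by module
  have h3 := centres_line hf hMiso h1 h2 (r := 1) (by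
    rw [hsplit a₁ ha₁W b₁ hb₁ _ (W.sub_mem ha' ha₁W) _ ((perp hf W).sub_mem hb hb₁), herm_sub_right hf,
      herm_sub_right hf, ha₁a', hN₁, hvb, hb₁b₁]
    simpa using hδ) (by rw [hsum]; exact huu)
  rwa [hsum] at h3

end CfsgLib.Perm.Trans.Unit
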