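import Cfsg.Agent.Lib.Perm.Trans.UnitMax
import Cfsg.Agent.Lib.Perm.Trans.UnitSubfMax

/-!
# Stabilisers of pairs of complementary totally singular subspaces in special unitary groups
-/

set_option autoImplicit false
set_option linter.all false

namespace CfsgLib.Perm.Trans.Unit

open scoped Matrix
open Matrix Cfsg.Geo CfsgLib.Perm.Asch CfsgLib.Perm.Trans

variable {ι : Type} [Fintype ι] [DecidableEq ι] {F : Type*} [Field F] [Fintype F]
variable {σ : F ≃+* F} {f : (ι → F) → (ι → F) → F}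

/-- two complementary totally singular subspaces of dimension at least two -/
structure SingPair (f : (ι → F) → (ι → F) → F) (X Y : Submodule F (ι → F)) : Prop where
  singX : IsTotallySingularFor f X
  singY : IsTotallySingularFor f Y
  sup : X ⊔ Y = ⊤
  inf : X ⊓ Y = ⊥
  dimX : 2 ≤ Module.finrank F X
  dimY : 2 ≤ Module.finrank F Y

/-- `g` is the shear of `a` and `b` -/
def IsShear (f : (ι → F) → (ι → F) → F) (a b : ι → F) (g : GL ι F) : Prop :=
  ∀ z, (g : Matrix ι ι F) *ᵥ z = z + f z b • a - f z a • b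

/-- the shear of `a` and `b` lies in `M` -/
def ShearIn (f : (ι → F) → (ι → F) → F) (M : Subgroup (GL ι F)) (a b : ι → F) : Prop :=
  ∃ g ∈ M, IsShear f a b g

variable {X Y : Submodule F (ι → F)}

theorem SingPair.symm (P : SingPair f X Y) : SingPair f Y X :=
  ⟨P.singY, P.singX, by rw [sup_comm, P.sup], by rw [inf_comm, P.inf], P.dimY, P.dimX⟩

theorem SingPair.split (P : SingPair f X Y) (v : ι → F) : ∃ x ∈ X, ∃ y ∈ Y, v = x + y := by
  obtain ⟨x, hx, y, hy, h⟩ := Submodule.mem_sup.1 (P.sup.symm ▸ Submodule.mem_top : v ∈ X ⊔ Y)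
  exact ⟨x, hx, y, hy, h.symm⟩

theorem SingPair.eq_zero (P : SingPair f X Y) {v : ι → F} (hx : v ∈ X) (hy : v ∈ Y) : v = 0 :=
  (Submodule.mem_bot F).1 (P.inf ▸ ⟨hx, hy⟩)

variable (hf : IsUnitaryForm σ f)
include hf

theorem exists_shear {a b : ι → F} (haa : f a a = 0) (hbb : f b b = 0) (hab : f a b = 0) :
    ∃ g ∈ isoU f ⊓ specialLinear ι F, IsShear f a b g := by
  have hba := herm_swap_zero hf hab
  obtain ⟨A, hA⟩ : ∃ A : Matrix ι ι F, A = 1 + vecMulVec a (hv hf b) + vecMulVec (-b) (hv hf a) := ⟨_, rfl⟩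
  have hdet : A.det = 1 := by
    rw [hA, det_one_add_two hf, dotProduct_neg, dotProduct_neg, hv_dot, hv_dot, hv_dot, hv_dot, hab, hba, haa]
    simp
  have happ : ∀ z, A *ᵥ z = z + f z b • a - f z a • b := fun z => by
    rw [hA, add_mulVec, add_mulVec, one_mulVec, vecMulVec_mulVec, vecMulVec_mulVec, op_smul_eq_smul,
      op_smul_eq_smul, hv_dot, hv_dot, smul_neg, sub_eq_add_neg]
  refine ⟨Matrix.GeneralLinearGroup.mkOfDetNeZero A (by rw [hdet]; exact one_ne_zero),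
    ⟨mem_isoU.2 fun z w => ?_, Units.ext hdet⟩, happ⟩
  show f (A *ᵥ z) (A *ᵥ w) = f z w
  simp only [happ, herm_sub_left hf, herm_sub_right hf, hf.add_left, herm_add_right hf, hf.smul_left,
    herm_smul_right hf, hab, hba, haa, hbb, ← hf.herm]
  ring

theorem IsShear.conj {a b : ι → F} {g h : GL ι F} (hg : IsShear f a b g) (hh : h ∈ isoU f) :
    IsShear f ((h : Matrix ι ι F) *ᵥ a) ((h : Matrix ι ι F) *ᵥ b) (h * g * h⁻¹) := fun z => by
  have key : ∀ c, f z ((h : Matrix ι ι F) *ᵥ c) = f (((h⁻¹ : GL ι F) : Matrix ι ι F) *ᵥ z) c := fun c => by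
    conv_lhs => rw [← gl_mulVec_inv h z]
    rw [mem_isoU.1 hh]
  rw [gl_mul_mulVec, gl_mul_mulVec, hg, mulVec_sub, mulVec_add, mulVec_smul, mulVec_smul, gl_mulVec_inv, key, key]

theorem ShearIn.conj {M : Subgroup (GL ι F)} (hM : M ≤ isoU f) {a b : ι → F} (h : ShearIn f M a b) {g : GL ι F}
    (hg : g ∈ M) : ShearIn f M ((g : Matrix ι ι F) *ᵥ a) ((g : Matrix ι ι F) *ᵥ b) :=
  let ⟨e, he, hs⟩ := h
  ⟨g * e * g⁻¹, M.mul_mem (M.mul_mem hg he) (M.inv_mem hg), hs.conj hf (hM hg)⟩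

variable (P : SingPair f X Y)
include P

theorem pair_partner {x : ι → F} (hx : x ∈ X) (hx0 : x ≠ 0) : ∃ y ∈ Y, f x y ≠ 0 := by
  obtain ⟨v, hv'⟩ := (hf.nondegenerate x hx0).2
  obtain ⟨a, ha, b, hb, rfl⟩ := P.split v
  rw [herm_add_right hf, P.singX x hx a ha, zero_add] at hv'
  exact ⟨b, hb, hv'⟩

theorem pair_sep {x u : ι → F} (hx : x ∈ X) (hu : u ∈ X) (h : u ∉ Submodule.span F ({x} : Set (ι → F))) :
    ∃ y ∈ Y, f u y = 1 ∧ f x y = 0 := by
  obtain ⟨φ, hφu, hφ⟩ := exists_dual _ h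
  obtain ⟨p, hp⟩ := exists_rep hf φ
  obtain ⟨a, ha, b, hb, rfl⟩ := P.split p
  refine ⟨b, hb, ?_, ?_⟩
  · have h1 := hp u
    rw [hφu, herm_add_right hf, P.singX u hu a ha, zero_add] at h1
    exact h1
  · have h1 := hp x
    rw [hφ x (Submodule.mem_span_singleton_self x), herm_add_right hf, P.singX x hx a ha, zero_add] at h1
    exact h1

theorem pair_orth (x : ι → F) : ∃ y ∈ Y, y ≠ 0 ∧ f x y = 0 := by
  have h1 := finrank_inf_perp hf Y x
  obtain ⟨y, hy, hy0⟩ := Submodule.exists_mem_ne_zero_of_ne_bot (p := Y ⊓ perpOf hf x) (fun h => by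
    have := P.dimY
    rw [h, finrank_bot] at h1
    omega)
  exact ⟨y, hy.1, hy0, herm_swap_zero hf hy.2⟩

/-- shears stabilising `X` have a vector in `X` -/
theorem shear_stab_pair {a b : ι → F}
    (h : ∀ t : F, ∀ z ∈ X, z + f z b • (t • a) - f z (t • a) • b ∈ X) : a ∈ X ∨ b ∈ X := by
  obtain ⟨a₁, ha₁, a₂, ha₂, rfl⟩ := P.split a
  obtain ⟨b₁, hb₁, b₂, hb₂, rfl⟩ := P.split b
  by_cases ha0 : a₂ = 0
  · exact Or.inl (by rw [ha0, add_zero]; exact ha₁)
  refine Or.inr ?_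
  have hzero : ∀ z ∈ X, f z b₂ = 0 := by
    intro z hz
    obtain ⟨θ, hθ⟩ := exists_not_fixed hf
    have key : ∀ t : F, (t * f z b₂) • a₂ - (σ t * f z a₂) • b₂ = 0 := fun t => by
      refine P.eq_zero ?_ (Y.sub_mem (Y.smul_mem _ ha₂) (Y.smul_mem _ hb₂))
      have h1 := h t z hz
      rw [herm_smul_right hf, herm_add_right hf, herm_add_right hf, P.singX z hz a₁ ha₁, P.singX z hz b₁ hb₁,
        zero_add, zero_add] at h1
      have h2 := X.sub_mem h1 (X.sub_mem (X.add_mem hz (X.smul_mem (t * f z b₂) ha₁))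
        (X.smul_mem (σ t * f z a₂) hb₁))
      convert h2 using 1
      module
    have h1 := key 1
    rw [map_one, one_mul, one_mul, sub_eq_zero] at h1
    have h2 := key θ
    rw [mul_smul, mul_smul, ← h1, ← sub_smul, smul_eq_zero, smul_eq_zero] at h2
    exact (h2.resolve_left (sub_ne_zero.2 (Ne.symm hθ))).resolve_right ha0
  have hb0 : b₂ = 0 := by
    by_contra hne
    obtain ⟨z, hz, h1⟩ := pair_partner hf P.symm hb₂ hne
    exact h1 (herm_swap_zero hf (hzero z hz))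
  rw [hb0, add_zero]
  exact hb₁

variable {M : Subgroup (GL ι F)} (hM : M ≤ isoU f)
variable (hXY : ∀ a ∈ X, ∀ b ∈ Y, f a b = 0 → ShearIn f M a b)
include hM hXY

/-- an element fixing a vector of `X` gives a centre or respects `Y` on its orthogonal -/
theorem pair_side_one {k : GL ι F} (hk : k ∈ M) {x : ι → F} (hxX : x ∈ X) (hx0 : x ≠ 0)
    (hfix : (k : Matrix ι ι F) *ᵥ x = x)
    (hno : ∀ a ∈ X, a ≠ 0 → a ∉ centres hf M) : ∀ y ∈ Y, f x y = 0 → (k : Matrix ι ι F) *ᵥ y ∈ Y := by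
  have hcase : ∀ y ∈ Y, f x y = 0 → ∃ s : F, (k : Matrix ι ι F) *ᵥ y - s • x ∈ Y := by
    intro y hy hxy
    obtain ⟨c, hcdef⟩ : ∃ c, c = (k : Matrix ι ι F) *ᵥ y := ⟨_, rfl⟩
    rw [← hcdef]
    obtain ⟨c₁, hc₁, c₂, hc₂, hc⟩ := P.split c
    by_cases hdep : c₁ ∈ Submodule.span F ({x} : Set (ι → F))
    · obtain ⟨s, hs⟩ := Submodule.mem_span_singleton.1 hdep
      exact ⟨s, by rw [hc, ← hs, add_sub_cancel_left]; exact hc₂⟩
    exfalso
    obtain ⟨b, hb, hcb, hxb⟩ := pair_sep hf P hxX hc₁ hdep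
    obtain ⟨S, hS, hSf⟩ : ShearIn f M x c := by
      have h1 := (hXY x hxX y hy hxy).conj hf hM hk
      rwa [hfix, ← hcdef] at h1
    have hxx : f x x = 0 := P.singX x hxX x hxX
    have hxc : f x c = 0 := by
      rw [hcdef]
      nth_rewrite 1 [← hfix]
      rw [mem_isoU.1 (hM hk), hxy]
    have hcb' : f c b = 1 := by rw [hc, hf.add_left, hcb, P.singY c₂ hc₂ b hb, add_zero]
    refine hno x hxX hx0 ⟨hxx, fun l hl => ⟨utv_orth hf hxx l, ?_⟩⟩
    obtain ⟨d, hd⟩ := exists_trace hf (d := (1 : F)) (map_one σ)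
    obtain ⟨t, ht⟩ : ∃ t, t = -(d * l) := ⟨_, rfl⟩
    have htl : σ t - t = l := by
      rw [ht, map_neg, map_mul, hl]
      linear_combination l * hd
    have hxb' : f (t • x) b = 0 := by rw [hf.smul_left, hxb, mul_zero]
    obtain ⟨T, hT, hTf⟩ := hXY (t • x) (X.smul_mem t hxX) b hb hxb'
    have hTx : (T : Matrix ι ι F) *ᵥ x = x := by
      rw [hTf, hxb, herm_smul_right hf, hxx, mul_zero, zero_smul, zero_smul, add_zero, sub_zero]
    have hTc : (T : Matrix ι ι F) *ᵥ c = c + t • x := by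
      rw [hTf, hcb', herm_smul_right hf, herm_swap_zero hf hxc, mul_zero, zero_smul, sub_zero, one_smul]
    have hconj := hSf.conj hf (hM hT)
    rw [hTx, hTc] at hconj
    have h4 := M.mul_mem (M.inv_mem hS) (M.mul_mem (M.mul_mem hT hS) (M.inv_mem hT))
    have heq : S * tv x (l • hv hf x) (utv_orth hf hxx l) = T * S * T⁻¹ := gl_ext_vec fun z => by
      rw [gl_mul_mulVec, tv_mulVec, smul_dotProduct, hv_dot, hSf, hconj, hf.add_left, hf.add_left,
        herm_add_right hf, hf.smul_left, hf.smul_left, herm_smul_right hf, hxx, hxc, smul_eq_mul, ← htl]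
      module
    rwa [← heq, inv_mul_cancel_left] at h4
  intro y hy hxy
  obtain ⟨s, hs⟩ := hcase y hy hxy
  by_cases hs0 : s = 0
  · rwa [hs0, zero_smul, sub_zero] at hs
  -- a scalar multiple of `y` gives a transvection at `x`
  exfalso
  obtain ⟨w, hwdef⟩ : ∃ w, w = (k : Matrix ι ι F) *ᵥ y - s • x := ⟨_, rfl⟩
  rw [← hwdef] at hs
  have hxx : f x x = 0 := P.singX x hxX x hxX
  have hky : f x ((k : Matrix ι ι F) *ᵥ y) = 0 := by
    nth_rewrite 1 [← hfix]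
    rw [mem_isoU.1 (hM hk), hxy]
  have hxw : f x w = 0 := by rw [hwdef, herm_sub_right hf, hky, herm_smul_right hf, hxx, mul_zero, sub_zero]
  refine hno x hxX hx0 ⟨hxx, fun l hl => ⟨utv_orth hf hxx l, ?_⟩⟩
  obtain ⟨d, hd⟩ := exists_trace hf (d := (1 : F)) (map_one σ)
  obtain ⟨t, ht⟩ : ∃ t, t = -(d * l) / s := ⟨_, rfl⟩
  have htl : σ (t * s) - t * s = l := by
    rw [ht, div_mul_cancel₀ _ hs0, map_neg, map_mul, hl]
    linear_combination l * hd
  obtain ⟨S, hS, hSf⟩ : ShearIn f M x ((t * s) • x + t • w) := by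
    have h1 := (hXY x hxX (t • y) (Y.smul_mem t hy) (by rw [herm_smul_right hf, hxy, mul_zero])).conj hf hM hk
    rwa [hfix, mulVec_smul, show (k : Matrix ι ι F) *ᵥ y = s • x + w by rw [hwdef]; abel, smul_add, smul_smul] at h1
  obtain ⟨T, hT, hTf⟩ := hXY x hxX (t • w) (Y.smul_mem t hs) (by rw [herm_smul_right hf, hxw, mul_zero])
  have heq : T * tv x (l • hv hf x) (utv_orth hf hxx l) = S := gl_ext_vec fun z => by
    rw [gl_mul_mulVec, tv_mulVec, smul_dotProduct, hv_dot, hSf, hTf, smul_eq_mul, ← htl]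
    simp only [hf.add_left, hf.smul_left, herm_add_right hf, herm_smul_right hf, hxx, hxw, map_mul]
    module
  have h4 := M.mul_mem (M.inv_mem hT) hS
  rwa [← heq, inv_mul_cancel_left] at h4

/-- the shears move the vectors of `X` -/
theorem pair_transitive {x x' : ι → F} (hx : x ∈ X) (hx' : x' ∈ X) (hx0 : x ≠ 0)
    (hxc : x ∈ centres hf M) : x' ∈ centres hf M := by
  by_cases hdep : x' ∈ Submodule.span F ({x} : Set (ι → F))
  · obtain ⟨s, rfl⟩ := Submodule.mem_span_singleton.1 hdep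
    exact centres_smul hf hxc s
  have hind : x ∉ Submodule.span F ({x' - x} : Set (ι → F)) := fun hm => by
    obtain ⟨s, hs⟩ := Submodule.mem_span_singleton.1 hm
    rcases eq_or_ne s 0 with rfl | hs0
    · exact hx0 (by rw [← hs, zero_smul])
    · exact hdep (Submodule.mem_span_singleton.2 ⟨1 + s⁻¹, by
        rw [add_smul, one_smul]
        nth_rewrite 2 [← hs]
        rw [smul_smul, inv_mul_cancel₀ hs0, one_smul, add_sub_cancel]⟩)
  obtain ⟨b, hb, hxb, hab⟩ := pair_sep hf P (X.sub_mem hx' hx) hx hind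
  obtain ⟨g, hg, hgf⟩ := hXY _ (X.sub_mem hx' hx) b hb hab
  have h1 := centres_conj hf hM hg hxc
  rwa [hgf, hxb, P.singX x hx _ (X.sub_mem hx' hx), zero_smul, sub_zero, one_smul, add_sub_cancel] at h1

omit hM hXY in
/-- an element of the special unitary group exchanging the two subspaces -/
theorem exists_pair_swap : ∃ w ∈ isoU f ⊓ specialLinear ι F, (∀ x ∈ X, (w : Matrix ι ι F) *ᵥ x ∈ Y) ∧
    ∀ y ∈ Y, (w : Matrix ι ι F) *ᵥ y ∈ X := by
  classical
  obtain ⟨k, b, hbX, hrepr⟩ : ∃ (k : ℕ) (b : Fin k → ι → F), (∀ i, b i ∈ X) ∧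
      ∃ d : Fin k → ι → F, (∀ i, d i ∈ Y) ∧ (∀ i j, f (b i) (d j) = if i = j then 1 else 0) ∧
        ∀ x ∈ X, x = ∑ i, f x (d i) • b i := by
    let b := Module.finBasis F X
    have hdual : ∀ i, ∃ d ∈ Y, ∀ z (hz : z ∈ X), f z d = b.repr ⟨z, hz⟩ i := by
      intro i
      obtain ⟨L, hL⟩ : ∃ L : (ι → F) →ₗ[F] F, L.comp X.subtype = b.coord i := LinearMap.exists_extend (b.coord i)
      obtain ⟨p, hp⟩ := exists_rep hf (fvec L)
      obtain ⟨a, ha, d, hd, rfl⟩ := P.split p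
      refine ⟨d, hd, fun z hz => ?_⟩
      have h1 := hp z
      rw [herm_add_right hf, P.singX z hz a ha, zero_add, fvec_dot] at h1
      rw [h1]
      exact LinearMap.congr_fun hL ⟨z, hz⟩
    choose d hd hdb using hdual
    refine ⟨_, fun i => (b i : ι → F), fun i => (b i).2, d, hd, fun i j => ?_, fun x hx => ?_⟩
    · rw [hdb j _ (b i).2]
      simp [Finsupp.single_apply]
    · have h1 := congrArg Subtype.val (b.sum_repr ⟨x, hx⟩)
      rw [Submodule.coe_sum] at h1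
      exact h1.symm.trans (Finset.sum_congr rfl fun i _ => by rw [Submodule.coe_smul, hdb i x hx])
  obtain ⟨d, hd, hbd, hx⟩ := hrepr
  have fsr : ∀ (s : Finset (Fin k)) (c : Fin k → F) (u : Fin k → ι → F) (z : ι → F),
      f z (∑ i ∈ s, c i • u i) = ∑ i ∈ s, σ (c i) * f z (u i) := by
    intro s c u z
    induction s using Finset.induction_on with
    | empty => simp [herm_zero_right hf]
    | @insert i s hi ih => rw [Finset.sum_insert hi, Finset.sum_insert hi, herm_add_right hf,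
        herm_smul_right hf, ih]
  have fsl : ∀ (s : Finset (Fin k)) (c : Fin k → F) (u : Fin k → ι → F) (z : ι → F),
      f (∑ i ∈ s, c i • u i) z = ∑ i ∈ s, c i * f (u i) z := by
    intro s c u z
    induction s using Finset.induction_on with
    | empty => simp [herm_zero_left hf]
    | @insert i s hi ih => rw [Finset.sum_insert hi, Finset.sum_insert hi, hf.add_left, hf.smul_left, ih]
  let L : (ι → F) →ₗ[F] (ι → F) :=
    { toFun := fun v => ∑ i, f v (d i) • d i + ∑ i, f v (b i) • b i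
      map_add' := fun u v => by
        simp only [hf.add_left, add_smul, Finset.sum_add_distrib]
        abel
      map_smul' := fun c v => by
        simp only [hf.smul_left, mul_smul, ← Finset.smul_sum, RingHom.id_apply, smul_add] }
  have eX : ∀ x ∈ X, L x = ∑ i, f x (d i) • d i := fun x hx' => by
    show (∑ i, f x (d i) • d i) + (∑ i, f x (b i) • b i) = _
    rw [Finset.sum_eq_zero (s := Finset.univ) (f := fun i => f x (b i) • b i) (fun i _ => by
      rw [P.singX x hx' _ (hbX i), zero_smul]), add_zero]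
  have eY : ∀ y ∈ Y, L y = ∑ i, f y (b i) • b i := fun y hy => by
    show (∑ i, f y (d i) • d i) + (∑ i, f y (b i) • b i) = _
    rw [Finset.sum_eq_zero (s := Finset.univ) (f := fun i => f y (d i) • d i) (fun i _ => by
      rw [P.singY y hy _ (hd i), zero_smul]), zero_add]
  have hmem1 : ∀ x ∈ X, L x ∈ Y := fun x hx' => by
    rw [eX x hx']
    exact Y.sum_mem fun i _ => Y.smul_mem _ (hd i)
  have hmem2 : ∀ y ∈ Y, L y ∈ X := fun y hy => by
    rw [eY y hy]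
    exact X.sum_mem fun i _ => X.smul_mem _ (hbX i)
  have hcross : ∀ x ∈ X, ∀ y ∈ Y, f (L x) (L y) = f x y := fun x hx' y hy => by
    rw [eY y hy, fsr]
    conv_rhs => rw [hx x hx', fsl]
    refine Finset.sum_congr rfl fun i _ => ?_
    rw [eX x hx', fsl, ← hf.herm, mul_comm]
    congr 1
    rw [Finset.sum_eq_single i]
    · rw [hf.herm (d i), hbd]
      simp
    · intro j _ hji
      rw [hf.herm (d j), hbd]
      simp [Ne.symm hji]
    · simp
  have hiso : ∀ u v, f (L u) (L v) = f u v := by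
    intro u v
    obtain ⟨u₁, hu₁, u₂, hu₂, rfl⟩ := P.split u
    obtain ⟨v₁, hv₁, v₂, hv₂, rfl⟩ := P.split v
    rw [map_add, map_add, hf.add_left, herm_add_right hf, herm_add_right hf, hf.add_left, herm_add_right hf,
      herm_add_right hf, P.singY _ (hmem1 u₁ hu₁) _ (hmem1 v₁ hv₁), P.singX _ (hmem2 u₂ hu₂) _ (hmem2 v₂ hv₂),
      hcross u₁ hu₁ v₂ hv₂, P.singX u₁ hu₁ v₁ hv₁, P.singY u₂ hu₂ v₂ hv₂, hf.herm (L u₂),
      hcross v₁ hv₁ u₂ hu₂, ← hf.herm]
  have hdet : (LinearMap.toMatrix' L).det ≠ 0 := by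
    intro h0
    obtain ⟨v, hv', hLv⟩ := Matrix.exists_mulVec_eq_zero_iff.2 h0
    obtain ⟨z, hz⟩ := (hf.nondegenerate v hv').2
    rw [LinearMap.toMatrix'_mulVec] at hLv
    exact hz (by rw [← hiso, hLv, herm_zero_left hf])
  obtain ⟨w, hw⟩ : ∃ w : GL ι F, ∀ v, (w : Matrix ι ι F) *ᵥ v = L v :=
    ⟨Matrix.GeneralLinearGroup.mkOfDetNeZero _ hdet, fun v => by
      show LinearMap.toMatrix' L *ᵥ v = _
      rw [LinearMap.toMatrix'_mulVec]⟩
  have hwi : w ∈ isoU f := mem_isoU.2 fun u v => by rw [hw, hw, hiso]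
  -- correct the determinant
  obtain ⟨ζ, hζ⟩ : ∃ ζ, ζ = (w : Matrix ι ι F).det := ⟨_, rfl⟩
  have hζn : ζ * σ ζ = 1 := hζ ▸ isoU_det_norm hf hwi
  obtain ⟨c, hc0, hc⟩ : ∃ c, c ≠ 0 ∧ ζ * σ c = c := by
    obtain ⟨θ, hθ⟩ := exists_not_fixed hf
    by_cases h1 : 1 + ζ = 0
    · refine ⟨θ + ζ * σ θ, fun h => hθ (by linear_combination (σ θ) * h1 - h), ?_⟩
      rw [map_add, map_mul, hf.involutive]
      linear_combination θ * hζn
    · refine ⟨1 + ζ, h1, ?_⟩
      rw [map_add, map_one]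
      linear_combination hζn
  have hσc : σ c ≠ 0 := by simpa using hc0
  obtain ⟨x, hx1, hx0⟩ := Submodule.exists_mem_ne_zero_of_ne_bot (p := X) (fun h => by
    have := P.dimX
    rw [h, finrank_bot] at this
    omega)
  obtain ⟨y₀, hy₀, hxy₀⟩ := pair_partner hf P hx1 hx0
  obtain ⟨y, hy, hxy⟩ : ∃ y ∈ Y, f x y = 1 := ⟨(σ (f x y₀))⁻¹ • y₀, Y.smul_mem _ hy₀, by
    rw [herm_smul_right hf, map_inv₀, hf.involutive, inv_mul_cancel₀ hxy₀]⟩
  have hyx : f y x = 1 := by rw [hf.herm, hxy, map_one]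
  have hxx : f x x = 0 := P.singX x hx1 x hx1
  have hyy : f y y = 0 := P.singY y hy y hy
  obtain ⟨p, hp⟩ : ∃ p, p = σ c / c - 1 := ⟨_, rfl⟩
  obtain ⟨A, hA⟩ : ∃ A : Matrix ι ι F,
      A = 1 + vecMulVec ((c⁻¹ - 1) • x) (hv hf y) + vecMulVec ((σ c - 1) • y) (hv hf x) := ⟨_, rfl⟩
  have hAdet : A.det = σ c / c := by
    rw [hA, det_one_add_two hf, dotProduct_smul, dotProduct_smul, dotProduct_smul, dotProduct_smul, hv_dot, hv_dot,
      hv_dot, hv_dot, hxy, hyx, hxx, hyy]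
    simp only [smul_eq_mul]
    field_simp
    ring
  have hAne : A.det ≠ 0 := by rw [hAdet]; exact div_ne_zero hσc hc0
  have happ : ∀ z, A *ᵥ z = z + (f z y * (c⁻¹ - 1)) • x + (f z x * (σ c - 1)) • y := fun z => by
    rw [hA, add_mulVec, add_mulVec, one_mulVec, vecMulVec_mulVec, vecMulVec_mulVec, op_smul_eq_smul,
      op_smul_eq_smul, hv_dot, hv_dot, smul_smul, smul_smul]
  obtain ⟨D, hDdef⟩ : ∃ D, D = Matrix.GeneralLinearGroup.mkOfDetNeZero A hAne := ⟨_, rfl⟩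
  have hD : (D : Matrix ι ι F) = A := by rw [hDdef]; rfl
  have hDi : D ∈ isoU f := mem_isoU.2 fun u v => by
    simp only [hD, happ, hf.add_left, herm_add_right hf, hf.smul_left, herm_smul_right hf, hxy, hyx, hxx, hyy,
      map_mul, map_sub, map_inv₀, map_one, hf.involutive, ← hf.herm]
    field_simp
    ring
  refine ⟨D * w, ⟨mul_mem hDi hwi, Units.ext ?_⟩, fun z hz => ?_, fun z hz => ?_⟩
  · show ((D * w : GL ι F) : Matrix ι ι F).det = 1
    rw [Units.val_mul, det_mul, hD, hAdet, ← hζ, div_mul_eq_mul_div, mul_comm, hc, div_self hc0]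
  · rw [gl_mul_mulVec, hw, hD, happ, P.singY _ (hmem1 z hz) y hy, zero_mul, zero_smul, add_zero]
    exact Y.add_mem (hmem1 z hz) (Y.smul_mem _ hy)
  · rw [gl_mul_mulVec, hw, hD, happ, P.singX _ (hmem2 z hz) x hx1, zero_mul, zero_smul, add_zero]
    exact X.add_mem (hmem2 z hz) (X.smul_mem _ hx1)

omit hM hXY in
/-- maximality of pair stabilisers, given the step without centres in either subspace -/
theorem pair_maximal_aux {H : Subgroup (GL ι F)}
    (hH : ∀ g, g ∈ H ↔ ((∀ x ∈ X, (g : Matrix ι ι F) *ᵥ x ∈ X) ∧ ∀ y ∈ Y, (g : Matrix ι ι F) *ᵥ y ∈ Y) ∨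
      ((∀ x ∈ X, (g : Matrix ι ι F) *ᵥ x ∈ Y) ∧ ∀ y ∈ Y, (g : Matrix ι ι F) *ᵥ y ∈ X)) 
    (step : ∀ M : Subgroup (GL ι F), M ≤ isoU f → H ⊓ (isoU f ⊓ specialLinear ι F) ≤ M →
      (∀ a ∈ X, ∀ b ∈ Y, f a b = 0 → ShearIn f M a b) → (∀ a ∈ Y, ∀ b ∈ X, f a b = 0 → ShearIn f M a b) →
      (∀ a ∈ X, a ≠ 0 → a ∉ centres hf M) → (∀ a ∈ Y, a ≠ 0 → a ∉ centres hf M) → ∀ g ∈ M,
      ((∀ x ∈ X, (g : Matrix ι ι F) *ᵥ x ∈ X) ∧ ∀ y ∈ Y, (g : Matrix ι ι F) *ᵥ y ∈ Y) ∨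
        ((∀ x ∈ X, (g : Matrix ι ι F) *ᵥ x ∈ Y) ∧ ∀ y ∈ Y, (g : Matrix ι ι F) *ᵥ y ∈ X)) :
    IsMaximalIn (isoU f ⊓ specialLinear ι F) (H ⊓ (isoU f ⊓ specialLinear ι F)) := by
  have hdim : Module.finrank F X + Module.finrank F Y = Fintype.card ι := by
    have := Submodule.finrank_sup_add_finrank_inf_eq X Y
    rw [P.sup, P.inf, finrank_top, finrank_bot, Module.finrank_fintype_fun_eq_card, add_zero] at this
    omega
  refine isMaximalIn_of_centres hf (by have := P.dimX; have := P.dimY; omega) (fun hle => ?_) fun M hHM hMG hMH => ?_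
  · obtain ⟨x, hx, hx0⟩ := Submodule.exists_mem_ne_zero_of_ne_bot (p := X) (fun h => by
      have := P.dimX
      rw [h, finrank_bot] at this
      omega)
    have hxx := P.singX x hx x hx
    obtain ⟨y, hy, hxy⟩ := pair_partner hf P hx hx0
    obtain ⟨δ, hδ, hδσ⟩ := exists_trace_zero hf
    have h0 := utv_orth hf hxx δ
    rcases (hH _).1 (hle ⟨mem_isoU.2 (utv_isometry hf x hxx hδσ h0), tv_mem_SL _ _ h0⟩) with ⟨-, h⟩ | ⟨h, -⟩
    · have h1 := Y.sub_mem (h y hy) hy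
      rw [tv_mulVec, add_sub_cancel_left, smul_dotProduct, hv_dot, smul_eq_mul,
        Y.smul_mem_iff (mul_ne_zero hδ fun h => hxy (herm_swap_zero hf h))] at h1
      exact hx0 (P.eq_zero hx h1)
    · have h1 := h x hx
      rw [tv_mulVec, smul_dotProduct, hv_dot, hxx, smul_zero, zero_smul, add_zero] at h1
      exact hx0 (P.eq_zero hx h1)
  have hM : M ≤ isoU f := fun g hg => (hMG hg).1
  have hXY : ∀ a ∈ X, ∀ b ∈ Y, f a b = 0 → ShearIn f M a b := by
    intro a ha b hb hab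
    obtain ⟨g, hg, hgf⟩ := exists_shear hf (P.singX a ha a ha) (P.singY b hb b hb) hab
    refine ⟨g, hHM ⟨(hH g).2 (Or.inl ⟨fun x hx => ?_, fun y hy => ?_⟩), hg⟩, hgf⟩
    · rw [hgf, P.singX x hx a ha, zero_smul, sub_zero]
      exact X.add_mem hx (X.smul_mem _ ha)
    · rw [hgf, P.singY y hy b hb, zero_smul, add_zero]
      exact Y.sub_mem hy (Y.smul_mem _ hb)
  have hYX : ∀ a ∈ Y, ∀ b ∈ X, f a b = 0 → ShearIn f M a b := fun a ha b hb hab => by
    obtain ⟨g, hg, hgf⟩ := hXY b hb (-a) (Y.neg_mem ha) (by rw [herm_neg_right hf, herm_swap_zero hf hab, neg_zero])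
    refine ⟨g, hg, fun z => ?_⟩
    rw [hgf, herm_neg_right hf]
    module
  obtain ⟨w, hw, hwX, hwY⟩ := exists_pair_swap hf P
  have hwM : w ∈ M := hHM ⟨(hH w).2 (Or.inr ⟨hwX, hwY⟩), hw⟩
  -- one centre in `X`
  obtain ⟨a, ha, ha0, hac⟩ : ∃ a ∈ X, a ≠ 0 ∧ a ∈ centres hf M := by
    by_contra hcon
    push Not at hcon
    have hconY : ∀ a ∈ Y, a ≠ 0 → a ∉ centres hf M := fun a ha ha0 hc =>
      hcon _ (hwY a ha) (fun h => ha0 (gl_mulVec_eq_zero.1 h)) (centres_conj hf hM hwM hc)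
    obtain ⟨g, hg, hgH⟩ := SetLike.not_le_iff_exists.1 hMH
    exact hgH ((hH g).2 (step M hM hHM hXY hYX hcon hconY g hg))
  have hX : ∀ x ∈ X, x ∈ centres hf M := fun x hx => pair_transitive hf P hM hXY ha hx ha0 hac
  have hY : ∀ y ∈ Y, y ∈ centres hf M := fun y hy => by
    have h1 := centres_conj hf hM (M.inv_mem hwM) (hX _ (hwY y hy))
    rwa [gl_inv_mulVec] at h1
  intro u huu
  obtain ⟨x, hx, y, hy, rfl⟩ := P.split u
  rcases eq_or_ne y 0 with rfl | hy0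
  · rw [add_zero]
    exact hX x hx
  by_cases hxy : f x y = 0
  · obtain ⟨x₀, hx₀, hyx₀⟩ := pair_partner hf P.symm hy hy0
    obtain ⟨δ, hδ, hδσ⟩ := exists_trace_zero hf
    obtain ⟨x₁, hx₁, hyx₁⟩ : ∃ x₁ ∈ X, f y x₁ = δ := ⟨σ (δ / f y x₀) • x₀, X.smul_mem _ hx₀, by
      rw [herm_smul_right hf, hf.involutive, div_mul_cancel₀ _ hyx₀]⟩
    have h1 := centres_line hf hM (hY y hy) (hX x₁ hx₁) (by rw [hyx₁]; exact hδ) (r := 1) (by
      rw [herm_line hf, P.singY y hy y hy, P.singX x₁ hx₁ x₁ hx₁, hf.herm x₁ y, hyx₁, map_one, hδσ]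
      ring)
    have hne : f (y + (1 : F) • x₁) (x - x₁) ≠ 0 := by
      rw [one_smul, hf.add_left, P.singX x₁ hx₁ _ (X.sub_mem hx hx₁), add_zero, herm_sub_right hf,
        herm_swap_zero hf hxy, zero_sub, hyx₁]
      exact neg_ne_zero.2 hδ
    have h3 := centres_line hf hM h1 (hX (x - x₁) (X.sub_mem hx hx₁)) hne (r := 1) (by
      rwa [one_smul, one_smul, show y + x₁ + (x - x₁) = x + y by abel])
    rwa [one_smul, one_smul, show y + x₁ + (x - x₁) = x + y by abel] at h3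
  · have h1 := centres_line hf hM (hX x hx) (hY y hy) hxy (r := 1) (by rwa [one_smul])
    rwa [one_smul] at h1

omit hM hXY in
/-- stabilisers of pairs of complementary totally singular subspaces are maximal -/
theorem pair_maximal (hX3 : 3 ≤ Module.finrank F X) (hY3 : 3 ≤ Module.finrank F Y) {H : Subgroup (GL ι F)}
    (hH : ∀ g, g ∈ H ↔ ((∀ x ∈ X, (g : Matrix ι ι F) *ᵥ x ∈ X) ∧ ∀ y ∈ Y, (g : Matrix ι ι F) *ᵥ y ∈ Y) ∨
      ((∀ x ∈ X, (g : Matrix ι ι F) *ᵥ x ∈ Y) ∧ ∀ y ∈ Y, (g : Matrix ι ι F) *ᵥ y ∈ X)) :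
    IsMaximalIn (isoU f ⊓ specialLinear ι F) (H ⊓ (isoU f ⊓ specialLinear ι F)) := by
  have hdim : Module.finrank F X + Module.finrank F Y = Fintype.card ι := by
    have := Submodule.finrank_sup_add_finrank_inf_eq X Y
    rw [P.sup, P.inf, finrank_top, finrank_bot, Module.finrank_fintype_fun_eq_card, add_zero] at this
    omega
  refine pair_maximal_aux hf P hH fun M hM _ hXY hYX hcon hconY => ?_
  have hkH : ∀ g ∈ M, ∀ x ∈ X, ∀ y ∈ Y, f x y = 0 →
      ((g : Matrix ι ι F) *ᵥ x ∈ X ∨ (g : Matrix ι ι F) *ᵥ y ∈ X) ∧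
      ((g : Matrix ι ι F) *ᵥ x ∈ Y ∨ (g : Matrix ι ι F) *ᵥ y ∈ Y) := by
    intro g hg x hx y hy hxy
    obtain ⟨u, hu⟩ : ∃ u, u = (g : Matrix ι ι F) *ᵥ x := ⟨_, rfl⟩
    obtain ⟨v, hv'⟩ : ∃ v, v = (g : Matrix ι ι F) *ᵥ y := ⟨_, rfl⟩
    rw [← hu, ← hv']
    have hk : ∀ t : F, ShearIn f M (t • u) v := fun t => by
      have h1 := (hXY (t • x) (X.smul_mem t hx) y hy (by rw [hf.smul_left, hxy, mul_zero])).conj hf hM hg
      rwa [mulVec_smul, ← hu, ← hv'] at h1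
    obtain ⟨A, hA⟩ : ∃ A, A = X ⊓ perpOf hf u ⊓ perpOf hf v := ⟨_, rfl⟩
    obtain ⟨B, hB⟩ : ∃ B, B = Y ⊓ perpOf hf u ⊓ perpOf hf v := ⟨_, rfl⟩
    have hfix : ∀ (t : F) (k : GL ι F), IsShear f (t • u) v k → ∀ z, f z u = 0 → f z v = 0 →
        (k : Matrix ι ι F) *ᵥ z = z := fun t k hk z h1 h3 => by
      rw [hk, herm_smul_right hf, h1, h3, mul_zero, zero_smul, zero_smul, add_zero, sub_zero]
    have hsideY : 2 ≤ Module.finrank F A → u ∈ Y ∨ v ∈ Y := fun hA2 => shear_stab_pair hf P.symm fun t z hz => by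
      obtain ⟨k, hkM, hk'⟩ := hk t
      rw [← hk' z]
      have h1 := finrank_inf_perp hf A z
      obtain ⟨a, ha, ha0⟩ := Submodule.exists_mem_ne_zero_of_ne_bot (p := A ⊓ perpOf hf z)
        (fun h => by rw [h, finrank_bot] at h1; omega)
      have haA := ha.1
      rw [hA] at haA
      exact pair_side_one hf P hM hXY hkM haA.1.1 ha0 (hfix t k hk' a haA.1.2 haA.2) hcon z hz ha.2
    have hsideX : 2 ≤ Module.finrank F B → u ∈ X ∨ v ∈ X := fun hB2 => shear_stab_pair hf P fun t z hz => by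
      obtain ⟨k, hkM, hk'⟩ := hk t
      rw [← hk' z]
      have h1 := finrank_inf_perp hf B z
      obtain ⟨a, ha, ha0⟩ := Submodule.exists_mem_ne_zero_of_ne_bot (p := B ⊓ perpOf hf z)
        (fun h => by rw [h, finrank_bot] at h1; omega)
      have haB := ha.1
      rw [hB] at haB
      exact pair_side_one hf P.symm hM hYX hkM haB.1.1 ha0 (hfix t k hk' a haB.1.2 haB.2) hconY z hz ha.2
    have hdX := hX3
    have hdY := hY3
    have honeB : (∃ w, ∀ z ∈ Y, f z w = 0 → z ∈ B) → 2 ≤ Module.finrank F B := fun ⟨w, hw⟩ => by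
      have h1 := Submodule.finrank_mono (show Y ⊓ perpOf hf w ≤ B from fun z hz => hw z hz.1 hz.2)
      have h3 := finrank_inf_perp hf Y w
      omega
    have honeA : (∃ w, ∀ z ∈ X, f z w = 0 → z ∈ A) → 2 ≤ Module.finrank F A := fun ⟨w, hw⟩ => by
      have h1 := Submodule.finrank_mono (show X ⊓ perpOf hf w ≤ A from fun z hz => hw z hz.1 hz.2)
      have h3 := finrank_inf_perp hf X w
      omega
    by_cases hA2 : 2 ≤ Module.finrank F A
    · refine ⟨hsideX (honeB ?_), hsideY hA2⟩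
      rcases hsideY hA2 with h | h
      · exact ⟨v, fun z hz hzv => hB ▸ ⟨⟨hz, P.singY z hz u h⟩, hzv⟩⟩
      · exact ⟨u, fun z hz hzu => hB ▸ ⟨⟨hz, hzu⟩, P.singY z hz v h⟩⟩
    by_cases hB2 : 2 ≤ Module.finrank F B
    · refine ⟨hsideX hB2, hsideY (honeA ?_)⟩
      rcases hsideX hB2 with h | h
      · exact ⟨v, fun z hz hzv => hA ▸ ⟨⟨hz, P.singX z hz u h⟩, hzv⟩⟩
      · exact ⟨u, fun z hz hzu => hA ▸ ⟨⟨hz, hzu⟩, P.singX z hz v h⟩⟩
    exfalso
    obtain ⟨u₁, hu₁, u₂, hu₂, hu12⟩ := P.split u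
    obtain ⟨v₁, hv₁, v₂, hv₂, hv12⟩ := P.split v
    have hYu : ∀ z ∈ Y, f z u = f z u₁ := fun z hz => by
      rw [hu12, herm_add_right hf, P.singY z hz u₂ hu₂, add_zero]
    have hYv : ∀ z ∈ Y, f z v = f z v₁ := fun z hz => by
      rw [hv12, herm_add_right hf, P.singY z hz v₂ hv₂, add_zero]
    have hu10 : u₁ ≠ 0 := fun h0 => hB2 (honeB ⟨v, fun z hz hzv => hB ▸ ⟨⟨hz, by
      show f z u = 0
      rw [hYu z hz, h0, herm_zero_right hf]⟩, hzv⟩⟩)
    have hind : v₁ ∉ Submodule.span F ({u₁} : Set (ι → F)) := fun hm => by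
      obtain ⟨r, hr⟩ := Submodule.mem_span_singleton.1 hm
      refine hB2 (honeB ⟨u, fun z hz hzu => hB ▸ ⟨⟨hz, hzu⟩, ?_⟩⟩)
      show f z v = 0
      rw [hYv z hz, ← hr, herm_smul_right hf, ← hYu z hz, hzu, mul_zero]
    have hA1 := finrank_inf_perp hf X u
    have hA3 := finrank_inf_perp hf (X ⊓ perpOf hf u) v
    obtain ⟨a, haA, ha0⟩ := Submodule.exists_mem_ne_zero_of_ne_bot (p := A)
      (fun h => by rw [← hA, h, finrank_bot] at hA3; omega)
    rw [hA] at haA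
    obtain ⟨k, hkM, hk'⟩ := hk 1
    refine hB2 (honeB ⟨a, fun z hz hza => ?_⟩)
    have h1 := pair_side_one hf P hM hXY hkM haA.1.1 ha0 (hfix 1 k hk' a haA.1.2 haA.2) hcon z hz
      (herm_swap_zero hf hza)
    rw [hk', one_smul, hYu z hz, hYv z hz, hu12, hv12] at h1
    have h2 : f z v₁ • u₁ - f z u₁ • v₁ = 0 := by
      refine P.eq_zero (X.sub_mem (X.smul_mem _ hu₁) (X.smul_mem _ hv₁)) ?_
      have h3 := Y.add_mem (Y.sub_mem h1 hz) (Y.sub_mem (Y.smul_mem (f z u₁) hv₂) (Y.smul_mem (f z v₁) hu₂))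
      convert h3 using 1
      module
    have h3 : f z u₁ = 0 := by
      by_contra h3
      exact hind (Submodule.mem_span_singleton.2 ⟨f z v₁ / f z u₁, by
        rw [div_eq_inv_mul, mul_smul, sub_eq_zero.1 h2, smul_smul, inv_mul_cancel₀ h3, one_smul]⟩)
    rw [h3, zero_smul, sub_zero, smul_eq_zero] at h2
    exact hB ▸ ⟨⟨hz, (hYu z hz).trans h3⟩, (hYv z hz).trans (h2.resolve_right hu10)⟩
  intro g hg
  have hpair : ∀ x ∈ X, ∀ y ∈ Y, x ≠ 0 → y ≠ 0 → f x y = 0 →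
      ((g : Matrix ι ι F) *ᵥ x ∈ X ∨ (g : Matrix ι ι F) *ᵥ x ∈ Y) ∧
        ((g : Matrix ι ι F) *ᵥ y ∈ X ∨ (g : Matrix ι ι F) *ᵥ y ∈ Y) := by
    intro x hx y hy hx0 hy0 hxy
    have hgx0 : (g : Matrix ι ι F) *ᵥ x ≠ 0 := fun h => hx0 (gl_mulVec_eq_zero.1 h)
    have hgy0 : (g : Matrix ι ι F) *ᵥ y ≠ 0 := fun h => hy0 (gl_mulVec_eq_zero.1 h)
    obtain ⟨hall₁, hall₂⟩ := hkH g hg x hx y hy hxy
    rcases hall₁ with h | h <;> rcases hall₂ with h' | h'
    · exact absurd (P.eq_zero h h') hgx0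
    · exact ⟨Or.inl h, Or.inr h'⟩
    · exact ⟨Or.inr h', Or.inl h⟩
    · exact absurd (P.eq_zero h h') hgy0
  have hunion : ∀ S : Submodule F (ι → F), (∀ s ∈ S, (g : Matrix ι ι F) *ᵥ s ∈ X ∨ (g : Matrix ι ι F) *ᵥ s ∈ Y) →
      (∀ s ∈ S, (g : Matrix ι ι F) *ᵥ s ∈ X) ∨ ∀ s ∈ S, (g : Matrix ι ι F) *ᵥ s ∈ Y := by
    intro S hS
    by_contra hn
    push Not at hn
    obtain ⟨⟨s₁, hs₁, h₁⟩, s₂, hs₂, h₂⟩ := hn
    have h₁' := (hS s₁ hs₁).resolve_left h₁
    have h₂' := (hS s₂ hs₂).resolve_right h₂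
    rcases hS _ (S.add_mem hs₁ hs₂) with h | h <;> rw [mulVec_add] at h
    · exact h₁ ((X.add_mem_iff_left h₂').1 h)
    · exact h₂ ((Y.add_mem_iff_right h₁').1 h)
  have hXu := hunion X fun x hx => by
    rcases eq_or_ne x 0 with rfl | hx0
    · exact Or.inl (by rw [mulVec_zero]; exact X.zero_mem)
    obtain ⟨y, hy, hy0, hxy⟩ := pair_orth hf P x
    exact (hpair x hx y hy hx0 hy0 hxy).1
  have hYu := hunion Y fun y hy => by
    rcases eq_or_ne y 0 with rfl | hy0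
    · exact Or.inl (by rw [mulVec_zero]; exact X.zero_mem)
    obtain ⟨x, hx, hx0, hyx⟩ := pair_orth hf P.symm y
    exact (hpair x hx y hy hx0 hy0 (herm_swap_zero hf hyx)).2
  have hbad : ∀ S : Submodule F (ι → F), (∀ x ∈ X, (g : Matrix ι ι F) *ᵥ x ∈ S) →
      (∀ y ∈ Y, (g : Matrix ι ι F) *ᵥ y ∈ S) → S = ⊤ := fun S h1 h3 => eq_top_iff.2 fun v _ => by
    rw [← gl_mulVec_inv g v]
    obtain ⟨x, hx, y, hy, hxy⟩ := P.split (((g⁻¹ : GL ι F) : Matrix ι ι F) *ᵥ v)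
    rw [hxy, mulVec_add]
    exact S.add_mem (h1 x hx) (h3 y hy)
  rcases hXu with h1 | h1 <;> rcases hYu with h3 | h3
  · have h4 := hbad X h1 h3
    have := P.dimY
    rw [h4, finrank_top, Module.finrank_fintype_fun_eq_card] at hdim
    omega
  · exact Or.inl ⟨h1, h3⟩
  · exact Or.inr ⟨h1, h3⟩
  · have h4 := hbad Y h1 h3
    have := P.dimX
    rw [h4, finrank_top, Module.finrank_fintype_fun_eq_card] at hdim
    omega

end CfsgLib.Perm.Trans.Unit
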