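import Cfsg.Agent.Lib.Perm.Trans.UnitSubfOrth

/-!
# Orthogonal subfield subgroups are maximal in special unitary groups

An overgroup without unitary transvections moves some rational singular line to a rational line, and then all of the
rational space.
-/

set_option autoImplicit false
set_option linter.all false

namespace CfsgLib.Perm.Trans.Unit.ORat

open scoped Matrix
open Matrix Cfsg.Geo CfsgLib.Perm.Asch CfsgLib.Perm.Trans
open CfsgLib.Perm.Trans.Subf (em_add em_neg em_sub em_smul em_zero em_injective em_ne_zero)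

variable {ι : Type} [Fintype ι] [DecidableEq ι] {F : Type*} [Field F] [Fintype F]
variable {σ : F ≃+* F} {f : (ι → F) → (ι → F) → F} {F₀ : Subfield F} {P : GL ι F} {θ : F}

local notation "em'" => CfsgLib.Perm.Trans.Subf.em

variable (D : OD σ f F₀ P θ) {M : Subgroup (GL ι F)}
variable (hM : M ≤ isoU f) (hHM : subfieldSubgroup F₀ P ⊓ (isoU f ⊓ specialLinear ι F) ≤ M)
variable (hno : ∀ v ∈ centres D.form M, v = 0)
include D

theorem parts_smul (c : F) (b : ι → F₀) :
    rp D (c • em' F₀ P b) = (⟨(c + σ c) / 2, re_mem D c⟩ : F₀) • b ∧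
      ip D (c • em' F₀ P b) = (⟨(c - σ c) / (2 * θ), im_mem D c⟩ : F₀) • b :=
  parts_unique D (by
    rw [em_smul, em_smul, smul_smul, ← add_smul]
    congr 1
    exact split_eq D c)

include hM hHM hno

/-- around a rational line mapped to a rational line the map is rational -/
theorem case_line {g : GL ι F} (hg : g ∈ M) {u w : ι → F₀} {k : F} (hu0 : u ≠ 0) (hu : rb D u u = 0)
    (hgu : (g : Matrix ι ι F) *ᵥ em' F₀ P u = k • em' F₀ P w) {a : ι → F₀} (ha : rb D u a = 0) :
    ip D (σ k • ((g : Matrix ι ι F) *ᵥ em' F₀ P a)) = 0 := by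
  have hs := rb_symmetric D
  have hgu0 : (g : Matrix ι ι F) *ᵥ em' F₀ P u ≠ 0 := fun h => em_ne_zero F₀ P hu0 (gl_mulVec_eq_zero.1 h)
  have hk0 : k ≠ 0 := fun h => hgu0 (by rw [hgu, h, zero_smul])
  have hw0 : w ≠ 0 := fun h => hgu0 (by rw [hgu, h, em_zero, smul_zero])
  have hA := HM.conj D hM (HM.rat D hHM hu ha) hg
  rw [hgu] at hA
  have hA' := HM.of_smul D hk0 hA
  have hww : rb D w w = 0 := (rb_isotropic D w).1 hA'.1
  obtain ⟨X, hX⟩ : ∃ X, X = σ k • ((g : Matrix ι ι F) *ᵥ em' F₀ P a) := ⟨_, rfl⟩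
  rw [← hX] at hA' ⊢
  obtain ⟨c, hc⟩ : ∃ c : F₀, c • w = ip D X := by
    refine Submodule.mem_span_singleton.1 ?_
    by_contra hn
    obtain ⟨b, hb1, hb2⟩ := Orth.exists_pairing hs hn
    have hwb : rb D w b = 0 := hb2 w (Submodule.mem_span_singleton_self w)
    refine hw0 (em_injective F₀ P ((hno _ (centre_of_pair D hA' (HM.rat D hHM hww hwb) fun hmem => ?_)).trans
      (em_zero F₀ P).symm))
    rw [decomp D X, D.form.add_left, D.form.smul_left, ← rb_coe D, ← rb_coe D, hb1] at hmem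
    push_cast at hmem
    have h1 := (D.fix _).1 hmem
    rw [map_add, map_mul, map_one, sfix D, D.bar] at h1
    exact mul_ne_zero D.two D.ne_zero (by linear_combination -h1)
  rw [← hc]
  rcases eq_or_ne c 0 with hc0 | hc0
  · rw [hc0, zero_smul]
  exfalso
  -- a Heisenberg element differing from a rational one by a transvection
  refine em_ne_zero F₀ P hw0 (hno _ ⟨hA'.1, fun e he => ?_⟩)
  have hww' := hA'.1
  obtain ⟨A, hAdef⟩ : ∃ A, A = rp D X := ⟨_, rfl⟩
  have hXd : X = em' F₀ P A + (θ * (c : F)) • em' F₀ P w := by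
    rw [hAdef, mul_smul, ← em_smul, hc]; exact decomp D X
  have hwA' : f (em' F₀ P w) (em' F₀ P A) = 0 := by
    have h := hA'.2.1
    rwa [hXd, herm_add_right D.form, herm_smul_right D.form, hww', mul_zero, add_zero] at h
  have hwA : rb D w A = 0 := Subtype.ext hwA'
  have hAw' := herm_swap_zero D.form hwA'
  have hl : e / (2 * θ * c) ∈ F₀ := (D.fix _).2 (by
    rw [map_div₀, he, map_mul, map_mul, map_ofNat, D.bar, sfix D, mul_neg, neg_mul, neg_div_neg_eq])
  obtain ⟨g₁, hg₁, h₁⟩ := hA'.2.2 ⟨_, hl⟩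
  obtain ⟨g₂, hg₂, h₂⟩ := (HM.rat D hHM hww hwA).2.2 ⟨_, hl⟩
  refine ⟨utv_orth D.form hww' e, ?_⟩
  have heq : tv (em' F₀ P w) (e • hv D.form (em' F₀ P w)) (utv_orth D.form hww' e) = g₁ * g₂⁻¹ := by
    rw [eq_mul_inv_iff_mul_eq]
    refine gl_ext_vec fun x => ?_
    simp only [gl_mul_mulVec, tv_mulVec, smul_dotProduct, hv_dot, smul_eq_mul, h₁ _, h₂ _, hXd]
    simp only [D.form.add_left, herm_add_right D.form, herm_sub_left D.form, D.form.smul_left,
      herm_smul_right D.form, hww', hwA', hAw', map_mul, map_div₀, map_ofNat, he, D.bar, sfix D]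
    have := D.two
    have := D.ne_zero
    have hc' : (c : F) ≠ 0 := fun h => hc0 (Subtype.ext h)
    match_scalars <;> field_simp <;> ring
  rw [heq]
  exact M.mul_mem hg₁ (M.inv_mem hg₂)

/-- the determinant condition -/
theorem parts_det {g : GL ι F} (hg : g ∈ M) {u a v1 v2 a1 a2 : ι → F₀} (hu0 : u ≠ 0) (hu : rb D u u = 0)
    (ha : rb D u a = 0) (hgu : (g : Matrix ι ι F) *ᵥ em' F₀ P u = em' F₀ P v1 + θ • em' F₀ P v2)
    (hga : (g : Matrix ι ι F) *ᵥ em' F₀ P a = em' F₀ P a1 + θ • em' F₀ P a2) {w : ι → F₀}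
    (hw1 : rb D w v1 = 0) (hw2 : rb D w v2 = 0) (hww : rb D w w = 0) {b : ι → F₀}
    (hb1 : rb D b v1 = 0) (hb2 : rb D b v2 = 0) (hwb : rb D w b = 0) :
    rb D a1 w * rb D a2 b = rb D a1 b * rb D a2 w := by
  have hs := rb_symmetric D
  obtain ⟨h, hh, hhH⟩ := (HM.rat D hHM hww hwb).2.2 1
  rw [OneMemClass.coe_one, one_smul] at hhH
  have hA := HM.conj D hM (HM.rat D hHM hu ha) hg
  rw [hgu, hga] at hA
  have hA' := HM.conj D hM hA hh
  have hUW : f (em' F₀ P v1 + θ • em' F₀ P v2) (em' F₀ P w) = 0 := by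
    rw [D.form.add_left, D.form.smul_left, ← rb_coe D, ← rb_coe D, hs.symm v1, hs.symm v2, hw1, hw2]
    push_cast
    ring
  have hUB : f (em' F₀ P v1 + θ • em' F₀ P v2) (em' F₀ P b) = 0 := by
    rw [D.form.add_left, D.form.smul_left, ← rb_coe D, ← rb_coe D, hs.symm v1, hs.symm v2, hb1, hb2]
    push_cast
    ring
  rw [hhH (em' F₀ P v1 + θ • em' F₀ P v2), hUW, hUB, mul_zero, zero_smul, zero_smul, sub_zero, sub_zero,
    add_zero] at hA'
  have hU0 : em' F₀ P v1 + θ • em' F₀ P v2 ≠ 0 := fun h => em_ne_zero F₀ P hu0 (gl_mulVec_eq_zero.1 (hgu.trans h))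
  by_contra hne
  refine hU0 (hno _ (centre_of_pair D hA hA' fun hmem => hne ?_))
  obtain ⟨A, hAdef⟩ : ∃ A, A = em' F₀ P a1 + θ • em' F₀ P a2 := ⟨_, rfl⟩
  have eW : f A (em' F₀ P w) = (rb D a1 w : F₀) + θ * (rb D a2 w : F₀) := by
    rw [hAdef, D.form.add_left, D.form.smul_left, ← rb_coe D, ← rb_coe D]
  have eB : f A (em' F₀ P b) = (rb D a1 b : F₀) + θ * (rb D a2 b : F₀) := by
    rw [hAdef, D.form.add_left, D.form.smul_left, ← rb_coe D, ← rb_coe D]
  have h1 := (D.fix _).1 hmem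
  rw [← hAdef, hhH A] at h1
  simp only [herm_add_right D.form, herm_sub_right D.form, herm_smul_right D.form, eW, eB, ← rb_coe D, map_add,
    map_sub, map_mul, map_div₀, map_ofNat, map_neg, D.bar, sfix D, D.form.involutive] at h1
  rw [← D.form.herm] at h1
  refine Subtype.ext ?_
  push_cast
  refine sub_eq_zero.1 ((mul_eq_zero.1 (?_ : (2 * (2 * θ)) *
    ((rb D a1 w : F) * (rb D a2 b : F₀) - (rb D a1 b : F₀) * (rb D a2 w : F₀)) = 0)).resolve_left
    (mul_ne_zero D.two (mul_ne_zero D.two D.ne_zero)))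
  first | linear_combination h1 | linear_combination -h1

omit hM hHM hno in
/-- an alternating product killed by all singular vectors in a nondegenerate space vanishes -/
theorem det_zero_of_nondeg {R : Submodule F₀ (ι → F₀)} (hR : ∀ z ∈ R, (∀ y ∈ R, rb D z y = 0) → z = 0)
    (hdim : 3 ≤ Module.finrank F₀ R) {a1 a2 : ι → F₀}
    (hdet : ∀ w ∈ R, rb D w w = 0 → ∀ b ∈ R, rb D w b = 0 → rb D a1 w * rb D a2 b = rb D a1 b * rb D a2 w) :
    ∀ z ∈ R, ∀ b ∈ R, rb D a1 z * rb D a2 b = rb D a1 b * rb D a2 z := by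
  haveI : Fintype F₀ := Fintype.ofFinite _
  have hs := rb_symmetric D
  have h2 := two' D
  obtain ⟨Ω, hΩ⟩ : ∃ Ω : (ι → F₀) → (ι → F₀) → F₀, ∀ z b, Ω z b = rb D a1 z * rb D a2 b - rb D a1 b * rb D a2 z :=
    ⟨_, fun z b => rfl⟩
  have hanti : ∀ z b, Ω b z = -Ω z b := fun z b => by rw [hΩ, hΩ]; ring
  have hadd : ∀ x y b, Ω (x + y) b = Ω x b + Ω y b := fun x y b => by
    rw [hΩ, hΩ, hΩ, hs.bilinear.add_right, hs.bilinear.add_right]; ring
  have hsmul : ∀ (c : F₀) x b, Ω (c • x) b = c * Ω x b := fun c x b => by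
    rw [hΩ, hΩ, hs.bilinear.smul_right, hs.bilinear.smul_right]; ring
  -- singular vectors act by scalars
  have hscal : ∀ w ∈ R, rb D w w = 0 → ∀ y ∈ R, ∀ b ∈ R, rb D w y * Ω w b = rb D w b * Ω w y := by
    intro w hw hww y hy b hb
    have h := hdet w hw hww (rb D w y • b - rb D w b • y) (R.sub_mem (R.smul_mem _ hb) (R.smul_mem _ hy)) (by
      rw [Orth.sym_sub_right hs, hs.bilinear.smul_right, hs.bilinear.smul_right]; ring)
    rw [Orth.sym_sub_right hs, Orth.sym_sub_right hs, hs.bilinear.smul_right, hs.bilinear.smul_right,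
      hs.bilinear.smul_right, hs.bilinear.smul_right] at h
    rw [hΩ, hΩ]
    linear_combination h
  have hpair : ∀ w ∈ R, w ≠ 0 → rb D w w = 0 → ∃ w' ∈ R, rb D w' w' = 0 ∧ rb D w w' = 1 := by
    intro w hw hw0 hww
    obtain ⟨y, hy, hy0⟩ : ∃ y ∈ R, rb D w y ≠ 0 := by
      by_contra h
      push Not at h
      exact hw0 (hR w hw h)
    obtain ⟨y', hy'⟩ : ∃ y', y' = (rb D w y)⁻¹ • y := ⟨_, rfl⟩
    have hwy' : rb D w y' = 1 := by rw [hy', hs.bilinear.smul_right, inv_mul_cancel₀ hy0]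
    refine ⟨y' + (-(rb D y' y') / 2) • w, R.add_mem (hy' ▸ R.smul_mem _ hy) (R.smul_mem _ hw), ?_, ?_⟩
    · simp only [hs.bilinear.add_left, hs.bilinear.add_right, hs.bilinear.smul_left, hs.bilinear.smul_right,
        hs.symm y' w, hwy', hww, mul_zero, mul_one, add_zero]
      field_simp
      ring
    · rw [hs.bilinear.add_right, hs.bilinear.smul_right, hww, hwy', mul_zero, add_zero]
  have hkill : ∀ w ∈ R, rb D w w = 0 → ∀ b ∈ R, Ω w b = 0 := by
    intro w hw hww b hb
    rcases eq_or_ne w 0 with rfl | hw0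
    · rw [show (0 : ι → F₀) = (0 : F₀) • (0 : ι → F₀) from (zero_smul _ _).symm, hsmul, zero_mul]
    obtain ⟨w', hw', hw'w', hww'⟩ := hpair w hw hw0 hww
    obtain ⟨x, ⟨⟨hxR, hxw⟩, hxw'⟩, hxx⟩ : ∃ x ∈ R ⊓ LinearMap.ker (Orth.sfl hs w) ⊓ LinearMap.ker (Orth.sfl hs w'),
        rb D x x ≠ 0 := by
      by_contra hcon
      push Not at hcon
      obtain ⟨X, hX⟩ : ∃ X, X = R ⊓ LinearMap.ker (Orth.sfl hs w) ⊓ LinearMap.ker (Orth.sfl hs w') := ⟨_, rfl⟩
      rw [← hX] at hcon
      have h1 := Orth.finrank_le_inf_ker R (Orth.sfl hs w)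
      have h3 := Orth.finrank_le_inf_ker (R ⊓ LinearMap.ker (Orth.sfl hs w)) (Orth.sfl hs w')
      rw [← hX] at h3
      obtain ⟨x, hx, hx0⟩ := Submodule.exists_mem_ne_zero_of_ne_bot (p := X) (fun h => by
        rw [h, finrank_bot] at h3; omega)
      have hxX := hx
      rw [hX] at hxX
      refine hx0 (hR x hxX.1.1 fun z hz => ?_)
      have hxw : rb D x w = 0 := hxX.1.2
      have hxw' : rb D x w' = 0 := hxX.2
      obtain ⟨z', hz'⟩ : ∃ z', z' = z - rb D z w' • w - rb D z w • w' := ⟨_, rfl⟩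
      have hz'X : z' ∈ X := by
        rw [hX, hz']
        refine ⟨⟨R.sub_mem (R.sub_mem hz (R.smul_mem _ hw)) (R.smul_mem _ hw'), show rb D _ w = 0 from ?_⟩,
          show rb D _ w' = 0 from ?_⟩
        · rw [Orth.sym_sub_left hs, Orth.sym_sub_left hs, hs.bilinear.smul_left, hs.bilinear.smul_left, hww,
            hs.symm w' w, hww']
          ring
        · rw [Orth.sym_sub_left hs, Orth.sym_sub_left hs, hs.bilinear.smul_left, hs.bilinear.smul_left, hw'w', hww']
          ring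
      have e := hcon _ (X.add_mem hx hz'X)
      rw [hs.bilinear.add_left, hs.bilinear.add_right, hs.bilinear.add_right, hcon x hx, hcon z' hz'X,
        hs.symm z' x] at e
      have e' : rb D x z' = 0 :=
        (mul_eq_zero.1 (show (2 : F₀) * rb D x z' = 0 by linear_combination e)).resolve_left h2
      rw [hz', Orth.sym_sub_right hs, Orth.sym_sub_right hs, hs.bilinear.smul_right, hs.bilinear.smul_right, hxw,
        hxw', mul_zero, mul_zero, sub_zero, sub_zero] at e'
      exact e'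
    have hxw1 : rb D x w = 0 := hxw
    have hxw2 : rb D x w' = 0 := hxw'
    have hwx : rb D w x = 0 := (hs.symm _ _).trans hxw1
    have hw'x : rb D w' x = 0 := (hs.symm _ _).trans hxw2
    have hw'w : rb D w' w = 1 := (hs.symm _ _).trans hww'
    -- three singular vectors, no two orthogonal
    obtain ⟨t, ht⟩ : ∃ t, t = -(rb D x x) / 2 := ⟨_, rfl⟩
    have ht0 : t ≠ 0 := ht ▸ div_ne_zero (neg_ne_zero.2 hxx) h2
    obtain ⟨w'', hw''⟩ : ∃ w'', w'' = w + x + t • w' := ⟨_, rfl⟩
    have hw''R : w'' ∈ R := hw'' ▸ R.add_mem (R.add_mem hw hxR) (R.smul_mem _ hw')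
    have hw''s : rb D w'' w'' = 0 := by
      simp only [hw'', hs.bilinear.add_left, hs.bilinear.add_right, hs.bilinear.smul_left, hs.bilinear.smul_right,
        hww, hw'w', hww', hw'w, hwx, hw'x, hxw1, hxw2]
      rw [ht]
      field_simp
      ring
    have e1 : rb D w w'' = t := by
      simp only [hw'', hs.bilinear.add_right, hs.bilinear.smul_right, hww, hwx, hww']; ring
    have e2 : rb D w' w'' = 1 := by
      simp only [hw'', hs.bilinear.add_right, hs.bilinear.smul_right, hw'w', hw'x, hw'w]; ring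
    have k1 := hscal w hw hww w' hw' w'' hw''R
    have k2 := hscal w' hw' hw'w' w hw w'' hw''R
    have k3 := hscal w'' hw''R hw''s w hw w' hw'
    rw [hww', e1, one_mul] at k1
    rw [hw'w, e2, one_mul, one_mul, hanti w w'] at k2
    rw [hs.symm w'' w, hs.symm w'' w', e1, e2, one_mul, hanti w' w'', hanti w w'', k1, k2] at k3
    have h0 : Ω w w' = 0 :=
      (mul_eq_zero.1 (show (2 * t) * Ω w w' = 0 by linear_combination k3)).resolve_left (mul_ne_zero h2 ht0)
    have := hscal w hw hww w' hw' b hb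
    rwa [hww', h0, mul_zero, one_mul] at this
  obtain ⟨w, hw, hww, hw0⟩ := singular_avoid D R ⊥ (by rw [finrank_bot]; omega)
  have hw0' : w ≠ 0 := fun h => hw0 (h ▸ Submodule.zero_mem _)
  obtain ⟨w', hw', hw'w', hww'⟩ := hpair w hw hw0' hww
  intro z hz b hb
  refine sub_eq_zero.1 (hΩ z b ▸ ?_)
  obtain ⟨x, hx⟩ : ∃ x, x = z - rb D z w' • w - rb D z w • w' := ⟨_, rfl⟩
  have hxR : x ∈ R := hx ▸ R.sub_mem (R.sub_mem hz (R.smul_mem _ hw)) (R.smul_mem _ hw')
  have hw'w : rb D w' w = 1 := (hs.symm _ _).trans hww'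
  have hxw : rb D x w = 0 := by
    rw [hx, Orth.sym_sub_left hs, Orth.sym_sub_left hs, hs.bilinear.smul_left, hs.bilinear.smul_left, hww, hw'w]
    ring
  have hxw' : rb D x w' = 0 := by
    rw [hx, Orth.sym_sub_left hs, Orth.sym_sub_left hs, hs.bilinear.smul_left, hs.bilinear.smul_left, hw'w', hww']
    ring
  have hsing : rb D (w + x + (-(rb D x x) / 2) • w') (w + x + (-(rb D x x) / 2) • w') = 0 := by
    simp only [hs.bilinear.add_left, hs.bilinear.add_right, hs.bilinear.smul_left, hs.bilinear.smul_right,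
      hww, hw'w', hww', hw'w, hxw, hxw', hs.symm w x, hs.symm w' x]
    field_simp
    ring
  have k := hkill _ (R.add_mem (R.add_mem hw hxR) (R.smul_mem _ hw')) hsing b hb
  rw [hadd, hadd, hsmul, hkill w hw hww b hb, hkill w' hw' hw'w' b hb, mul_zero, zero_add, add_zero] at k
  rw [show z = rb D z w' • w + rb D z w • w' + x by rw [hx]; abel, hadd, hadd, hsmul, hsmul, hkill w hw hww b hb,
    hkill w' hw' hw'w' b hb, k, mul_zero, mul_zero, add_zero, add_zero]

/-- the parts of two images are dependent modulo the plane of the centre -/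
theorem parts_dependent (h6 : 6 ≤ Fintype.card ι) {g : GL ι F} (hg : g ∈ M) {u a v1 v2 a1 a2 : ι → F₀} (hu0 : u ≠ 0) (hu : rb D u u = 0)
    (ha : rb D u a = 0) (hgu : (g : Matrix ι ι F) *ᵥ em' F₀ P u = em' F₀ P v1 + θ • em' F₀ P v2)
    (hind : ∀ c d : F₀, c • v1 + d • v2 = 0 → c = 0 ∧ d = 0)
    (hga : (g : Matrix ι ι F) *ᵥ em' F₀ P a = em' F₀ P a1 + θ • em' F₀ P a2) :
    ∃ x y : F₀, ¬(x = 0 ∧ y = 0) ∧ x • a1 + y • a2 ∈ Submodule.span F₀ ({v1, v2} : Set (ι → F₀)) := by
  haveI : Fintype F₀ := Fintype.ofFinite _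
  have hs := rb_symmetric D
  have h2 := two' D
  obtain ⟨R, hR⟩ : ∃ R : Submodule F₀ (ι → F₀),
      R = LinearMap.ker (Orth.sfl hs v1) ⊓ LinearMap.ker (Orth.sfl hs v2) := ⟨_, rfl⟩
  have hmemR : ∀ {z}, z ∈ R ↔ rb D z v1 = 0 ∧ rb D z v2 = 0 := fun {z} => by rw [hR]; exact Iff.rfl
  have hperp : ∀ {z}, (∀ y ∈ R, rb D z y = 0) → z ∈ Submodule.span F₀ ({v1, v2} : Set (ι → F₀)) := fun {z} h => by
    by_contra hn
    obtain ⟨p, hp1, hp2⟩ := Orth.exists_pairing hs hn
    rw [h p (hmemR.2 ⟨by rw [hs.symm]; exact hp2 v1 (Submodule.subset_span (by simp)),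
      by rw [hs.symm]; exact hp2 v2 (Submodule.subset_span (by simp))⟩)] at hp1
    exact zero_ne_one hp1
  obtain ⟨δ, hδ⟩ : ∃ δ : F₀, (δ : F) = θ * θ :=
    ⟨⟨θ * θ, (D.fix _).2 (by rw [map_mul, D.bar, neg_mul_neg])⟩, rfl⟩
  have hvv : rb D v1 v1 = δ * rb D v2 v2 := by
    have h : f ((g : Matrix ι ι F) *ᵥ em' F₀ P u) ((g : Matrix ι ι F) *ᵥ em' F₀ P u) = 0 := by
      rw [mem_isoU.1 (hM hg), ← rb_coe D, hu]; rfl
    rw [hgu, f_mixed D, hs.symm v2 v1] at h
    refine Subtype.ext ?_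
    push_cast
    rw [hδ]
    linear_combination h
  obtain ⟨x, y, hxy, hxyR⟩ : ∃ x y : F₀, ¬(x = 0 ∧ y = 0) ∧ ∀ z ∈ R, x * rb D a1 z + y * rb D a2 z = 0 := by
    by_cases hSd : rb D v2 v2 = 0 ∧ rb D v1 v2 = 0
    · -- the plane of the centre is singular
      have h11 : rb D v1 v1 = 0 := by rw [hvv, hSd.1, mul_zero]
      have det : ∀ {a a1 a2 : ι → F₀}, rb D u a = 0 →
          (g : Matrix ι ι F) *ᵥ em' F₀ P a = em' F₀ P a1 + θ • em' F₀ P a2 →
          ∀ z ∈ R, rb D a1 v1 * rb D a2 z = rb D a1 z * rb D a2 v1 := fun h h' z hz =>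
        parts_det D hM hHM hno hg hu0 hu h hgu h' h11 hSd.2 h11 (hmemR.1 hz).1 (hmemR.1 hz).2
          ((hs.symm _ _).trans (hmemR.1 hz).1)
      obtain ⟨a', b1, b2, ha', hga', hb⟩ : ∃ a' b1 b2, rb D u a' = 0 ∧
          (g : Matrix ι ι F) *ᵥ em' F₀ P a' = em' F₀ P b1 + θ • em' F₀ P b2 ∧
          ¬(rb D b1 v1 = 0 ∧ rb D b2 v1 = 0) := by
        by_contra hcon
        push Not at hcon
        obtain ⟨X, hX⟩ : ∃ X, X = ((g⁻¹ : GL ι F) : Matrix ι ι F) *ᵥ em' F₀ P v1 := ⟨_, rfl⟩
        have key : ∀ a, rb D u a = 0 → rb D a (rp D X) = 0 ∧ rb D a (ip D X) = 0 := by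
          intro a ha
          obtain ⟨e1, e2⟩ := hcon a _ _ ha (decomp D _)
          have h : f (em' F₀ P a) X = 0 := by
            rw [← mem_isoU.1 (hM hg), hX, gl_mulVec_inv, decomp D ((g : Matrix ι ι F) *ᵥ em' F₀ P a),
              D.form.add_left, D.form.smul_left, ← rb_coe D, ← rb_coe D, e1, e2]
            push_cast
            ring
          rw [decomp D X, herm_add_right D.form, herm_smul_right D.form, D.bar, ← rb_coe D, ← rb_coe D] at h
          obtain ⟨f1, f2⟩ := coe_split_unique D (x := rb D a (rp D X)) (y := -rb D a (ip D X)) (x' := 0) (y' := 0)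
            (by push_cast; linear_combination h)
          exact ⟨f1, neg_eq_zero.1 f2⟩
        have hspan : ∀ p, (∀ a, rb D u a = 0 → rb D a p = 0) → ∃ s : F₀, s • u = p := fun p hp => by
          refine Submodule.mem_span_singleton.1 ?_
          by_contra hn
          obtain ⟨b, hb1, hb2⟩ := Orth.exists_pairing hs hn
          rw [hs.symm, hp b (hb2 u (Submodule.mem_span_singleton_self u))] at hb1
          exact zero_ne_one hb1
        obtain ⟨c1, hc1⟩ := hspan _ fun a ha => (key a ha).1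
        obtain ⟨c2, hc2⟩ := hspan _ fun a ha => (key a ha).2
        have hv : em' F₀ P v1 = em' F₀ P (c1 • v1 + (δ * c2) • v2) + θ • em' F₀ P (c2 • v1 + c1 • v2) := by
          conv_lhs => rw [← gl_mulVec_inv g (em' F₀ P v1), ← hX, decomp D X, ← hc1, ← hc2, em_smul, em_smul,
            mulVec_add, mulVec_smul, mulVec_smul, mulVec_smul, hgu]
          simp only [em_add, em_smul]
          push_cast
          rw [hδ]
          module
        obtain ⟨e1, e2⟩ := parts_unique D hv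
        rw [(rat_parts D v1).2] at e2
        rw [(rat_parts D v1).1] at e1
        obtain ⟨hc2', hc1'⟩ := hind c2 c1 e2.symm
        rw [hc1', hc2', zero_smul, mul_zero, zero_smul, add_zero] at e1
        exact one_ne_zero (hind 1 0 (by rw [e1, smul_zero, zero_smul, add_zero])).1
      by_cases h0 : rb D a1 v1 = 0 ∧ rb D a2 v1 = 0
      · refine ⟨rb D b2 v1, -rb D b1 v1, fun h => hb ⟨neg_eq_zero.1 h.2, h.1⟩, fun z hz => ?_⟩
        have e1 := det ha' hga' z hz
        have e2 := det (a := a + a') (a1 := a1 + b1) (a2 := a2 + b2)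
          (by rw [hs.bilinear.add_right, ha, ha', add_zero])
          (by rw [em_add, mulVec_add, hga, hga', em_add, em_add]; module) z hz
        rw [hs.bilinear.add_left, hs.bilinear.add_left, hs.bilinear.add_left, hs.bilinear.add_left, h0.1, h0.2,
          zero_add, zero_add] at e2
        linear_combination e1 - e2
      · refine ⟨rb D a2 v1, -rb D a1 v1, fun h => h0 ⟨neg_eq_zero.1 h.2, h.1⟩, fun z hz => ?_⟩
        linear_combination -(det ha hga z hz)
    · -- the plane of the centre is non-degenerate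
      have hnd : ∀ z ∈ R, (∀ y ∈ R, rb D z y = 0) → z = 0 := by
        intro z hz hzR
        obtain ⟨c, d, hcd⟩ := Submodule.mem_span_pair.1 (hperp hzR)
        obtain ⟨e1, e2⟩ := hmemR.1 hz
        rw [← hcd, hs.bilinear.add_left, hs.bilinear.smul_left, hs.bilinear.smul_left] at e1 e2
        rw [hs.symm v2 v1, hvv] at e1
        have hdet : δ * rb D v2 v2 * rb D v2 v2 - rb D v1 v2 * rb D v1 v2 ≠ 0 := by
          intro h0
          have h0' : ((rb D v1 v2 : F₀) : F) * (rb D v1 v2 : F₀) = θ * θ * ((rb D v2 v2 : F₀) * (rb D v2 v2 : F₀)) := by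
            have h := congrArg Subtype.val h0
            push_cast at h
            rw [hδ] at h
            linear_combination -h
          rcases eq_or_ne (rb D v2 v2) 0 with hb | hb
          · refine hSd ⟨hb, Subtype.ext ?_⟩
            rw [hb] at h0'
            push_cast at h0' ⊢
            exact mul_self_eq_zero.1 (by linear_combination h0')
          · have hb' : ((rb D v2 v2 : F₀) : F) ≠ 0 := fun h => hb (Subtype.ext h)
            obtain ⟨t, ht⟩ : ∃ t : F₀, (t : F) = (rb D v1 v2 : F₀) / (rb D v2 v2 : F₀) :=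
              ⟨rb D v1 v2 / rb D v2 v2, by push_cast; rfl⟩
            have h1 : ((t : F) - θ) * ((t : F) + θ) = 0 := by
              rw [ht]
              field_simp
              linear_combination h0'
            have hmem : θ ∈ F₀ := (mul_eq_zero.1 h1).elim (fun h => sub_eq_zero.1 h ▸ t.2)
              (fun h => eq_neg_of_add_eq_zero_right h ▸ F₀.neg_mem t.2)
            have h3 := (D.fix _).1 hmem
            rw [D.bar] at h3
            exact mul_ne_zero D.two D.ne_zero (by linear_combination -h3)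
        rw [← hcd, (mul_eq_zero.1 (?_ : (δ * rb D v2 v2 * rb D v2 v2 - rb D v1 v2 * rb D v1 v2) * c = 0)).resolve_left
          hdet, (mul_eq_zero.1 (?_ : (δ * rb D v2 v2 * rb D v2 v2 - rb D v1 v2 * rb D v1 v2) * d = 0)).resolve_left
          hdet, zero_smul, zero_smul, add_zero]
        · linear_combination δ * rb D v2 v2 * e2 - rb D v1 v2 * e1
        · linear_combination rb D v2 v2 * e1 - rb D v1 v2 * e2
      have hb1 := Orth.finrank_le_inf_ker (⊤ : Submodule F₀ (ι → F₀)) (Orth.sfl hs v1)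
      rw [finrank_top, Module.finrank_fintype_fun_eq_card, top_inf_eq] at hb1
      have hb2 := Orth.finrank_le_inf_ker (LinearMap.ker (Orth.sfl hs v1)) (Orth.sfl hs v2)
      rw [← hR] at hb2
      have hall := det_zero_of_nondeg D hnd (by omega) (a1 := a1) (a2 := a2) fun w hw hww b hb hwb =>
        parts_det D hM hHM hno hg hu0 hu ha hgu hga (hmemR.1 hw).1 (hmemR.1 hw).2 hww (hmemR.1 hb).1 (hmemR.1 hb).2
          hwb
      by_cases hz : ∀ z ∈ R, rb D a1 z = 0
      · exact ⟨1, 0, fun h => one_ne_zero h.1, fun z hz' => by rw [hz z hz', mul_zero, zero_mul, add_zero]⟩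
      push Not at hz
      obtain ⟨z₀, hz₀, hz₀'⟩ := hz
      refine ⟨rb D a2 z₀, -rb D a1 z₀, fun h => hz₀' (neg_eq_zero.1 h.2), fun z hz => ?_⟩
      linear_combination -(hall z₀ hz₀ z hz)
  refine ⟨x, y, hxy, hperp fun z hz => ?_⟩
  rw [hs.bilinear.add_left, hs.bilinear.smul_left, hs.bilinear.smul_left, hxyR z hz]

omit hM hHM hno in
/-- rational independent vectors stay independent -/
theorem em_indep {g : GL ι F} {n : ℕ} {b : Fin n → ι → F₀} (hb : LinearIndependent F₀ b) :
    LinearIndependent F fun i => (g : Matrix ι ι F) *ᵥ em' F₀ P (b i) := by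
  rw [Fintype.linearIndependent_iff]
  intro c hc
  have h1 : (g : Matrix ι ι F) *ᵥ (∑ i, c i • em' F₀ P (b i)) = 0 := by
    rw [mulVec_sum]
    simpa [mulVec_smul] using hc
  rw [gl_mulVec_eq_zero] at h1
  have h2 := congrArg (rp D) h1
  have h3 := congrArg (ip D) h1
  simp only [map_sum, map_zero, (parts_smul D _ _).1] at h2
  simp only [map_sum, map_zero, (parts_smul D _ _).2] at h3
  have e2 := Fintype.linearIndependent_iff.1 hb _ h2
  have e3 := Fintype.linearIndependent_iff.1 hb _ h3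
  intro i
  have r2 := congrArg Subtype.val (e2 i)
  have r3 := congrArg Subtype.val (e3 i)
  rw [split_eq D (c i)]
  simp only at r2 r3
  rw [r2, r3]
  simp

/-- some rational singular line goes to a rational line -/
theorem exists_line (h6 : 6 ≤ Fintype.card ι) {g : GL ι F} (hg : g ∈ M) :
    ∃ (u w : ι → F₀) (k : F), u ≠ 0 ∧ rb D u u = 0 ∧ (g : Matrix ι ι F) *ᵥ em' F₀ P u = k • em' F₀ P w := by
  classical
  haveI : Fintype F₀ := Fintype.ofFinite _
  have hs := rb_symmetric D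
  by_contra hcon
  push Not at hcon
  obtain ⟨u, -, hu, hu0⟩ := singular_avoid D ⊤ ⊥ (by
    rw [finrank_bot, finrank_top, Module.finrank_fintype_fun_eq_card]; omega)
  have hu0' : u ≠ 0 := fun h => hu0 (h ▸ Submodule.zero_mem _)
  obtain ⟨v1, hv1⟩ : ∃ v, v = rp D ((g : Matrix ι ι F) *ᵥ em' F₀ P u) := ⟨_, rfl⟩
  obtain ⟨v2, hv2⟩ : ∃ v, v = ip D ((g : Matrix ι ι F) *ᵥ em' F₀ P u) := ⟨_, rfl⟩
  have hgu : (g : Matrix ι ι F) *ᵥ em' F₀ P u = em' F₀ P v1 + θ • em' F₀ P v2 := by rw [hv1, hv2]; exact decomp D _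
  obtain ⟨S, hS⟩ : ∃ S, S = Submodule.span F₀ ({v1, v2} : Set (ι → F₀)) := ⟨_, rfl⟩
  let emL : (ι → F₀) →ₗ[F₀] (ι → F) :=
    { toFun := fun a => (g : Matrix ι ι F) *ᵥ em' F₀ P a
      map_add' := fun a b => by rw [em_add, mulVec_add]
      map_smul' := fun c a => by rw [em_smul, mulVec_smul]; rfl }
  obtain ⟨A1, hA1⟩ : ∃ A, A = (rp D).comp emL := ⟨_, rfl⟩
  obtain ⟨A2, hA2⟩ : ∃ A, A = (ip D).comp emL := ⟨_, rfl⟩
  have hga : ∀ a, (g : Matrix ι ι F) *ᵥ em' F₀ P a = em' F₀ P (A1 a) + θ • em' F₀ P (A2 a) := fun a => by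
    rw [hA1, hA2]; exact decomp D _
  obtain ⟨U, hU⟩ : ∃ U, U = LinearMap.ker (Orth.sfl hs u) := ⟨_, rfl⟩
  have hmemU : ∀ {a}, a ∈ U → rb D u a = 0 := fun {a} ha => by
    rw [hU] at ha; rw [hs.symm]; exact ha
  have hdimU := Orth.finrank_le_inf_ker (⊤ : Submodule F₀ (ι → F₀)) (Orth.sfl hs u)
  rw [finrank_top, Module.finrank_fintype_fun_eq_card, top_inf_eq, ← hU] at hdimU
  have hind : ∀ c d : F₀, c • v1 + d • v2 = 0 → c = 0 ∧ d = 0 := by
    intro c d h
    by_contra hne
    rcases eq_or_ne c 0 with hc | hc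
    · rw [hc, zero_smul, zero_add, smul_eq_zero] at h
      refine hcon u v1 1 hu0' hu ?_
      rw [hgu, h.resolve_left (fun hd => hne ⟨hc, hd⟩), em_zero, smul_zero, add_zero, one_smul]
    · have h1 : v1 = (-(d / c)) • v2 := by
        rw [eq_neg_of_add_eq_zero_left (?_ : v1 + (d / c) • v2 = 0), neg_smul]
        rw [← inv_smul_smul₀ hc v1, div_eq_inv_mul, mul_smul, ← smul_add, h, smul_zero]
      refine hcon u v2 (θ + ((-(d / c) : F₀) : F)) hu0' hu ?_
      rw [hgu, h1, em_smul, add_smul, add_comm]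
  have hdep : ∀ a ∈ U, ∃ x y : F₀, ¬(x = 0 ∧ y = 0) ∧ x • A1 a + y • A2 a ∈ S := fun a ha =>
    hS ▸ parts_dependent D hM hHM hno h6 hg hu0' hu (hmemU ha) hgu hind (hga a)
  -- the images do not lie in a small space
  have big : ∀ r : ι → F₀, ¬(∀ a ∈ U, A1 a ∈ S ⊔ Submodule.span F₀ {r} ∧ A2 a ∈ S ⊔ Submodule.span F₀ {r}) := by
    intro r h
    obtain ⟨T, hT⟩ : ∃ T, T = Submodule.span F ({em' F₀ P v1, em' F₀ P v2, em' F₀ P r} : Set (ι → F)) := ⟨_, rfl⟩
    have hmem : ∀ y ∈ S ⊔ Submodule.span F₀ {r}, em' F₀ P y ∈ T := by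
      intro y hy
      obtain ⟨s, hs', t, ht, rfl⟩ := Submodule.mem_sup.1 hy
      rw [hS] at hs'
      obtain ⟨p, q, rfl⟩ := Submodule.mem_span_pair.1 hs'
      obtain ⟨c, rfl⟩ := Submodule.mem_span_singleton.1 ht
      rw [em_add, em_add, em_smul, em_smul, em_smul, hT]
      exact Submodule.add_mem _ (Submodule.add_mem _ (Submodule.smul_mem _ _ (Submodule.subset_span (by simp)))
        (Submodule.smul_mem _ _ (Submodule.subset_span (by simp)))) (Submodule.smul_mem _ _ (Submodule.subset_span (by simp)))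
    let b := Module.finBasis F₀ U
    have hli : LinearIndependent F₀ fun i => (b i : ι → F₀) :=
      b.linearIndependent.map' U.subtype U.ker_subtype
    have hliF := em_indep D (g := g) hli
    have hsub : Submodule.span F (Set.range fun i => (g : Matrix ι ι F) *ᵥ em' F₀ P (b i : ι → F₀)) ≤ T := by
      rw [Submodule.span_le]
      rintro _ ⟨i, rfl⟩
      simp only [SetLike.mem_coe, hga]
      exact T.add_mem (hmem _ (h _ (b i).2).1) (T.smul_mem θ (hmem _ (h _ (b i).2).2))
    have h1 := finrank_span_eq_card hliF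
    rw [Fintype.card_fin] at h1
    have h3 := Submodule.finrank_mono hsub
    have h4 : Module.finrank F T ≤ 3 := by
      rw [hT]
      refine (finrank_span_le_card _).trans ?_
      rw [Set.toFinset_insert, Set.toFinset_insert, Set.toFinset_singleton]
      exact Finset.card_le_three
    omega
  obtain ⟨a0, ha0, ha0'⟩ : ∃ a ∈ U, ¬(A1 a ∈ S ∧ A2 a ∈ S) := by
    by_contra h
    push Not at h
    exact big 0 fun a ha => ⟨Submodule.mem_sup_left (h a ha).1, Submodule.mem_sup_left (h a ha).2⟩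
  obtain ⟨r0, al, be, hr0, e1, e2⟩ : ∃ (r : ι → F₀) (al be : F₀), r ∉ S ∧ A1 a0 - al • r ∈ S ∧ A2 a0 - be • r ∈ S := by
    obtain ⟨x, y, hxy, hmem⟩ := hdep a0 ha0
    by_cases hy : y = 0
    · have hx : x ≠ 0 := fun h => hxy ⟨h, hy⟩
      rw [hy, zero_smul, add_zero, Submodule.smul_mem_iff _ hx] at hmem
      exact ⟨A2 a0, 0, 1, fun h => ha0' ⟨hmem, h⟩, by rwa [zero_smul, sub_zero],
        by rw [one_smul, sub_self]; exact S.zero_mem⟩
    · refine ⟨A1 a0, 1, -(x / y), fun h => ha0' ⟨h, ?_⟩, by rw [one_smul, sub_self]; exact S.zero_mem, ?_⟩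
      · refine (Submodule.smul_mem_iff _ hy).1 ?_
        have := S.sub_mem hmem (S.smul_mem x h)
        simpa using this
      · refine (Submodule.smul_mem_iff _ hy).1 ?_
        rw [show y • (A2 a0 - -(x / y) • A1 a0) = x • A1 a0 + y • A2 a0 by
          rw [smul_sub, neg_smul, smul_neg, sub_neg_eq_add, smul_smul, mul_div_cancel₀ _ hy, add_comm]]
        exact hmem
  obtain ⟨x0, y0, hxy0, hrel⟩ : ∃ x y : F₀, ¬(x = 0 ∧ y = 0) ∧ x * al + y * be = 0 := by
    by_cases h : al = 0 ∧ be = 0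
    · exact ⟨1, 0, fun h' => one_ne_zero h'.1, by rw [h.1, h.2]; ring⟩
    · exact ⟨be, -al, fun h' => h ⟨neg_eq_zero.1 h'.2, h'.1⟩, by ring⟩
  have hal : ¬(al = 0 ∧ be = 0) := fun h => ha0' ⟨by simpa [h.1] using e1, by simpa [h.2] using e2⟩
  -- two classes covering everything
  have cover : ∀ a ∈ U, x0 • A1 a + y0 • A2 a ∈ S ∨
      (A1 a ∈ S ⊔ Submodule.span F₀ {r0} ∧ A2 a ∈ S ⊔ Submodule.span F₀ {r0}) := by
    intro a ha
    by_contra hn
    rw [not_or] at hn
    obtain ⟨x, y, hxy, hm⟩ := hdep a ha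
    obtain ⟨x', y', hxy', hm'⟩ := hdep (a + a0) (U.add_mem ha ha0)
    rw [map_add, map_add] at hm'
    have hm'' : x' • A1 a + y' • A2 a + (x' * al + y' * be) • r0 ∈ S := by
      have := S.sub_mem hm' (S.add_mem (S.smul_mem x' e1) (S.smul_mem y' e2))
      convert this using 1
      module
    rcases eq_or_ne (x * y' - y * x') 0 with hdd | hdd
    · obtain ⟨l, hl0, hlx, hly⟩ : ∃ l : F₀, l ≠ 0 ∧ x' = l * x ∧ y' = l * y := by
        rcases eq_or_ne x 0 with hx | hx
        · have hy : y ≠ 0 := fun h => hxy ⟨hx, h⟩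
          have hx' : x' = 0 := by
            rw [hx, zero_mul, zero_sub, neg_eq_zero] at hdd
            exact (mul_eq_zero.1 hdd).resolve_left hy
          exact ⟨y' / y, div_ne_zero (fun h => hxy' ⟨hx', h⟩) hy, by rw [hx', hx, mul_zero],
            (div_mul_cancel₀ _ hy).symm⟩
        · refine ⟨x' / x, div_ne_zero (fun h => hxy' ⟨h, ?_⟩) hx, (div_mul_cancel₀ _ hx).symm, ?_⟩
          · rw [h, mul_zero, sub_zero] at hdd
            exact (mul_eq_zero.1 hdd).resolve_left hx
          · field_simp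
            linear_combination hdd
      have hmr : (l * (x * al + y * be)) • r0 ∈ S := by
        have := S.sub_mem hm'' (S.smul_mem l hm)
        convert this using 1
        rw [hlx, hly]
        module
      have hz : x * al + y * be = 0 := by
        by_contra hz
        exact hr0 ((Submodule.smul_mem_iff _ (mul_ne_zero hl0 hz)).1 hmr)
      refine hn.1 ?_
      -- both pairs kill the same nonzero vector
      have hd0 : x * y0 - y * x0 = 0 := by
        rcases eq_or_ne al 0 with h | h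
        · have hb : be ≠ 0 := fun hb => hal ⟨h, hb⟩
          rw [h, mul_zero, zero_add] at hz hrel
          rw [(mul_eq_zero.1 hz).resolve_right hb, (mul_eq_zero.1 hrel).resolve_right hb]
          ring
        · refine (mul_eq_zero.1 (?_ : (x * y0 - y * x0) * al = 0)).resolve_right h
          linear_combination y0 * hz - y * hrel
      rcases eq_or_ne x 0 with hx | hx
      · have hy : y ≠ 0 := fun h => hxy ⟨hx, h⟩
        rw [hx, zero_mul, zero_sub, neg_eq_zero] at hd0
        rw [hx, zero_smul, zero_add, Submodule.smul_mem_iff _ hy] at hm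
        rw [(mul_eq_zero.1 hd0).resolve_left hy, zero_smul, zero_add]
        exact S.smul_mem _ hm
      · have := S.smul_mem (x0 / x) hm
        convert this using 1
        match_scalars <;> field_simp
        linear_combination hd0
    · have hr : (x' • A1 a + y' • A2 a) ∈ S ⊔ Submodule.span F₀ {r0} := by
        rw [show x' • A1 a + y' • A2 a =
          (x' • A1 a + y' • A2 a + (x' * al + y' * be) • r0) + (-(x' * al + y' * be)) • r0 by module]
        exact Submodule.add_mem_sup hm'' (Submodule.smul_mem _ _ (Submodule.mem_span_singleton_self r0))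
      have hm1 : x • A1 a + y • A2 a ∈ S ⊔ Submodule.span F₀ {r0} := Submodule.mem_sup_left hm
      refine hn.2 ⟨(Submodule.smul_mem_iff _ hdd).1 ?_, (Submodule.smul_mem_iff _ hdd).1 ?_⟩
      · rw [show (x * y' - y * x') • A1 a = y' • (x • A1 a + y • A2 a) - y • (x' • A1 a + y' • A2 a) by module]
        exact Submodule.sub_mem _ (Submodule.smul_mem _ _ hm1) (Submodule.smul_mem _ _ hr)
      · rw [show (x * y' - y * x') • A2 a = x • (x' • A1 a + y' • A2 a) - x' • (x • A1 a + y • A2 a) by module]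
        exact Submodule.sub_mem _ (Submodule.smul_mem _ _ hr) (Submodule.smul_mem _ _ hm1)
  have phase : ∀ a ∈ U, x0 • A1 a + y0 • A2 a ∈ S := by
    intro a ha
    by_contra hn
    obtain ⟨b, hb, hbn⟩ : ∃ b ∈ U, ¬(A1 b ∈ S ⊔ Submodule.span F₀ {r0} ∧ A2 b ∈ S ⊔ Submodule.span F₀ {r0}) := by
      by_contra h
      push Not at h
      exact big r0 fun a ha => h a ha
    have ha' := (cover a ha).resolve_left hn
    have hb' := (cover b hb).resolve_right hbn
    rcases cover (a + b) (U.add_mem ha hb) with h | h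
    · refine hn ?_
      have := S.sub_mem h hb'
      convert this using 1
      rw [map_add, map_add]
      module
    · refine hbn ⟨?_, ?_⟩
      · have := Submodule.sub_mem _ h.1 ha'.1
        rwa [map_add, add_sub_cancel_left] at this
      · have := Submodule.sub_mem _ h.2 ha'.2
        rwa [map_add, add_sub_cancel_left] at this
  obtain ⟨L, hL⟩ : ∃ L : (ι → F₀) →ₗ[F₀] (ι → F₀), L = x0 • A1 + y0 • A2 := ⟨_, rfl⟩
  have hr1 := LinearMap.finrank_range_add_finrank_ker (L.comp U.subtype)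
  have hr2 : Module.finrank F₀ (LinearMap.range (L.comp U.subtype)) ≤ 2 := by
    refine (Submodule.finrank_mono (t := S) ?_).trans ?_
    · rintro _ ⟨a, rfl⟩
      rw [hL]
      exact phase _ a.2
    · rw [hS]
      refine (finrank_span_le_card _).trans ?_
      rw [Set.toFinset_insert, Set.toFinset_singleton]
      exact Finset.card_le_two
  have hr3 : Module.finrank F₀ (LinearMap.ker (L.comp U.subtype)) = Module.finrank F₀ ↥(U ⊓ LinearMap.ker L) := by
    rw [LinearMap.ker_comp, ← Submodule.map_comap_subtype]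
    exact (Submodule.equivMapOfInjective _ U.injective_subtype _).finrank_eq
  obtain ⟨a, ⟨haU, haL⟩, haa, ha00⟩ := singular_avoid D (U ⊓ LinearMap.ker L) ⊥ (by rw [finrank_bot]; omega)
  have ha' : a ≠ 0 := fun h => ha00 (h ▸ Submodule.zero_mem _)
  have hLa : x0 • A1 a + y0 • A2 a = 0 := by
    have := LinearMap.mem_ker.1 haL
    rw [hL] at this
    simpa using this
  by_cases hy : y0 = 0
  · have hx : x0 ≠ 0 := fun h => hxy0 ⟨h, hy⟩
    rw [hy, zero_smul, add_zero] at hLa
    refine hcon a (A2 a) θ ha' haa ?_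
    rw [hga, (smul_eq_zero.1 hLa).resolve_left hx, em_zero, zero_add]
  · refine hcon a (A1 a) (1 + θ * (-(x0 / y0) : F₀)) ha' haa ?_
    have h2 : A2 a = (-(x0 / y0)) • A1 a := by
      have h3 := congrArg (fun v => y0⁻¹ • v) hLa
      simp only [smul_add, smul_smul, inv_mul_cancel₀ hy, one_smul, smul_zero] at h3
      rw [neg_smul, eq_neg_iff_add_eq_zero, add_comm, div_eq_inv_mul]
      exact h3
    rw [hga, h2, em_smul, smul_smul, add_smul, one_smul]

/-- without centres the overgroup is rational -/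
theorem rational_of (h6 : 6 ≤ Fintype.card ι) {g : GL ι F} (hg : g ∈ M) : g ∈ subfieldSubgroup F₀ P := by
  classical
  haveI : Fintype F₀ := Fintype.ofFinite _
  have hs := rb_symmetric D
  obtain ⟨u, w, k, hu0, hu, hgu⟩ := exists_line D hM hHM hno h6 hg
  have hk0 : k ≠ 0 := fun h => em_ne_zero F₀ P hu0 (gl_mulVec_eq_zero.1 (by rw [hgu, h, zero_smul]))
  have hσk : σ k ≠ 0 := by simpa using hk0
  let L : (ι → F₀) →ₗ[F₀] (ι → F₀) :=
    { toFun := fun a => ip D (σ k • ((g : Matrix ι ι F) *ᵥ em' F₀ P a))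
      map_add' := fun a b => by rw [em_add, mulVec_add, smul_add, map_add]
      map_smul' := fun c a => by
        rw [em_smul, mulVec_smul, smul_comm]
        exact (ip D).map_smul c _ }
  obtain ⟨U, hU⟩ : ∃ U, U = LinearMap.ker (Orth.sfl hs u) := ⟨_, rfl⟩
  have hdimU := Orth.finrank_le_inf_ker (⊤ : Submodule F₀ (ι → F₀)) (Orth.sfl hs u)
  rw [finrank_top, Module.finrank_fintype_fun_eq_card, top_inf_eq, ← hU] at hdimU
  have hLU : ∀ a ∈ U, L a = 0 := fun a ha => by
    rw [hU] at ha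
    exact case_line D hM hHM hno hg hu0 hu hgu (a := a) (by rw [hs.symm]; exact ha)
  have himage : ∀ a ∈ U, (g : Matrix ι ι F) *ᵥ em' F₀ P a =
      (σ k)⁻¹ • em' F₀ P (rp D (σ k • ((g : Matrix ι ι F) *ᵥ em' F₀ P a))) := by
    intro a ha
    have h := decomp D (σ k • ((g : Matrix ι ι F) *ᵥ em' F₀ P a))
    rw [show ip D (σ k • ((g : Matrix ι ι F) *ᵥ em' F₀ P a)) = 0 from hLU a ha, em_zero, smul_zero, add_zero] at h
    rw [← h, inv_smul_smul₀ hσk]
  have hN : k * σ k ∈ F₀ := (D.fix _).2 (by rw [map_mul, D.form.involutive, mul_comm])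
  have hzero : ∀ v, L v = 0 := by
    intro v
    have h4 := Orth.finrank_le_inf_ker U (Orth.sfl hs v)
    obtain ⟨a, ⟨haU, hav⟩, haa, ha0⟩ := singular_avoid D (U ⊓ LinearMap.ker (Orth.sfl hs v)) ⊥
      (by rw [finrank_bot]; omega)
    have ha0' : a ≠ 0 := fun h => ha0 (h ▸ Submodule.zero_mem _)
    have h := case_line D hM hHM hno hg ha0' haa (himage a haU) hav
    obtain ⟨N, hNdef⟩ : ∃ N : F₀, (N : F) = k * σ k := ⟨⟨_, hN⟩, rfl⟩
    have hN0 : N ≠ 0 := fun h0 => mul_ne_zero hk0 hσk (by rw [← hNdef, h0]; rfl)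
    have hsc : ∀ X : ι → F, k⁻¹ • X = N⁻¹ • (σ k • X) := fun X => by
      rw [Subfield.smul_def, smul_smul]
      push_cast
      rw [hNdef, _root_.mul_inv_rev, mul_assoc, mul_comm k⁻¹, inv_mul_cancel_left₀ hσk]
    rw [map_inv₀, D.form.involutive, hsc, (ip D).map_smul] at h
    exact (smul_eq_zero.1 h).resolve_left (inv_ne_zero hN0)
  refine Subf.mem_subfieldSubgroup_of_image F₀ P (inv_ne_zero hσk) fun i =>
    ⟨rp D (σ k • ((g : Matrix ι ι F) *ᵥ em' F₀ P (Pi.single i 1))), ?_⟩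
  have h := decomp D (σ k • ((g : Matrix ι ι F) *ᵥ em' F₀ P (Pi.single i 1)))
  rw [show ip D (σ k • ((g : Matrix ι ι F) *ᵥ em' F₀ P (Pi.single i 1))) = 0 from hzero _, em_zero, smul_zero,
    add_zero] at h
  rw [← h, inv_smul_smul₀ hσk]

omit hM hHM hno

/-- orthogonal subfield subgroups are proper -/
theorem not_le_subfield : ¬ isoU f ⊓ specialLinear ι F ≤ subfieldSubgroup F₀ P := by
  haveI : Fintype F₀ := Fintype.ofFinite _
  have hs := rb_symmetric D
  have := D.big
  intro hle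
  obtain ⟨p, -, hp, hp0⟩ := singular_avoid D ⊤ ⊥ (by
    rw [finrank_bot, finrank_top, Module.finrank_fintype_fun_eq_card]; omega)
  have hp0' : p ≠ 0 := fun h => hp0 (h ▸ Submodule.zero_mem _)
  obtain ⟨y, hy⟩ := (hs.nondegenerate p hp0').2
  obtain ⟨r, hrr, hpr⟩ : ∃ r, rb D r r = 0 ∧ rb D p r ≠ 0 := by
    refine ⟨y - (rb D y y / (2 * rb D p y)) • p, ?_, ?_⟩
    · rw [Orth.sym_sub_left hs, Orth.sym_sub_right hs, Orth.sym_sub_right hs, hs.bilinear.smul_left,
        hs.bilinear.smul_right, hs.bilinear.smul_left, hs.bilinear.smul_right, hp, hs.symm y p]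
      have := two' D
      field_simp
      ring
    · rw [Orth.sym_sub_right hs, hs.bilinear.smul_right, hp, mul_zero, sub_zero]
      exact hy
  obtain ⟨v, hvdef⟩ : ∃ v, v = em' F₀ P p + θ • em' F₀ P r := ⟨_, rfl⟩
  have hvv : f v v = 0 := by rw [hvdef, f_mixed D, hp, hrr, hs.symm r p]; push_cast; ring
  have h0 := utv_orth D.form hvv θ
  obtain ⟨c, hc⟩ := Subf.subfield_image F₀ P
    (hle ⟨mem_isoU.2 (utv_isometry D.form v hvv D.bar h0), tv_mem_SL _ _ _⟩)
  have hTx : ∀ a, (tv v (θ • hv D.form v) h0 : Matrix ι ι F) *ᵥ em' F₀ P a =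
      em' F₀ P a + (θ * (((rb D a p : F₀) : F) - θ * (rb D a r : F₀))) • v := fun a => by
    rw [tv_mulVec, smul_dotProduct, hv_dot, smul_eq_mul, hvdef, herm_add_right D.form, herm_smul_right D.form, D.bar,
      rb_coe, rb_coe]
    congr 2
    ring
  have hk1 := Orth.finrank_le_inf_ker (⊤ : Submodule F₀ (ι → F₀)) (Orth.sfl hs p)
  rw [finrank_top, Module.finrank_fintype_fun_eq_card, top_inf_eq] at hk1
  have hk2 := Orth.finrank_le_inf_ker (LinearMap.ker (Orth.sfl hs p)) (Orth.sfl hs r)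
  obtain ⟨a₀, ⟨ha0p, ha0r⟩, ha00⟩ := Submodule.exists_mem_ne_zero_of_ne_bot
    (p := LinearMap.ker (Orth.sfl hs p) ⊓ LinearMap.ker (Orth.sfl hs r)) (fun h => by
      rw [h, finrank_bot] at hk2; omega)
  obtain ⟨b, hb⟩ := hc a₀
  rw [hTx, show rb D a₀ p = 0 from ha0p, show rb D a₀ r = 0 from ha0r] at hb
  push_cast at hb
  rw [mul_zero, sub_zero, mul_zero, zero_smul, add_zero] at hb
  have hb0 : b ≠ 0 := fun h => by
    rw [h, em_zero, smul_zero] at hb
    exact ha00 (em_injective F₀ P (hb.trans (em_zero F₀ P).symm))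
  have hcim : (c - σ c) / (2 * θ) = 0 := by
    have h := congrArg (ip D) hb
    rw [(rat_parts D a₀).2, (parts_smul D c b).2] at h
    exact congrArg Subtype.val ((smul_eq_zero.1 h.symm).resolve_right hb0)
  obtain ⟨b', hb'⟩ := hc r
  have h1 : (tv v (θ • hv D.form v) h0 : Matrix ι ι F) *ᵥ em' F₀ P r =
      em' F₀ P (r + (⟨θ * θ, (D.fix _).2 (by rw [map_mul, D.bar, neg_mul_neg])⟩ * rb D r p : F₀) • r) +
        θ • em' F₀ P (rb D r p • p) := by
    rw [hTx, hrr, hvdef, em_add, em_smul, em_smul]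
    push_cast
    module
  have h := congrArg (ip D) hb'
  rw [(parts_unique D h1).2, (parts_smul D c b').2] at h
  simp only [hcim] at h
  have h' : rb D r p • p = 0 := h.trans (zero_smul F₀ b')
  exact hp0' ((smul_eq_zero.1 h').resolve_left (by rw [hs.symm]; exact hpr))

/-- orthogonal subfield subgroups are maximal -/
theorem orth_subfield_maximal (h6 : 6 ≤ Fintype.card ι) :
    IsMaximalIn (isoU f ⊓ specialLinear ι F) (subfieldSubgroup F₀ P ⊓ (isoU f ⊓ specialLinear ι F)) := by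
  classical
  refine isMaximalIn_of_centres D.form (by omega) (not_le_subfield D) fun M hHM hM hnot u hu => ?_
  obtain ⟨g, hg, hgn⟩ := SetLike.not_le_iff_exists.1 hnot
  have hMI : M ≤ isoU f := hM.trans inf_le_left
  obtain ⟨v₀, hv₀, hv₀0⟩ : ∃ v, v ∈ centres D.form M ∧ v ≠ 0 := by
    by_contra h
    push Not at h
    exact hgn (rational_of D hMI hHM h h6 hg)
  exact all_centres D h6 hMI hHM hv₀ hv₀0 hu

end CfsgLib.Perm.Trans.Unit.ORat
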