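import Cfsg.Agent.Lib.Perm.Trans.Subf
import Cfsg.Agent.Lib.Perm.Trans.SympMax

/-!
# Subfield subgroups of symplectic groups
-/

set_option autoImplicit false
set_option linter.all false

namespace CfsgLib.Perm.Trans.Symp

open scoped Matrix
open Matrix Cfsg.Geo CfsgLib.Perm.Asch CfsgLib.Perm.Trans
open CfsgLib.Perm.Trans.Subf (em lift em_add em_neg em_sub em_smul em_sum em_zero em_injective em_ne_zero exists_coords lift_em lift_mem ext_em)

variable {ι : Type} [Fintype ι] [DecidableEq ι] {F : Type*} [Field F] [Fintype F]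
variable {F₀ : Subfield F} {P : GL ι F}
variable {f : (ι → F) → (ι → F) → F} (hf : IsSymplecticForm f) (hrat : ∀ a b, f (em F₀ P a) (em F₀ P b) ∈ F₀)

/-- the form on the rational vectors -/
def f₀ (hrat : ∀ a b, f (em F₀ P a) (em F₀ P b) ∈ F₀) (a b : ι → F₀) : F₀ := ⟨f (em F₀ P a) (em F₀ P b), hrat a b⟩

theorem f₀_coe (a b : ι → F₀) : ((f₀ hrat a b : F₀) : F) = f (em F₀ P a) (em F₀ P b) := rfl

theorem f_one {a b : ι → F₀} (h : f₀ hrat a b = 1) : f (em F₀ P a) (em F₀ P b) = 1 := by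
  rw [← f₀_coe hrat, h]; push_cast; rfl

theorem f_zero {a b : ι → F₀} (h : f₀ hrat a b = 0) : f (em F₀ P a) (em F₀ P b) = 0 := by
  rw [← f₀_coe hrat, h]; push_cast; rfl

include hf

theorem f_sum_right (x : ι → F) {β : Type*} (s : Finset β) (a : β → F) (v : β → ι → F) :
    f x (∑ i ∈ s, a i • v i) = ∑ i ∈ s, a i * f x (v i) := by
  classical
  induction s using Finset.induction_on with
  | empty => simp [zero_right hf]
  | @insert i s hi ih =>
    rw [Finset.sum_insert hi, Finset.sum_insert hi, hf.bilinear.add_right, hf.bilinear.smul_right, ih]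

theorem f_sum_left (x : ι → F) {β : Type*} (s : Finset β) (a : β → F) (v : β → ι → F) :
    f (∑ i ∈ s, a i • v i) x = ∑ i ∈ s, a i * f (v i) x := by
  classical
  induction s using Finset.induction_on with
  | empty => simp [zero_left hf]
  | @insert i s hi ih =>
    rw [Finset.sum_insert hi, Finset.sum_insert hi, hf.bilinear.add_left, hf.bilinear.smul_left, ih]

include hrat

theorem f₀_symplectic : IsSymplecticForm (f₀ hrat) where
  bilinear :=
    ⟨fun x y v => Subtype.ext (by push_cast; rw [f₀_coe, f₀_coe, f₀_coe, em_add, hf.bilinear.add_left]),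
     fun c x v => Subtype.ext (by push_cast; rw [f₀_coe, f₀_coe, em_smul, hf.bilinear.smul_left]),
     fun v x y => Subtype.ext (by push_cast; rw [f₀_coe, f₀_coe, f₀_coe, em_add, hf.bilinear.add_right]),
     fun c v x => Subtype.ext (by push_cast; rw [f₀_coe, f₀_coe, em_smul, hf.bilinear.smul_right])⟩
  skew v w := Subtype.ext (by push_cast; rw [f₀_coe, f₀_coe, hf.skew])
  alternating v := Subtype.ext (by push_cast; rw [f₀_coe, hf.alternating])
  nondegenerate v hv := by
    obtain ⟨⟨x, hx⟩, ⟨y, hy⟩⟩ := hf.nondegenerate _ (em_ne_zero F₀ P hv)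
    constructor
    · by_contra hcon
      push Not at hcon
      obtain ⟨a, rfl⟩ := exists_coords F₀ P x
      rw [f_sum_left hf] at hx
      exact hx (Finset.sum_eq_zero fun i _ => by rw [f_zero hrat (hcon _), mul_zero])
    · by_contra hcon
      push Not at hcon
      obtain ⟨a, rfl⟩ := exists_coords F₀ P y
      rw [f_sum_right hf] at hy
      exact hy (Finset.sum_eq_zero fun i _ => by rw [f_zero hrat (hcon _), mul_zero])

theorem exists_val {S : Set (ι → F₀)} {x : ι → F₀} (hx : x ∉ Submodule.span F₀ S) :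
    ∃ w, f₀ hrat x w = 1 ∧ ∀ z ∈ S, f₀ hrat z w = 0 := by
  obtain ⟨φ, hφ, hφS⟩ := exists_dual _ hx
  obtain ⟨w, hw⟩ := exists_rep (f₀_symplectic hf hrat) φ
  exact ⟨w, by rw [hw, hφ], fun z hz => by rw [hw, hφS z (Submodule.subset_span hz)]⟩

theorem exists_orth {k : ℕ} (v : Fin k → ι → F₀) (hk : 2 * k < Fintype.card ι) :
    ∃ z, (∀ i, f₀ hrat (v i) z = 0) ∧ z ∉ Submodule.span F₀ (Set.range v) := by
  let L : (ι → F₀) →ₗ[F₀] (Fin k → F₀) :=
    { toFun := fun z i => f₀ hrat (v i) z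
      map_add' := fun a b => funext fun i => (f₀_symplectic hf hrat).bilinear.add_right _ a b
      map_smul' := fun c a => funext fun i => (f₀_symplectic hf hrat).bilinear.smul_right c _ a }
  have h1 := LinearMap.finrank_range_add_finrank_ker L
  have h2 : Module.finrank F₀ (LinearMap.range L) ≤ k := (Submodule.finrank_le _).trans (by simp)
  have h3 : Module.finrank F₀ (Submodule.span F₀ (Set.range v)) ≤ k := by
    simpa [Set.finrank] using finrank_range_le_card (R := F₀) v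
  rw [Module.finrank_fintype_fun_eq_card] at h1
  obtain ⟨z, hz, hzn⟩ := SetLike.not_le_iff_exists.1 (fun hle : LinearMap.ker L ≤ Submodule.span F₀ (Set.range v) => by
    have := Submodule.finrank_mono hle
    omega)
  exact ⟨z, fun i => congrFun (LinearMap.mem_ker.1 hz) i, hzn⟩

theorem rat_mem (a : ι → F₀) (c : F₀) :
    stv hf (em F₀ P a) (c : F) ∈ subfieldSubgroup F₀ P := by
  have h : stv hf (em F₀ P a) (c : F) = lift F₀ P (stv (f₀_symplectic hf hrat) a c) := ext_em F₀ P fun b => by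
    rw [lift_em, stv_mulVec, stv_mulVec, em_add, em_smul]
    push_cast
    rw [f₀_coe]
  rw [h]
  exact lift_mem F₀ P _

omit hrat

/-- the product of transvections `x ↦ x + s (f(x, u) v + f(x, v) u)` -/
def sh (u v : ι → F) (s : F) : GL ι F := stv hf (u + v) s * stv hf u (-s) * stv hf v (-s)

theorem sh_mulVec {u v : ι → F} (huv : f u v = 0) (s : F) (x : ι → F) :
    (sh hf u v s : Matrix ι ι F) *ᵥ x = x + (s * f x u) • v + (s * f x v) • u := by
  rw [sh, gl_mul_mulVec, gl_mul_mulVec, stv_mulVec hf v, stv_mulVec hf u, stv_mulVec hf (u + v)]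
  simp only [hf.bilinear.add_left, hf.bilinear.add_right, hf.bilinear.smul_left, hf.alternating, huv,
    swap_zero hf huv, neg_mul, mul_zero, add_zero, zero_add, neg_zero]
  module

theorem sh_conj {g : GL ι F} (hg : g ∈ isoSub f) (u v : ι → F) (s : F) :
    g * sh hf u v s * g⁻¹ = sh hf ((g : Matrix ι ι F) *ᵥ u) ((g : Matrix ι ι F) *ᵥ v) s := by
  rw [sh, sh, ← mulVec_add, ← stv_conj hf hg, ← stv_conj hf hg, ← stv_conj hf hg]
  group

variable {M : Subgroup (GL ι F)}

theorem sh_conj_mem (hM : M ≤ isoSub f) {g : GL ι F} (hg : g ∈ M) {u v : ι → F} {s : F} (h : sh hf u v s ∈ M) :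
    sh hf ((g : Matrix ι ι F) *ᵥ u) ((g : Matrix ι ι F) *ᵥ v) s ∈ M := by
  rw [← sh_conj hf (hM hg)]
  exact M.mul_mem (M.mul_mem hg h) (M.inv_mem hg)

section Over

include hrat

variable (hHM : subfieldSubgroup F₀ P ⊓ isoSub f ≤ M) (hM : M ≤ isoSub f)
include hHM

theorem rat_tv (a : ι → F₀) (c : F₀) : stv hf (em F₀ P a) (c : F) ∈ M :=
  hHM ⟨rat_mem hf hrat a c, stv_iso hf _ _⟩

theorem lift_tv (a : ι → F₀) (c : F₀) : lift F₀ P (stv (f₀_symplectic hf hrat) a c) ∈ M := by
  have h : lift F₀ P (stv (f₀_symplectic hf hrat) a c) = stv hf (em F₀ P a) (c : F) := ext_em F₀ P fun b => by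
    rw [lift_em, stv_mulVec, stv_mulVec, em_add, em_smul]
    push_cast
    rw [f₀_coe]
  rw [h]
  exact rat_tv hf hrat hHM a c

theorem rat_vec {v w : ι → F₀} (hv : v ≠ 0) (hw : w ≠ 0) :
    ∃ g ∈ M, (g : Matrix ι ι F) *ᵥ em F₀ P v = em F₀ P w := by
  obtain ⟨t, ⟨ht, -⟩, htv⟩ := move_vec (f₀_symplectic hf hrat) (M := M.comap (lift F₀ P))
    (W := ⊤) (fun u _ c => lift_tv hf hrat hHM u c) (isNondegenerateOn_top (f₀_symplectic hf hrat))
    (Submodule.mem_top : v ∈ ⊤) (Submodule.mem_top : w ∈ ⊤) hv hw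
  exact ⟨lift F₀ P t, ht, by rw [lift_em, htv]⟩

/-- the element `-1` on the plane of a hyperbolic pair -/
theorem rat_neg {e h : ι → F₀} (heh : f₀ hrat e h = 1) :
    ∃ g ∈ M, (g : Matrix ι ι F) *ᵥ em F₀ P e = -em F₀ P e ∧ (g : Matrix ι ι F) *ᵥ em F₀ P h = -em F₀ P h ∧
      ∀ z : ι → F₀, f₀ hrat z e = 0 → f₀ hrat z h = 0 → (g : Matrix ι ι F) *ᵥ em F₀ P z = em F₀ P z := by
  have hf' := f₀_symplectic hf hrat
  have he : e ∈ Submodule.span F₀ ({e, h} : Set (ι → F₀)) := Submodule.subset_span (by simp)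
  have hh : h ∈ Submodule.span F₀ ({e, h} : Set (ι → F₀)) := Submodule.subset_span (by simp)
  obtain ⟨t, ⟨ht, htW⟩, hte, hth⟩ := move_pair hf' (M := M.comap (lift F₀ P))
    (W := Submodule.span F₀ ({e, h} : Set (ι → F₀))) (fun u _ c => lift_tv hf hrat hHM u c)
    (isNondegenerateOn_pair₀ hf' heh) he hh (Submodule.neg_mem _ he) (Submodule.neg_mem _ hh) heh
    (by rw [neg_left hf', neg_right hf', heh, neg_neg])
  refine ⟨lift F₀ P t, ht, by rw [lift_em, hte, em_neg], by rw [lift_em, hth, em_neg], fun z hze hzh => ?_⟩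
  rw [lift_em, htW.2 z fun w hw => ?_]
  obtain ⟨a, b, rfl⟩ := Submodule.mem_span_pair.1 hw
  rw [hf'.bilinear.add_right, hf'.bilinear.smul_right, hf'.bilinear.smul_right, hze, hzh, mul_zero, mul_zero,
    add_zero]
where
  isNondegenerateOn_pair₀ {g : (ι → F₀) → (ι → F₀) → F₀} (hg : IsSymplecticForm g) {e h : ι → F₀}
      (heh : g e h = 1) : IsNondegenerateOn g (Submodule.span F₀ {e, h}) := by
    intro w hw hw0
    obtain ⟨a, b, rfl⟩ := Submodule.mem_span_pair.1 hw
    have he : e ∈ Submodule.span F₀ ({e, h} : Set (ι → F₀)) := Submodule.subset_span (by simp)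
    have hh : h ∈ Submodule.span F₀ ({e, h} : Set (ι → F₀)) := Submodule.subset_span (by simp)
    have h1 : g (a • e + b • h) e = -b := by
      rw [hg.bilinear.add_left, hg.bilinear.smul_left, hg.bilinear.smul_left, hg.alternating, hg.skew h e, heh]
      ring
    have h2 : g (a • e + b • h) h = a := by
      rw [hg.bilinear.add_left, hg.bilinear.smul_left, hg.bilinear.smul_left, hg.alternating, heh]
      ring
    by_cases hb : b = 0
    · have ha : a ≠ 0 := fun ha => hw0 (by rw [ha, hb, zero_smul, zero_smul, add_zero])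
      exact ⟨⟨h, hh, swap_ne hg (by rwa [h2])⟩, ⟨h, hh, by rwa [h2]⟩⟩
    · exact ⟨⟨e, he, swap_ne hg (by rw [h1]; exact neg_ne_zero.2 hb)⟩, ⟨e, he, by rw [h1]; exact neg_ne_zero.2 hb⟩⟩

theorem rat_sh {a b : ι → F₀} (hab : f₀ hrat a b = 0) (c : F₀) : sh hf (em F₀ P a) (em F₀ P b) (c : F) ∈ M := by
  rw [sh, ← em_add]
  have h := fun z => rat_tv hf hrat hHM z (-c)
  push_cast at h
  exact M.mul_mem (M.mul_mem (rat_tv hf hrat hHM _ c) (h a)) (h b)

/-- scalars of the short root subgroups -/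
theorem short_shift {e x z : ι → F₀} (hex : f₀ hrat e x = 0) (hez : f₀ hrat e z = 0) (hxz : f₀ hrat x z = 0)
    (hind : x ∉ Submodule.span F₀ ({e, z} : Set (ι → F₀))) (hM : M ≤ isoSub f) {s t : F}
    (hP : sh hf (em F₀ P e) (em F₀ P x) s * stv hf (em F₀ P e) t ∈ M) :
    sh hf (em F₀ P e) (em F₀ P z) s ∈ M := by
  obtain ⟨w, hxw, hw⟩ := exists_val hf hrat hind
  have hf' := f₀_symplectic hf hrat
  have hzw : f₀ hrat z w = 0 := hw z (by simp)
  have hew : f₀ hrat e w = 0 := hw e (by simp)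
  have hg := rat_sh hf hrat hHM hzw 1
  have hgx : (sh hf (em F₀ P z) (em F₀ P w) ((1 : F₀) : F) : Matrix ι ι F) *ᵥ em F₀ P x = em F₀ P x + em F₀ P z := by
    rw [sh_mulVec hf (f_zero hrat hzw), f_zero hrat hxz, f_one hrat hxw]
    push_cast
    simp
  have hge : (sh hf (em F₀ P z) (em F₀ P w) ((1 : F₀) : F) : Matrix ι ι F) *ᵥ em F₀ P e = em F₀ P e := by
    rw [sh_mulVec hf (f_zero hrat hzw), f_zero hrat hez, f_zero hrat hew]
    simp
  have h1 : sh hf (em F₀ P e) (em F₀ P x + em F₀ P z) s * stv hf (em F₀ P e) t ∈ M := by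
    have := M.mul_mem (M.mul_mem hg hP) (M.inv_mem hg)
    rw [show sh hf (em F₀ P z) (em F₀ P w) ((1 : F₀) : F) * (sh hf (em F₀ P e) (em F₀ P x) s * stv hf (em F₀ P e) t) *
        (sh hf (em F₀ P z) (em F₀ P w) ((1 : F₀) : F))⁻¹ =
      (sh hf (em F₀ P z) (em F₀ P w) ((1 : F₀) : F) * sh hf (em F₀ P e) (em F₀ P x) s *
        (sh hf (em F₀ P z) (em F₀ P w) ((1 : F₀) : F))⁻¹) * (sh hf (em F₀ P z) (em F₀ P w) ((1 : F₀) : F) *
        stv hf (em F₀ P e) t * (sh hf (em F₀ P z) (em F₀ P w) ((1 : F₀) : F))⁻¹) by group,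
      sh_conj hf (hM hg), stv_conj hf (hM hg), hgx, hge] at this
    exact this
  have heq : sh hf (em F₀ P e) (em F₀ P z) s * (sh hf (em F₀ P e) (em F₀ P x) s * stv hf (em F₀ P e) t) =
      sh hf (em F₀ P e) (em F₀ P x + em F₀ P z) s * stv hf (em F₀ P e) t := by
    rw [← mul_assoc]
    congr 1
    refine gl_ext_vec fun y => ?_
    have hxz' : f (em F₀ P x) (em F₀ P z) = 0 := f_zero hrat hxz
    have hex' := f_zero hrat hex
    have hez' := f_zero hrat hez
    rw [gl_mul_mulVec, sh_mulVec hf hex', sh_mulVec hf hez', sh_mulVec hf (by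
      rw [hf.bilinear.add_right, hex', hez', add_zero])]
    simp only [hf.bilinear.add_left, hf.bilinear.add_right, hf.bilinear.smul_left, hf.alternating, hex', hez', hxz',
      swap_zero hf hex', swap_zero hf hez', swap_zero hf hxz', mul_zero, add_zero]
    module
  rw [← heq] at h1
  have := M.mul_mem h1 (M.inv_mem hP)
  rwa [mul_inv_cancel_right] at this

/-- the scalars of transvections at a rational vector -/
def cset (hM : M ≤ isoSub f) (e : ι → F₀) : AddSubgroup F where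
  carrier := {c | stv hf (em F₀ P e) c ∈ M}
  add_mem' := fun {a b} ha hb => show stv hf (em F₀ P e) (a + b) ∈ M by rw [← stv_mul]; exact M.mul_mem ha hb
  zero_mem' := show stv hf (em F₀ P e) 0 ∈ M by rw [stv_zero]; exact M.one_mem
  neg_mem' := fun {a} ha => show stv hf (em F₀ P e) (-a) ∈ M by
    have : stv hf (em F₀ P e) (-a) = (stv hf (em F₀ P e) a)⁻¹ := by
      refine eq_inv_of_mul_eq_one_left ?_
      rw [stv_mul, neg_add_cancel, stv_zero]
    rw [this]
    exact M.inv_mem ha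

theorem mem_cset (hM : M ≤ isoSub f) {e : ι → F₀} {c : F} :
    c ∈ cset (P := P) hf hM e ↔ stv hf (em F₀ P e) c ∈ M := Iff.rfl

theorem cset_move (hM : M ≤ isoSub f) {e e' : ι → F₀} (he : e ≠ 0) (he' : e' ≠ 0) {c : F}
    (h : c ∈ cset (P := P) hf hM e) : c ∈ cset (P := P) hf hM e' := by
  obtain ⟨g, hg, hge⟩ := rat_vec hf hrat hHM he he'
  have := stv_conj_mem hf hM hg h
  rwa [hge] at this

/-- `C ∋ c` puts `c` among the short scalars -/
theorem short_of_long (hM : M ≤ isoSub f) {e x : ι → F₀} (he : e ≠ 0) (hx : x ≠ 0) (hex' : e + x ≠ 0) {c : F}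
    (hc : c ∈ cset (P := P) hf hM e) : sh hf (em F₀ P e) (em F₀ P x) c ∈ M := by
  rw [sh, ← em_add]
  exact M.mul_mem (M.mul_mem (cset_move hf hrat hHM hM he hex' hc) ((cset (P := P) hf hM e).neg_mem hc))
    ((cset (P := P) hf hM x).neg_mem (cset_move hf hrat hHM hM he hx hc))

end Over

omit hf

theorem ne_zero_of_not_mem_span {S : Set (ι → F₀)} {x : ι → F₀} (h : x ∉ Submodule.span F₀ S) : x ≠ 0 :=
  fun h0 => h (h0 ▸ Submodule.zero_mem _)

end CfsgLib.Perm.Trans.Symp
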