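import Cfsg.Agent.Lib.Perm.Trans.Unit
import Cfsg.Agent.Lib.Perm.Trans.SympSubf
import Cfsg.Agent.Lib.Perm.Trans.SubfLines

/-!
# Symplectic subfield subgroups of special unitary groups are maximal
-/

set_option autoImplicit false
set_option linter.all false

namespace CfsgLib.Perm.Trans.Unit

open scoped Matrix
open Matrix Cfsg.Geo CfsgLib.Perm.Asch CfsgLib.Perm.Trans
open CfsgLib.Perm.Trans.Subf (em lift em_add em_neg em_sub em_smul em_sum em_zero em_injective em_ne_zero exists_coords lift_em lift_mem ext_em)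

variable {ι : Type} [Fintype ι] [DecidableEq ι] {F : Type*} [Field F] [Fintype F]
variable {σ : F ≃+* F} {f : (ι → F) → (ι → F) → F} {F₀ : Subfield F} {P : GL ι F} {ζ : F}

/-- the data of an alternating form on the rational vectors -/
structure SympRat (σ : F ≃+* F) (f : (ι → F) → (ι → F) → F) (F₀ : Subfield F) (P : GL ι F) (ζ : F) : Prop where
  form : IsUnitaryForm σ f
  ne_zero : ζ ≠ 0
  bar : σ ζ = -ζ
  fix : ∀ x : F, x ∈ F₀ ↔ σ x = x
  rat : ∀ a b : ι → F₀, ζ * f (em F₀ P a) (em F₀ P b) ∈ F₀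
  alt : ∀ a : ι → F₀, f (em F₀ P a) (em F₀ P a) = 0
  card : Fintype.card F = Nat.card F₀ ^ 2

variable (D : SympRat σ f F₀ P ζ)
include D

/-- the alternating form on the rational vectors -/
def srForm (a b : ι → F₀) : F₀ := ⟨ζ * f (em F₀ P a) (em F₀ P b), D.rat a b⟩

theorem srForm_coe (a b : ι → F₀) : ((srForm D a b : F₀) : F) = ζ * f (em F₀ P a) (em F₀ P b) := rfl

theorem sr_bar (a : F₀) : σ (a : F) = a := (D.fix _).1 a.2

theorem srForm_symplectic : IsSymplecticForm (srForm D) where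
  bilinear :=
    ⟨fun x y v => Subtype.ext (by push_cast; rw [srForm_coe, srForm_coe, srForm_coe, em_add, D.form.add_left, mul_add]),
     fun c x v => Subtype.ext (by push_cast; rw [srForm_coe, srForm_coe, em_smul, D.form.smul_left, mul_left_comm]),
     fun v x y => Subtype.ext (by
      push_cast; rw [srForm_coe, srForm_coe, srForm_coe, em_add, herm_add_right D.form, mul_add]),
     fun c v x => Subtype.ext (by
      push_cast; rw [srForm_coe, srForm_coe, em_smul, herm_smul_right D.form, sr_bar D, mul_left_comm])⟩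
  skew v w := Subtype.ext (by
    push_cast
    rw [srForm_coe, srForm_coe]
    have h := (D.fix _).1 (D.rat w v)
    rw [map_mul, D.bar, ← D.form.herm] at h
    linear_combination (-1 : F) * h)
  alternating v := Subtype.ext (by push_cast; rw [srForm_coe, D.alt, mul_zero])
  nondegenerate v hv := by
    have hex : ∃ y, srForm D v y ≠ 0 := by
      by_contra hcon
      push Not at hcon
      obtain ⟨z, hz⟩ := (D.form.nondegenerate _ (em_ne_zero F₀ P hv)).2
      obtain ⟨a, rfl⟩ := exists_coords F₀ P z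
      refine hz ?_
      clear hz
      induction (Finset.univ : Finset ι) using Finset.induction_on with
      | empty => rw [Finset.sum_empty, herm_zero_right D.form]
      | @insert i s hi ih =>
        rw [Finset.sum_insert hi, herm_add_right D.form, ih, herm_smul_right D.form, add_zero]
        have h1 : ζ * f (em F₀ P v) (em F₀ P (Pi.single i 1)) = 0 := by
          rw [← srForm_coe D, hcon]; rfl
        rw [(mul_eq_zero.1 h1).resolve_left D.ne_zero, mul_zero]
    obtain ⟨y, hy⟩ := hex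
    refine ⟨⟨y, fun hc => hy (Subtype.ext ?_)⟩, ⟨y, hy⟩⟩
    have h2 := congrArg Subtype.val hc
    rw [srForm_coe] at h2
    rw [srForm_coe, D.form.herm, (mul_eq_zero.1 h2).resolve_left D.ne_zero, map_zero, mul_zero]
    rfl

/-- an irrational scalar gives a basis of the extension -/
theorem sr_basis {θ : F} (hθ : θ ∉ F₀) : Function.Bijective fun c : F₀ × F₀ => (c.1 : F) + θ * (c.2 : F) := by
  rw [Nat.bijective_iff_injective_and_card]
  refine ⟨fun c d h => ?_, by rw [Nat.card_prod, Nat.card_eq_fintype_card (α := F), D.card, sq]⟩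
  have h2 : (c.2 : F) - d.2 = 0 := by
    by_contra hne
    have h' : (c.1 : F) + θ * c.2 = d.1 + θ * d.2 := h
    exact hθ (by
      rw [show θ = ((d.1 : F) - c.1) / (c.2 - d.2) by rw [eq_div_iff hne]; linear_combination h']
      exact F₀.div_mem (F₀.sub_mem d.1.2 c.1.2) (F₀.sub_mem c.2.2 d.2.2))
  have h1 : c.2 = d.2 := Subtype.ext (sub_eq_zero.1 h2)
  have h' : (c.1 : F) + θ * c.2 = d.1 + θ * d.2 := h
  exact Prod.ext (Subtype.ext (by rw [h1] at h'; exact add_right_cancel h')) h1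

theorem sr_split {θ : F} (hθ : θ ∉ F₀) (v : ι → F) :
    ∃ u w : ι → F₀, v = em F₀ P u + θ • em F₀ P w := by
  have h := fun i => (sr_basis D hθ).2 ((((P⁻¹ : GL ι F) : Matrix ι ι F) *ᵥ v) i)
  choose c hc using h
  refine ⟨fun i => (c i).1, fun i => (c i).2, ?_⟩
  rw [Subf.em, Subf.em, ← mulVec_smul, ← mulVec_add]
  conv_lhs => rw [← gl_mulVec_inv P v]
  exact congrArg _ (funext fun i => (hc i).symm)

theorem sr_split_unique {θ : F} (hθ : θ ∉ F₀) {u w u' w' : ι → F₀}
    (h : em F₀ P u + θ • em F₀ P w = em F₀ P u' + θ • em F₀ P w') : u = u' ∧ w = w' := by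
  have key : ∀ i, (u i, w i) = (u' i, w' i) := fun i => (sr_basis D hθ).1 (by
    have h1 := congrArg (fun x => (((P⁻¹ : GL ι F) : Matrix ι ι F) *ᵥ x) i) h
    simpa only [mulVec_add, mulVec_smul, Pi.add_apply, Pi.smul_apply, Subf.inv_em, smul_eq_mul] using h1)
  exact ⟨funext fun i => congrArg Prod.fst (key i), funext fun i => congrArg Prod.snd (key i)⟩

/-- isotropic vectors outside the rational lines -/
theorem sr_pair {θ : F} (hθ : θ ∉ F₀) {v : ι → F} (hv : f v v = 0)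
    (hirr : ∀ (t : F) (d : ι → F₀), v ≠ t • em F₀ P d) :
    ∃ u w : ι → F₀, v = em F₀ P u + θ • em F₀ P w ∧ srForm D u w = 0 ∧ u ≠ 0 ∧
      w ∉ Submodule.span F₀ ({u} : Set (ι → F₀)) := by
  obtain ⟨u, w, rfl⟩ := sr_split D hθ v
  have hu0 : u ≠ 0 := fun h0 => hirr θ w (by rw [h0, em_zero, zero_add])
  refine ⟨u, w, rfl, ?_, hu0, fun hm => ?_⟩
  · have h1 : ((srForm D u w : F₀) : F) * (σ θ - θ) = 0 := by
      have h2 := congrArg (fun x => ζ * x) hv
      simp only [D.form.add_left, herm_add_right D.form, D.form.smul_left, herm_smul_right D.form, D.alt, mul_zero,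
        add_zero, zero_add] at h2
      have h3 := congrArg Subtype.val ((srForm_symplectic D).skew w u)
      push_cast at h3
      rw [srForm_coe, srForm_coe] at h3
      rw [srForm_coe]
      linear_combination h2 - θ * h3
    have h4 : σ θ - θ ≠ 0 := fun h0 => hθ ((D.fix θ).2 (sub_eq_zero.1 h0))
    exact Subtype.ext ((mul_eq_zero.1 h1).resolve_right h4)
  · obtain ⟨s, rfl⟩ := Submodule.mem_span_singleton.1 hm
    exact hirr (1 + θ * (s : F)) u (by rw [em_smul, smul_smul, add_smul, one_smul])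

theorem sr_isotropic (θ : F) {u w : ι → F₀} (h : srForm D u w = 0) :
    f (em F₀ P u + θ • em F₀ P w) (em F₀ P u + θ • em F₀ P w) = 0 := by
  have h1 : f (em F₀ P u) (em F₀ P w) = 0 := by
    have := congrArg Subtype.val h
    rw [srForm_coe] at this
    exact (mul_eq_zero.1 this).resolve_left D.ne_zero
  simp [D.form.add_left, herm_add_right D.form, D.form.smul_left, herm_smul_right D.form, D.alt, h1,
    herm_swap_zero D.form h1]

/-- rational transvections are unitary and in the subfield group -/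
theorem sr_rat_mem (a : ι → F₀) (c : F₀) :
    lift F₀ P (Symp.stv (srForm_symplectic D) a c) ∈ subfieldSubgroup F₀ P ⊓ (isoU f ⊓ specialLinear ι F) ∧
      ∀ x, (lift F₀ P (Symp.stv (srForm_symplectic D) a c) : Matrix ι ι F) *ᵥ x =
        x + ((c : F) * ζ * f x (em F₀ P a)) • em F₀ P a := by
  have hm : ∀ x, (lift F₀ P (Symp.stv (srForm_symplectic D) a c) : Matrix ι ι F) *ᵥ x =
      x + ((c : F) * ζ * f x (em F₀ P a)) • em F₀ P a := by
    have hc : σ ((c : F) * ζ) = -((c : F) * ζ) := by rw [map_mul, sr_bar D, D.bar, mul_neg]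
    have h0 := utv_orth D.form (D.alt a) ((c : F) * ζ)
    have heq : lift F₀ P (Symp.stv (srForm_symplectic D) a c) =
        tv (em F₀ P a) (((c : F) * ζ) • hv D.form (em F₀ P a)) h0 := ext_em F₀ P fun b => by
      rw [lift_em, Symp.stv_mulVec, em_add, em_smul, tv_mulVec, smul_dotProduct, hv_dot, smul_eq_mul]
      push_cast
      rw [srForm_coe, mul_assoc]
    intro x
    rw [heq, tv_mulVec, smul_dotProduct, hv_dot, smul_eq_mul]
  refine ⟨⟨lift_mem F₀ P _, mem_isoU.2 fun x y => ?_, ?_⟩, hm⟩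
  · rw [hm, hm]
    simp only [D.form.add_left, herm_add_right D.form, D.form.smul_left, herm_smul_right D.form, D.alt, map_mul,
      sr_bar D, D.bar, ← D.form.herm]
    ring
  · have h1 : Matrix.GeneralLinearGroup.det (Symp.stv (srForm_symplectic D) a c) = 1 := Symp.stv_mem_SL _ a c
    show Matrix.GeneralLinearGroup.det (lift F₀ P (Symp.stv (srForm_symplectic D) a c)) = 1
    show Matrix.GeneralLinearGroup.det (P * Matrix.GeneralLinearGroup.map _ _ * P⁻¹) = 1
    rw [map_mul, map_mul, map_inv, mul_comm (Matrix.GeneralLinearGroup.det P), mul_inv_cancel_right]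
    refine Units.ext ?_
    have h2 := congrArg (fun x => ((F₀.subtype : F₀ →+* F) ((x : F₀ˣ) : F₀))) h1
    simpa [Matrix.GeneralLinearGroup.map, RingHom.map_det] using h2

variable {M : Subgroup (GL ι F)}

/-- symplectic maps of the rational vectors move orthogonal pairs -/
theorem sr_move (hHM : subfieldSubgroup F₀ P ⊓ (isoU f ⊓ specialLinear ι F) ≤ M) {u w u' w' : ι → F₀} (hu : u ≠ 0)
    (hu' : u' ≠ 0) (huw : srForm D u w = 0) (huw' : srForm D u' w' = 0)
    (hw : w ∉ Submodule.span F₀ ({u} : Set (ι → F₀))) (hw' : w' ∉ Submodule.span F₀ ({u'} : Set (ι → F₀))) :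
    ∃ g ∈ M, (g : Matrix ι ι F) *ᵥ em F₀ P u = em F₀ P u' ∧ (g : Matrix ι ι F) *ᵥ em F₀ P w = em F₀ P w' := by
  have hs := srForm_symplectic D
  have htop : IsNondegenerateOn (srForm D) (⊤ : Submodule F₀ (ι → F₀)) := Symp.isNondegenerateOn_top hs
  have hMt : ∀ a ∈ (⊤ : Submodule F₀ (ι → F₀)), ∀ c, Symp.stv hs a c ∈ M.comap (lift F₀ P) :=
    fun a _ c => hHM (sr_rat_mem D a c).1
  obtain ⟨t₁, ht₁, ht₁u⟩ := Symp.move_vec hs hMt htop Submodule.mem_top Submodule.mem_top hu hu'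
  obtain ⟨w₁, hw₁def⟩ : ∃ w₁, w₁ = (t₁ : Matrix ι ι F₀) *ᵥ w := ⟨_, rfl⟩
  have hw₁u : srForm D u' w₁ = 0 := by rw [← ht₁u, hw₁def, Symp.mem_isoSub.1 ht₁.2.1, huw]
  have hw₁s : w₁ ∉ Submodule.span F₀ ({u'} : Set (ι → F₀)) := by
    intro hm
    obtain ⟨s, hsu⟩ := Submodule.mem_span_singleton.1 hm
    refine hw (Submodule.mem_span_singleton.2 ⟨s, ?_⟩)
    have := congrArg (fun x => ((t₁⁻¹ : GL ι F₀) : Matrix ι ι F₀) *ᵥ x) hsu
    simpa [← ht₁u, hw₁def, mulVec_smul] using this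
  obtain ⟨x, hxu, hxw, hxw'⟩ : ∃ x, srForm D u' x = 0 ∧ srForm D w₁ x ≠ 0 ∧ srForm D x w' ≠ 0 := by
    have pick : ∀ y, y ∉ Submodule.span F₀ ({u'} : Set (ι → F₀)) →
        ∃ a, srForm D u' a = 0 ∧ srForm D y a ≠ 0 := fun y hy => by
      obtain ⟨φ, hφy, hφ⟩ := exists_dual _ hy
      obtain ⟨a, ha⟩ := Symp.exists_rep hs φ
      exact ⟨a, by rw [ha, hφ _ (Submodule.mem_span_singleton_self u')], by rw [ha, hφy]; exact one_ne_zero⟩
    obtain ⟨a, hau, haw⟩ := pick w₁ hw₁s
    obtain ⟨b, hbu, hbw⟩ := pick w' hw'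
    by_cases h1 : srForm D w' a = 0
    · by_cases h2 : srForm D w₁ b = 0
      · exact ⟨a + b, by rw [hs.bilinear.add_right, hau, hbu, add_zero],
          by rwa [hs.bilinear.add_right, h2, add_zero],
          Symp.swap_ne hs (by rwa [hs.bilinear.add_right, h1, zero_add])⟩
      · exact ⟨b, hbu, h2, Symp.swap_ne hs hbw⟩
    · exact ⟨a, hau, haw, Symp.swap_ne hs h1⟩
  obtain ⟨t₂, ht₂, ht₂u, ht₂w⟩ := Symp.move_second_direct hs hMt (e := u') Submodule.mem_top Submodule.mem_top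
    (hw₁u.trans hxu.symm) hxw
  obtain ⟨t₃, ht₃, ht₃u, ht₃w⟩ := Symp.move_second_direct hs hMt (e := u') Submodule.mem_top Submodule.mem_top
    (hxu.trans huw'.symm) hxw'
  refine ⟨lift F₀ P (t₃ * t₂ * t₁),
    (M.comap (lift F₀ P)).mul_mem ((M.comap (lift F₀ P)).mul_mem ht₃.1 ht₂.1) ht₁.1, ?_, ?_⟩
  · rw [lift_em, gl_mul_mulVec, gl_mul_mulVec, ht₁u, ht₂u, ht₃u]
  · rw [lift_em, gl_mul_mulVec, gl_mul_mulVec, ← hw₁def, ht₂w, ht₃w]

omit D in
/-- `M` contains the transvection with centre `v` and coefficient `c` -/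
def UTr (f : (ι → F) → (ι → F) → F) (ζ : F) (M : Subgroup (GL ι F)) (v : ι → F) (c : F) : Prop :=
  ∃ t ∈ M, ∀ x, (t : Matrix ι ι F) *ᵥ x = x + (c * ζ * f x v) • v

omit D in
theorem UTr.conj {v : ι → F} {c : F} (h : UTr f ζ M v c) (hM : M ≤ isoU f) {g : GL ι F} (hg : g ∈ M) :
    UTr f ζ M ((g : Matrix ι ι F) *ᵥ v) c := by
  obtain ⟨t, ht, htx⟩ := h
  refine ⟨g * t * g⁻¹, M.mul_mem (M.mul_mem hg ht) (M.inv_mem hg), fun x => ?_⟩
  rw [gl_mul_mulVec, gl_mul_mulVec, htx, mulVec_add, mulVec_smul, gl_mulVec_inv]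
  congr 3
  conv_rhs => rw [← gl_mulVec_inv g x, mem_isoU.1 (hM hg)]

theorem UTr.of_smul {v : ι → F} {t c : F} (h : UTr f ζ M (t • v) c) : UTr f ζ M v (c * (t * σ t)) := by
  obtain ⟨g, hg, hgx⟩ := h
  refine ⟨g, hg, fun x => ?_⟩
  rw [hgx, herm_smul_right D.form, smul_smul]
  congr 2
  ring

/-- the subfield group is maximal -/
theorem symp_subfield_maximal (hn : 4 ≤ Fintype.card ι) :
    IsMaximalIn (isoU f ⊓ specialLinear ι F)
      (subfieldSubgroup F₀ P ⊓ (isoU f ⊓ specialLinear ι F)) := by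
  have hs := srForm_symplectic D
  obtain ⟨θ, hθ⟩ : ∃ θ : F, θ ∉ F₀ := by
    obtain ⟨a, ha⟩ := exists_not_fixed D.form
    exact ⟨a, fun h => ha ((D.fix a).1 h)⟩
  -- an orthogonal pair
  obtain ⟨u₀, w₀, hu₀, huw₀, hw₀⟩ : ∃ u w : ι → F₀, u ≠ 0 ∧ srForm D u w = 0 ∧
      w ∉ Submodule.span F₀ ({u} : Set (ι → F₀)) := by
    obtain ⟨i⟩ : Nonempty ι := Fintype.card_pos_iff.1 (by omega)
    refine ⟨Pi.single i 1, ?_⟩
    obtain ⟨z, hz, hzn⟩ := SetLike.not_le_iff_exists.1 (fun hle :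
        LinearMap.ker (Symp.sfun hs (Pi.single i (1 : F₀))) ≤ Submodule.span F₀ ({Pi.single i 1} : Set (ι → F₀)) => by
      have h1 := Submodule.finrank_mono hle
      have h2 := LinearMap.finrank_range_add_finrank_ker (Symp.sfun hs (Pi.single i (1 : F₀)))
      have h3 : Module.finrank F₀ (LinearMap.range (Symp.sfun hs (Pi.single i (1 : F₀)))) ≤ 1 :=
        (Submodule.finrank_le _).trans (Module.finrank_self F₀).le
      have h4 : Module.finrank F₀ (Submodule.span F₀ ({Pi.single i 1} : Set (ι → F₀))) ≤ 1 :=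
        (finrank_span_le_card _).trans (by simp)
      rw [Module.finrank_fintype_fun_eq_card] at h2
      omega)
    exact ⟨z, fun h0 => one_ne_zero (α := F₀) (by simpa using congrFun h0 i),
      Symp.swap_zero hs (LinearMap.mem_ker.1 hz), hzn⟩
  refine ⟨lt_of_le_of_ne inf_le_right fun heq => ?_, fun M hHM hM => ?_⟩
  · obtain ⟨v, hvdef⟩ : ∃ v, v = em F₀ P u₀ + θ • em F₀ P w₀ := ⟨_, rfl⟩
    have hvv : f v v = 0 := hvdef ▸ sr_isotropic D θ huw₀
    have h0 := utv_orth D.form hvv ζ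
    have hT : tv v (ζ • hv D.form v) h0 ∈ isoU f ⊓ specialLinear ι F :=
      ⟨mem_isoU.2 (utv_isometry D.form v hvv D.bar h0), tv_mem_SL _ _ _⟩
    rw [← heq] at hT
    obtain ⟨c, hc⟩ := Subf.subfield_image F₀ P hT.1
    have hTx : ∀ a, (tv v (ζ • hv D.form v) h0 : Matrix ι ι F) *ᵥ em F₀ P a =
        em F₀ P a + (((srForm D a u₀ : F₀) : F) + σ θ * ((srForm D a w₀ : F₀) : F)) • v := fun a => by
      rw [tv_mulVec, smul_dotProduct, hv_dot, smul_eq_mul, srForm_coe, srForm_coe]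
      congr 2
      rw [hvdef, herm_add_right D.form, herm_smul_right D.form]
      ring
    -- the scalar is rational
    have hcF : c ∈ F₀ := by
      obtain ⟨b, hb⟩ := hc u₀
      rw [hTx, hs.alternating, huw₀] at hb
      push_cast at hb
      rw [mul_zero, add_zero, zero_smul, add_zero] at hb
      obtain ⟨φ, hφ, -⟩ := exists_dual (⊥ : Submodule F₀ (ι → F₀)) (fun h => hu₀ ((Submodule.mem_bot F₀).1 h))
      have h1 := congrArg (Subf.extFun F₀ P φ) hb
      rw [map_smul, Subf.extFun_em, Subf.extFun_em, hφ, smul_eq_mul] at h1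
      push_cast at h1
      have hne : ((φ ⬝ᵥ b : F₀) : F) ≠ 0 := fun h => one_ne_zero (α := F) (by rw [h1, h, mul_zero])
      rw [eq_div_iff hne |>.2 h1.symm]
      exact F₀.div_mem F₀.one_mem (φ ⬝ᵥ b).2
    obtain ⟨φ, hφw, hφu⟩ := exists_dual _ hw₀
    obtain ⟨φ', hφ'u, hφ'w⟩ := exists_dual (Submodule.span F₀ ({w₀} : Set (ι → F₀))) (x := u₀) (fun hm => by
      obtain ⟨s, hs'⟩ := Submodule.mem_span_singleton.1 hm
      have hs0 : s ≠ 0 := fun h => hu₀ (by rw [← hs', h, zero_smul])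
      exact hw₀ (Submodule.mem_span_singleton.2 ⟨s⁻¹, by rw [← hs', smul_smul, inv_mul_cancel₀ hs0, one_smul]⟩))
    obtain ⟨a, ha⟩ := Symp.exists_rep hs φ'
    obtain ⟨b, hb⟩ := hc a
    have hau : srForm D a u₀ = -1 := by rw [hs.skew, ha, hφ'u]
    have haw : srForm D a w₀ = 0 := by
      rw [hs.skew, ha, hφ'w _ (Submodule.mem_span_singleton_self w₀), neg_zero]
    rw [hTx, hau, haw] at hb
    have h2 : em F₀ P (a - u₀) + θ • em F₀ P (-w₀) = em F₀ P ((⟨c, hcF⟩ : F₀) • b) + θ • em F₀ P 0 := by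
      rw [em_zero, smul_zero, add_zero, em_smul, ← hb, hvdef, em_sub, em_neg]
      push_cast
      module
    have h3 := (sr_split_unique D hθ h2).2
    rw [neg_eq_zero] at h3
    exact hw₀ (by rw [h3]; exact Submodule.zero_mem _)
  · by_cases hMH : M ≤ subfieldSubgroup F₀ P
    · exact Or.inl (le_antisymm (le_inf hMH hM) hHM)
    refine Or.inr (le_antisymm hM ?_)
    obtain ⟨g, hg, hgH⟩ := SetLike.not_le_iff_exists.1 hMH
    have hMiso : M ≤ isoU f := hM.trans inf_le_left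
    obtain ⟨a₀, hirr⟩ : ∃ a, ∀ (t : F) (d : ι → F₀), (g : Matrix ι ι F) *ᵥ em F₀ P a ≠ t • em F₀ P d := by
      by_contra hcon
      push Not at hcon
      exact hgH (Subf.mem_subfieldSubgroup_of_lines F₀ P hcon)
    have hrat : ∀ (a : ι → F₀) (c : F), c ∈ F₀ → UTr f ζ M (em F₀ P a) c := fun a c hc =>
      ⟨_, hHM (sr_rat_mem D a ⟨c, hc⟩).1, (sr_rat_mem D a ⟨c, hc⟩).2⟩
    have hv₁ : UTr f ζ M ((g : Matrix ι ι F) *ᵥ em F₀ P a₀) 1 := (hrat a₀ 1 F₀.one_mem).conj hMiso hg
    obtain ⟨u₁, w₁, hv₁eq, huw₁, hu₁, hw₁⟩ :=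
      sr_pair D hθ (by rw [mem_isoU.1 (hMiso hg), D.alt]) hirr
    rw [hv₁eq] at hv₁
    have hall : ∀ v, f v v = 0 → ∀ c ∈ F₀, UTr f ζ M v c := by
      intro v hvv c hc
      by_cases hr : ∃ (t : F) (d : ι → F₀), v = t • em F₀ P d
      · obtain ⟨t, d, rfl⟩ := hr
        obtain ⟨k, hk⟩ : ∃ k, k = c * (t * σ t) := ⟨_, rfl⟩
        have hkF : k ∈ F₀ := by
          rw [hk, D.fix, map_mul, map_mul, D.form.involutive, (D.fix c).1 hc, mul_comm (σ t)]
        obtain ⟨T, hT, hTx⟩ := hrat d k hkF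
        refine ⟨T, hT, fun x => ?_⟩
        rw [hTx, herm_smul_right D.form, smul_smul, hk]
        congr 2
        ring
      push Not at hr
      rcases eq_or_ne c 0 with rfl | hc0
      · exact ⟨1, M.one_mem, fun x => by rw [Units.val_one, one_mulVec]; simp⟩
      obtain ⟨t, ht⟩ := exists_norm D.form ((D.fix c).1 hc)
      have ht0 : t ≠ 0 := fun h => hc0 (by rw [← ht, h, zero_mul])
      obtain ⟨u, w, hveq, huw, hu, hw⟩ := sr_pair D hθ (v := t • v)
        (by rw [D.form.smul_left, herm_smul_right D.form, hvv, mul_zero, mul_zero]) (fun s d hsd => hr (t⁻¹ * s) d (by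
          rw [mul_smul, ← hsd, smul_smul, inv_mul_cancel₀ ht0, one_smul]))
      obtain ⟨m, hm, hmu, hmw⟩ := sr_move D hHM hu₁ hu huw₁ huw hw₁ hw
      have h1 := hv₁.conj hMiso hm
      rw [mulVec_add, mulVec_smul, hmu, hmw, ← hveq] at h1
      have h2 := UTr.of_smul D h1
      rwa [one_mul, ht] at h2
    refine isoU_inf_SL_le D.form (fun v _ hvv c hc => ?_) (Or.inl (by omega))
    obtain ⟨T, hT, hTx⟩ := hall v hvv (c / ζ) (by rw [D.fix, map_div₀, hc, D.bar, neg_div_neg_eq])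
    refine ⟨utv_orth D.form hvv c, ?_⟩
    convert hT using 1
    refine gl_ext_vec fun x => ?_
    rw [hTx, tv_mulVec, smul_dotProduct, hv_dot, smul_eq_mul, div_mul_cancel₀ _ D.ne_zero]

end CfsgLib.Perm.Trans.Unit
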