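import Cfsg.Agent.Lib.Perm.Trans.UnitSU
import Cfsg.Agent.Lib.Perm.Trans.UnitMax
import Cfsg.Agent.Lib.Perm.Trans.UnitPair
import Cfsg.Agent.Lib.Perm.Trans.UnitDecomp.Max
import Cfsg.Agent.Lib.Perm.Trans.UnitExt.Max
import Cfsg.Agent.Lib.Perm.Trans.UnitSubfMax
import Cfsg.Agent.Lib.Perm.Trans.UnitSubfOrthMax
import Cfsg.Agent.Lib.Perm.Trans.UnitSubfSymp
import Cfsg.Agent.Lib.Perm.Trans.TensorHermStep

/-!
# Geometric maximal subgroups of special unitary groups of degree at least six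
-/

set_option autoImplicit false
set_option linter.all false

namespace CfsgLib.Perm.Trans.GeomSU

open Cfsg Cfsg.Geo
open scoped Matrix

variable {F : Type*} [Field F] [Fintype F] {n q : ℕ}

/-- stabilisers of totally isotropic subspaces -/
theorem singular_maximal_su (hF : Fintype.card F = q ^ 2) (hn : 6 ≤ n) (W : Submodule F (Fin n → F))
    (hW0 : W ≠ ⊥) (hW : IsTotallySingularFor (hermForm n F q) W) :
    IsMaximalIn (GU n F q ⊓ specialLinear (Fin n) F) (subspaceStabilizer W ⊓ (GU n F q ⊓ specialLinear (Fin n) F)) := by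
  obtain ⟨C⟩ := CfsgLib.Perm.Trans.Unit.ctx_of_card hF
  exact CfsgLib.Perm.Trans.Unit.singular_subspace_maximal (CfsgLib.Perm.Trans.Unit.isUnitary_hermForm C)
    (by rw [Fintype.card_fin]; omega) hW0 hW

/-- stabilisers of non-degenerate subspaces -/
theorem nondeg_maximal_su (hF : Fintype.card F = q ^ 2) (hn : 6 ≤ n) (W : Submodule F (Fin n → F))
    (hW0 : W ≠ ⊥) (hW : IsNondegenerateOn (hermForm n F q) W) (hdim : 2 * Module.finrank F W < n) :
    IsMaximalIn (GU n F q ⊓ specialLinear (Fin n) F) (subspaceStabilizer W ⊓ (GU n F q ⊓ specialLinear (Fin n) F)) := by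
  obtain ⟨C⟩ := CfsgLib.Perm.Trans.Unit.ctx_of_card hF
  exact CfsgLib.Perm.Trans.Unit.nondeg_subspace_maximal (CfsgLib.Perm.Trans.Unit.isUnitary_hermForm C)
    (by rw [Fintype.card_fin]; omega) hW0 hW (by rw [Fintype.card_fin]; exact hdim)

/-- stabilisers of orthogonal decompositions -/
theorem decomposition_maximal_su (hF : Fintype.card F = q ^ 2) (hn : 6 ≤ n) {t k : ℕ}
    (hline : k = 1 → n = 10 ∨ n = 12 ∨ 13 ≤ n) (hex : k ≠ 2 ∨ 3 ≤ q)
    (D : Fin t → Submodule F (Fin n → F)) (hD : IsNondegenerateMDecomposition (hermForm n F q) k D) :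
    IsMaximalIn (GU n F q ⊓ specialLinear (Fin n) F) (decompositionStabilizer D ⊓ (GU n F q ⊓ specialLinear (Fin n) F)) := by
  obtain ⟨C⟩ := CfsgLib.Perm.Trans.Unit.ctx_of_card hF
  refine CfsgLib.Perm.Trans.Unit.Dec.decomposition_maximal' (CfsgLib.Perm.Trans.Unit.isUnitary_hermForm C) hD
    (by rw [Fintype.card_fin]; omega) (by rw [Fintype.card_fin]; exact hline) (hex.imp id fun h => ?_)
  rw [hF]
  calc 4 < 3 ^ 2 := by norm_num
    _ ≤ q ^ 2 := Nat.pow_le_pow_left h 2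

/-- stabilisers of pairs of totally isotropic subspaces -/
theorem pair_maximal_su (hF : Fintype.card F = q ^ 2) (hn : 6 ≤ n) {k : ℕ} (hk : 2 * k = n)
    (D : Fin 2 → Submodule F (Fin n → F)) (hD : IsMDecomposition k D)
    (hts : ∀ i, IsTotallySingularFor (hermForm n F q) (D i)) :
    IsMaximalIn (GU n F q ⊓ specialLinear (Fin n) F) (decompositionStabilizer D ⊓ (GU n F q ⊓ specialLinear (Fin n) F)) := by
  obtain ⟨C⟩ := CfsgLib.Perm.Trans.Unit.ctx_of_card hF
  have hsup : D 0 ⊔ D 1 = ⊤ := top_le_iff.1 (hD.iSup_eq_top ▸ iSup_le fun i => by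
    fin_cases i
    exacts [le_sup_left, le_sup_right])
  have hinf : D 0 ⊓ D 1 = ⊥ := (hD.indep.pairwiseDisjoint (show (0 : Fin 2) ≠ 1 by decide)).eq_bot
  have P : CfsgLib.Perm.Trans.Unit.SingPair (Cfsg.hermForm n F q) (D 0) (D 1) :=
    ⟨hts 0, hts 1, hsup, hinf, by rw [hD.finrank_eq]; omega, by rw [hD.finrank_eq]; omega⟩
  have hmap : ∀ (g : Matrix.GeneralLinearGroup (Fin n) F) i j,
      (∀ x ∈ D i, (g : Matrix (Fin n) (Fin n) F) *ᵥ x ∈ D j) →
        (D i).map (Matrix.toLin' (g : Matrix (Fin n) (Fin n) F)) = D j := by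
    intro g i j h
    refine Submodule.eq_of_le_of_finrank_le (fun x hx => ?_) ?_
    · obtain ⟨y, hy, rfl⟩ := Submodule.mem_map.1 hx
      rw [Matrix.toLin'_apply]
      exact h y hy
    · refine ((hD.finrank_eq j).trans (hD.finrank_eq i).symm).le.trans
        (Submodule.equivMapOfInjective _ (fun a b hab => ?_) (D i)).finrank_eq.le
      have h1 := congrArg (fun v => ((g⁻¹ : Matrix.GeneralLinearGroup (Fin n) F) :
        Matrix (Fin n) (Fin n) F) *ᵥ v) hab
      simpa [Matrix.toLin'_apply] using h1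
  refine CfsgLib.Perm.Trans.Unit.pair_maximal (CfsgLib.Perm.Trans.Unit.isUnitary_hermForm C) P
    (by rw [hD.finrank_eq]; omega) (by rw [hD.finrank_eq]; omega) fun g => ?_
  constructor
  · rintro ⟨σ, hσ⟩
    have hm' : ∀ i, ∀ x ∈ D i, (g : Matrix (Fin n) (Fin n) F) *ᵥ x ∈ D (σ i) := fun i x hx => by
      rw [← hσ i, ← Matrix.toLin'_apply]
      exact Submodule.mem_map_of_mem hx
    rcases (show σ 0 = 0 ∨ σ 0 = 1 by omega) with h0 | h0
    · have h1 : σ 1 = 1 := by
        rcases (show σ 1 = 0 ∨ σ 1 = 1 by omega) with h | h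
        · exact absurd (σ.injective (h.trans h0.symm)) (by decide)
        · exact h
      exact Or.inl ⟨fun x hx => h0 ▸ hm' 0 x hx, fun x hx => h1 ▸ hm' 1 x hx⟩
    · have h1 : σ 1 = 0 := by
        rcases (show σ 1 = 0 ∨ σ 1 = 1 by omega) with h | h
        · exact h
        · exact absurd (σ.injective (h.trans h0.symm)) (by decide)
      exact Or.inr ⟨fun x hx => h0 ▸ hm' 0 x hx, fun x hx => h1 ▸ hm' 1 x hx⟩
  · rintro (⟨hX, hY⟩ | ⟨hX, hY⟩)
    · refine ⟨1, fun i => ?_⟩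
      fin_cases i
      exacts [hmap g 0 0 hX, hmap g 1 1 hY]
    · refine ⟨Equiv.swap 0 1, fun i => ?_⟩
      fin_cases i
      · exact hmap g 0 1 hX
      · exact hmap g 1 0 hY

/-- normalisers of extension fields -/
theorem extField_maximal_su (hF : Fintype.card F = q ^ 2) {r : ℕ} (hr : r.Prime) (hro : Odd r) (hn : 2 * r ≤ n)
    (hex : 3 * r ≤ n ∨ r ≠ 3) (K : Subalgebra F (Matrix (Fin n) (Fin n) F)) (hK : IsFieldSubalgebra r K)
    (hac : IsAdjointClosedFor (hermForm n F q) K) :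
    IsMaximalIn (GU n F q ⊓ specialLinear (Fin n) F) (subalgebraNormalizer K ⊓ (GU n F q ⊓ specialLinear (Fin n) F)) := by
  obtain ⟨C⟩ := CfsgLib.Perm.Trans.Unit.ctx_of_card hF
  exact CfsgLib.Perm.Trans.Unit.Ext.extField_maximal (CfsgLib.Perm.Trans.Unit.isUnitary_hermForm C) hr hro
    (by rw [Fintype.card_fin]; exact hn) (by rw [Fintype.card_fin]; exact hex.imp id fun h h' => h h'.1) hK hac

/-- the bilinear data of a unitary tensor decomposition -/
theorem tensor_data_su (hF : Fintype.card F = q ^ 2) {n₁ n₂ : ℕ} (h1 : 1 ≤ n₁) (hs : 1 ≤ n₂)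
    (e : Fin n ≃ Fin n₁ × Fin n₂) (P : Matrix.GeneralLinearGroup (Fin n) F)
    (f₁ : (Fin n₁ → F) → (Fin n₁ → F) → F) (f₂ : (Fin n₂ → F) → (Fin n₂ → F) → F)
    (hf₁ : IsUnitaryFormPow q f₁) (hf₂ : IsUnitaryFormPow q f₂)
    (hT : IsTensorFormStructure (fun x : F => x ^ q) (hermForm n F q) f₁ f₂ e P) :
    ∃ σ : F ≃+* F, (∀ x, σ x = x ^ q) ∧ Cfsg.Geo.IsUnitaryForm σ (hermForm n F q) ∧
      Cfsg.Geo.IsUnitaryForm σ f₁ ∧ Cfsg.Geo.IsUnitaryForm σ f₂ ∧ ∃ k : F, k ≠ 0 ∧ σ k = k ∧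
      ∀ x y x' y', hermForm n F q (CfsgLib.Perm.Trans.TensorFrame.tvec e P x y)
        (CfsgLib.Perm.Trans.TensorFrame.tvec e P x' y') = k * (f₁ x x' * f₂ y y') := by
  classical
  obtain ⟨C0⟩ := CfsgLib.Perm.Trans.Unit.ctx_of_card (q := q) hF
  have hu := CfsgLib.Perm.Trans.Unit.isUnitary_hermForm (n := n) C0
  have hbar : ∀ x, C0.bar x = x ^ q := fun x => C0.bar_eq x
  have hbar' : (fun x : F => x ^ q) = ⇑C0.bar := funext fun x => (hbar x).symm
  have hU : ∀ (k : ℕ) (g : (Fin k → F) → (Fin k → F) → F), IsUnitaryFormPow q g →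
      Cfsg.Geo.IsUnitaryForm C0.bar g := fun k g hg =>
    ⟨hu.ne_refl, hu.involutive, hg.add_left, hg.smul_left, fun v w => by rw [hbar]; exact hg.herm v w,
      hg.nondegenerate⟩
  have hu1 := hU n₁ f₁ hf₁
  have hu2 := hU n₂ f₂ hf₂
  have hsesq : ∀ (k : ℕ) (g : (Fin k → F) → (Fin k → F) → F), Cfsg.Geo.IsUnitaryForm C0.bar g →
      CfsgLib.Perm.Trans.TensorFrame.IsSesq (⇑C0.bar) g := fun k g hg =>
    ⟨hg.add_left, hg.smul_left, CfsgLib.Perm.Trans.herm_add_right hg, CfsgLib.Perm.Trans.herm_smul_right hg⟩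
  rw [hbar'] at hT
  obtain ⟨k, hk, hpol⟩ := CfsgLib.Perm.Trans.TensorFrame.tvec_form (σ := ⇑C0.bar) (map_mul C0.bar)
    (hsesq n₁ f₁ hu1) (hsesq n₂ f₂ hu2) hT
  have hkσ : C0.bar k = k := by
    obtain ⟨x, -, hx⟩ := CfsgLib.Perm.Trans.Unit.exists_anisotropic hu1
      (CfsgLib.Perm.Trans.Unit.isNondegenerateOn_top hu1) (fun h0 => by
        have := congrArg (fun W : Submodule F (Fin n₁ → F) => Module.finrank F W) h0
        simp at this
        omega)
    obtain ⟨y, -, hy⟩ := CfsgLib.Perm.Trans.Unit.exists_anisotropic hu2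
      (CfsgLib.Perm.Trans.Unit.isNondegenerateOn_top hu2) (fun h0 => by
        have := congrArg (fun W : Submodule F (Fin n₂ → F) => Module.finrank F W) h0
        simp at this
        omega)
    have e1 := hu.herm (CfsgLib.Perm.Trans.TensorFrame.tvec e P x y) (CfsgLib.Perm.Trans.TensorFrame.tvec e P x y)
    rw [hpol, map_mul, map_mul, ← hu1.herm, ← hu2.herm] at e1
    exact (mul_right_cancel₀ (mul_ne_zero hx hy) e1).symm
  exact ⟨C0.bar, hbar, hu, hu1, hu2, k, hk, hkσ, hpol⟩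

/-- stabilisers of tensor decompositions -/
theorem tensor_maximal_su (hF : Fintype.card F = q ^ 2) {n₁ n₂ : ℕ} (h1 : 2 ≤ n₁) (hs : 4 ≤ n₂) (h12 : n₁ < n₂)
    (hex : ¬ (n₁ = 2 ∧ q = 2)) (e : Fin n ≃ Fin n₁ × Fin n₂) (P : Matrix.GeneralLinearGroup (Fin n) F)
    (f₁ : (Fin n₁ → F) → (Fin n₁ → F) → F) (f₂ : (Fin n₂ → F) → (Fin n₂ → F) → F)
    (hf₁ : IsUnitaryFormPow q f₁) (hf₂ : IsUnitaryFormPow q f₂)
    (hT : IsTensorFormStructure (fun x : F => x ^ q) (hermForm n F q) f₁ f₂ e P) :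
    IsMaximalIn (GU n F q ⊓ specialLinear (Fin n) F)
      (tensorProductSubgroup n₁ n₂ e P ⊓ (GU n F q ⊓ specialLinear (Fin n) F)) := by
  classical
  obtain ⟨σ, hbar, hu, hu1, hu2, k, hk, hkσ, hpol⟩ := tensor_data_su hF (by omega) (by omega) e P f₁ f₂ hf₁ hf₂ hT
  have hex' : 3 ≤ n₁ ∨ ∃ t : F, σ t = t ∧ t ≠ 0 ∧ t ≠ 1 := by
    by_contra hcon
    push Not at hcon
    obtain ⟨hr, hfix⟩ := hcon
    have hall : ∀ x : Fˣ, x ^ (q + 1) = 1 := fun x => Units.ext (by
      rw [Units.val_pow_eq_pow_val, Units.val_one, pow_succ, ← hbar, mul_comm]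
      exact hfix _ (by rw [map_mul, hu.involutive, mul_comm]) (mul_ne_zero x.ne_zero (by simp)))
    have hdvd := Nat.le_of_dvd (by omega) ((FiniteField.forall_pow_eq_one_iff F (q + 1)).1 hall)
    rw [hF] at hdvd
    have h1q : 1 < q := by
      have := Fintype.one_lt_card (α := F)
      rw [hF] at this
      rcases Nat.lt_or_ge 1 q with h | h
      · exact h
      · interval_cases q <;> simp at this
    have hq : q ≤ 2 := by
      by_contra h3
      have := Nat.mul_le_mul_right q (show 3 ≤ q by omega)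
      rw [sq] at hdvd
      omega
    exact hex ⟨by omega, by omega⟩
  exact CfsgLib.Perm.Trans.TensorHerm.unitary_tensor_maximal (f := Cfsg.hermForm n F q) hu hu1 hu2 hk hkσ hpol
    h1 hs h12 hex'

/-- subfield groups of odd prime index -/
theorem herm_subfield_maximal_su (hF : Fintype.card F = q ^ 2) (hn : 8 ≤ n) (F₀ : Subfield F) (r : ℕ)
    (hr : r.Prime) (hro : Odd r) (hcard : Fintype.card F = Nat.card F₀ ^ r)
    (P : Matrix.GeneralLinearGroup (Fin n) F) (hP : IsFormRationalStructure (hermForm n F q) F₀ 1 P) :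
    IsMaximalIn (GU n F q ⊓ specialLinear (Fin n) F) (subfieldSubgroup F₀ P ⊓ (GU n F q ⊓ specialLinear (Fin n) F)) := by
  obtain ⟨C⟩ := CfsgLib.Perm.Trans.Unit.ctx_of_card hF
  have D : CfsgLib.Perm.Trans.Unit.HermRat C.bar (Cfsg.hermForm n F q) F₀ P r :=
    { form := CfsgLib.Perm.Trans.Unit.isUnitary_hermForm C
      prime := hr
      two_lt := by
        obtain ⟨k, hk⟩ := hro
        have := hr.two_le
        omega
      card := hcard
      rat := fun a b => by
        have h := hP (fun i => (a i : F)) (fun i => (b i : F)) (fun i => (a i).2) (fun i => (b i).2)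
        rw [one_mul] at h
        exact h }
  exact CfsgLib.Perm.Trans.Unit.herm_subfield_maximal D (by rw [Fintype.card_fin]; omega)

/-- symplectic subfield groups -/
theorem symp_subfield_maximal_su (hF : Fintype.card F = q ^ 2) (hn : 6 ≤ n) (F₀ : Subfield F)
    (P : Matrix.GeneralLinearGroup (Fin n) F) (ζ : F) (hcard : Fintype.card F = Nat.card F₀ ^ 2) (hζ0 : ζ ≠ 0)
    (hζ : ζ + ζ ^ q = 0) (hP : IsFormRationalStructure (hermForm n F q) F₀ ζ P)
    (halt : ∀ u : Fin n → F, (∀ i, u i ∈ F₀) → hermForm n F q ((P : Matrix (Fin n) (Fin n) F) *ᵥ u)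
      ((P : Matrix (Fin n) (Fin n) F) *ᵥ u) = 0) :
    IsMaximalIn (GU n F q ⊓ specialLinear (Fin n) F) (subfieldSubgroup F₀ P ⊓ (GU n F q ⊓ specialLinear (Fin n) F)) := by
  obtain ⟨C⟩ := CfsgLib.Perm.Trans.Unit.ctx_of_card hF
  have hU := CfsgLib.Perm.Trans.Unit.isUnitary_hermForm C (n := n)
  have hq : Nat.card F₀ = q := Nat.pow_left_injective two_ne_zero (hcard.symm.trans hF)
  have hmem : ∀ x : F, x ∈ F₀ → C.bar x = x := fun x hx => by
    letI : Fintype F₀ := Fintype.ofFinite F₀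
    have h := FiniteField.pow_card (⟨x, hx⟩ : F₀)
    rw [← Nat.card_eq_fintype_card, hq] at h
    rw [C.bar_eq]
    exact congrArg Subtype.val h
  have hfix : ∀ x : F, x ∈ F₀ ↔ C.bar x = x := fun x => ⟨hmem x, fun hx => by
    by_contra hx0
    obtain ⟨y, hy⟩ := C.exists_not_fixed
    exact hy (CfsgLib.Perm.Trans.Subf.eq_univ_of_closed Nat.prime_two hcard (C := {z | C.bar z = z})
      (fun a ha b hb => by simp only [Set.mem_setOf_eq] at *; rw [map_add, ha, hb])
      (fun a ha b hb => by simp only [Set.mem_setOf_eq] at *; rw [map_mul, ha, hb])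
      (fun a => hmem _ a.2) (s := x) hx hx0 y)⟩
  have D : CfsgLib.Perm.Trans.Unit.SympRat C.bar (Cfsg.hermForm n F q) F₀ P ζ :=
    { form := hU
      ne_zero := hζ0
      bar := by rw [C.bar_eq]; exact eq_neg_of_add_eq_zero_right hζ
      fix := hfix
      rat := fun a b => hP _ _ (fun i => (a i).2) (fun i => (b i).2)
      alt := fun a => halt _ (fun i => (a i).2)
      card := hcard }
  exact CfsgLib.Perm.Trans.Unit.symp_subfield_maximal D (by rw [Fintype.card_fin]; omega)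

/-- orthogonal subfield groups -/
theorem orth_subfield_maximal_su (hF : Fintype.card F = q ^ 2) (hn : 6 ≤ n) (hodd : Odd q) (F₀ : Subfield F)
    (P : Matrix.GeneralLinearGroup (Fin n) F) (hcard : Fintype.card F = Nat.card F₀ ^ 2)
    (hP : IsFormRationalStructure (hermForm n F q) F₀ 1 P) :
    IsMaximalIn (GU n F q ⊓ specialLinear (Fin n) F) (subfieldSubgroup F₀ P ⊓ (GU n F q ⊓ specialLinear (Fin n) F)) := by
  obtain ⟨C⟩ := CfsgLib.Perm.Trans.Unit.ctx_of_card hF
  have hU := CfsgLib.Perm.Trans.Unit.isUnitary_hermForm C (n := n)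
  have hq : Nat.card F₀ = q := Nat.pow_left_injective two_ne_zero (hcard.symm.trans hF)
  have hmem : ∀ x : F, x ∈ F₀ → C.bar x = x := fun x hx => by
    letI : Fintype F₀ := Fintype.ofFinite F₀
    have h := FiniteField.pow_card (⟨x, hx⟩ : F₀)
    rw [← Nat.card_eq_fintype_card, hq] at h
    rw [C.bar_eq]
    exact congrArg Subtype.val h
  have hfix : ∀ x : F, x ∈ F₀ ↔ C.bar x = x := fun x => ⟨hmem x, fun hx => by
    by_contra hx0
    obtain ⟨y, hy⟩ := C.exists_not_fixed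
    exact hy (CfsgLib.Perm.Trans.Subf.eq_univ_of_closed Nat.prime_two hcard (C := {z | C.bar z = z})
      (fun a ha b hb => by simp only [Set.mem_setOf_eq] at *; rw [map_add, ha, hb])
      (fun a ha b hb => by simp only [Set.mem_setOf_eq] at *; rw [map_mul, ha, hb])
      (fun a => hmem _ a.2) (s := x) hx hx0 y)⟩
  obtain ⟨θ, hθ0, hθ⟩ := CfsgLib.Perm.Trans.exists_trace_zero hU
  have hq1 : ringChar F ≠ 2 := fun h => by
    have h1 := FiniteField.even_card_iff_char_two.1 h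
    rw [hF, Nat.pow_mod, Nat.odd_iff.1 hodd] at h1
    norm_num at h1
  have D : CfsgLib.Perm.Trans.Unit.ORat.OD C.bar (Cfsg.hermForm n F q) F₀ P θ :=
    { form := hU
      fix := hfix
      rat := fun a b => by
        have := hP _ _ (fun i => (a i).2) (fun i => (b i).2)
        rwa [one_mul] at this
      two := Ring.two_ne_zero hq1
      ne_zero := hθ0
      bar := hθ
      big := by rw [Fintype.card_fin]; omega }
  exact CfsgLib.Perm.Trans.Unit.ORat.orth_subfield_maximal D (by rw [Fintype.card_fin]; omega)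

end CfsgLib.Perm.Trans.GeomSU
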