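import Cfsg.Agent.Lib.Perm.Trans.SympExtMax

/-!
# The normaliser of a self-adjoint field extension of prime degree is maximal in the symplectic group
-/

set_option autoImplicit false
set_option linter.all false

namespace CfsgLib.Perm.Trans.Symp.Ext

open scoped Matrix
open Matrix Module Cfsg.Geo CfsgLib.Perm.Asch CfsgLib.Perm.Trans CfsgLib.Perm.Trans.Symp

variable {ι : Type} [Fintype ι] [DecidableEq ι] {F : Type*} [Field F] [Fintype F]
variable {f : (ι → F) → (ι → F) → F}

/-- self-adjoint field extensions of prime degree give maximal subgroups, in degree four outside the field with two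
elements -/
theorem extField_maximal_of (hf : IsSymplecticForm f) (hn : 0 < Fintype.card ι)
    (hbig : 5 ≤ Fintype.card ι ∨ ∃ s : F, s ≠ 0 ∧ s ≠ 1) {r : ℕ} (hr : r.Prime)
    {K : Subalgebra F (Matrix ι ι F)} (hK : IsFieldSubalgebra r K) (hsa : IsSelfAdjointFor f K)
    (halt : ∀ k ∈ K, ∀ v : ι → F, f (k *ᵥ v) v = 0) :
    IsMaximalIn (isoSub f) (subalgebraNormalizer K ⊓ isoSub f) := by
  classical
  haveI : Nonempty ι := Fintype.card_pos_iff.1 hn
  haveI : Nontrivial K := ⟨⟨0, 1, fun h => zero_ne_one (congrArg Subtype.val h :)⟩⟩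
  have hfield : IsField K :=
    { exists_pair_ne := ⟨0, 1, zero_ne_one⟩
      mul_comm := fun a b => Subtype.ext (hK.comm _ a.2 _ b.2)
      mul_inv_cancel := fun {a} ha => by
        obtain ⟨y, hy, h⟩ := hK.inv _ a.2 fun h => ha (Subtype.ext h)
        exact ⟨⟨y, hy⟩, Subtype.ext h⟩ }
  letI : Field K := hfield.toField
  have hsmul : ∀ (k : K) (x : ι → F), k • x = (k : Matrix ι ι F) *ᵥ x := fun k x => rfl
  haveI : IsScalarTower F K (ι → F) := ⟨fun c k x => by
    rw [hsmul, hsmul, Subalgebra.coe_smul, Matrix.smul_mulVec]⟩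
  haveI : FiniteDimensional F K := Module.Finite.of_finite
  haveI : FiniteDimensional K (ι → F) := Module.Finite.of_finite
  have hrK : finrank F K = r := hK.finrank_eq
  have hmul : r * finrank K (ι → F) = Fintype.card ι := by
    rw [← hrK, finrank_mul_finrank F K (ι → F), Module.finrank_fintype_fun_eq_card]
  obtain ⟨x₀, hx₀⟩ : ∃ x : ι → F, x ≠ 0 := exists_ne 0
  have hpos : 0 < finrank K (ι → F) := Module.finrank_pos
  have htwo : 2 ≤ finrank K (ι → F) := by
    by_contra hlt
    obtain ⟨⟨y, hy⟩, -⟩ := hf.nondegenerate x₀ hx₀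
    obtain ⟨k, hk⟩ := (finrank_eq_one_iff_of_nonzero' (K := K) x₀ hx₀).1 (by omega) y
    rw [← hk, hsmul, halt _ k.2] at hy
    exact hy rfl
  have hdim : 5 ≤ Fintype.card ι → 3 ≤ finrank K (ι → F) ∨ 3 ≤ finrank F K := by
    intro hbig
    by_contra hcon
    push Not at hcon
    rw [hrK] at hcon
    have : r * finrank K (ι → F) ≤ 2 * 2 := Nat.mul_le_mul (by omega) (by omega)
    omega
  have norm_of : ∀ g : GL ι F, (∀ (v : ι → F) (e : K),
      (g : Matrix ι ι F) *ᵥ (e • v) ∈ Submodule.span K {(g : Matrix ι ι F) *ᵥ v}) → g ∈ subalgebraNormalizer K := by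
    intro g hl
    let φ : (ι → F) ≃ₗ[F] (ι → F) := LinearMap.GeneralLinearGroup.generalLinearEquiv F (ι → F)
      (Matrix.GeneralLinearGroup.toLin g)
    have hφ : ∀ x, φ x = (g : Matrix ι ι F) *ᵥ x := fun x => rfl
    have hn := CfsgLib.Perm.ExtField.isNorm_of_lines (E := K) htwo (g := φ) fun v e => by
      rw [hφ, hφ]; exact hl v e
    have hfwd : ∀ k : Matrix ι ι F, k ∈ K →
        (g : Matrix ι ι F) * k * ((g⁻¹ : GL ι F) : Matrix ι ι F) ∈ K := by
      intro k hk
      obtain ⟨e', he⟩ := hn ⟨k, hk⟩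
      have hmat : (g : Matrix ι ι F) * k = (e' : Matrix ι ι F) * g := by
        refine Matrix.ext_iff_mulVec.2 fun x => ?_
        rw [← Matrix.mulVec_mulVec, ← Matrix.mulVec_mulVec, ← hsmul ⟨k, hk⟩, ← hsmul e', ← hφ, ← hφ]
        exact he x
      rw [hmat, mul_assoc, Units.mul_inv, mul_one]
      exact e'.2
    intro k
    refine ⟨hfwd k, fun hk => ?_⟩
    have hinj : Function.Injective (fun k : K => (⟨_, hfwd (k : Matrix ι ι F) k.2⟩ : K)) := fun a b hab =>
      Subtype.ext (by
        have h1 := congrArg Subtype.val hab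
        exact (Units.mul_right_inj g).1 ((Units.mul_left_inj g⁻¹).1 h1))
    obtain ⟨k', hk'⟩ := (Finite.injective_iff_surjective.1 hinj) ⟨_, hk⟩
    have h1 := congrArg Subtype.val hk'
    rw [show k = (k' : Matrix ι ι F) from ((Units.mul_right_inj g).1 ((Units.mul_left_inj g⁻¹).1 h1)).symm]
    exact k'.2
  refine isMaximalIn_of_centres hf (fun hle => ?_) fun M hHM hM hnot => ?_
  · -- a transvection moving a line
    obtain ⟨u, hu⟩ : ∃ u : ι → F, u ≠ 0 := ⟨x₀, hx₀⟩
    obtain ⟨k, hk⟩ : ∃ k : K, ∀ c : F, c • (1 : K) ≠ k := by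
      by_contra hcon
      push Not at hcon
      have h1 := finrank_le_one (R := F) (1 : K) hcon
      rw [hrK] at h1
      exact absurd h1 (by have := hr.two_le; omega)
    have hku : k • u ∉ Submodule.span F ({u} : Set (ι → F)) := fun hmem => by
      obtain ⟨c, hc⟩ := Submodule.mem_span_singleton.1 hmem
      refine hk c (sub_eq_zero.1 ?_)
      have h3 : (c • (1 : K) - k) • u = 0 := by rw [sub_smul, smul_assoc, one_smul, hc, sub_self]
      exact (smul_eq_zero.1 h3).resolve_right hu
    obtain ⟨x, hx0, hx1⟩ : ∃ x, f x u = 0 ∧ f x (k • u) ≠ 0 := by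
      by_contra hcon
      push Not at hcon
      apply hku
      obtain ⟨⟨y, hy⟩, -⟩ := hf.nondegenerate u hu
      refine Submodule.mem_span_singleton.2 ⟨f y (k • u) / f y u, sub_eq_zero.1 ?_⟩
      by_contra hne
      obtain ⟨⟨z, hz⟩, -⟩ := hf.nondegenerate _ hne
      apply hz
      have h1 : f (z - (f z u / f y u) • y) u = 0 := by
        rw [sub_left hf, hf.bilinear.smul_left, div_mul_cancel₀ _ hy, sub_self]
      have h2 := hcon _ h1
      rw [sub_left hf, hf.bilinear.smul_left, sub_eq_zero] at h2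
      rw [sub_right hf, hf.bilinear.smul_right, h2]
      field_simp
      ring
    have hmem := hle (stv_iso hf u 1)
    have hk' := (hmem (k : Matrix ι ι F)).1 k.2
    have e1 : (stv hf u 1 : Matrix ι ι F) *ᵥ (k • x) = (⟨_, hk'⟩ : K) • x := by
      rw [hsmul ⟨_, hk'⟩]
      conv_rhs => rw [show x = (stv hf u 1 : Matrix ι ι F) *ᵥ x by
        rw [stv_mulVec, hx0, mul_zero, zero_smul, add_zero]]
      rw [← Matrix.mulVec_mulVec, ← Matrix.mulVec_mulVec, gl_inv_mulVec, hsmul k]
    rw [stv_mulVec, one_mul, hsmul k x, hsa _ k.2, ← hsmul k u] at e1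
    set k' : K := ⟨_, hk'⟩
    rw [← hsmul k x, ← eq_sub_iff_add_eq', ← sub_smul] at e1
    have h2 : u = ((f x (k • u))⁻¹ • (k' - k) : K) • x := by
      rw [smul_assoc, ← e1, smul_smul, inv_mul_cancel₀ hx1, one_smul]
    rw [h2, smul_smul, hsmul, hf.skew, halt _ (SetLike.coe_mem _), neg_zero] at hx1
    exact hx1 rfl
  · have S : SData K f M :=
      { form := hf
        prime := by rw [hrK]; exact hr
        two_le := htwo
        adj := fun e x y => by rw [hsmul, hsmul, hsa _ e.2]
        alt := fun e x => by rw [hsmul, halt _ e.2]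
        le := hM
        lin_le := fun g hg hlin => hHM ⟨norm_of g fun v e => by
          rw [hlin]; exact Submodule.smul_mem _ _ (Submodule.mem_span_singleton_self _), hg⟩ }
    obtain ⟨g, hg, hgn⟩ := SetLike.not_le_iff_exists.1 hnot
    obtain ⟨v, e, hve⟩ : ∃ (v : ι → F) (e : K),
        (g : Matrix ι ι F) *ᵥ (e • v) ∉ Submodule.span K {(g : Matrix ι ι F) *ᵥ v} := by
      by_contra hcon
      push Not at hcon
      exact hgn (norm_of g hcon)
    rcases hbig with hbig | ⟨s, hs0, hs1⟩
    · exact centres_of_not_lines S (hdim hbig) hg hve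
    · obtain ⟨g', hg', v', w, β, c, hv, hβ, hc, hpair, hact⟩ := exists_state S hg hve
      exact large S ⟨hg', hv, hβ, hc, hpair, hact⟩ hs0 hs1

/-- self-adjoint field extensions of prime degree give maximal subgroups -/
theorem extField_maximal (hf : IsSymplecticForm f) (hbig : 5 ≤ Fintype.card ι) {r : ℕ} (hr : r.Prime)
    {K : Subalgebra F (Matrix ι ι F)} (hK : IsFieldSubalgebra r K) (hsa : IsSelfAdjointFor f K)
    (halt : ∀ k ∈ K, ∀ v : ι → F, f (k *ᵥ v) v = 0) :
    IsMaximalIn (isoSub f) (subalgebraNormalizer K ⊓ isoSub f) :=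
  extField_maximal_of hf (by omega) (Or.inl hbig) hr hK hsa halt

end CfsgLib.Perm.Trans.Symp.Ext
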