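import Cfsg.Agent.Lib.Perm.Trans.SympOverMax

/-!
# The normaliser of a unitary overfield is maximal in the symplectic group
-/

set_option autoImplicit false
set_option linter.all false

namespace CfsgLib.Perm.Trans.Symp.Over

open scoped Matrix
open Matrix Cfsg.Geo CfsgLib.Perm.Asch CfsgLib.Perm.Trans

variable {ι : Type} [Fintype ι] [DecidableEq ι] {F : Type*} [Field F] [Fintype F]
variable {f : (ι → F) → (ι → F) → F}

theorem exists_data (hf : IsSymplecticForm f) (h2 : (2 : F) ≠ 0) (hbig : 6 ≤ Fintype.card ι)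
    {K : Subalgebra F (Matrix ι ι F)} (hK : IsFieldSubalgebra 2 K) (hac : IsAdjointClosedFor f K)
    (hnsa : ¬ IsSelfAdjointFor f K) :
    ∃ (E : Matrix ι ι F) (d : F), OData f E d ∧ E ∈ K ∧ ∀ k ∈ K, ∃ a b : F, k = a • 1 + b • E := by
  classical
  haveI : Nonempty ι := Fintype.card_pos_iff.1 (by omega)
  rw [IsSelfAdjointFor] at hnsa
  push Not at hnsa
  obtain ⟨k, hk, u, v, huv⟩ := hnsa
  obtain ⟨k', hk', hadj⟩ := hac k hk
  have uniq : ∀ A B : Matrix ι ι F, (∀ u v : ι → F, f u (A *ᵥ v) = f u (B *ᵥ v)) → A = B := fun A B h =>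
    Matrix.ext_iff_mulVec.2 fun v => by
      by_contra hne
      obtain ⟨x, hx⟩ := (hf.nondegenerate _ (sub_ne_zero.2 hne)).1
      exact hx (by rw [sub_right hf, h, sub_self])
  obtain ⟨E, hEdef⟩ : ∃ E, E = k - k' := ⟨_, rfl⟩
  have hE : E ∈ K := hEdef ▸ K.sub_mem hk hk'
  have hadj' : ∀ u v, f u (k *ᵥ v) = f (k' *ᵥ u) v := fun u v => by
    rw [hf.skew u, hadj, hf.skew v, neg_neg]
  have hskew : ∀ u v, f (E *ᵥ u) v = -f u (E *ᵥ v) := fun u v => by
    rw [hEdef, sub_mulVec, sub_mulVec, sub_left hf, sub_right hf, hadj, hadj']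
    ring
  have hE0 : ∀ c : F, E ≠ c • (1 : Matrix ι ι F) := by
    intro c hc
    rcases eq_or_ne c 0 with rfl | hc0
    · rw [zero_smul, hEdef, sub_eq_zero] at hc
      exact huv (hc ▸ hadj u v)
    · obtain ⟨x, hx⟩ : ∃ x : ι → F, x ≠ 0 := exists_ne 0
      obtain ⟨⟨y, hy⟩, -⟩ := hf.nondegenerate x hx
      have h := hskew y x
      rw [hc, smul_mulVec, smul_mulVec, one_mulVec, one_mulVec, hf.bilinear.smul_left, hf.bilinear.smul_right] at h
      exact mul_ne_zero (mul_ne_zero h2 hc0) hy (by linear_combination h)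
  have hspan : ∀ x ∈ K, ∃ a b : F, x = a • 1 + b • E := by
    have hli : LinearIndependent F ![(⟨1, K.one_mem⟩ : K), ⟨E, hE⟩] := by
      rw [LinearIndependent.pair_iff]
      intro a b hab
      have h := congrArg Subtype.val hab
      simp only [AddSubmonoidClass.coe_finsetSum, Subalgebra.coe_add, Subalgebra.coe_smul, Subalgebra.coe_zero] at h
      rcases eq_or_ne b 0 with hb | hb
      · rw [hb, zero_smul, add_zero, smul_eq_zero] at h
        exact ⟨h.resolve_right one_ne_zero, hb⟩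
      · refine absurd ?_ (hE0 (-(a / b)))
        have h' : b • E = (-a) • (1 : Matrix ι ι F) := by
          rw [neg_smul]; exact eq_neg_of_add_eq_zero_right h
        rw [neg_div', div_eq_inv_mul, ← smul_smul, ← h', inv_smul_smul₀ hb]
    intro x hx
    have htop := hli.span_eq_top_of_card_eq_finrank (by rw [Fintype.card_fin, hK.finrank_eq])
    have hm : (⟨x, hx⟩ : K) ∈ Submodule.span F (Set.range ![(⟨1, K.one_mem⟩ : K), ⟨E, hE⟩]) := htop ▸ Submodule.mem_top
    obtain ⟨c, hc⟩ := (Submodule.mem_span_range_iff_exists_fun F).1 hm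
    refine ⟨c 0, c 1, ?_⟩
    have h := congrArg Subtype.val hc
    simpa [Fin.sum_univ_two] using h.symm
  obtain ⟨a, b, hab⟩ := hspan _ (K.mul_mem hE hE)
  have hneg : ∀ u v, f u ((E * E) *ᵥ v) = f ((E * E) *ᵥ u) v := fun u v => by
    rw [← mulVec_mulVec, ← mulVec_mulVec, hskew (E *ᵥ u), hskew u, neg_neg]
  have hb : b = 0 := by
    by_contra hb
    refine hE0 0 (uniq _ _ fun u v => ?_)
    have h := hneg u v
    rw [hab, add_mulVec, add_mulVec, smul_mulVec, smul_mulVec, smul_mulVec, smul_mulVec, one_mulVec, one_mulVec,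
      hf.bilinear.add_left, hf.bilinear.add_right, hf.bilinear.smul_left, hf.bilinear.smul_left,
      hf.bilinear.smul_right, hf.bilinear.smul_right, hskew u] at h
    rw [zero_smul, zero_mulVec, zero_right hf]
    have h' : 2 * b * f u (E *ᵥ v) = 0 := by linear_combination h
    exact (mul_eq_zero.1 h').resolve_left (mul_ne_zero h2 hb)
  rw [hb, zero_smul, add_zero] at hab
  refine ⟨E, a, ⟨hf, h2, fun s hs => ?_, fun v => by rw [mulVec_mulVec, hab, smul_mulVec, one_mulVec], hskew, hbig⟩,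
    hE, hspan⟩
  have h1 : (E - s • 1) * (E + s • 1) = 0 := by
    rw [mul_add, sub_mul, sub_mul, hab, smul_mul_assoc, one_mul, mul_smul_comm, mul_one, smul_mul_assoc, one_mul,
      smul_smul, hs]
    abel
  have hm1 : E - s • 1 ∈ K := K.sub_mem hE (K.smul_mem K.one_mem s)
  rcases eq_or_ne (E - s • 1) 0 with h0 | h0
  · exact hE0 s (sub_eq_zero.1 h0)
  · obtain ⟨y, hy, hxy⟩ := hK.inv _ hm1 h0
    rw [hK.comm _ hm1 _ hy] at hxy
    have h2' := congrArg (y * ·) h1
    simp only [← mul_assoc, hxy, one_mul, mul_zero] at h2'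
    exact hE0 (-s) (by rw [neg_smul]; exact eq_neg_of_add_eq_zero_left h2')

theorem pm_of_mem {E : Matrix ι ι F} {d : F} (D : OData f E d) {K : Subalgebra F (Matrix ι ι F)} (hE : E ∈ K)
    (hspan : ∀ k ∈ K, ∃ a b : F, k = a • 1 + b • E) {g : GL ι F} (hg : g ∈ subalgebraNormalizer K) (u : ι → F) :
    ∃ a b : F, E *ᵥ ((g : Matrix ι ι F) *ᵥ u) = a • ((g : Matrix ι ι F) *ᵥ u) + b • ((g : Matrix ι ι F) *ᵥ (E *ᵥ u)) := by
  have h : ((g⁻¹ : GL ι F) : Matrix ι ι F) * E * (g : Matrix ι ι F) ∈ K := by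
    have := (inv_mem hg : g⁻¹ ∈ subalgebraNormalizer K) E
    rw [inv_inv] at this
    exact this.1 hE
  obtain ⟨a, b, hab⟩ := hspan _ h
  refine ⟨a, b, ?_⟩
  have h2 := congrArg (fun A => (g : Matrix ι ι F) *ᵥ (A *ᵥ u)) hab
  simp only [← mulVec_mulVec, gl_mulVec_inv] at h2
  rw [h2, add_mulVec, smul_mulVec, smul_mulVec, one_mulVec, mulVec_add, mulVec_smul, mulVec_smul]

theorem mem_of_pm {E : Matrix ι ι F} {d : F} (D : OData f E d) {K : Subalgebra F (Matrix ι ι F)} (hE : E ∈ K)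
    (hspan : ∀ k ∈ K, ∃ a b : F, k = a • 1 + b • E) {g : GL ι F} {b : F} (hb : b = 1 ∨ b = -1)
    (h : ∀ v, E *ᵥ ((g : Matrix ι ι F) *ᵥ v) = b • ((g : Matrix ι ι F) *ᵥ (E *ᵥ v))) : g ∈ subalgebraNormalizer K := by
  have hbb : b * b = 1 := by rcases hb with rfl | rfl <;> ring
  have e1 : (g : Matrix ι ι F) * E * ((g⁻¹ : GL ι F) : Matrix ι ι F) = b • E := Matrix.ext_iff_mulVec.2 fun v => by
    rw [← mulVec_mulVec, ← mulVec_mulVec, smul_mulVec]
    have := h (((g⁻¹ : GL ι F) : Matrix ι ι F) *ᵥ v)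
    rw [gl_mulVec_inv] at this
    rw [this, smul_smul, hbb, one_smul]
  have e2 : ((g⁻¹ : GL ι F) : Matrix ι ι F) * E * (g : Matrix ι ι F) = b • E := Matrix.ext_iff_mulVec.2 fun v => by
    rw [← mulVec_mulVec, ← mulVec_mulVec, h, mulVec_smul, gl_inv_mulVec, smul_mulVec]
  intro k
  constructor <;> intro hk <;> obtain ⟨p, r, hpr⟩ := hspan _ hk
  · rw [hpr, mul_add, add_mul, mul_smul_comm, mul_smul_comm, smul_mul_assoc, smul_mul_assoc, mul_one, gl_mul_inv, e1]
    exact K.add_mem (K.smul_mem K.one_mem _) (K.smul_mem (K.smul_mem hE _) _)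
  · have e : k = ((g⁻¹ : GL ι F) : Matrix ι ι F) * ((g : Matrix ι ι F) * k * ((g⁻¹ : GL ι F) : Matrix ι ι F)) *
        (g : Matrix ι ι F) := by
      rw [← mul_assoc, ← mul_assoc, gl_inv_mul, one_mul, mul_assoc, gl_inv_mul, mul_one]
    rw [e, hpr, mul_add, add_mul, mul_smul_comm, mul_smul_comm, smul_mul_assoc, smul_mul_assoc, mul_one, gl_inv_mul, e2]
    exact K.add_mem (K.smul_mem K.one_mem _) (K.smul_mem (K.smul_mem hE _) _)

/-- normalisers of unitary overfields are maximal -/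
theorem overfield_maximal (hf : IsSymplecticForm f) (h2 : (2 : F) ≠ 0) (hbig : 6 ≤ Fintype.card ι)
    {K : Subalgebra F (Matrix ι ι F)} (hK : IsFieldSubalgebra 2 K) (hac : IsAdjointClosedFor f K)
    (hnsa : ¬ IsSelfAdjointFor f K) : IsMaximalIn (isoSub f) (subalgebraNormalizer K ⊓ isoSub f) := by
  obtain ⟨E, d, D, hE, hspan⟩ := exists_data hf h2 hbig hK hac hnsa
  haveI : Nonempty ι := Fintype.card_pos_iff.1 (by omega)
  refine isMaximalIn_of_centres hf (fun hle => ?_) fun M hHM hM hnot => ?_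
  · obtain ⟨x₁, hx₁⟩ : ∃ x : ι → F, x ≠ 0 := exists_ne 0
    obtain ⟨v, hv, hvn, -⟩ := iso_nonperp D hx₁ hx₁
    have hv0 : v ≠ 0 := fun h => hvn (h ▸ Submodule.zero_mem _)
    obtain ⟨⟨x, hx⟩, -⟩ := hf.nondegenerate v hv0
    have hmem := hle (stv_iso hf v 1)
    obtain ⟨b, hb, hpm⟩ := eq_pm D (stv hf v 1) fun u _ => pm_of_mem D hE hspan hmem u
    have hEv : f (E *ᵥ v) v = 0 := hv
    have e1 := hpm v
    simp only [stv_mulVec, hf.alternating, hEv, mul_zero, zero_smul, add_zero] at e1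
    have hb1 : b = 1 := by
      by_contra hne
      have h3 : (1 - b) • (E *ᵥ v) = 0 := by rw [sub_smul, one_smul, ← e1, sub_self]
      exact E_ne D hv0 ((smul_eq_zero.1 h3).resolve_left (sub_ne_zero.2 (Ne.symm hne)))
    have e2 := hpm x
    simp only [stv_mulVec, hb1, one_smul, one_mul, mulVec_add, mulVec_smul, add_right_inj] at e2
    exact combo_ne D hv0 (a := -f (E *ᵥ x) v) (b := f x v) (fun h => hx h.2)
      (by rw [neg_smul, e2, neg_add_cancel])
  · by_contra hc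
    obtain ⟨g, hg, hgn⟩ := SetLike.not_le_iff_exists.1 hnot
    refine hgn ?_
    obtain ⟨b, hb, hpm⟩ := eq_pm D g fun u hu => by
      by_contra hno
      push Not at hno
      exact hc (all_centres D hM (fun k hk hkc => hHM ⟨mem_of_pm D hE hspan (Or.inl rfl)
        (fun v => by rw [one_smul]; exact hkc v), hk⟩) hg hu hno)
    exact mem_of_pm D hE hspan hb hpm

end CfsgLib.Perm.Trans.Symp.Over
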