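import Cfsg.Agent.Lib.Perm.Trans.SympSubf

/-!
# Stabilisers of pairs of complementary totally singular subspaces in symplectic groups
-/

set_option autoImplicit false
set_option linter.all false

namespace CfsgLib.Perm.Trans.Symp

open scoped Matrix
open Matrix Cfsg.Geo CfsgLib.Perm.Asch CfsgLib.Perm.Trans

variable {ι : Type} [Fintype ι] [DecidableEq ι] {F : Type*} [Field F]
variable {f : (ι → F) → (ι → F) → F}

/-- two complementary totally singular subspaces of dimension at least three -/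
structure Polar (f : (ι → F) → (ι → F) → F) (X Y : Submodule F (ι → F)) : Prop where
  singX : IsTotallySingularFor f X
  singY : IsTotallySingularFor f Y
  sup : X ⊔ Y = ⊤
  inf : X ⊓ Y = ⊥
  dimX : 3 ≤ Module.finrank F X
  dimY : 3 ≤ Module.finrank F Y
  same : Module.finrank F X = Module.finrank F Y

variable {X Y : Submodule F (ι → F)} [Fintype F]

theorem Polar.symm (P : Polar f X Y) : Polar f Y X :=
  ⟨P.singY, P.singX, by rw [sup_comm, P.sup], by rw [inf_comm, P.inf], P.dimY, P.dimX, P.same.symm⟩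

theorem Polar.split (P : Polar f X Y) (v : ι → F) : ∃ x ∈ X, ∃ y ∈ Y, v = x + y := by
  obtain ⟨x, hx, y, hy, h⟩ := Submodule.mem_sup.1 (P.sup.symm ▸ Submodule.mem_top : v ∈ X ⊔ Y)
  exact ⟨x, hx, y, hy, h.symm⟩

theorem Polar.eq_zero (P : Polar f X Y) {v : ι → F} (hx : v ∈ X) (hy : v ∈ Y) : v = 0 :=
  (Submodule.mem_bot F).1 (P.inf ▸ ⟨hx, hy⟩)

variable (hf : IsSymplecticForm f) (P : Polar f X Y)
include hf P

theorem polar_pair {x : ι → F} (hx : x ∈ X) (hx0 : x ≠ 0) : ∃ y ∈ Y, f x y ≠ 0 := by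
  obtain ⟨v, hv⟩ := (hf.nondegenerate x hx0).2
  obtain ⟨a, ha, b, hb, rfl⟩ := P.split v
  rw [hf.bilinear.add_right, P.singX x hx a ha, zero_add] at hv
  exact ⟨b, hb, hv⟩

theorem polar_sep {x u : ι → F} (hx : x ∈ X) (hu : u ∈ X) (h : u ∉ Submodule.span F ({x} : Set (ι → F))) :
    ∃ y ∈ Y, f u y = 1 ∧ f x y = 0 := by
  obtain ⟨φ, hφu, hφ⟩ := exists_dual _ h
  obtain ⟨p, hp⟩ := exists_rep hf φ
  obtain ⟨a, ha, b, hb, rfl⟩ := P.split p
  refine ⟨b, hb, ?_, ?_⟩
  · have h1 := hp u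
    rw [hφu, hf.bilinear.add_right, P.singX u hu a ha, zero_add] at h1
    exact h1
  · have h1 := hp x
    rw [hφ x (Submodule.mem_span_singleton_self x), hf.bilinear.add_right, P.singX x hx a ha, zero_add] at h1
    exact h1

theorem polar_orth (x : ι → F) : ∃ y ∈ Y, y ≠ 0 ∧ f x y = 0 := by
  have h1 := LinearMap.finrank_range_add_finrank_ker ((sfun hf x).comp Y.subtype)
  have h2 : Module.finrank F (LinearMap.range ((sfun hf x).comp Y.subtype)) ≤ 1 :=
    (Submodule.finrank_le _).trans (Module.finrank_self F).le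
  obtain ⟨y, hy, hy0⟩ := Submodule.exists_mem_ne_zero_of_ne_bot
    (p := LinearMap.ker ((sfun hf x).comp Y.subtype)) (fun h => by
      have := P.dimY
      rw [h, finrank_bot] at h1
      omega)
  exact ⟨y, y.2, fun h => hy0 (Subtype.ext h), swap_zero hf (LinearMap.mem_ker.1 hy)⟩

omit P in
/-- the vectors of a subspace fixed by a shear -/
theorem finrank_fixed (W : Submodule F (ι → F)) (a b : ι → F) :
    Module.finrank F W ≤ Module.finrank F ↥(W ⊓ LinearMap.ker (sfun hf a) ⊓ LinearMap.ker (sfun hf b)) + 2 := by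
  have key : ∀ (W : Submodule F (ι → F)) (a : ι → F),
      Module.finrank F W ≤ Module.finrank F ↥(W ⊓ LinearMap.ker (sfun hf a)) + 1 := by
    intro W a
    have h1 := LinearMap.finrank_range_add_finrank_ker ((sfun hf a).comp W.subtype)
    have h2 : Module.finrank F (LinearMap.range ((sfun hf a).comp W.subtype)) ≤ 1 :=
      (Submodule.finrank_le _).trans (by rw [Module.finrank_self])
    have h3 : Module.finrank F (LinearMap.ker ((sfun hf a).comp W.subtype)) =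
        Module.finrank F ↥(W ⊓ LinearMap.ker (sfun hf a)) := by
      rw [LinearMap.ker_comp, ← Submodule.map_comap_subtype]
      exact ((Submodule.equivMapOfInjective _ W.injective_subtype _).finrank_eq)
    omega
  have h1 := key W a
  have h2 := key (W ⊓ LinearMap.ker (sfun hf a)) b
  omega

/-- a shear stabilising `X` has one of its vectors in `X` -/
theorem shear_stab (h2 : (2 : F) ≠ 0) {a b : ι → F} (hab : f a b = 0)
    (h : ∀ x ∈ X, (sh hf a b 1 : Matrix ι ι F) *ᵥ x ∈ X) : a ∈ X ∨ b ∈ X := by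
  obtain ⟨a₁, ha₁, a₂, ha₂, rfl⟩ := P.split a
  obtain ⟨b₁, hb₁, b₂, hb₂, rfl⟩ := P.split b
  by_cases ha0 : a₂ = 0
  · exact Or.inl (by rw [ha0, add_zero]; exact ha₁)
  by_cases hb0 : b₂ = 0
  · exact Or.inr (by rw [hb0, add_zero]; exact hb₁)
  exfalso
  obtain ⟨z, hz, hza, hzb⟩ : ∃ z ∈ X, f z a₂ ≠ 0 ∧ f z b₂ ≠ 0 := by
    obtain ⟨z₁, hz₁, h₁⟩ := polar_pair hf P.symm ha₂ ha0
    obtain ⟨z₂, hz₂, h₂⟩ := polar_pair hf P.symm hb₂ hb0
    by_cases h3 : f b₂ z₁ = 0
    · by_cases h4 : f a₂ z₂ = 0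
      · refine ⟨z₁ + z₂, X.add_mem hz₁ hz₂, ?_, ?_⟩
        · rw [hf.bilinear.add_left, swap_zero hf h4, add_zero]
          exact swap_ne hf h₁
        · rw [hf.bilinear.add_left, swap_zero hf h3, zero_add]
          exact swap_ne hf h₂
      · exact ⟨z₂, hz₂, swap_ne hf h4, swap_ne hf h₂⟩
    · exact ⟨z₁, hz₁, swap_ne hf h₁, swap_ne hf h3⟩
  have h1 := h z hz
  rw [sh_mulVec hf hab] at h1
  simp only [hf.bilinear.add_right, P.singX z hz a₁ ha₁, P.singX z hz b₁ hb₁, zero_add, one_mul, smul_add,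
    add_assoc] at h1
  have h3 : f z a₂ • b₂ + f z b₂ • a₂ = 0 := by
    refine P.eq_zero ?_ (Y.add_mem (Y.smul_mem _ hb₂) (Y.smul_mem _ ha₂))
    have h4 := X.sub_mem h1 (X.add_mem hz (X.add_mem (X.smul_mem (f z a₂) hb₁) (X.smul_mem (f z b₂) ha₁)))
    convert h4 using 1
    abel
  have h4 := congrArg (f z) h3
  rw [hf.bilinear.add_right, hf.bilinear.smul_right, hf.bilinear.smul_right, zero_right hf] at h4
  exact mul_ne_zero (mul_ne_zero h2 hza) hzb (by linear_combination h4)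

variable {M : Subgroup (GL ι F)} (hM : M ≤ isoSub f)
variable (hXY : ∀ a ∈ X, ∀ b ∈ Y, f a b = 0 → ∀ s, sh hf a b s ∈ M)
include hM hXY

omit hM hXY in
/-- a vector pairing with `u` and killing a subspace of `X` not containing it -/
theorem polar_sep_sub {W : Submodule F (ι → F)} (hW : W ≤ X) {u : ι → F} (hu : u ∈ X) (h : u ∉ W) :
    ∃ y ∈ Y, f u y = 1 ∧ ∀ x ∈ W, f x y = 0 := by
  obtain ⟨φ, hφu, hφ⟩ := exists_dual _ h
  obtain ⟨p, hp⟩ := exists_rep hf φ
  obtain ⟨a, ha, b, hb, rfl⟩ := P.split p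
  refine ⟨b, hb, ?_, fun x hx => ?_⟩
  · have h1 := hp u
    rw [hφu, hf.bilinear.add_right, P.singX u hu a ha, zero_add] at h1
    exact h1
  · have h1 := hp x
    rw [hφ x hx, hf.bilinear.add_right, P.singX x (hW hx) a ha, zero_add] at h1
    exact h1

/-- an element fixing a vector of `X` moves its polar hyperplane in `Y` along it -/
theorem side_step (h2 : (2 : F) ≠ 0) {k : GL ι F} (hk : k ∈ M) {x : ι → F} (hx : x ∈ X) (hx0 : x ≠ 0)
    (hfix : (k : Matrix ι ι F) *ᵥ x = x) (hno : ∀ a ∈ X, a ≠ 0 → a ∉ centres hf M) {y : ι → F} (hy : y ∈ Y)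
    (hxy : f x y = 0) : ∃ s : F, (k : Matrix ι ι F) *ᵥ y - s • x ∈ Y := by
  obtain ⟨c₁, hc₁, c₂, hc₂, hc⟩ := P.split ((k : Matrix ι ι F) *ᵥ y)
  by_cases hdep : c₁ ∈ Submodule.span F ({x} : Set (ι → F))
  · obtain ⟨s, hs⟩ := Submodule.mem_span_singleton.1 hdep
    exact ⟨s, by rw [hc, ← hs, add_sub_cancel_left]; exact hc₂⟩
  exfalso
  obtain ⟨b, hb, hcb, hxb⟩ := polar_sep hf P hx hc₁ hdep
  obtain ⟨c, hcdef⟩ : ∃ c, c = (k : Matrix ι ι F) *ᵥ y := ⟨_, rfl⟩
  rw [← hcdef] at hc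
  have hS : sh hf x c 1 ∈ M := by
    have h1 := M.mul_mem (M.mul_mem hk (hXY x hx y hy hxy 1)) (M.inv_mem hk)
    rwa [sh_conj hf (hM hk), hfix, ← hcdef] at h1
  have hxc : f x c = 0 := by
    rw [hcdef]
    nth_rewrite 1 [← hfix]
    rw [mem_isoSub.1 (hM hk), hxy]
  have hcb' : f c b = 1 := by
    rw [hc, hf.bilinear.add_left, hcb, P.singY c₂ hc₂ b hb, add_zero]
  refine hno x hx hx0 fun t => ?_
  obtain ⟨s, hs⟩ : ∃ s, s = t / 2 := ⟨_, rfl⟩
  have h1 := M.mul_mem (M.mul_mem (hXY x hx b hb hxb s) hS) (M.inv_mem (hXY x hx b hb hxb s))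
  rw [sh_conj hf (hM (hXY x hx b hb hxb s)), sh_mulVec hf hxb, sh_mulVec hf hxb, hf.alternating, hxb,
    swap_zero hf hxc, hcb'] at h1
  simp only [mul_zero, zero_smul, add_zero, mul_one] at h1
  have h4 := M.mul_mem (M.inv_mem hS) h1
  have heq : sh hf x c 1 * stv hf x t = sh hf x (c + s • x) 1 := gl_ext_vec fun z => by
    rw [gl_mul_mulVec, sh_mulVec hf hxc, stv_mulVec, sh_mulVec hf (by
      rw [hf.bilinear.add_right, hf.bilinear.smul_right, hxc, hf.alternating, mul_zero, add_zero])]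
    simp only [hf.bilinear.add_left, hf.bilinear.add_right, hf.bilinear.smul_left, hf.bilinear.smul_right,
      hf.alternating, hxc, mul_zero, add_zero, hs]
    match_scalars <;> field_simp
    ring
  rwa [← heq, inv_mul_cancel_left] at h4

/-- if a shear has both vectors off `Y`, their components in `Y` are independent -/
theorem shear_indep (h2 : (2 : F) ≠ 0) (hno : ∀ a ∈ X, a ≠ 0 → a ∉ centres hf M) {a₁ a₂ b₁ b₂ : ι → F}
    (ha₁ : a₁ ∈ X) (ha₂ : a₂ ∈ Y) (hb₁ : b₁ ∈ X) (hb₂ : b₂ ∈ Y) (hab : f (a₁ + a₂) (b₁ + b₂) = 0)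
    (hk : sh hf (a₁ + a₂) (b₁ + b₂) 1 ∈ M) (ha0 : a₁ ≠ 0) (hb0 : b₁ ≠ 0) :
    a₂ ∉ Submodule.span F ({b₂} : Set (ι → F)) := by
  intro hdep
  obtain ⟨t, ht⟩ := Submodule.mem_span_singleton.1 hdep
  have hline : ∀ x ∈ X, x ≠ 0 → f x b₂ = 0 →
      a₁ ∈ Submodule.span F ({x} : Set (ι → F)) ∨ b₁ ∈ Submodule.span F ({x} : Set (ι → F)) := by
    intro x hx hx0 hxb
    have hfix : (sh hf (a₁ + a₂) (b₁ + b₂) 1 : Matrix ι ι F) *ᵥ x = x := by
      rw [sh_mulVec hf hab, hf.bilinear.add_right, hf.bilinear.add_right, P.singX x hx a₁ ha₁, P.singX x hx b₁ hb₁,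
        ← ht, hf.bilinear.smul_right, hxb]
      simp
    by_contra hcon
    push Not at hcon
    obtain ⟨z₁, hz₁, h11, h12⟩ := polar_sep hf P hx ha₁ hcon.1
    obtain ⟨z₂, hz₂, h21, h22⟩ := polar_sep hf P hx hb₁ hcon.2
    obtain ⟨z, hz, hxz, hza, hzb⟩ : ∃ z ∈ Y, f x z = 0 ∧ f z a₁ ≠ 0 ∧ f z b₁ ≠ 0 := by
      have e1 : f z₁ a₁ ≠ 0 := swap_ne hf (by rw [h11]; exact one_ne_zero)
      have e2 : f z₂ b₁ ≠ 0 := swap_ne hf (by rw [h21]; exact one_ne_zero)
      by_cases h3 : f z₁ b₁ = 0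
      · by_cases h4 : f z₂ a₁ = 0
        · refine ⟨z₁ + z₂, Y.add_mem hz₁ hz₂, by rw [hf.bilinear.add_right, h12, h22, add_zero], ?_, ?_⟩
          · rwa [hf.bilinear.add_left, h4, add_zero]
          · rwa [hf.bilinear.add_left, h3, zero_add]
        · exact ⟨z₂, hz₂, h22, h4, e2⟩
      · exact ⟨z₁, hz₁, h12, e1, h3⟩
    obtain ⟨s, hs⟩ := side_step hf P hM hXY h2 hk hx hx0 hfix hno hz hxz
    have h5 := P.singY z hz _ hs
    rw [sh_mulVec hf hab, sub_right hf, hf.bilinear.add_right, hf.bilinear.add_right, hf.bilinear.smul_right,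
      hf.bilinear.smul_right, hf.bilinear.smul_right, hf.alternating, swap_zero hf hxz, hf.bilinear.add_right,
      hf.bilinear.add_right, P.singY z hz a₂ ha₂, P.singY z hz b₂ hb₂, add_zero, add_zero] at h5
    exact mul_ne_zero (mul_ne_zero h2 hza) hzb (by linear_combination h5)
  -- two independent vectors of `X` orthogonal to `b₂`
  obtain ⟨K, hK⟩ : ∃ K, K = X ⊓ LinearMap.ker (sfun hf b₂) ⊓ LinearMap.ker (sfun hf (0 : ι → F)) := ⟨_, rfl⟩
  have hKd : Module.finrank F X ≤ Module.finrank F K + 1 := by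
    have h0 : LinearMap.ker (sfun hf (0 : ι → F)) = ⊤ := eq_top_iff.2 fun z _ => zero_right hf z
    rw [hK, h0, inf_top_eq]
    have h1 := LinearMap.finrank_range_add_finrank_ker ((sfun hf b₂).comp X.subtype)
    have h3 : Module.finrank F (LinearMap.range ((sfun hf b₂).comp X.subtype)) ≤ 1 :=
      (Submodule.finrank_le _).trans (by rw [Module.finrank_self])
    have h4 : Module.finrank F (LinearMap.ker ((sfun hf b₂).comp X.subtype)) =
        Module.finrank F ↥(X ⊓ LinearMap.ker (sfun hf b₂)) := by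
      rw [LinearMap.ker_comp, ← Submodule.map_comap_subtype]
      exact ((Submodule.equivMapOfInjective _ X.injective_subtype _).finrank_eq)
    omega
  have hKs : K ≤ Submodule.span F {a₁} ∨ K ≤ Submodule.span F {b₁} := by
    have hmem : ∀ x ∈ K, x ∈ Submodule.span F ({a₁} : Set (ι → F)) ∨ x ∈ Submodule.span F ({b₁} : Set (ι → F)) := by
      intro x hx
      rcases eq_or_ne x 0 with rfl | hx0
      · exact Or.inl (zero_mem _)
      rw [hK] at hx
      rcases hline x hx.1.1 hx0 (LinearMap.mem_ker.1 hx.1.2) with h | h <;>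
        obtain ⟨u, hu⟩ := Submodule.mem_span_singleton.1 h
      · refine Or.inl (Submodule.mem_span_singleton.2 ⟨u⁻¹, ?_⟩)
        rw [← hu, smul_smul, inv_mul_cancel₀ (fun h => ha0 (by rw [← hu, h, zero_smul])), one_smul]
      · refine Or.inr (Submodule.mem_span_singleton.2 ⟨u⁻¹, ?_⟩)
        rw [← hu, smul_smul, inv_mul_cancel₀ (fun h => hb0 (by rw [← hu, h, zero_smul])), one_smul]
    by_contra hn
    push Not at hn
    obtain ⟨⟨s₁, hs₁, h₁⟩, s₂, hs₂, h₂⟩ :=
      SetLike.not_le_iff_exists.1 hn.1, SetLike.not_le_iff_exists.1 hn.2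
    have h₁' := (hmem s₁ hs₁).resolve_left h₁
    have h₂' := (hmem s₂ hs₂).resolve_right h₂
    rcases hmem _ (K.add_mem hs₁ hs₂) with h | h
    · exact h₁ ((Submodule.add_mem_iff_left _ h₂').1 h)
    · exact h₂ ((Submodule.add_mem_iff_right _ h₁').1 h)
  have := P.dimX
  rcases hKs with h | h <;> have h6 := Submodule.finrank_mono h
  · rw [finrank_span_singleton ha0] at h6; omega
  · rw [finrank_span_singleton hb0] at h6; omega

omit P hXY in
/-- two shears through `b` give a centre -/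
theorem move_centre (h2 : (2 : F) ≠ 0) {a b c d : ι → F} (hab : f a b = 0) (hk : sh hf a b 1 ∈ M)
    (hcd : f c d = 0) (hh : ∀ s, sh hf c d s ∈ M) (hbc : f b c = 0) (hbd : f b d = 0) (hac : f a c ≠ 0)
    (had : f a d ≠ 0) : b ∈ centres hf M := by
  intro t
  obtain ⟨s, hs⟩ : ∃ s, s = t / (4 * (f a c * f a d)) := ⟨_, rfl⟩
  obtain ⟨a', ha'⟩ : ∃ a', a' = a + (s * f a c) • d + (s * f a d) • c := ⟨_, rfl⟩
  have hk' : sh hf a' b 1 ∈ M := by
    have h1 := sh_conj_mem hf hM (hh s) hk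
    rwa [sh_mulVec hf hcd, sh_mulVec hf hcd, hbc, hbd, ← ha', mul_zero, zero_smul, zero_smul, add_zero,
      add_zero] at h1
  have hab' : f a' b = 0 := by
    simp [ha', hf.bilinear.add_left, hf.bilinear.smul_left, hab, swap_zero hf hbc, swap_zero hf hbd]
  have htau : t = 2 * f a a' := by
    simp only [ha', hs, hf.bilinear.add_right, hf.bilinear.smul_right, hf.alternating]
    have h4 : (4 : F) ≠ 0 := by rw [show (4 : F) = 2 * 2 by norm_num]; exact mul_ne_zero h2 h2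
    field_simp
    ring
  have heq : sh hf a' b 1 * sh hf a b 1 = sh hf a b 1 * sh hf a' b 1 * stv hf b t := gl_ext_vec fun z => by
    simp only [gl_mul_mulVec, sh_mulVec hf hab, sh_mulVec hf hab', stv_mulVec, hf.bilinear.add_left,
      hf.bilinear.smul_left, hf.alternating, swap_zero hf hab, swap_zero hf hab', hab, hab', hf.skew a' a, htau]
    match_scalars <;> ring
  have h := M.mul_mem (M.inv_mem (M.mul_mem hk hk')) (M.mul_mem hk' hk)
  rwa [heq, inv_mul_cancel_left] at h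

/-- a centre outside both subspaces gives one inside -/
theorem mixed_centre (h2 : (2 : F) ≠ 0) {b₁ b₂ : ι → F} (hb₁ : b₁ ∈ X) (hb₂ : b₂ ∈ Y) (h1 : b₁ ≠ 0) (h3 : b₂ ≠ 0)
    (hb : b₁ + b₂ ∈ centres hf M) : ∃ y ∈ Y, y ≠ 0 ∧ y ∈ centres hf M := by
  have hsing := P.singX
  -- an orthogonal pair
  obtain ⟨c, hc, hbc, hcb⟩ : ∃ c ∈ X, f b₂ c ≠ 0 ∧ b₁ ∉ Submodule.span F ({c} : Set (ι → F)) := by
    obtain ⟨c₀, hc₀, hbc₀⟩ := polar_pair hf P.symm hb₂ h3
    by_cases hdep : b₁ ∈ Submodule.span F ({c₀} : Set (ι → F))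
    · obtain ⟨e, he, he0⟩ : ∃ e ∈ X, e ∉ Submodule.span F ({c₀} : Set (ι → F)) := by
        by_contra hcon
        push Not at hcon
        have h4 := Submodule.finrank_mono (show X ≤ Submodule.span F {c₀} from fun x hx => hcon x hx)
        have h5 := finrank_span_singleton (K := F) (show c₀ ≠ 0 from fun h => hbc₀ (by rw [h, zero_right hf]))
        have := P.dimX
        omega
      have hout : ∀ e ∉ Submodule.span F ({c₀} : Set (ι → F)), b₁ ∉ Submodule.span F ({e} : Set (ι → F)) := by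
        intro e he0 hm
        obtain ⟨u, hu⟩ := Submodule.mem_span_singleton.1 hm
        obtain ⟨v, hv⟩ := Submodule.mem_span_singleton.1 hdep
        refine he0 (Submodule.mem_span_singleton.2 ⟨u⁻¹ * v, ?_⟩)
        rw [mul_smul, hv, ← hu, smul_smul, inv_mul_cancel₀ (fun h => h1 (by rw [← hu, h, zero_smul])), one_smul]
      by_cases hbe : f b₂ e = 0
      · refine ⟨c₀ + e, X.add_mem hc₀ he, by rwa [hf.bilinear.add_right, hbe, add_zero], hout _ fun hm => he0 ?_⟩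
        exact (Submodule.add_mem_iff_right _ (Submodule.mem_span_singleton_self c₀)).1 hm
      · exact ⟨e, he, hbe, hout e he0⟩
    · exact ⟨c₀, hc₀, hbc₀, hdep⟩
  obtain ⟨d, hd, hbd, hcd⟩ := polar_sep hf P hc hb₁ hcb
  obtain ⟨x, y, hx, hy, hx0, hy0, hxy, hp⟩ : ∃ x y, x ∈ X ∧ y ∈ Y ∧ x ≠ 0 ∧ y ≠ 0 ∧ f x y = 0 ∧
      x + y ∈ centres hf M := by
    refine ⟨c, f b₂ c • d, hc, Y.smul_mem _ hd, fun h => hbc (by rw [h, zero_right hf]),
      smul_ne_zero hbc fun h => by rw [h, zero_right hf] at hbd; exact zero_ne_one hbd,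
      by rw [hf.bilinear.smul_right, hcd, mul_zero], ?_⟩
    have h4 := centres_conj hf hM (hXY c hc d hd hcd 1) hb
    have ec : f (b₁ + b₂) c = f b₂ c := by rw [hf.bilinear.add_left, hsing b₁ hb₁ c hc, zero_add]
    have ed : f (b₁ + b₂) d = 1 := by rw [hf.bilinear.add_left, hbd, P.singY b₂ hb₂ d hd, add_zero]
    rw [sh_mulVec hf hcd, ec, ed] at h4
    have h5 := centres_line hf hM h4 hb (by
      rw [hf.bilinear.add_left, hf.bilinear.add_left, hf.alternating, hf.bilinear.smul_left, hf.bilinear.smul_left,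
        hf.skew d, hf.skew c, ec, ed]
      intro h
      exact mul_ne_zero h2 hbc (by linear_combination -h)) (-1)
    convert h5 using 1
    module
  -- a second one
  obtain ⟨c', hc', hyc⟩ : ∃ c' ∈ X, f y c' = 1 := by
    obtain ⟨c₀, hc₀, h⟩ := polar_pair hf P.symm hy hy0
    exact ⟨(f y c₀)⁻¹ • c₀, X.smul_mem _ hc₀, by rw [hf.bilinear.smul_right, inv_mul_cancel₀ h]⟩
  obtain ⟨d₀, hd₀, hxd, hcd₀⟩ := polar_sep hf P hc' hx fun hm => by
    obtain ⟨u, hu⟩ := Submodule.mem_span_singleton.1 hm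
    refine hx0 ?_
    have h4 := hxy
    rw [← hu, hf.bilinear.smul_left, hf.skew, hyc, mul_eq_zero] at h4
    rw [← hu, h4.resolve_right (neg_ne_zero.2 one_ne_zero), zero_smul]
  have ec : f (x + y) c' = 1 := by rw [hf.bilinear.add_left, hsing x hx c' hc', hyc, zero_add]
  have ed : f (x + y) d₀ = 1 := by rw [hf.bilinear.add_left, hxd, P.singY y hy d₀ hd₀, add_zero]
  have hq : c' + d₀ ∈ centres hf M := by
    have h4 := centres_conj hf hM (hXY c' hc' d₀ hd₀ hcd₀ 1) hp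
    rw [sh_mulVec hf hcd₀, ec, ed] at h4
    have h5 := centres_line hf hM h4 hp (by
      rw [hf.bilinear.add_left, hf.bilinear.add_left, hf.alternating, hf.bilinear.smul_left, hf.bilinear.smul_left,
        hf.skew d₀, hf.skew c', ec, ed]
      intro h
      exact h2 (by linear_combination -h)) (-1)
    convert h5 using 1
    module
  obtain ⟨n, hn, hn0⟩ := Submodule.exists_mem_ne_zero_of_ne_bot
    (p := X ⊓ LinearMap.ker (sfun hf d₀) ⊓ LinearMap.ker (sfun hf y)) (fun h => by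
      have h4 := finrank_fixed hf X d₀ y
      rw [h, finrank_bot] at h4
      have := P.dimX
      omega)
  have hnd : f n d₀ = 0 := LinearMap.mem_ker.1 hn.1.2
  have hny : f n y = 0 := LinearMap.mem_ker.1 hn.2
  obtain ⟨d₁, hd₁, hcd₁, hc₁d₁⟩ := polar_sep hf P (X.add_mem hc' hn.1.1) hc' fun hm => by
    obtain ⟨u, hu⟩ := Submodule.mem_span_singleton.1 hm
    have h4 := congrArg (f y) hu
    rw [hf.bilinear.smul_right, hf.bilinear.add_right, hyc, swap_zero hf hny, add_zero, mul_one] at h4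
    rw [h4, one_smul, add_eq_left] at hu
    exact hn0 hu
  have hq' : d₀ + -n ∈ centres hf M := by
    have h4 := centres_conj hf hM (hXY _ (X.add_mem hc' hn.1.1) d₁ hd₁ hc₁d₁ (-1)) hq
    rw [sh_mulVec hf hc₁d₁, hf.bilinear.add_left, hf.bilinear.add_left,
      hsing c' hc' _ (X.add_mem hc' hn.1.1), hf.bilinear.add_right, swap_zero hf hcd₀, swap_zero hf hnd, hcd₁,
      P.singY d₀ hd₀ d₁ hd₁] at h4
    convert h4 using 1
    module
  have hr : x + y + (d₀ + -n) ∈ centres hf M := by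
    have h4 := centres_line hf hM hp hq' (by
      rw [hf.bilinear.add_left, hf.bilinear.add_right, hf.bilinear.add_right, hxd, neg_right hf, neg_right hf,
        hsing x hx n hn.1.1, P.singY y hy d₀ hd₀, swap_zero hf hny]
      simp) 1
    rwa [one_smul] at h4
  have hr' : x + y + d₀ ∈ centres hf M := by
    have hnd' : f (-n) (-d₀) = 0 := by rw [neg_left hf, neg_right hf, hnd, neg_zero, neg_zero]
    have h4 := centres_conj hf hM (hXY _ (X.neg_mem hn.1.1) _ (Y.neg_mem hd₀) hnd' 1) hr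
    have e1 : f (x + y + (d₀ + -n)) (-n) = 0 := by
      simp [hf.bilinear.add_left, neg_left hf, neg_right hf, hsing x hx n hn.1.1, swap_zero hf hny, swap_zero hf hnd,
        hf.alternating]
    have e2 : f (x + y + (d₀ + -n)) (-d₀) = -1 := by
      simp [hf.bilinear.add_left, neg_left hf, neg_right hf, hxd, P.singY y hy d₀ hd₀, hnd, hf.alternating]
    rw [sh_mulVec hf hnd', e1, e2] at h4
    convert h4 using 1
    module
  refine ⟨d₀, hd₀, fun h => ?_, ?_⟩
  · rw [h, zero_right hf] at hxd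
    exact zero_ne_one hxd
  · have h4 := centres_line hf hM hr' hp (by
      rw [hf.bilinear.add_left, hf.alternating, zero_add, hf.skew, ed]
      exact neg_ne_zero.2 one_ne_zero) (-1)
    convert h4 using 1
    module

/-- a shear in an overgroup without centres in either subspace stabilises `X` -/
theorem shear_side (h2 : (2 : F) ≠ 0) (hno : ∀ a ∈ X, a ≠ 0 → a ∉ centres hf M)
    (hnoY : ∀ a ∈ Y, a ≠ 0 → a ∉ centres hf M) {a b : ι → F} (hab : f a b = 0) (hk : sh hf a b 1 ∈ M) :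
    ∀ x ∈ X, (sh hf a b 1 : Matrix ι ι F) *ᵥ x ∈ X := by
  have hYX : ∀ a ∈ Y, ∀ b ∈ X, f a b = 0 → ∀ s, sh hf a b s ∈ M := fun a ha b hb hab s => by
    rw [show sh hf a b s = sh hf b a s from gl_ext_vec fun z => by
      rw [sh_mulVec hf hab, sh_mulVec hf (swap_zero hf hab)]
      abel]
    exact hXY b hb a ha (swap_zero hf hab) s
  have hswap : sh hf b a 1 ∈ M := by
    rwa [show sh hf b a 1 = sh hf a b 1 from gl_ext_vec fun z => by
      rw [sh_mulVec hf hab, sh_mulVec hf (swap_zero hf hab)]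
      abel]
  obtain ⟨a₁, ha₁, a₂, ha₂, rfl⟩ := P.split a
  obtain ⟨b₁, hb₁, b₂, hb₂, rfl⟩ := P.split b
  intro x hx
  rw [sh_mulVec hf hab, hf.bilinear.add_right, hf.bilinear.add_right, P.singX x hx a₁ ha₁, P.singX x hx b₁ hb₁,
    zero_add, zero_add, one_mul, one_mul]
  by_cases ha0 : a₂ = 0
  · rw [ha0, zero_right hf, zero_smul, add_zero, add_zero]
    exact X.add_mem hx (X.smul_mem _ ha₁)
  by_cases hb0 : b₂ = 0
  · rw [hb0, zero_right hf, zero_smul, add_zero, add_zero]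
    exact X.add_mem hx (X.smul_mem _ hb₁)
  exfalso
  have hab' : f (a₂ + a₁) (b₂ + b₁) = 0 := by rw [add_comm a₂, add_comm b₂, hab]
  have i1 : a₁ ∉ Submodule.span F ({b₁} : Set (ι → F)) :=
    shear_indep hf P.symm hM hYX h2 hnoY ha₂ ha₁ hb₂ hb₁ hab' (by rwa [add_comm a₂, add_comm b₂]) ha0 hb0
  have i2 : b₁ ∉ Submodule.span F ({a₁} : Set (ι → F)) :=
    shear_indep hf P.symm hM hYX h2 hnoY hb₂ hb₁ ha₂ ha₁ (swap_zero hf hab') (by rwa [add_comm a₂, add_comm b₂]) hb0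
      ha0
  have ha10 : a₁ ≠ 0 := fun h => i1 (by rw [h]; exact zero_mem _)
  have hb10 : b₁ ≠ 0 := fun h => i2 (by rw [h]; exact zero_mem _)
  have j1 : a₂ ∉ Submodule.span F ({b₂} : Set (ι → F)) :=
    shear_indep hf P hM hXY h2 hno ha₁ ha₂ hb₁ hb₂ hab hk ha10 hb10
  have j2 : b₂ ∉ Submodule.span F ({a₂} : Set (ι → F)) :=
    shear_indep hf P hM hXY h2 hno hb₁ hb₂ ha₁ ha₂ (swap_zero hf hab) hswap hb10 ha10
  -- a shear fixing one vector and moving the other
  have fin : ∀ a₁ a₂ b₁ b₂ c, a₁ ∈ X → a₂ ∈ Y → b₁ ∈ X → b₂ ∈ Y → b₁ ≠ 0 → b₂ ≠ 0 →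
      f (a₁ + a₂) (b₁ + b₂) = 0 → sh hf (a₁ + a₂) (b₁ + b₂) 1 ∈ M → c ∈ X → f b₂ c = 0 → f a₂ c ≠ 0 →
      a₁ ∉ Submodule.span F {b₁, c} → False := by
    intro a₁ a₂ b₁ b₂ c ha₁ ha₂ hb₁ hb₂ hb₁0 hb₂0 hab hk hc hbc hac hsp
    obtain ⟨d, hd, had, hd0⟩ := polar_sep_sub hf P (Submodule.span_le.2 (by
      rintro z (rfl | rfl)
      exacts [hb₁, hc])) ha₁ hsp
    have hbd := hd0 b₁ (Submodule.subset_span (Set.mem_insert _ _))
    have hcd := hd0 c (Submodule.subset_span (Set.mem_insert_of_mem _ rfl))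
    have hcen := move_centre hf hM h2 hab hk hcd (hXY c hc d hd hcd)
      (by rw [hf.bilinear.add_left, P.singX b₁ hb₁ c hc, hbc, add_zero])
      (by rw [hf.bilinear.add_left, hbd, P.singY b₂ hb₂ d hd, add_zero])
      (by rwa [hf.bilinear.add_left, P.singX a₁ ha₁ c hc, zero_add])
      (by rw [hf.bilinear.add_left, had, P.singY a₂ ha₂ d hd, add_zero]; exact one_ne_zero)
    obtain ⟨y, hy, hy0, hyc⟩ := mixed_centre hf P hM hXY h2 hb₁ hb₂ hb₁0 hb₂0 hcen
    exact hnoY y hy hy0 hyc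
  obtain ⟨c, hc, hca, hcb⟩ := polar_sep hf P.symm hb₂ ha₂ j1
  obtain ⟨c', hc', hcb', hca'⟩ := polar_sep hf P.symm ha₂ hb₂ j2
  obtain ⟨n, hn, hn0⟩ := Submodule.exists_mem_ne_zero_of_ne_bot
    (p := X ⊓ LinearMap.ker (sfun hf a₂) ⊓ LinearMap.ker (sfun hf b₂)) (fun h => by
      have h4 := finrank_fixed hf X a₂ b₂
      rw [h, finrank_bot] at h4
      have := P.dimX
      omega)
  have hna : f a₂ n = 0 := swap_zero hf (LinearMap.mem_ker.1 hn.1.2)
  have hnb : f b₂ n = 0 := swap_zero hf (LinearMap.mem_ker.1 hn.2)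
  -- otherwise `X` would be spanned by the two components
  have hkey : ∀ a₁ a₂ b₁ b₂ c, a₁ ∈ X → a₂ ∈ Y → b₁ ∈ X → b₂ ∈ Y → b₁ ≠ 0 → b₂ ≠ 0 →
      f (a₁ + a₂) (b₁ + b₂) = 0 → sh hf (a₁ + a₂) (b₁ + b₂) 1 ∈ M → a₁ ∉ Submodule.span F ({b₁} : Set (ι → F)) →
      c ∈ X → f b₂ c = 0 → f a₂ c ≠ 0 → ∃ u v : F, c = u • a₁ + v • b₁ := by
    intro a₁ a₂ b₁ b₂ c ha₁ ha₂ hb₁ hb₂ hb₁0 hb₂0 hab hk hi hc hbc hac
    by_contra hcon
    refine fin a₁ a₂ b₁ b₂ c ha₁ ha₂ hb₁ hb₂ hb₁0 hb₂0 hab hk hc hbc hac fun hm => ?_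
    obtain ⟨u, v, huv⟩ := Submodule.mem_span_pair.1 hm
    rcases eq_or_ne v 0 with rfl | hv
    · exact hi (Submodule.mem_span_singleton.2 ⟨u, by rw [← huv]; simp⟩)
    · exact hcon ⟨v⁻¹, -(v⁻¹ * u), by rw [← huv]; match_scalars <;> field_simp; ring⟩
  have k1 := hkey a₁ a₂ b₁ b₂
  obtain ⟨p, q, hpq⟩ := k1 c ha₁ ha₂ hb₁ hb₂ hb10 hb0 hab hk i1 hc hcb (by rw [hca]; exact one_ne_zero)
  obtain ⟨p', q', hpq'⟩ := k1 (c + n) ha₁ ha₂ hb₁ hb₂ hb10 hb0 hab hk i1 (X.add_mem hc hn.1.1)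
    (by rw [hf.bilinear.add_right, hcb, hnb, add_zero]) (by rw [hf.bilinear.add_right, hca, hna, add_zero]; exact one_ne_zero)
  obtain ⟨q'', p'', hpq''⟩ := hkey b₁ b₂ a₁ a₂ c' hb₁ hb₂ ha₁ ha₂ ha10 ha0 (swap_zero hf hab) hswap i2 hc' hca'
    (by rw [hcb']; exact one_ne_zero)
  have e1 := congrArg (f a₂) hpq
  have e2 := congrArg (f b₂) hpq
  have e3 := congrArg (f a₂) hpq''
  have e4 := congrArg (f b₂) hpq''
  have e5 := congrArg (f a₂) (show n = (p' - p) • a₁ + (q' - q) • b₁ by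
    rw [sub_smul, sub_smul, ← add_sub_cancel_left c n, hpq', hpq]; abel)
  have e6 := congrArg (f b₂) (show n = (p' - p) • a₁ + (q' - q) • b₁ by
    rw [sub_smul, sub_smul, ← add_sub_cancel_left c n, hpq', hpq]; abel)
  simp only [hf.bilinear.add_right, hf.bilinear.smul_right, hca, hcb, hca', hcb', hna, hnb] at e1 e2 e3 e4 e5 e6
  obtain ⟨Dt, hDt⟩ : ∃ Dt, Dt = f a₂ a₁ * f b₂ b₁ - f a₂ b₁ * f b₂ a₁ := ⟨_, rfl⟩
  have hD : Dt ≠ 0 := fun h => one_ne_zero (α := F) (by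
    have : (p * f a₂ a₁ + q * f a₂ b₁) * (q'' * f b₂ b₁ + p'' * f b₂ a₁) -
        (p * f b₂ a₁ + q * f b₂ b₁) * (q'' * f a₂ b₁ + p'' * f a₂ a₁) = (p * q'' - q * p'') * Dt := by rw [hDt]; ring
    rw [← e1, ← e2, ← e3, ← e4, h, mul_zero] at this
    linear_combination this)
  have z1 : p' - p = 0 := (mul_eq_zero.1 (show (p' - p) * Dt = 0 by
    rw [hDt]; linear_combination -f b₂ b₁ * e5 + f a₂ b₁ * e6)).resolve_right hD
  have z2 : q' - q = 0 := (mul_eq_zero.1 (show (q' - q) * Dt = 0 by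
    rw [hDt]; linear_combination f b₂ a₁ * e5 - f a₂ a₁ * e6)).resolve_right hD
  refine hn0 ?_
  rw [← add_sub_cancel_left c n, hpq', hpq, sub_eq_zero, sub_eq_zero.1 z1, sub_eq_zero.1 z2]

/-- the shears move the vectors of `X` -/
theorem polar_transitive {x x' : ι → F} (hx : x ∈ X) (hx' : x' ∈ X) (hx0 : x ≠ 0)
    (hxc : x ∈ centres hf M) : x' ∈ centres hf M := by
  by_cases hdep : x' ∈ Submodule.span F ({x} : Set (ι → F))
  · obtain ⟨s, rfl⟩ := Submodule.mem_span_singleton.1 hdep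
    exact centres_smul hf hxc s
  have hind : x ∉ Submodule.span F ({x' - x} : Set (ι → F)) := fun hm => by
    obtain ⟨s, hs⟩ := Submodule.mem_span_singleton.1 hm
    rcases eq_or_ne s 0 with rfl | hs0
    · exact hx0 (by rw [← hs, zero_smul])
    · exact hdep (Submodule.mem_span_singleton.2 ⟨1 + s⁻¹, by
        rw [add_smul, one_smul]
        nth_rewrite 2 [← hs]
        rw [smul_smul, inv_mul_cancel₀ hs0, one_smul, add_sub_cancel]⟩)
  obtain ⟨b, hb, hxb, hab⟩ := polar_sep hf P (X.sub_mem hx' hx) hx hind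
  have h1 := centres_conj hf hM (hXY _ (X.sub_mem hx' hx) b hb hab 1) hxc
  rwa [sh_mulVec hf hab, hxb, P.singX x hx _ (X.sub_mem hx' hx), mul_zero, zero_smul, add_zero, mul_one, one_smul,
    add_sub_cancel] at h1

omit hM hXY in
/-- an isometry exchanging the two subspaces -/
theorem exists_polar_swap : ∃ w ∈ isoSub f, (∀ x ∈ X, (w : Matrix ι ι F) *ᵥ x ∈ Y) ∧
    ∀ y ∈ Y, (w : Matrix ι ι F) *ᵥ y ∈ X := by
  let b := Module.finBasis F X
  have hdual : ∀ i, ∃ d ∈ Y, ∀ z ∈ X, ∀ hz : z ∈ X, f z d = b.repr ⟨z, hz⟩ i := by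
    intro i
    obtain ⟨L, hL⟩ : ∃ L : (ι → F) →ₗ[F] F, L.comp X.subtype = b.coord i :=
      LinearMap.exists_extend (b.coord i)
    obtain ⟨p, hp⟩ := exists_rep hf (fvec L)
    obtain ⟨a, ha, d, hd, rfl⟩ := P.split p
    refine ⟨d, hd, fun z hz hz' => ?_⟩
    have h1 := hp z
    rw [hf.bilinear.add_right, P.singX z hz a ha, zero_add, fvec_dot] at h1
    rw [h1]
    exact LinearMap.congr_fun hL ⟨z, hz⟩
  choose d hd hdb using hdual
  have hx : ∀ x ∈ X, x = ∑ i, f x (d i) • (b i : ι → F) := fun x hx => by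
    have h1 := congrArg Subtype.val (b.sum_repr ⟨x, hx⟩)
    rw [Submodule.coe_sum] at h1
    exact h1.symm.trans (Finset.sum_congr rfl fun i _ => by rw [Submodule.coe_smul, hdb i x hx hx])
  have fsl : ∀ (s : Finset (Fin (Module.finrank F X))) (c : Fin (Module.finrank F X) → F)
      (u : Fin (Module.finrank F X) → ι → F) (z : ι → F), f (∑ i ∈ s, c i • u i) z = ∑ i ∈ s, c i * f (u i) z := by
    intro s c u z
    induction s using Finset.induction_on with
    | empty => simp [zero_left hf]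
    | @insert i s hi ih => rw [Finset.sum_insert hi, Finset.sum_insert hi, hf.bilinear.add_left,
        hf.bilinear.smul_left, ih]
  have fsr : ∀ (s : Finset (Fin (Module.finrank F X))) (c : Fin (Module.finrank F X) → F)
      (u : Fin (Module.finrank F X) → ι → F) (z : ι → F), f z (∑ i ∈ s, c i • u i) = ∑ i ∈ s, c i * f z (u i) := by
    intro s c u z
    induction s using Finset.induction_on with
    | empty => simp [zero_right hf]
    | @insert i s hi ih => rw [Finset.sum_insert hi, Finset.sum_insert hi, hf.bilinear.add_right,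
        hf.bilinear.smul_right, ih]
  let L : (ι → F) →ₗ[F] (ι → F) :=
    { toFun := fun v => ∑ i, f v (d i) • d i - ∑ i, f (b i : ι → F) v • (b i : ι → F)
      map_add' := fun u v => by
        simp only [hf.bilinear.add_left, hf.bilinear.add_right, add_smul, Finset.sum_add_distrib]
        abel
      map_smul' := fun c v => by
        simp only [hf.bilinear.smul_left, hf.bilinear.smul_right, mul_smul, ← Finset.smul_sum, RingHom.id_apply,
          smul_sub] }
  have hiso : ∀ u v, f (L u) (L v) = f u v := by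
    intro u v
    obtain ⟨u₁, hu₁, u₂, hu₂, rfl⟩ := P.split u
    obtain ⟨v₁, hv₁, v₂, hv₂, rfl⟩ := P.split v
    have eX : ∀ x ∈ X, L x = ∑ i, f x (d i) • d i := fun x hx' => by
      show (∑ i, f x (d i) • d i) - (∑ i, f (b i : ι → F) x • (b i : ι → F)) = _
      rw [Finset.sum_eq_zero (s := Finset.univ) (f := fun i => f (b i : ι → F) x • (b i : ι → F)) (fun i _ => by
        rw [P.singX _ (b i).2 x hx', zero_smul]), sub_zero]
    have eY : ∀ y ∈ Y, L y = -∑ i, f (b i : ι → F) y • (b i : ι → F) := fun y hy => by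
      show (∑ i, f y (d i) • d i) - (∑ i, f (b i : ι → F) y • (b i : ι → F)) = _
      rw [Finset.sum_eq_zero (s := Finset.univ) (f := fun i => f y (d i) • d i) (fun i _ => by
        rw [P.singY y hy _ (hd i), zero_smul]), zero_sub]
    have hmem1 : ∀ x ∈ X, L x ∈ Y := fun x hx' => by
      rw [eX x hx']
      exact Y.sum_mem fun i _ => Y.smul_mem _ (hd i)
    have hmem2 : ∀ y ∈ Y, L y ∈ X := fun y hy => by
      rw [eY y hy]
      exact X.neg_mem (X.sum_mem fun i _ => X.smul_mem _ (b i).2)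
    have hcross : ∀ x ∈ X, ∀ y ∈ Y, f (L x) (L y) = f x y := fun x hx' y hy => by
      rw [eY y hy, neg_right hf, ← hf.skew (∑ i, f (b i : ι → F) y • (b i : ι → F)) (L x), fsl]
      conv_rhs => rw [hx x hx', fsl]
      refine Finset.sum_congr rfl fun i _ => ?_
      rw [eX x hx', fsr, mul_comm]
      congr 1
      rw [Finset.sum_eq_single i]
      · rw [hdb i _ (b i).2 (b i).2]
        simp
      · intro j _ hji
        rw [hdb j _ (b i).2 (b i).2]
        simp [hji]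
      · simp
    rw [map_add, map_add, hf.bilinear.add_left, hf.bilinear.add_right, hf.bilinear.add_right, hf.bilinear.add_left,
      hf.bilinear.add_right, hf.bilinear.add_right, P.singY _ (hmem1 u₁ hu₁) _ (hmem1 v₁ hv₁),
      P.singX _ (hmem2 u₂ hu₂) _ (hmem2 v₂ hv₂), hcross u₁ hu₁ v₂ hv₂, P.singX u₁ hu₁ v₁ hv₁,
      P.singY u₂ hu₂ v₂ hv₂, hf.skew (L u₂), hcross v₁ hv₁ u₂ hu₂, ← hf.skew u₂ v₁]
  have hdet : (LinearMap.toMatrix' L).det ≠ 0 := by
    intro h0
    obtain ⟨v, hv, hLv⟩ := Matrix.exists_mulVec_eq_zero_iff.2 h0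
    obtain ⟨z, hz⟩ := (hf.nondegenerate v hv).2
    rw [LinearMap.toMatrix'_mulVec] at hLv
    exact hz (by rw [← hiso, hLv, zero_left hf])
  have happ : ∀ v, (Matrix.GeneralLinearGroup.mkOfDetNeZero _ hdet : Matrix ι ι F) *ᵥ v = L v := fun v => by
    show LinearMap.toMatrix' L *ᵥ v = _
    rw [LinearMap.toMatrix'_mulVec]
  refine ⟨Matrix.GeneralLinearGroup.mkOfDetNeZero _ hdet, mem_isoSub.2 fun u v => by rw [happ, happ, hiso],
    fun x hx' => ?_, fun y hy => ?_⟩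
  · rw [happ]
    show (∑ i, f x (d i) • d i) - (∑ i, f (b i : ι → F) x • (b i : ι → F)) ∈ Y
    rw [Finset.sum_eq_zero (s := Finset.univ) (f := fun i => f (b i : ι → F) x • (b i : ι → F)) (fun i _ => by
      rw [P.singX _ (b i).2 x hx', zero_smul]), sub_zero]
    exact Y.sum_mem fun i _ => Y.smul_mem _ (hd i)
  · rw [happ]
    show (∑ i, f y (d i) • d i) - (∑ i, f (b i : ι → F) y • (b i : ι → F)) ∈ X
    rw [Finset.sum_eq_zero (s := Finset.univ) (f := fun i => f y (d i) • d i) (fun i _ => by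
      rw [P.singY y hy _ (hd i), zero_smul]), zero_sub]
    exact X.neg_mem (X.sum_mem fun i _ => X.smul_mem _ (b i).2)

omit hM hXY in
/-- stabilisers of pairs of complementary totally singular subspaces are maximal -/
theorem polar_maximal (h2 : (2 : F) ≠ 0) {H : Subgroup (GL ι F)}
    (hH : ∀ g, g ∈ H ↔ ((∀ x ∈ X, (g : Matrix ι ι F) *ᵥ x ∈ X) ∧ ∀ y ∈ Y, (g : Matrix ι ι F) *ᵥ y ∈ Y) ∨
      ((∀ x ∈ X, (g : Matrix ι ι F) *ᵥ x ∈ Y) ∧ ∀ y ∈ Y, (g : Matrix ι ι F) *ᵥ y ∈ X)) :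
    IsMaximalIn (isoSub f) (H ⊓ isoSub f) := by
  refine isMaximalIn_of_centres hf (fun hle => ?_) fun M hHM hM hMH => ?_
  · obtain ⟨x, hx, hx0⟩ := Submodule.exists_mem_ne_zero_of_ne_bot (p := X) (fun h => by
      have := P.dimX
      rw [h, finrank_bot] at this
      omega)
    obtain ⟨y, hy, hxy⟩ := polar_pair hf P hx hx0
    have hy0 : y ≠ 0 := fun h => hxy (by rw [h, zero_right hf])
    rcases (hH _).1 (hle (stv_iso hf x 1)) with ⟨-, h⟩ | ⟨h, -⟩
    · have h1 := Y.sub_mem (h y hy) hy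
      rw [stv_mulVec, add_sub_cancel_left, one_mul, Y.smul_mem_iff (swap_ne hf hxy)] at h1
      exact hx0 (P.eq_zero hx h1)
    · have h1 := h x hx
      rw [stv_mulVec, hf.alternating, mul_zero, zero_smul, add_zero] at h1
      exact hx0 (P.eq_zero hx h1)
  have hXY : ∀ a ∈ X, ∀ b ∈ Y, f a b = 0 → ∀ s, sh hf a b s ∈ M := by
    intro a ha b hb hab s
    refine hHM ⟨(hH _).2 (Or.inl ⟨fun x hx => ?_, fun y hy => ?_⟩),
      mul_mem (mul_mem (stv_iso hf _ _) (stv_iso hf _ _)) (stv_iso hf _ _)⟩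
    · rw [sh_mulVec hf hab, P.singX x hx a ha, mul_zero, zero_smul, add_zero]
      exact X.add_mem hx (X.smul_mem _ ha)
    · rw [sh_mulVec hf hab, P.singY y hy b hb, mul_zero, zero_smul, add_zero]
      exact Y.add_mem hy (Y.smul_mem _ hb)
  have hswapsh : ∀ (a b : ι → F) s, f a b = 0 → sh hf a b s = sh hf b a s := fun a b s hab => gl_ext_vec fun z => by
    rw [sh_mulVec hf hab, sh_mulVec hf (swap_zero hf hab)]
    abel
  have hYX : ∀ a ∈ Y, ∀ b ∈ X, f a b = 0 → ∀ s, sh hf a b s ∈ M := fun a ha b hb hab s => by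
    rw [hswapsh a b s hab]
    exact hXY b hb a ha (swap_zero hf hab) s
  obtain ⟨w, hw, hwX, hwY⟩ := exists_polar_swap hf P
  have hwM : w ∈ M := hHM ⟨(hH w).2 (Or.inr ⟨hwX, hwY⟩), hw⟩
  -- one centre in either subspace
  obtain ⟨a, ha, ha0, hac⟩ : ∃ a ∈ X, a ≠ 0 ∧ a ∈ centres hf M := by
    by_contra hcon
    push Not at hcon
    have hconY : ∀ a ∈ Y, a ≠ 0 → a ∉ centres hf M := fun a ha ha0 hc =>
      hcon _ (hwY a ha) (fun h => ha0 (gl_mulVec_eq_zero.1 h)) (centres_conj hf hM hwM hc)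
    have hkH : ∀ g ∈ M, ∀ x ∈ X, ∀ y ∈ Y, f x y = 0 →
        sh hf ((g : Matrix ι ι F) *ᵥ x) ((g : Matrix ι ι F) *ᵥ y) 1 ∈ H := by
      intro g hg x hx y hy hxy
      obtain ⟨k, hk⟩ : ∃ k, k = sh hf ((g : Matrix ι ι F) *ᵥ x) ((g : Matrix ι ι F) *ᵥ y) 1 := ⟨_, rfl⟩
      rw [← hk]
      have hkM : k ∈ M := by
        rw [hk, ← sh_conj hf (hM hg)]
        exact M.mul_mem (M.mul_mem hg (hXY x hx y hy hxy 1)) (M.inv_mem hg)
      have hab : f ((g : Matrix ι ι F) *ᵥ x) ((g : Matrix ι ι F) *ᵥ y) = 0 := by rw [mem_isoSub.1 (hM hg), hxy]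
      have hkM' : sh hf ((g : Matrix ι ι F) *ᵥ x) ((g : Matrix ι ι F) *ᵥ y) 1 ∈ M := hk ▸ hkM
      refine (hH k).2 (Or.inl ⟨?_, ?_⟩)
      · rw [hk]
        exact shear_side hf P hM hXY h2 hcon hconY hab hkM'
      · rw [hk]
        exact shear_side hf P.symm hM hYX h2 hconY hcon hab hkM'
    obtain ⟨g, hg, hgH⟩ := SetLike.not_le_iff_exists.1 hMH
    -- the images lie in the union
    have hpair : ∀ x ∈ X, ∀ y ∈ Y, x ≠ 0 → y ≠ 0 → f x y = 0 →
        ((g : Matrix ι ι F) *ᵥ x ∈ X ∨ (g : Matrix ι ι F) *ᵥ x ∈ Y) ∧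
          ((g : Matrix ι ι F) *ᵥ y ∈ X ∨ (g : Matrix ι ι F) *ᵥ y ∈ Y) := by
      intro x hx y hy hx0 hy0 hxy
      have hgxy : f ((g : Matrix ι ι F) *ᵥ x) ((g : Matrix ι ι F) *ᵥ y) = 0 := by rw [mem_isoSub.1 (hM hg), hxy]
      have hgx0 : (g : Matrix ι ι F) *ᵥ x ≠ 0 := fun h => hx0 (gl_mulVec_eq_zero.1 h)
      have hgy0 : (g : Matrix ι ι F) *ᵥ y ≠ 0 := fun h => hy0 (gl_mulVec_eq_zero.1 h)
      rcases (hH _).1 (hkH g hg x hx y hy hxy) with ⟨hX', hY'⟩ | ⟨hX', -⟩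
      · rcases shear_stab hf P h2 hgxy hX' with h | h <;> rcases shear_stab hf P.symm h2 hgxy hY' with h' | h'
        · exact absurd (P.eq_zero h h') hgx0
        · exact ⟨Or.inl h, Or.inr h'⟩
        · exact ⟨Or.inr h', Or.inl h⟩
        · exact absurd (P.eq_zero h h') hgy0
      · exfalso
        have hAd := finrank_fixed hf X ((g : Matrix ι ι F) *ᵥ x) ((g : Matrix ι ι F) *ᵥ y)
        have := P.dimX
        obtain ⟨z, hz, hz0⟩ := Submodule.exists_mem_ne_zero_of_ne_bot (p := X ⊓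
            LinearMap.ker (sfun hf ((g : Matrix ι ι F) *ᵥ x)) ⊓
              LinearMap.ker (sfun hf ((g : Matrix ι ι F) *ᵥ y))) (fun h => by rw [h, finrank_bot] at hAd; omega)
        have h1 := hX' z hz.1.1
        have hza : f z ((g : Matrix ι ι F) *ᵥ x) = 0 := LinearMap.mem_ker.1 hz.1.2
        have hzb : f z ((g : Matrix ι ι F) *ᵥ y) = 0 := LinearMap.mem_ker.1 hz.2
        rw [sh_mulVec hf hgxy, hza, hzb, mul_zero, zero_smul, zero_smul, add_zero, add_zero] at h1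
        exact hz0 (P.eq_zero hz.1.1 h1)
    have hunion : ∀ S : Submodule F (ι → F), (∀ s ∈ S, (g : Matrix ι ι F) *ᵥ s ∈ X ∨ (g : Matrix ι ι F) *ᵥ s ∈ Y) →
        (∀ s ∈ S, (g : Matrix ι ι F) *ᵥ s ∈ X) ∨ ∀ s ∈ S, (g : Matrix ι ι F) *ᵥ s ∈ Y := by
      intro S hS
      by_contra hn
      push Not at hn
      obtain ⟨⟨s₁, hs₁, h₁⟩, s₂, hs₂, h₂⟩ := hn
      have h₁' := (hS s₁ hs₁).resolve_left h₁
      have h₂' := (hS s₂ hs₂).resolve_right h₂
      rcases hS _ (S.add_mem hs₁ hs₂) with h | h <;> rw [mulVec_add] at h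
      · exact h₁ ((X.add_mem_iff_left h₂').1 h)
      · exact h₂ ((Y.add_mem_iff_right h₁').1 h)
    have hXu := hunion X fun x hx => by
      rcases eq_or_ne x 0 with rfl | hx0
      · exact Or.inl (by rw [mulVec_zero]; exact X.zero_mem)
      obtain ⟨y, hy, hy0, hxy⟩ := polar_orth hf P x
      exact (hpair x hx y hy hx0 hy0 hxy).1
    have hYu := hunion Y fun y hy => by
      rcases eq_or_ne y 0 with rfl | hy0
      · exact Or.inl (by rw [mulVec_zero]; exact X.zero_mem)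
      obtain ⟨x, hx, hx0, hyx⟩ := polar_orth hf P.symm y
      exact (hpair x hx y hy hx0 hy0 (swap_zero hf hyx)).2
    have hbad : ∀ S : Submodule F (ι → F), (∀ x ∈ X, (g : Matrix ι ι F) *ᵥ x ∈ S) →
        (∀ y ∈ Y, (g : Matrix ι ι F) *ᵥ y ∈ S) → S = ⊤ := fun S h1 h3 => eq_top_iff.2 fun v _ => by
      rw [← gl_mulVec_inv g v]
      obtain ⟨x, hx, y, hy, hxy⟩ := P.split (((g⁻¹ : GL ι F) : Matrix ι ι F) *ᵥ v)
      rw [hxy, mulVec_add]
      exact S.add_mem (h1 x hx) (h3 y hy)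
    have hdim : Module.finrank F X + Module.finrank F Y = Fintype.card ι := by
      have := Submodule.finrank_sup_add_finrank_inf_eq X Y
      rw [P.sup, P.inf, finrank_top, finrank_bot, Module.finrank_fintype_fun_eq_card, add_zero] at this
      omega
    refine hgH ((hH g).2 ?_)
    rcases hXu with h1 | h1 <;> rcases hYu with h3 | h3
    · have h4 := hbad X h1 h3
      have := P.dimY
      rw [h4, finrank_top, Module.finrank_fintype_fun_eq_card] at hdim
      omega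
    · exact Or.inl ⟨h1, h3⟩
    · exact Or.inr ⟨h1, h3⟩
    · have h4 := hbad Y h1 h3
      have := P.dimX
      rw [h4, finrank_top, Module.finrank_fintype_fun_eq_card] at hdim
      omega
  -- all centres
  have hX : ∀ x ∈ X, x ∈ centres hf M := fun x hx => polar_transitive hf P hM hXY ha hx ha0 hac
  have hY : ∀ y ∈ Y, y ∈ centres hf M := fun y hy => by
    have hwinv : ((w⁻¹ : GL ι F)) ∈ M := M.inv_mem hwM
    have h1 := centres_conj hf hM hwinv (hX _ (hwY y hy))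
    rwa [gl_inv_mulVec] at h1
  intro u
  obtain ⟨x, hx, y, hy, rfl⟩ := P.split u
  rcases eq_or_ne y 0 with rfl | hy0
  · rw [add_zero]
    exact hX x hx
  by_cases hxy : f x y = 0
  · obtain ⟨x₁, hx₁, hyx₁⟩ := polar_pair hf P.symm hy hy0
    have h1 := centres_line hf hM (hY y hy) (hX x₁ hx₁) hyx₁ 1
    have h3 := centres_line hf hM h1 (hX (x - x₁) (X.sub_mem hx hx₁)) (by
      rw [one_smul, hf.bilinear.add_left, P.singX x₁ hx₁ _ (X.sub_mem hx hx₁), add_zero, sub_right hf,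
        swap_zero hf hxy, zero_sub]
      exact neg_ne_zero.2 hyx₁) 1
    rwa [one_smul, one_smul, show y + x₁ + (x - x₁) = x + y by abel] at h3
  · have h1 := centres_line hf hM (hX x hx) (hY y hy) hxy 1
    rwa [one_smul] at h1

end CfsgLib.Perm.Trans.Symp
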