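import Cfsg.Agent.Lib.Perm.Trans.SympMax
import Cfsg.Agent.Lib.Perm.Trans.OrthB

/-!
# Orthogonal subgroups of symplectic groups in characteristic two
-/

set_option autoImplicit false
set_option linter.all false

namespace CfsgLib.Perm.Trans.Symp

open scoped Matrix
open Matrix Cfsg.Geo CfsgLib.Perm.Asch CfsgLib.Perm.Trans

variable {ι : Type} [Fintype ι] [DecidableEq ι] {F : Type*} [Field F] [Finite F]
variable {f : (ι → F) → (ι → F) → F} (hf : IsSymplecticForm f)
include hf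

theorem two_mul_finrank_le {Z : Submodule F (ι → F)} (hZ : IsTotallySingularFor f Z) :
    2 * Module.finrank F Z ≤ Fintype.card ι := by
  let L : (ι → F) →ₗ[F] Module.Dual F Z :=
    { toFun := fun x => (sfun hf x).comp Z.subtype
      map_add' := fun a b => LinearMap.ext fun z => hf.bilinear.add_right _ a b
      map_smul' := fun c a => LinearMap.ext fun z => hf.bilinear.smul_right c _ a }
  have hker : Z ≤ LinearMap.ker L := fun z hz => LinearMap.ext fun z' => hZ z' z'.2 z hz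
  have hsurj : Function.Surjective L := by
    intro φ
    obtain ⟨ψ, hψ⟩ := LinearMap.exists_extend (p := Z) φ
    obtain ⟨p, hp⟩ := exists_rep hf (fvec ψ)
    refine ⟨p, LinearMap.ext fun z => ?_⟩
    show f (z : ι → F) p = φ z
    rw [hp, fvec_dot, ← hψ]
    rfl
  have h1 := LinearMap.finrank_range_add_finrank_ker L
  rw [LinearMap.range_eq_top.2 hsurj, finrank_top, Subspace.dual_finrank_eq, Module.finrank_fintype_fun_eq_card] at h1
  have h2 := Submodule.finrank_mono hker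
  omega

variable {Q : (ι → F) → F} (hQ : IsNondegenerateQuadraticForm Q) (hpol : ∀ u v, QuadraticMap.polar Q u v = f u v)
  (h2 : (2 : F) = 0)
include hQ hpol h2

omit [Finite F] h2 in
theorem q_add (x y : ι → F) : Q (x + y) = Q x + Q y + f x y := by
  rw [← hpol, QuadraticMap.polar]
  ring

omit [Finite F] hf hQ hpol in
theorem sq_inj {a b : F} (h : a ^ 2 = b ^ 2) : a = b := by
  have h1 : (a - b) * (a - b) = 0 := by linear_combination h + (b ^ 2 - a * b) * h2
  exact sub_eq_zero.1 (mul_self_eq_zero.1 h1)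

omit hf hQ hpol in
theorem exists_sq (a : F) : ∃ b : F, b ^ 2 = a :=
  Finite.injective_iff_surjective.1 (fun _ _ h => sq_inj h2 h) a

/-- a vector with prescribed products and prescribed value of the quadratic form -/
theorem exists_value (hn : 5 ≤ Fintype.card ι) (a b x₀ : ι → F) (hab : f x₀ a ≠ 0 ∨ a = b) (r : F) :
    ∃ x, f x a = f x₀ a ∧ f x b = f x₀ b ∧ Q x = r := by
  classical
  obtain ⟨z, ⟨⟨hza, hzx⟩, hzb⟩, hQz⟩ :
      ∃ z ∈ LinearMap.ker (sfun hf a) ⊓ LinearMap.ker (sfun hf x₀) ⊓ LinearMap.ker (sfun hf b), Q z ≠ 0 := by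
    by_contra hcon
    push Not at hcon
    generalize hZ : LinearMap.ker (sfun hf a) ⊓ LinearMap.ker (sfun hf x₀) ⊓ LinearMap.ker (sfun hf b) = Z at hcon
    have hts : ∀ u ∈ Z, ∀ v ∈ Z, f u v = 0 := fun u hu v hv => by
      have h1 := q_add hf hQ hpol u v
      rw [hcon _ hu, hcon _ hv, hcon _ (Submodule.add_mem _ hu hv)] at h1
      linear_combination -h1
    have h0 := two_mul_finrank_le hf (Z := Z) hts
    have k1 := Orth.finrank_le_inf_ker ⊤ (sfun hf a)
    have k2 := Orth.finrank_le_inf_ker (⊤ ⊓ LinearMap.ker (sfun hf a)) (sfun hf x₀)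
    have k3 := Orth.finrank_le_inf_ker (⊤ ⊓ LinearMap.ker (sfun hf a) ⊓ LinearMap.ker (sfun hf x₀)) (sfun hf b)
    rw [finrank_top, Module.finrank_fintype_fun_eq_card] at k1
    rw [top_inf_eq] at k1 k2 k3
    rw [hZ] at k3
    rcases hab with hab | rfl
    · have haZ : a ∉ Z := fun h => hab (by
        rw [← hZ] at h
        have h' : f a x₀ = 0 := h.1.2
        rw [hf.skew, h', neg_zero])
      have hperp : ∀ u ∈ Z, f u a = 0 := fun u hu => by
        rw [← hZ] at hu
        exact hu.1.1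
      have h4 := two_mul_finrank_le hf (Z := Z ⊔ Submodule.span F {a}) (fun u hu v hv => by
        obtain ⟨u', hu', s, hs, rfl⟩ := Submodule.mem_sup.1 hu
        obtain ⟨v', hv', t, ht, rfl⟩ := Submodule.mem_sup.1 hv
        obtain ⟨s', rfl⟩ := Submodule.mem_span_singleton.1 hs
        obtain ⟨t', rfl⟩ := Submodule.mem_span_singleton.1 ht
        simp only [hf.bilinear.add_left, hf.bilinear.add_right, hf.bilinear.smul_left, hf.bilinear.smul_right,
          hts _ hu' _ hv', hperp _ hu', hf.skew a v', hperp _ hv', hf.alternating]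
        ring)
      have h5 : Module.finrank F Z < Module.finrank F (Z ⊔ Submodule.span F {a} : Submodule F (ι → F)) :=
        Submodule.finrank_lt_finrank_of_lt (left_lt_sup.2 fun h => haZ (h (Submodule.mem_span_singleton_self a)))
      omega
    · have hZ2 : LinearMap.ker (sfun hf a) ⊓ LinearMap.ker (sfun hf x₀) = Z := by
        rw [← hZ]
        exact (inf_eq_left.2 (inf_le_left)).symm
      rw [hZ2] at k2
      omega
  obtain ⟨c, hc⟩ := exists_sq h2 ((r - Q x₀) / Q z)
  change f z a = 0 at hza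
  change f z x₀ = 0 at hzx
  change f z b = 0 at hzb
  refine ⟨x₀ + c • z, ?_, ?_, ?_⟩
  · rw [hf.bilinear.add_left, hf.bilinear.smul_left, hza, mul_zero, add_zero]
  · rw [hf.bilinear.add_left, hf.bilinear.smul_left, hzb, mul_zero, add_zero]
  · rw [q_add hf hQ hpol, hQ.smul, hf.bilinear.smul_right, swap_zero hf hzx, hc, div_mul_cancel₀ _ hQz]
    ring

omit [Finite F] in
theorem stv_mem_quad {u : ι → F} {c : F} (h : c * Q u = 1) : stv hf u c ∈ quadSimilarityGroup Q ⊓ isoSub f :=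
  ⟨⟨1, fun x => by
    rw [stv_mulVec, q_add hf hQ hpol, hQ.smul, hf.bilinear.smul_right, Units.val_one, one_mul]
    linear_combination (c * f x u * f x u) * h + (c * f x u * f x u) * h2⟩, stv_iso hf u c⟩

omit [Finite F] in
theorem quad_eq_of_mem {g : GL ι F} (hg : g ∈ quadSimilarityGroup Q) (hi : g ∈ isoSub f) {x y : ι → F} (hxy : f x y = 1)
    (v : ι → F) : Q ((g : Matrix ι ι F) *ᵥ v) = Q v := by
  obtain ⟨c, hc⟩ := hg
  have h1 := mem_isoSub.1 hi x y
  rw [← hpol, QuadraticMap.polar, ← mulVec_add, hc, hc, hc, ← mul_sub, ← mul_sub,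
    show Q (x + y) - Q x - Q y = f x y by rw [← hpol, QuadraticMap.polar], hxy, mul_one] at h1
  rw [hc, h1, one_mul]

/-- reflections are transitive on the vectors with a given value -/
theorem quad_move (hn : 5 ≤ Fintype.card ι) {M : Subgroup (GL ι F)} (hM : quadSimilarityGroup Q ⊓ isoSub f ≤ M)
    {v w : ι → F} (hv : v ≠ 0) (hw : w ≠ 0) (hQvw : Q v = Q w) :
    ∃ t ∈ M, (t : Matrix ι ι F) *ᵥ v = w := by
  have direct : ∀ {v w : ι → F}, Q v = Q w → f v w ≠ 0 → ∃ t ∈ M, (t : Matrix ι ι F) *ᵥ v = w := by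
    intro v w hQe hne
    refine ⟨stv hf (w - v) (f v w)⁻¹, hM (stv_mem_quad hf hQ hpol h2 ?_), ?_⟩
    · have h3 := q_add hf hQ hpol (w - v) v
      rw [sub_add_cancel, sub_left hf, hf.alternating, sub_zero, hQe, hf.skew w v] at h3
      rw [show Q (w - v) = f v w by linear_combination -h3, inv_mul_cancel₀ hne]
    · rw [stv_mulVec, sub_right hf, hf.alternating, sub_zero, inv_mul_cancel₀ hne, one_smul, add_sub_cancel]
  obtain ⟨x₀, hxv, hxw⟩ : ∃ x₀, f x₀ v ≠ 0 ∧ f x₀ w ≠ 0 := by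
    obtain ⟨a, ha⟩ := (hf.nondegenerate v hv).1
    obtain ⟨b, hb⟩ := (hf.nondegenerate w hw).1
    by_cases h3 : f a w = 0
    · by_cases h4 : f b v = 0
      · exact ⟨a + b, by rwa [hf.bilinear.add_left, h4, add_zero], by rwa [hf.bilinear.add_left, h3, zero_add]⟩
      · exact ⟨b, h4, hb⟩
    · exact ⟨a, ha, h3⟩
  obtain ⟨x, h1, h3, h4⟩ := exists_value hf hQ hpol h2 hn v w x₀ (Or.inl hxv) (Q v)
  obtain ⟨s, hs, hsv⟩ := direct (v := v) (w := x) h4.symm (swap_ne hf (by rwa [h1]))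
  obtain ⟨t, ht, htx⟩ := direct (v := x) (w := w) (h4.trans hQvw) (by rwa [h3])
  exact ⟨t * s, M.mul_mem ht hs, by rw [gl_mul_mulVec, hsv, htx]⟩

/-- the isometry group of a quadratic form is maximal, given prescribed values and transitivity on each value -/
theorem quad_maximal_of (hn : 0 < Fintype.card ι)
    (hval : ∀ (d y : ι → F) (a r : F), f y d = 1 → ∃ x, f x d = a ∧ Q x = r)
    (hmove : ∀ {M : Subgroup (GL ι F)}, quadSimilarityGroup Q ⊓ isoSub f ≤ M → ∀ {v w : ι → F}, v ≠ 0 → w ≠ 0 →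
      Q v = Q w → ∃ t ∈ M, (t : Matrix ι ι F) *ᵥ v = w) :
    IsMaximalIn (isoSub f) (quadSimilarityGroup Q ⊓ isoSub f) := by
  classical
  obtain ⟨v₀, hv₀⟩ : ∃ v : ι → F, v ≠ 0 := by
    obtain ⟨i⟩ : Nonempty ι := Fintype.card_pos_iff.1 (by omega)
    exact ⟨Pi.single i 1, fun h => one_ne_zero (α := F) (by simpa using congrFun h i)⟩
  have hone : ∀ u : ι → F, u ≠ 0 → ∃ y, f y u = 1 := fun u hu => by
    obtain ⟨y, hy⟩ := (hf.nondegenerate u hu).1
    exact ⟨(f y u)⁻¹ • y, by rw [hf.bilinear.smul_left, inv_mul_cancel₀ hy]⟩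
  obtain ⟨y₀, hy₀⟩ := hone v₀ hv₀
  refine isMaximalIn_of_centres hf (fun hle => ?_) fun M hHM hM hMQ => ?_
  · obtain ⟨u, hu, hQu⟩ := hval v₀ y₀ 1 0 hy₀
    obtain ⟨y, hy⟩ := hone u (fun h0 => one_ne_zero (hu.symm.trans (by rw [h0, zero_left hf])))
    have h1 := quad_eq_of_mem hf hQ hpol h2 (hle (stv_iso hf u 1)) (stv_iso hf u 1) hy y
    rw [stv_mulVec, one_mul, hy, one_smul, q_add hf hQ hpol, hQu, hy, add_zero] at h1
    exact one_ne_zero (add_eq_left.1 h1)
  obtain ⟨g, hgM, hg⟩ := SetLike.not_le_iff_exists.1 hMQ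
  have hgi := hM hgM
  choose r hr using fun x => exists_sq h2 (Q ((g : Matrix ι ι F) *ᵥ x) + Q x)
  let φ : (ι → F) →ₗ[F] F :=
    { toFun := r
      map_add' := fun x y => sq_inj h2 (by
        rw [hr, mulVec_add, q_add hf hQ hpol, q_add hf hQ hpol x y, mem_isoSub.1 hgi]
        linear_combination -(hr x) - (hr y) + (f x y - r x * r y) * h2)
      map_smul' := fun c x => sq_inj h2 (by
        rw [hr, mulVec_smul, hQ.smul, hQ.smul, RingHom.id_apply, smul_eq_mul, mul_pow, hr]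
        ring) }
  obtain ⟨d, hd⟩ := exists_rep hf (fvec φ)
  have hd' : ∀ x, f x d ^ 2 = Q ((g : Matrix ι ι F) *ᵥ x) + Q x := fun x => by
    rw [hd, fvec_dot]
    exact hr x
  have hd0 : d ≠ 0 := by
    intro h0
    refine hg ⟨1, fun x => ?_⟩
    have := hd' x
    rw [h0, zero_right hf] at this
    rw [Units.val_one, one_mul]
    linear_combination -this - Q x * h2
  obtain ⟨y, hy⟩ := hone d hd0
  intro u c
  rcases eq_or_ne u 0 with rfl | hu
  · rw [stv_zero_left]
    exact M.one_mem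
  obtain ⟨b, hb⟩ := exists_sq h2 c
  rcases eq_or_ne b 0 with rfl | hb0
  · rw [← hb, zero_pow two_ne_zero, stv_zero]
    exact M.one_mem
  obtain ⟨a, ha⟩ := exists_sq h2 (Q (b • u) + 1)
  obtain ⟨x, hxd, hQx⟩ := hval d y a 1 hy
  have hx0 : x ≠ 0 := fun h0 => by
    have h3 := hQ.smul 0 x
    rw [zero_smul, zero_pow two_ne_zero, zero_mul] at h3
    rw [h0, h3] at hQx
    exact zero_ne_one hQx
  have hmem : stv hf ((g : Matrix ι ι F) *ᵥ x) 1 ∈ M :=
    stv_conj_mem hf hM hgM (hHM (stv_mem_quad hf hQ hpol h2 (by rw [hQx, one_mul])))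
  have hval' : Q ((g : Matrix ι ι F) *ᵥ x) = Q (b • u) := by
    have h3 := hd' x
    rw [hxd, ha, hQx] at h3
    linear_combination -h3
  obtain ⟨t, ht, htx⟩ := hmove hHM (fun h0 => hx0 (gl_mulVec_eq_zero.1 h0))
    (smul_ne_zero hb0 hu) hval'
  have h4 := stv_conj_mem hf hM ht hmem
  rwa [htx, stv_smul, mul_one, ← sq, hb] at h4

/-- the isometry group of a quadratic form is maximal -/
theorem quad_maximal (hn : 5 ≤ Fintype.card ι) :
    IsMaximalIn (isoSub f) (quadSimilarityGroup Q ⊓ isoSub f) :=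
  quad_maximal_of hf hQ hpol h2 (by omega) (fun d y a r hy => by
    obtain ⟨x, hxd, -, hQx⟩ := exists_value hf hQ hpol h2 hn d d (a • y) (Or.inr rfl) r
    exact ⟨x, by rw [hxd, hf.bilinear.smul_left, hy, mul_one], hQx⟩)
    (fun hM _ _ hv hw hQvw => quad_move hf hQ hpol h2 hn hM hv hw hQvw)

end CfsgLib.Perm.Trans.Symp
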