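import Cfsg.Agent.Lib.Perm.Trans.SympSubf

/-!
# Subfield subgroups of symplectic groups are maximal
-/

set_option autoImplicit false
set_option linter.all false

namespace CfsgLib.Perm.Trans.Symp

open scoped Matrix
open Matrix Cfsg.Geo CfsgLib.Perm.Asch CfsgLib.Perm.Trans
open CfsgLib.Perm.Trans.Subf (em lift em_add em_neg em_sub em_smul em_sum em_zero em_injective em_ne_zero exists_coords lift_em lift_mem ext_em)

variable {ι : Type} [Fintype ι] [DecidableEq ι] {F : Type*} [Field F] [Fintype F]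
variable {F₀ : Subfield F} {P : GL ι F}
variable {f : (ι → F) → (ι → F) → F} (hf : IsSymplecticForm f) (hrat : ∀ a b, f (em F₀ P a) (em F₀ P b) ∈ F₀)
include hf hrat

theorem eq_of_pairings {u v : ι → F} (h : ∀ a : ι → F₀, f u (em F₀ P a) = f v (em F₀ P a)) : u = v := by
  by_contra hne
  obtain ⟨y, hy⟩ := (hf.nondegenerate _ (sub_ne_zero.2 hne)).2
  obtain ⟨a, rfl⟩ := exists_coords F₀ P y
  refine hy ?_
  rw [f_sum_right hf]
  exact Finset.sum_eq_zero fun i _ => by rw [sub_left hf, h, sub_self, mul_zero]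

theorem not_span_single {e x : ι → F₀} (h : x ∉ Submodule.span F₀ ({e} : Set (ι → F₀))) (he : e ≠ 0) :
    e ∉ Submodule.span F₀ ({x} : Set (ι → F₀)) := by
  intro hm
  obtain ⟨c, hc⟩ := Submodule.mem_span_singleton.1 hm
  have hc0 : c ≠ 0 := fun h0 => he (by rw [← hc, h0, zero_smul])
  exact h (Submodule.mem_span_singleton.2 ⟨c⁻¹, by rw [← hc, smul_smul, inv_mul_cancel₀ hc0, one_smul]⟩)

/-- coefficients of a rational line -/
theorem coeff_mem {e x : ι → F₀} (he : e ∉ Submodule.span F₀ ({x} : Set (ι → F₀))) {p q t : F} {d : ι → F₀}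
    (h : p • em F₀ P e + q • em F₀ P x = t • em F₀ P d) : ∃ a : F₀, p = t * (a : F) := by
  obtain ⟨w, hw, hxw⟩ := exists_val hf hrat he
  refine ⟨f₀ hrat d w, ?_⟩
  have h1 := congrArg (fun y => f y (em F₀ P w)) h
  simp only [hf.bilinear.add_left, hf.bilinear.smul_left, f_one hrat hw, f_zero hrat (hxw x rfl)] at h1
  rw [f₀_coe]
  linear_combination h1

theorem exists_orth_two (hn : 6 ≤ Fintype.card ι) (u v : ι → F₀) :
    ∃ z, f₀ hrat u z = 0 ∧ f₀ hrat v z = 0 ∧ z ∉ Submodule.span F₀ ({u, v} : Set (ι → F₀)) := by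
  obtain ⟨z, hz, hzn⟩ := exists_orth hf hrat ![u, v] (by omega)
  refine ⟨z, hz 0, hz 1, ?_⟩
  rwa [Matrix.range_cons_cons_empty] at hzn

variable {M : Subgroup (GL ι F)} (hHM : subfieldSubgroup F₀ P ⊓ isoSub f ≤ M) (hM : M ≤ isoSub f)
include hHM hM

/-- a centre orthogonal to a rational vector gives one in a rational isotropic plane -/
theorem centre_in_plane {v : ι → F} {c : F} (hc : c ≠ 0) (hvc : stv hf v c ∈ M)
    (hirr : ∀ (t : F) (d : ι → F₀), v ≠ t • em F₀ P d) {x : ι → F₀} (hx : x ≠ 0) (hvx : f v (em F₀ P x) = 0) :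
    ∃ (e x : ι → F₀) (γ : F) (k : F₀), f₀ hrat e x = 0 ∧ x ∉ Submodule.span F₀ ({e} : Set (ι → F₀)) ∧ e ≠ 0 ∧
      γ ∉ F₀ ∧ k ≠ 0 ∧ stv hf (em F₀ P e + γ • em F₀ P x) (k : F) ∈ M := by
  have hf' := f₀_symplectic hf hrat
  obtain ⟨z, hxz, -⟩ := exists_val hf hrat (S := (∅ : Set (ι → F₀))) (x := x) (by simpa using hx)
  have hdecomp : ∀ a : ι → F₀, f₀ hrat x (a - f₀ hrat x a • z) = 0 := fun a => by
    rw [sub_right hf', hf'.bilinear.smul_right, hxz, mul_one, sub_self]
  have hfdec : ∀ a : ι → F₀, f v (em F₀ P a) =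
      f v (em F₀ P (a - f₀ hrat x a • z)) + f (em F₀ P x) (em F₀ P a) * f v (em F₀ P z) := fun a => by
    rw [em_sub, em_smul, sub_right hf, hf.bilinear.smul_right, f₀_coe]
    ring
  obtain ⟨y, hxy, hvy⟩ : ∃ y, f₀ hrat x y = 0 ∧ f v (em F₀ P y) ≠ 0 := by
    by_contra hcon
    push Not at hcon
    refine hirr (f v (em F₀ P z)) x (eq_of_pairings hf hrat fun a => ?_)
    rw [hfdec a, hcon _ (hdecomp a), hf.bilinear.smul_left]
    ring
  obtain ⟨φ₀, hφ₀⟩ : ∃ φ, φ = f v (em F₀ P y) := ⟨_, rfl⟩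
  rw [← hφ₀] at hvy
  have hxy' := f_zero hrat hxy
  have hv' : stv hf (v + φ₀ • em F₀ P x) c ∈ M := by
    have h1 := stv_conj_mem hf hM (rat_sh hf hrat hHM hxy 1) hvc
    rwa [sh_mulVec hf hxy', hvx, ← hφ₀, mul_zero, zero_smul, add_zero,
      show ((1 : F₀) : F) * φ₀ = φ₀ by push_cast; ring] at h1
  have hvinv : stv hf v (-c) ∈ M := by
    have : stv hf v (-c) = (stv hf v c)⁻¹ := eq_inv_of_mul_eq_one_left (by rw [stv_mul, neg_add_cancel, stv_zero])
    rw [this]
    exact M.inv_mem hvc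
  have hE : ∀ e : ι → F₀, f₀ hrat e x = 0 →
      stv hf (em F₀ P e + (c * φ₀ * f (em F₀ P e) v) • em F₀ P x) 1 ∈ M := by
    intro e hex
    have h1 : stv hf (em F₀ P e) 1 ∈ M := by
      have := rat_tv hf hrat hHM e 1
      push_cast at this
      exact this
    have h2 := stv_conj_mem hf hM (M.mul_mem hv' hvinv) h1
    convert h2 using 2
    rw [gl_mul_mulVec, stv_mulVec hf v, stv_mulVec hf (v + φ₀ • em F₀ P x)]
    simp only [hf.bilinear.add_left, hf.bilinear.add_right, hf.bilinear.smul_left, hf.bilinear.smul_right,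
      f_zero hrat hex, hvx, hf.alternating, mul_zero, add_zero]
    module
  by_cases hgood : ∃ e, f₀ hrat e x = 0 ∧ c * φ₀ * f (em F₀ P e) v ∉ F₀
  · obtain ⟨e, hex, hγ⟩ := hgood
    have he : e ≠ 0 := fun h0 => hγ (by rw [h0, em_zero, zero_left hf, mul_zero]; exact F₀.zero_mem)
    refine ⟨e, x, _, 1, hex, fun hm => hγ ?_, he, hγ, one_ne_zero, by push_cast; exact hE e hex⟩
    obtain ⟨a, ha⟩ := Submodule.mem_span_singleton.1 hm
    have ha0 : a ≠ 0 := fun h0 => hx (by rw [← ha, h0, zero_smul])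
    have h0 : f (em F₀ P e) v = 0 := by
      have h1 := swap_zero hf hvx
      rw [← ha, em_smul, hf.bilinear.smul_left] at h1
      exact (mul_eq_zero.1 h1).resolve_left fun h2 => ha0 (Subtype.ext h2)
    rw [h0, mul_zero]
    exact F₀.zero_mem
  push Not at hgood
  have hyx : f₀ hrat y x = 0 := swap_zero hf' hxy
  have hk : c * φ₀ * φ₀ ∈ F₀ := by
    have h1 := F₀.neg_mem (hgood y hyx)
    rwa [hf.skew (em F₀ P y) v, ← hφ₀, mul_neg, neg_neg] at h1
  have hk0 : c * φ₀ * φ₀ ≠ 0 := mul_ne_zero (mul_ne_zero hc hvy) hvy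
  have hrat' : ∀ a, f₀ hrat x a = 0 → f v (em F₀ P a) / φ₀ ∈ F₀ := fun a ha => by
    have h1 := F₀.neg_mem (hgood a (swap_zero hf' ha))
    rw [hf.skew (em F₀ P a) v, mul_neg, neg_neg] at h1
    have h2 := F₀.div_mem h1 hk
    rwa [show c * φ₀ * f v (em F₀ P a) / (c * φ₀ * φ₀) = f v (em F₀ P a) / φ₀ by field_simp] at h2
  let g₀ : (ι → F₀) →ₗ[F₀] F₀ :=
    { toFun := fun a => ⟨f v (em F₀ P (a - f₀ hrat x a • z)) / φ₀, hrat' _ (hdecomp a)⟩
      map_add' := fun a b => Subtype.ext (by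
        push_cast
        rw [hf'.bilinear.add_right, add_smul, add_sub_add_comm, em_add, hf.bilinear.add_right, add_div])
      map_smul' := fun s a => Subtype.ext (by
        push_cast [RingHom.id_apply, smul_eq_mul]
        rw [hf'.bilinear.smul_right, mul_smul, ← smul_sub, em_smul, hf.bilinear.smul_right, mul_div_assoc]) }
  obtain ⟨r', hr'⟩ := exists_rep hf' (fvec g₀)
  obtain ⟨r, hr⟩ : ∃ r, r = -r' := ⟨_, rfl⟩
  have hra : ∀ a, f₀ hrat r a = g₀ a := fun a => by
    rw [hr, neg_left hf', hf'.skew r' a, hr', fvec_dot, neg_neg]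
  have hrF : ∀ a, f (em F₀ P r) (em F₀ P a) = f v (em F₀ P (a - f₀ hrat x a • z)) / φ₀ := fun a => by
    rw [← f₀_coe hrat, hra]; rfl
  have hvr : v = φ₀ • em F₀ P r + f v (em F₀ P z) • em F₀ P x := eq_of_pairings hf hrat fun a => by
    rw [hfdec a, hf.bilinear.add_left, hf.bilinear.smul_left, hf.bilinear.smul_left, hrF, mul_div_cancel₀ _ hvy]
    ring
  have hrx : f₀ hrat r x = 0 := Subtype.ext (by
    rw [f₀_coe, hrF, hf'.alternating, zero_smul, sub_zero, hvx, zero_div]; rfl)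
  have hry : f₀ hrat r y = 1 := Subtype.ext (by
    rw [f₀_coe, hrF, hxy, zero_smul, sub_zero, ← hφ₀, div_self hvy]; rfl)
  have hr0 : r ≠ 0 := fun h0 => one_ne_zero (hry.symm.trans (by rw [h0, zero_left hf']))
  have hxr : x ∉ Submodule.span F₀ ({r} : Set (ι → F₀)) := fun hm => by
    obtain ⟨a, ha⟩ := Submodule.mem_span_singleton.1 hm
    have h1 := hxy
    rw [← ha, hf'.bilinear.smul_left, hry, mul_one] at h1
    exact hx (by rw [← ha, h1, zero_smul])
  obtain ⟨γ, hγdef⟩ : ∃ γ, γ = f v (em F₀ P z) / φ₀ := ⟨_, rfl⟩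
  have hvγ : v = φ₀ • (em F₀ P r + γ • em F₀ P x) := by
    rw [smul_add, smul_smul, hγdef, mul_div_cancel₀ _ hvy]
    exact hvr
  refine ⟨r, x, γ, ⟨c * φ₀ * φ₀, hk⟩, hrx, hxr, hr0, fun hγ => ?_, fun h0 => hk0 (congrArg Subtype.val h0), ?_⟩
  · refine hirr φ₀ (r + (⟨γ, hγ⟩ : F₀) • x) ?_
    rw [em_add, em_smul]
    exact hvγ
  · show stv hf (em F₀ P r + γ • em F₀ P x) (c * φ₀ * φ₀) ∈ M
    rwa [hvγ, stv_smul, show φ₀ * φ₀ * c = c * φ₀ * φ₀ by ring] at hvc

/-- irrational centres give one in a rational isotropic plane -/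
theorem exists_plane_centre (hn : 6 ≤ Fintype.card ι) {r : ℕ} (hr : r.Prime)
    (hcard : Fintype.card F = Nat.card F₀ ^ r) {v : ι → F} {c : F} (hc : c ≠ 0) (hvc : stv hf v c ∈ M)
    (hirr : ∀ (t : F) (d : ι → F₀), v ≠ t • em F₀ P d) :
    ∃ (e x : ι → F₀) (γ : F) (k : F₀), f₀ hrat e x = 0 ∧ x ∉ Submodule.span F₀ ({e} : Set (ι → F₀)) ∧ e ≠ 0 ∧
      γ ∉ F₀ ∧ k ≠ 0 ∧ stv hf (em F₀ P e + γ • em F₀ P x) (k : F) ∈ M := by
  have hf' := f₀_symplectic hf hrat
  by_cases hx : ∃ x : ι → F₀, x ≠ 0 ∧ f v (em F₀ P x) = 0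
  · obtain ⟨x, hx0, hvx⟩ := hx
    exact centre_in_plane hf hrat hHM hM hc hvc hirr hx0 hvx
  push Not at hx
  have hr2 : 2 < r := by
    have hinj : Function.Injective fun a : ι → F₀ => f v (em F₀ P a) := fun a b hab => by
      by_contra hne
      exact hx (a - b) (sub_ne_zero.2 hne) (by
        rw [em_sub, sub_right hf]; exact sub_eq_zero.2 hab)
    have h1 := Nat.card_le_card_of_injective _ hinj
    rw [Nat.card_fun, Nat.card_eq_fintype_card (α := F), Nat.card_eq_fintype_card (α := ι), hcard] at h1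
    have h2 := (Nat.pow_le_pow_iff_right (Finite.one_lt_card : 1 < Nat.card F₀)).1 h1
    omega
  have hone : ∀ {u : ι → F} (a : ι → F₀), stv hf (em F₀ P a) 1 ∈ M := fun {u} a => by
    have := rat_tv hf hrat hHM a 1
    push_cast at this
    exact this
  obtain ⟨i⟩ : Nonempty ι := Fintype.card_pos_iff.1 (by omega)
  have hu0 : (Pi.single i 1 : ι → F₀) ≠ 0 := fun h => one_ne_zero (α := F₀) (by simpa using congrFun h i)
  obtain ⟨u, hu⟩ : ∃ u, u = (Pi.single i 1 : ι → F₀) := ⟨_, rfl⟩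
  rw [← hu] at hu0
  by_cases h2 : (2 : F) = 0
  · obtain ⟨e, hue, -, he'⟩ := exists_orth_two hf hrat hn u u
    have heu : e ∉ Submodule.span F₀ ({u} : Set (ι → F₀)) := fun h => he' (Submodule.span_mono (by simp) h)
    have he0 : e ≠ 0 := ne_zero_of_not_mem_span heu
    obtain ⟨w, huw, hew, hw'⟩ := exists_orth_two hf hrat hn u e
    have hwu : w ∉ Submodule.span F₀ ({u} : Set (ι → F₀)) := fun h => hw' (Submodule.span_mono (by simp) h)
    obtain ⟨φ, hφ⟩ : ∃ φ, φ = f (em F₀ P e) v := ⟨_, rfl⟩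
    obtain ⟨L, hL⟩ : ∃ L, L = f v (em F₀ P u) • em F₀ P w + f v (em F₀ P w) • em F₀ P u := ⟨_, rfl⟩
    have hv' : stv hf (v + L) c ∈ M := by
      have h1 := stv_conj_mem hf hM (rat_sh hf hrat hHM huw 1) hvc
      rw [sh_mulVec hf (f_zero hrat huw)] at h1
      push_cast at h1
      rwa [one_mul, one_mul, add_assoc, ← hL] at h1
    have hvinv : stv hf v (-c) ∈ M := by
      have : stv hf v (-c) = (stv hf v c)⁻¹ := eq_inv_of_mul_eq_one_left (by rw [stv_mul, neg_add_cancel, stv_zero])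
      rw [this]
      exact M.inv_mem hvc
    have h3 := stv_conj_mem hf hM (M.mul_mem hv' hvinv) (hone (u := v) e)
    have he : ((stv hf (v + L) c * stv hf v (-c) : GL ι F) : Matrix ι ι F) *ᵥ em F₀ P e = em F₀ P e + (c * φ) • L := by
      have hfL : f v L = 0 := by
        rw [hL, hf.bilinear.add_right, hf.bilinear.smul_right, hf.bilinear.smul_right]
        linear_combination f v (em F₀ P u) * f v (em F₀ P w) * h2
      have heL : f (em F₀ P e) L = 0 := by
        rw [hL, hf.bilinear.add_right, hf.bilinear.smul_right, hf.bilinear.smul_right,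
          swap_zero hf (f_zero hrat hue), f_zero hrat hew, mul_zero, mul_zero, add_zero]
      rw [gl_mul_mulVec, stv_mulVec hf v, stv_mulVec hf (v + L), ← hφ]
      simp only [hf.bilinear.add_left, hf.bilinear.add_right, hf.bilinear.smul_left, hf.alternating, hfL, heL, ← hφ,
        mul_zero, add_zero]
      module
    rw [he, hL, smul_add, smul_smul, smul_smul] at h3
    refine centre_in_plane hf hrat hHM hM one_ne_zero h3 (fun t d hd => ?_) hu0 ?_
    · -- the coefficients would be rational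
      have hfu : f v (em F₀ P u) ≠ 0 := hx u hu0
      have hfw : f v (em F₀ P w) ≠ 0 := hx w (ne_zero_of_not_mem_span hwu)
      have hφ0 : φ ≠ 0 := by rw [hφ]; exact fun h => hx e he0 (swap_zero hf h)
      have heS : e ∉ Submodule.span F₀ ({u, w} : Set (ι → F₀)) := by
        intro hm
        obtain ⟨a, b, hab⟩ := Submodule.mem_span_pair.1 hm
        rcases eq_or_ne b 0 with rfl | hb
        · exact heu (Submodule.mem_span_singleton.2 ⟨a, by rw [← hab, zero_smul, add_zero]⟩)
        · refine hw' (Submodule.mem_span_pair.2 ⟨-(b⁻¹ * a), b⁻¹, ?_⟩)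
          rw [← hab, smul_add, smul_smul, smul_smul, inv_mul_cancel₀ hb, one_smul, neg_smul]
          abel
      obtain ⟨w₁, hw₁, hw₁'⟩ := exists_val hf hrat heS
      obtain ⟨w₂, hw₂, hw₂'⟩ := exists_val hf hrat (x := w) (S := ({u, e} : Set (ι → F₀))) hw'
      obtain ⟨w₃, hw₃, hw₃'⟩ := exists_val hf hrat (x := u) (S := ({w, e} : Set (ι → F₀))) (by
        intro hm
        obtain ⟨a, b, hab⟩ := Submodule.mem_span_pair.1 hm
        rcases eq_or_ne a 0 with rfl | ha
        · rw [zero_smul, zero_add] at hab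
          have hb : b ≠ 0 := fun h0 => hu0 (by rw [← hab, h0, zero_smul])
          exact heu (Submodule.mem_span_singleton.2 ⟨b⁻¹, by rw [← hab, smul_smul, inv_mul_cancel₀ hb, one_smul]⟩)
        · refine hw' (Submodule.mem_span_pair.2 ⟨a⁻¹, -(a⁻¹ * b), ?_⟩)
          rw [← hab, smul_add, smul_smul, smul_smul, inv_mul_cancel₀ ha, one_smul, neg_smul]
          abel)
      have e1 := congrArg (fun y => f y (em F₀ P w₁)) hd
      have e2 := congrArg (fun y => f y (em F₀ P w₂)) hd
      have e3 := congrArg (fun y => f y (em F₀ P w₃)) hd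
      simp only [hf.bilinear.add_left, hf.bilinear.smul_left, f_one hrat hw₁, f_zero hrat (hw₁' u (by simp)),
        f_zero hrat (hw₁' w (by simp)), mul_zero, add_zero] at e1
      simp only [hf.bilinear.add_left, hf.bilinear.smul_left, f_one hrat hw₂, f_zero hrat (hw₂' u (by simp)),
        f_zero hrat (hw₂' e (by simp)), mul_zero, add_zero, zero_add, mul_one] at e2
      simp only [hf.bilinear.add_left, hf.bilinear.smul_left, f_one hrat hw₃, f_zero hrat (hw₃' w (by simp)),
        f_zero hrat (hw₃' e (by simp)), mul_zero, add_zero, zero_add, mul_one] at e3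
      have ht : t ≠ 0 := fun h0 => one_ne_zero (e1.trans (by rw [h0, zero_mul]))
      obtain ⟨s, hs⟩ : ∃ s : F₀, (s : F) = f v (em F₀ P u) / f v (em F₀ P w) := by
        refine ⟨f₀ hrat d w₂ / f₀ hrat d w₃, ?_⟩
        push_cast
        rw [f₀_coe, f₀_coe]
        have h4 : c * φ ≠ 0 := mul_ne_zero hc hφ0
        rw [← mul_div_mul_left _ _ ht, ← e2, ← e3, mul_div_mul_left _ _ h4]
      refine hx (u - s • w) (sub_ne_zero.2 fun h0 => ?_) ?_
      · have hs0 : s ≠ 0 := fun h1 => hu0 (by rw [h0, h1, zero_smul])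
        exact hwu (Submodule.mem_span_singleton.2 ⟨s⁻¹, by rw [h0, smul_smul, inv_mul_cancel₀ hs0, one_smul]⟩)
      · rw [em_sub, em_smul, sub_right hf, hf.bilinear.smul_right, hs, div_mul_cancel₀ _ hfw, sub_self]
    · simp only [hf.bilinear.add_left, hf.bilinear.smul_left, swap_zero hf (f_zero hrat hue),
        swap_zero hf (f_zero hrat huw), hf.alternating, mul_zero, add_zero]
  · obtain ⟨h, huh, -⟩ := exists_val hf hrat (S := (∅ : Set (ι → F₀))) (x := u) (by simpa using hu0)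
    obtain ⟨g, hgM, hgu, hgh, hgfix⟩ := rat_neg hf hrat hHM huh
    have huh' := f_one hrat huh
    have hhu' : f (em F₀ P h) (em F₀ P u) = -1 := by rw [hf.skew, huh']
    have hgform : ∀ a : ι → F₀, (g : Matrix ι ι F) *ᵥ em F₀ P a = em F₀ P a -
        (2 * f (em F₀ P a) (em F₀ P h)) • em F₀ P u + (2 * f (em F₀ P a) (em F₀ P u)) • em F₀ P h := by
      intro a
      obtain ⟨a', ha'⟩ : ∃ a', a' = a - f₀ hrat a h • u + f₀ hrat a u • h := ⟨_, rfl⟩
      have hhu : f₀ hrat h u = -1 := by rw [hf'.skew, huh]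
      have h1 : f₀ hrat a' u = 0 := by
        rw [ha', hf'.bilinear.add_left, sub_left hf', hf'.bilinear.smul_left, hf'.bilinear.smul_left, hf'.alternating,
          hhu]
        ring
      have h3 : f₀ hrat a' h = 0 := by
        rw [ha', hf'.bilinear.add_left, sub_left hf', hf'.bilinear.smul_left, hf'.bilinear.smul_left, hf'.alternating,
          huh]
        ring
      have h4 := hgfix a' h1 h3
      rw [ha', em_add, em_sub, em_smul, em_smul, f₀_coe, f₀_coe, mulVec_add, mulVec_sub, mulVec_smul, mulVec_smul,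
        hgu, hgh] at h4
      linear_combination (norm := module) h4
    have hgv : (g : Matrix ι ι F) *ᵥ v = v - (2 * f v (em F₀ P h)) • em F₀ P u +
        (2 * f v (em F₀ P u)) • em F₀ P h := by
      obtain ⟨a, rfl⟩ := exists_coords F₀ P v
      rw [mulVec_sum, f_sum_left hf, f_sum_left hf, Finset.mul_sum, Finset.mul_sum, Finset.sum_smul,
        Finset.sum_smul, ← Finset.sum_sub_distrib, ← Finset.sum_add_distrib]
      refine Finset.sum_congr rfl fun j _ => ?_
      rw [mulVec_smul, hgform, smul_add, smul_sub, smul_smul, smul_smul]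
      congr 2 <;> ring_nf
    have hv' : stv hf ((g : Matrix ι ι F) *ᵥ v) c ∈ M := stv_conj_mem hf hM hgM hvc
    obtain ⟨A', hA'⟩ : ∃ A, A = f v (em F₀ P h) := ⟨_, rfl⟩
    obtain ⟨B', hB'⟩ : ∃ B, B = f v (em F₀ P u) := ⟨_, rfl⟩
    rw [← hA', ← hB'] at hgv
    have hA0 : A' ≠ 0 := hA' ▸ hx h (fun h0 => one_ne_zero (huh.symm.trans (by rw [h0, zero_right hf'])))
    have hB0 : B' ≠ 0 := hB' ▸ hx u hu0
    rw [hgv] at hv'
    have hm := M.mul_mem hvc hv'
    have hmap : ∀ y : ι → F₀,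
        f (em F₀ P y) (v - (2 * A') • em F₀ P u + (2 * B') • em F₀ P h) = -f (em F₀ P y) v →
        ((stv hf v c * stv hf (v - (2 * A') • em F₀ P u + (2 * B') • em F₀ P h) c : GL ι F) : Matrix ι ι F) *ᵥ
          em F₀ P y = em F₀ P y + (2 * c * f (em F₀ P y) v) • (A' • em F₀ P u - B' • em F₀ P h) := by
      intro y hy
      have h0 : f (v - (2 * A') • em F₀ P u + (2 * B') • em F₀ P h) v = 0 := by
        rw [hf.bilinear.add_left, sub_left hf, hf.bilinear.smul_left, hf.bilinear.smul_left, hf.alternating,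
          hf.skew (em F₀ P u) v, hf.skew (em F₀ P h) v, ← hA', ← hB']
        ring
      rw [gl_mul_mulVec, stv_mulVec, stv_mulVec, hy, hf.bilinear.add_left, hf.bilinear.smul_left, h0]
      module
    have hfu : f (em F₀ P u) v = -B' := by rw [hf.skew, hB']
    have hfh : f (em F₀ P h) v = -A' := by rw [hf.skew, hA']
    have hmu := stv_conj_mem hf hM hm (hone (u := v) u)
    have hmh := stv_conj_mem hf hM hm (hone (u := v) h)
    rw [hmap u (by
      rw [hf.bilinear.add_right, sub_right hf, hf.bilinear.smul_right, hf.bilinear.smul_right, hf.alternating, huh',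
        hfu]
      ring), hfu, show em F₀ P u + (2 * c * -B') • (A' • em F₀ P u - B' • em F₀ P h) =
        (1 - 2 * c * A' * B') • em F₀ P u + (2 * c * B' * B') • em F₀ P h by module] at hmu
    rw [hmap h (by
      rw [hf.bilinear.add_right, sub_right hf, hf.bilinear.smul_right, hf.bilinear.smul_right, hf.alternating, hhu',
        hfh]
      ring), hfh, show em F₀ P h + (2 * c * -A') • (A' • em F₀ P u - B' • em F₀ P h) =
        (-(2 * c * A' * A')) • em F₀ P u + (1 + 2 * c * A' * B') • em F₀ P h by module] at hmh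
    obtain ⟨z, huz, hhz, hz'⟩ := exists_orth_two hf hrat hn u h
    have hz0 := ne_zero_of_not_mem_span hz'
    have hperp : ∀ p q : F, f (p • em F₀ P u + q • em F₀ P h) (em F₀ P z) = 0 := fun p q => by
      rw [hf.bilinear.add_left, hf.bilinear.smul_left, hf.bilinear.smul_left, f_zero hrat huz, f_zero hrat hhz,
        mul_zero, mul_zero, add_zero]
    by_cases hi1 : ∀ (t : F) (d : ι → F₀),
        (1 - 2 * c * A' * B') • em F₀ P u + (2 * c * B' * B') • em F₀ P h ≠ t • em F₀ P d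
    · exact centre_in_plane hf hrat hHM hM one_ne_zero hmu hi1 hz0 (hperp _ _)
    by_cases hi2 : ∀ (t : F) (d : ι → F₀),
        (-(2 * c * A' * A')) • em F₀ P u + (1 + 2 * c * A' * B') • em F₀ P h ≠ t • em F₀ P d
    · exact centre_in_plane hf hrat hHM hM one_ne_zero hmh hi2 hz0 (hperp _ _)
    push Not at hi1 hi2
    obtain ⟨t₁, d₁, e1⟩ := hi1
    obtain ⟨t₂, d₂, e2⟩ := hi2
    exfalso
    have hhu : h ∉ Submodule.span F₀ ({u} : Set (ι → F₀)) := fun hm => by
      obtain ⟨a, ha⟩ := Submodule.mem_span_singleton.1 hm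
      rw [← ha, hf'.bilinear.smul_right, hf'.alternating, mul_zero] at huh
      exact zero_ne_one huh
    have huh0 : u ∉ Submodule.span F₀ ({h} : Set (ι → F₀)) := not_span_single hf hrat hhu hu0
    obtain ⟨a₁, ha₁⟩ := coeff_mem hf hrat huh0 e1
    obtain ⟨b₁, hb₁⟩ := coeff_mem hf hrat hhu (p := 2 * c * B' * B') (by rw [add_comm]; exact e1)
    obtain ⟨a₂, ha₂⟩ := coeff_mem hf hrat huh0 e2
    obtain ⟨b₂, hb₂⟩ := coeff_mem hf hrat hhu (p := 1 + 2 * c * A' * B') (by rw [add_comm]; exact e2)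
    obtain ⟨p, hp⟩ : ∃ p, p = 2 * c * A' * B' := ⟨_, rfl⟩
    obtain ⟨A, hA⟩ : ∃ A, A = 2 * c * A' * A' := ⟨_, rfl⟩
    obtain ⟨B, hB⟩ : ∃ B, B = 2 * c * B' * B' := ⟨_, rfl⟩
    rw [← hp] at ha₁ hb₂
    rw [← hB] at hb₁
    rw [← hA] at ha₂
    have hAB : A * B = p * p := by rw [hA, hB, hp]; ring
    have hpne : p ≠ 0 := hp ▸ mul_ne_zero (mul_ne_zero (mul_ne_zero h2 hc) hA0) hB0
    have hX : 1 - p ≠ 0 → B / (1 - p) ∈ F₀ := fun h => by
      rw [ha₁] at h
      rw [hb₁, ha₁, mul_div_mul_left _ _ (left_ne_zero_of_mul h)]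
      exact F₀.div_mem b₁.2 a₁.2
    have hY : 1 + p ≠ 0 → A / (1 + p) ∈ F₀ := fun h => by
      rw [hb₂] at h
      rw [show A = -(t₂ * (a₂ : F)) by linear_combination -ha₂, hb₂, neg_div,
        mul_div_mul_left _ _ (left_ne_zero_of_mul h)]
      exact F₀.neg_mem (F₀.div_mem a₂.2 b₂.2)
    have hpF : p ∈ F₀ := by
      by_cases h1 : 1 - p = 0
      · rw [← sub_eq_zero.1 h1]; exact F₀.one_mem
      by_cases h3 : 1 + p = 0
      · rw [eq_neg_of_add_eq_zero_right h3]; exact F₀.neg_mem F₀.one_mem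
      refine Subf.mem_of_sq_mem hr hr2 hcard ?_
      have hXY := F₀.mul_mem (hX h1) (hY h3)
      obtain ⟨X, hXdef⟩ : ∃ X, X = B / (1 - p) * (A / (1 + p)) := ⟨_, rfl⟩
      rw [← hXdef] at hXY
      have hrel : p * p = X * (1 - p * p) := by
        rw [hXdef, ← hAB]; field_simp; rw [hAB]; ring
      have hX1 : 1 + X ≠ 0 := fun h => one_ne_zero (α := F) (by linear_combination (1 - p * p) * h + hrel)
      rw [show p * p = X / (1 + X) by rw [eq_div_iff hX1]; linear_combination hrel]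
      exact F₀.div_mem hXY (F₀.add_mem F₀.one_mem hXY)
    have hratio : A' / B' ∈ F₀ := by
      by_cases h1 : 1 - p = 0
      · have h3 : 1 + p ≠ 0 := by
          rw [← sub_eq_zero.1 h1, one_add_one_eq_two]; exact h2
        have hAF : A ∈ F₀ := by
          have := F₀.mul_mem (hY h3) (F₀.add_mem F₀.one_mem hpF)
          rwa [div_mul_cancel₀ _ h3] at this
        rw [show A' / B' = A / p by rw [hA, hp]; field_simp]
        exact F₀.div_mem hAF hpF
      · have hBF : B ∈ F₀ := by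
          have := F₀.mul_mem (hX h1) (F₀.sub_mem F₀.one_mem hpF)
          rwa [div_mul_cancel₀ _ h1] at this
        rw [show A' / B' = p / B by rw [hB, hp]; field_simp]
        exact F₀.div_mem hpF hBF
    refine hx (h - (⟨_, hratio⟩ : F₀) • u) (sub_ne_zero.2 fun h0 => hhu (Submodule.mem_span_singleton.2 ⟨_, h0.symm⟩)) ?_
    rw [em_sub, em_smul, sub_right hf, hf.bilinear.smul_right, ← hA', ← hB']
    show A' - A' / B' * B' = 0
    rw [div_mul_cancel₀ _ hB0, sub_self]

/-- shearing a short element -/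
theorem long_of_short {e z : ι → F₀} (hez : f₀ hrat e z = 0) (he : e ∉ Submodule.span F₀ ({z} : Set (ι → F₀)))
    {s : F} (hs : sh hf (em F₀ P e) (em F₀ P z) s ∈ M) : stv hf (em F₀ P z) (2 * s) ∈ M := by
  obtain ⟨w, hw, hw'⟩ := exists_val hf hrat he
  have hzw : f₀ hrat z w = 0 := hw' z rfl
  have hf' := f₀_symplectic hf hrat
  have hg := rat_sh hf hrat hHM hzw 1
  have h1 := sh_conj_mem hf hM hg hs
  have hge : (sh hf (em F₀ P z) (em F₀ P w) ((1 : F₀) : F) : Matrix ι ι F) *ᵥ em F₀ P e = em F₀ P e + em F₀ P z := by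
    rw [sh_mulVec hf (f_zero hrat hzw), f_zero hrat hez, f_one hrat hw]
    push_cast
    simp
  have hgz : (sh hf (em F₀ P z) (em F₀ P w) ((1 : F₀) : F) : Matrix ι ι F) *ᵥ em F₀ P z = em F₀ P z := by
    rw [sh_mulVec hf (f_zero hrat hzw), hf.alternating, f_zero hrat hzw]
    simp
  rw [hge, hgz] at h1
  have h2 := M.mul_mem (M.inv_mem hs) h1
  have heq : sh hf (em F₀ P e) (em F₀ P z) s * stv hf (em F₀ P z) (2 * s) =
      sh hf (em F₀ P e + em F₀ P z) (em F₀ P z) s := gl_ext_vec fun y => by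
    have hez' := f_zero hrat hez
    rw [gl_mul_mulVec, sh_mulVec hf hez', stv_mulVec, sh_mulVec hf (by
      rw [hf.bilinear.add_left, hez', hf.alternating, add_zero])]
    simp only [hf.bilinear.add_left, hf.bilinear.add_right, hf.bilinear.smul_left, hf.alternating, hez',
      swap_zero hf hez', mul_zero, add_zero]
    module
  rwa [← heq, inv_mul_cancel_left] at h2

omit hf hrat hHM hM in
theorem half_mem (C : AddSubgroup F) (h2 : (2 : F) ≠ 0) {y : F} (h : 2 * y ∈ C) : y ∈ C := by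
  obtain ⟨p, hp⟩ := CharP.exists F
  obtain ⟨n, hp', -⟩ := FiniteField.card F p
  rcases hp'.eq_two_or_odd' with rfl | hodd
  · exact absurd (by exact_mod_cast CharP.cast_eq_zero F 2) h2
  obtain ⟨j, hj⟩ := hodd
  have h1 := C.nsmul_mem h (j + 1)
  rwa [nsmul_eq_mul, ← mul_assoc, show (((j + 1 : ℕ)) : F) * 2 = ((p + 1 : ℕ) : F) by rw [hj]; push_cast; ring,
    Nat.cast_add, CharP.cast_eq_zero, zero_add, Nat.cast_one, one_mul] at h1

/-- all transvections at rational vectors -/
theorem cset_eq_top (hn : 6 ≤ Fintype.card ι) {r : ℕ} (hr : r.Prime) (hcard : Fintype.card F = Nat.card F₀ ^ r)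
    {v : ι → F} {c : F} (hc : c ≠ 0) (hvc : stv hf v c ∈ M)
    (hirr : ∀ (t : F) (d : ι → F₀), v ≠ t • em F₀ P d) (a : ι → F₀) (y : F) : stv hf (em F₀ P a) y ∈ M := by
  have hf' := f₀_symplectic hf hrat
  obtain ⟨e, x, γ, k, hex, hxe, he0, hγ, hk, hmem⟩ := exists_plane_centre hf hrat hHM hM hn hr hcard hc hvc hirr
  obtain ⟨z, hez, hxz, hz'⟩ := exists_orth_two hf hrat hn e x
  have hex' := f_zero hrat hex
  have hx0 : x ≠ 0 := ne_zero_of_not_mem_span hxe
  have hk' : (k : F) ≠ 0 := fun h => hk (Subtype.ext h)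
  have hze : z ∉ Submodule.span F₀ ({e} : Set (ι → F₀)) := fun h => hz' (Submodule.span_mono (by simp) h)
  have hxez : x ∉ Submodule.span F₀ ({e, z} : Set (ι → F₀)) := by
    intro hm
    obtain ⟨p, q, hpq⟩ := Submodule.mem_span_pair.1 hm
    rcases eq_or_ne q 0 with rfl | hq
    · exact hxe (Submodule.mem_span_singleton.2 ⟨p, by rw [← hpq, zero_smul, add_zero]⟩)
    · refine hz' (Submodule.mem_span_pair.2 ⟨-(q⁻¹ * p), q⁻¹, ?_⟩)
      rw [← hpq, smul_add, smul_smul, smul_smul, inv_mul_cancel₀ hq, one_smul, neg_smul]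
      abel
  obtain ⟨w, hxw, hw'⟩ := exists_val hf hrat hxez
  have hew : f₀ hrat e w = 0 := hw' e (by simp)
  have hexw' := f_zero hrat hew
  have hxw' := f_one hrat hxw
  have hinv : ∀ {u : ι → F} {s : F}, stv hf u s ∈ M → stv hf u (-s) ∈ M := fun {u s} h => by
    have : stv hf u (-s) = (stv hf u s)⁻¹ := eq_inv_of_mul_eq_one_left (by rw [stv_mul, neg_add_cancel, stv_zero])
    rw [this]
    exact M.inv_mem h
  let C := cset (P := P) hf hM e
  have hrot : ∀ {s t : F}, sh hf (em F₀ P e) (em F₀ P x) s * stv hf (em F₀ P e) t ∈ M →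
      stv hf (em F₀ P z) (2 * s) ∈ M ∧ t ∈ C := by
    intro s t h
    have h1 := short_shift hf hrat hHM hex hez hxz hxez hM h
    refine ⟨long_of_short hf hrat hHM hM hez (not_span_single hf hrat hze he0) h1, ?_⟩
    have h2 := short_shift hf hrat hHM hez hex (swap_zero hf' hxz) hz' hM (s := s) (t := 0)
      (by rwa [stv_zero, mul_one])
    show stv hf (em F₀ P e) t ∈ M
    have h3 := M.mul_mem (M.inv_mem h2) h
    rwa [inv_mul_cancel_left] at h3
  have hz0 := ne_zero_of_not_mem_span hze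
  have hlong2 : ∀ {s t : F}, sh hf (em F₀ P e) (em F₀ P x) s * stv hf (em F₀ P e) t ∈ M → 2 * s ∈ C :=
    fun {s t} h => cset_move hf hrat hHM hM hz0 he0 (hrot h).1
  have hF₀ : ∀ s : F₀, (s : F) ∈ C := fun s => rat_tv hf hrat hHM e s
  -- an element outside the subfield
  obtain ⟨s₀, hs₀, hs₀F⟩ : ∃ s ∈ C, s ∉ F₀ := by
    by_cases h2 : (2 : F) = 0
    · -- the shear `x ↦ x + e`
      have hg := rat_sh hf hrat hHM hew 1
      have h1 := stv_conj_mem hf hM hg hmem
      have hge : (sh hf (em F₀ P e) (em F₀ P w) ((1 : F₀) : F) : Matrix ι ι F) *ᵥ (em F₀ P e + γ • em F₀ P x) =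
          (1 + γ) • em F₀ P e + γ • em F₀ P x := by
        rw [sh_mulVec hf hexw']
        simp only [hf.bilinear.add_left, hf.bilinear.smul_left, hf.alternating, swap_zero hf hex', hexw', hxw']
        push_cast
        module
      rw [hge] at h1
      have h4 := M.mul_mem h1 (hinv hmem)
      have heq : stv hf ((1 + γ) • em F₀ P e + γ • em F₀ P x) (k : F) * stv hf (em F₀ P e + γ • em F₀ P x) (-(k : F)) =
          sh hf (em F₀ P e) (em F₀ P x) ((k : F) * γ * γ) * stv hf (em F₀ P e) ((k : F) * γ * γ) :=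
        gl_ext_vec fun y => by
          rw [gl_mul_mulVec, gl_mul_mulVec, sh_mulVec hf hex', stv_mulVec, stv_mulVec, stv_mulVec]
          simp only [hf.bilinear.add_left, hf.bilinear.add_right, hf.bilinear.smul_left, hf.bilinear.smul_right,
            hf.alternating, hex', swap_zero hf hex', mul_zero, add_zero]
          match_scalars <;> first
            | ring1
            | linear_combination ((k : F) * γ * f y (em F₀ P e)) * h2
            | linear_combination -((k : F) * γ * f y (em F₀ P e)) * h2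
      rw [heq] at h4
      refine ⟨(k : F) * γ * γ, (hrot h4).2, fun hm => ?_⟩
      have hγ2 : γ * γ ∈ F₀ := by
        have := F₀.div_mem hm k.2
        rwa [mul_assoc, mul_div_cancel_left₀ _ hk'] at this
      have h20 : (2 : F₀) = 0 := Subtype.ext (by push_cast; exact h2)
      obtain ⟨b, hb⟩ := (Finite.injective_iff_surjective (f := fun b : F₀ => b * b)).1 (fun p q (hpq : p * p = q * q) => by
        have h5 : (p - q) * (p - q) = 0 := by linear_combination hpq + (q * q - p * q) * h20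
        exact sub_eq_zero.1 (mul_self_eq_zero.1 h5)) ⟨γ * γ, hγ2⟩
      have hb' : (b : F) * b = γ * γ := congrArg Subtype.val hb
      refine hγ ?_
      have h5 : (γ - b) * (γ - b) = 0 := by linear_combination (b * b - γ * b) * h2 - hb'
      rw [sub_eq_zero.1 (mul_self_eq_zero.1 h5)]
      exact b.2
    · obtain ⟨g, hgM, hgx, -, hgfix⟩ := rat_neg hf hrat hHM hxw
      have hge := hgfix e hex hew
      have h1 := stv_conj_mem hf hM hgM hmem
      rw [mulVec_add, mulVec_smul, hgx, hge] at h1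
      have h4 := M.mul_mem hmem (hinv h1)
      have heq : stv hf (em F₀ P e + γ • em F₀ P x) (k : F) * stv hf (em F₀ P e + γ • -em F₀ P x) (-(k : F)) =
          sh hf (em F₀ P e) (em F₀ P x) (2 * (k : F) * γ) * stv hf (em F₀ P e) 0 :=
        gl_ext_vec fun y => by
          rw [gl_mul_mulVec, gl_mul_mulVec, sh_mulVec hf hex', stv_mulVec, stv_mulVec, stv_mulVec, zero_mul,
            zero_smul, add_zero]
          simp only [hf.bilinear.add_left, hf.bilinear.add_right, hf.bilinear.smul_left, hf.bilinear.smul_right,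
            neg_left hf, neg_right hf, hf.alternating, hex', swap_zero hf hex', mul_zero, neg_zero, add_zero]
          module
      rw [heq] at h4
      refine ⟨2 * (2 * (k : F) * γ), hlong2 h4, fun hm => hγ ?_⟩
      have h5 := F₀.div_mem hm (F₀.mul_mem (F₀.mul_mem (show (2 : F) ∈ F₀ by exact_mod_cast (2 : F₀).2)
        (show (2 : F) ∈ F₀ by exact_mod_cast (2 : F₀).2)) k.2)
      rwa [show 2 * (2 * (k : F) * γ) / (2 * 2 * (k : F)) = γ by field_simp] at h5
  -- closure under multiplication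
  have hP : ∀ c₁ ∈ C, ∀ c₂ ∈ C, sh hf (em F₀ P e) (em F₀ P x) (c₁ * c₂) * stv hf (em F₀ P e) (c₁ * (c₂ * c₂)) ∈ M := by
    intro c₁ hc₁ c₂ hc₂
    have hew0 : e + w ≠ 0 := fun h => by
      have h1 : w = -e := eq_neg_of_add_eq_zero_right h
      rw [h1, neg_right hf', swap_zero hf' hex, neg_zero] at hxw
      exact zero_ne_one hxw
    have hw0 : w ≠ 0 := fun h => by rw [h, zero_right hf'] at hxw; exact zero_ne_one hxw
    have hg := short_of_long hf hrat hHM hM he0 hw0 hew0 hc₂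
    have h1 := stv_conj_mem hf hM hg (cset_move hf hrat hHM hM he0 hx0 hc₁)
    have hgx : (sh hf (em F₀ P e) (em F₀ P w) c₂ : Matrix ι ι F) *ᵥ em F₀ P x = em F₀ P x + c₂ • em F₀ P e := by
      rw [sh_mulVec hf hexw', swap_zero hf hex', hxw']
      simp
    rw [hgx] at h1
    have h4 := M.mul_mem h1 (hinv (cset_move hf hrat hHM hM he0 hx0 hc₁))
    convert h4 using 1
    refine gl_ext_vec fun y => ?_
    rw [gl_mul_mulVec, gl_mul_mulVec, sh_mulVec hf hex', stv_mulVec, stv_mulVec, stv_mulVec]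
    simp only [hf.bilinear.add_left, hf.bilinear.add_right, hf.bilinear.smul_left, hf.bilinear.smul_right,
      hf.alternating, hex', swap_zero hf hex', mul_zero, add_zero]
    module
  have hone : (1 : F) ∈ C := by simpa using hF₀ 1
  have hmul : ∀ c₁ ∈ C, ∀ c₂ ∈ C, c₁ * c₂ ∈ C := by
    intro c₁ hc₁ c₂ hc₂
    by_cases h2 : (2 : F) = 0
    · have hsq : ∀ d ∈ C, d * d ∈ C := fun d hd => by simpa using (hrot (hP 1 hone d hd)).2
      obtain ⟨⟨d, hd⟩, hdd⟩ := (Finite.injective_iff_surjective (f := fun d : C => (⟨(d : F) * d, hsq d d.2⟩ : C))).1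
        (fun p q hpq => by
          have h5 : ((p : F) * p) = q * q := congrArg Subtype.val hpq
          have h6 : ((p : F) - q) * (p - q) = 0 := by linear_combination h5 + ((q : F) * q - p * q) * h2
          exact Subtype.ext (sub_eq_zero.1 (mul_self_eq_zero.1 h6))) ⟨c₂, hc₂⟩
      have hdd' : d * d = c₂ := congrArg Subtype.val hdd
      rw [← hdd']
      exact (hrot (hP c₁ hc₁ d hd)).2
    · exact half_mem C h2 (hlong2 (hP c₁ hc₁ c₂ hc₂))
  rcases eq_or_ne a 0 with rfl | ha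
  · rw [em_zero, stv_zero_left]
    exact M.one_mem
  exact cset_move hf hrat hHM hM he0 ha
    (Subf.eq_univ_of_closed hr hcard (C := (C : Set F)) (fun p hp q hq => C.add_mem hp hq) hmul hF₀ hs₀ hs₀F y)

/-- removing one vector by a detour through a dual vector -/
theorem step_pair (hrat_all : ∀ (a : ι → F₀) (y : F), stv hf (em F₀ P a) y ∈ M) (s : Finset (ι → F₀))
    (a : (ι → F₀) → F)
    (hrec : ∀ t : Finset (ι → F₀), t.card < s.card → ∀ b : (ι → F₀) → F, ∑ x ∈ t, b x • em F₀ P x ∈ centres hf M)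
    (hzero : ∀ x ∈ s, a x ≠ 0) {y : ι → F} (hy : y = ∑ x ∈ s, a x • em F₀ P x)
    (hA : ∀ x ∈ s, f y (em F₀ P x) = 0) {x₂ x₁ : ι → F₀} (hx₂ : x₂ ∈ s) (hx₁ : x₁ ∈ s) (h21 : x₂ ≠ x₁)
    (hne : f₀ hrat x₂ x₁ ≠ 1) : y ∈ centres hf M := by
  classical
  by_cases hdep : x₁ ∈ Submodule.span F₀ (↑(s.erase x₁) : Set (ι → F₀))
  · obtain ⟨b, -, hb⟩ := Submodule.mem_span_finset.1 hdep
    have : y = ∑ z ∈ s.erase x₁, (a z + a x₁ * (b z : F)) • em F₀ P z := by
      rw [hy, ← Finset.sum_erase_add s _ hx₁]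
      conv_lhs => arg 2; arg 2; rw [← hb, em_sum]
      rw [Finset.smul_sum]
      rw [← Finset.sum_add_distrib]
      refine Finset.sum_congr rfl fun z _ => ?_
      rw [em_smul, smul_smul, add_smul]
    rw [this]
    exact hrec _ (Finset.card_erase_lt_of_mem hx₁) _
  obtain ⟨h, hh, hh'⟩ := exists_val hf hrat hdep
  obtain ⟨rest, hrest⟩ : ∃ rest, rest = ∑ z ∈ (s.erase x₁).erase x₂, a z • em F₀ P z := ⟨_, rfl⟩
  have hx₂' : x₂ ∈ s.erase x₁ := Finset.mem_erase.2 ⟨h21, hx₂⟩
  have hy' : y = rest + a x₂ • em F₀ P x₂ + a x₁ • em F₀ P x₁ := by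
    rw [hy, hrest, Finset.sum_erase_add _ _ hx₂', Finset.sum_erase_add _ _ hx₁]
  have hfh : f y (em F₀ P h) = a x₁ := by
    rw [hy, f_sum_left hf, ← Finset.sum_erase_add s _ hx₁, f_one hrat hh, mul_one,
      Finset.sum_eq_zero (fun z hz => by rw [f_zero hrat (hh' z hz), mul_zero]), zero_add]
  have hsmall : rest + (-a x₂) • em F₀ P h ∈ centres hf M := by
    by_cases hm : h ∈ (s.erase x₁).erase x₂
    · have h1 := hrec ((s.erase x₁).erase x₂)
        (lt_of_le_of_lt (Finset.card_erase_le) (Finset.card_erase_lt_of_mem hx₁))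
        (Function.update a h (a h + -a x₂))
      rw [← Finset.sum_erase_add _ _ hm, Function.update_self, add_smul,
        Finset.sum_congr rfl (fun z hz => by rw [Function.update_of_ne (Finset.ne_of_mem_erase hz)]), ← add_assoc,
        Finset.sum_erase_add _ _ hm, ← hrest] at h1
      exact h1
    · have h1 := hrec (insert h ((s.erase x₁).erase x₂)) (by
        rw [Finset.card_insert_of_notMem hm, Finset.card_erase_of_mem hx₂', Finset.card_erase_of_mem hx₁]
        have := Finset.one_lt_card.2 ⟨x₂, hx₂, x₁, hx₁, h21⟩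
        omega) (Function.update a h (-a x₂))
      rw [Finset.sum_insert hm, Function.update_self,
        Finset.sum_congr rfl (fun z hz => by rw [Function.update_of_ne (fun h0 : z = h => hm (h0 ▸ hz))]),
        add_comm, ← hrest] at h1
      exact h1
  -- `y' = y - a₂ • (x₂ + h)`
  obtain ⟨y', hy''⟩ : ∃ y', y' = rest + (-a x₂) • em F₀ P h + a x₁ • em F₀ P x₁ := ⟨_, rfl⟩
  have hyy : y = y' + a x₂ • em F₀ P (x₂ + h) := by rw [hy'', hy', em_add]; module
  have hz : f y (em F₀ P (x₂ + h)) = a x₁ := by rw [em_add, hf.bilinear.add_right, hA x₂ hx₂, zero_add, hfh]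
  have hy'x : f y' (em F₀ P x₁) = -a x₂ * (f (em F₀ P x₂) (em F₀ P x₁) - 1) := by
    have h1 := hA x₁ hx₁
    rw [hyy, hf.bilinear.add_left, hf.bilinear.smul_left, em_add, hf.bilinear.add_left, hf.skew (em F₀ P h),
      f_one hrat hh] at h1
    linear_combination h1
  have hy'A : y' ∈ centres hf M := by
    rw [hy'']
    refine centres_line hf hM hsmall (fun c => hrat_all x₁ c) ?_ (a x₁)
    have h1 : f y' (em F₀ P x₁) ≠ 0 := by
      rw [hy'x]
      refine mul_ne_zero (neg_ne_zero.2 (hzero x₂ hx₂)) (sub_ne_zero.2 fun h0 => hne (Subtype.ext ?_))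
      rw [f₀_coe, h0]; rfl
    rw [hy'', hf.bilinear.add_left, hf.bilinear.smul_left, hf.alternating, mul_zero, add_zero] at h1
    exact h1
  rw [hyy]
  refine centres_line hf hM hy'A (fun c => hrat_all (x₂ + h) c) ?_ (a x₂)
  rw [hyy, hf.bilinear.add_left, hf.bilinear.smul_left, hf.alternating, mul_zero, add_zero] at hz
  rw [hz]
  exact hzero x₁ hx₁

/-- all vectors are centres -/
theorem centres_univ (hrat_all : ∀ (a : ι → F₀) (y : F), stv hf (em F₀ P a) y ∈ M) (u : ι → F) : u ∈ centres hf M := by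
  classical
  have hf' := f₀_symplectic hf hrat
  have hem : ∀ (a : ι → F₀) (t : F), t • em F₀ P a ∈ centres hf M := fun a t =>
    centres_smul hf (fun c => hrat_all a c) t
  suffices hs : ∀ (s : Finset (ι → F₀)) (a : (ι → F₀) → F), ∑ x ∈ s, a x • em F₀ P x ∈ centres hf M by
    obtain ⟨b, rfl⟩ := exists_coords F₀ P u
    have hinj : Function.Injective fun i : ι => (Pi.single i 1 : ι → F₀) := fun i j h => by
      by_contra hij
      have := congrFun h i
      simp [hij] at this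
    have := hs (Finset.univ.map ⟨_, hinj⟩) (Function.extend (fun i : ι => (Pi.single i 1 : ι → F₀)) b 0)
    simpa [Finset.sum_map, hinj.extend_apply] using this
  intro s
  induction hc : s.card using Nat.strong_induction_on generalizing s with
  | _ n ih =>
  subst hc
  intro a
  have hrec : ∀ t : Finset (ι → F₀), t.card < s.card → ∀ b : (ι → F₀) → F, ∑ x ∈ t, b x • em F₀ P x ∈ centres hf M :=
    fun t ht b => ih _ ht t rfl b
  rcases s.eq_empty_or_nonempty with rfl | ⟨x₁, hx₁⟩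
  · rw [Finset.sum_empty]
    exact fun c => by rw [stv_zero_left]; exact M.one_mem
  have hcard1 : (s.erase x₁).card < s.card := Finset.card_erase_lt_of_mem hx₁
  -- remove a vanishing coefficient
  by_cases hzero : ∃ x ∈ s, a x = 0
  · obtain ⟨x, hx, hax⟩ := hzero
    rw [← Finset.add_sum_erase s _ hx, hax, zero_smul, zero_add]
    exact hrec _ (Finset.card_erase_lt_of_mem hx) a
  push Not at hzero
  obtain ⟨y, hy⟩ : ∃ y, y = ∑ x ∈ s, a x • em F₀ P x := ⟨_, rfl⟩
  rw [← hy]
  by_cases hA : ∃ x ∈ s, f y (em F₀ P x) ≠ 0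
  · obtain ⟨x, hx, hne⟩ := hA
    have hsplit : y = (∑ z ∈ s.erase x, a z • em F₀ P z) + a x • em F₀ P x := by
      rw [hy, Finset.sum_erase_add s _ hx]
    have h1 := centres_line hf hM (hrec _ (Finset.card_erase_lt_of_mem hx) a) (fun c => hrat_all x c) (r := a x) (by
      rw [hsplit, hf.bilinear.add_left, hf.bilinear.smul_left, hf.alternating, mul_zero, add_zero] at hne
      exact hne)
    rwa [← hsplit] at h1
  push Not at hA
  -- fold a dependent vector
  by_cases hdep : x₁ ∈ Submodule.span F₀ (↑(s.erase x₁) : Set (ι → F₀))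
  · obtain ⟨b, -, hb⟩ := Submodule.mem_span_finset.1 hdep
    have : y = ∑ z ∈ s.erase x₁, (a z + a x₁ * (b z : F)) • em F₀ P z := by
      rw [hy, ← Finset.sum_erase_add s _ hx₁]
      conv_lhs => arg 2; arg 2; rw [← hb, em_sum]
      rw [Finset.smul_sum]
      rw [← Finset.sum_add_distrib]
      refine Finset.sum_congr rfl fun z _ => ?_
      rw [em_smul, smul_smul, add_smul]
    rw [this]
    exact hrec _ hcard1 _
  obtain ⟨h, hh, hh'⟩ := exists_val hf hrat hdep
  by_cases hall : ∀ x ∈ s.erase x₁, f₀ hrat x x₁ = 1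
  · -- all other vectors pair to one with `x₁`
    by_cases hall' : ∀ x ∈ s, ∀ x' ∈ s, x ≠ x' → f₀ hrat x x' = 1
    · have hconst : ∀ x ∈ s, a x = ∑ z ∈ s, a z := by
        intro x hx
        have h1 := hA x hx
        rw [hy, f_sum_left hf, ← Finset.sum_erase_add s _ hx, hf.alternating, mul_zero, add_zero,
          Finset.sum_congr rfl (fun z hz => show a z * f (em F₀ P z) (em F₀ P x) = a z by
            rw [f_one hrat (hall' z (Finset.mem_of_mem_erase hz) x hx (Finset.ne_of_mem_erase hz)), mul_one])] at h1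
        rw [← Finset.sum_erase_add s _ hx, h1, zero_add]
      rw [hy, Finset.sum_congr rfl (fun z hz => by rw [hconst z hz]), ← Finset.smul_sum, ← em_sum]
      exact hem _ _
    push Not at hall'
    obtain ⟨x, hx, x', hx', hxx', hne⟩ := hall'
    -- base the argument at `x'`
    exact step_pair hf hrat hHM hM hrat_all s a hrec hzero hy hA hx hx' hxx' hne
  push Not at hall
  obtain ⟨x₂, hx₂, hne⟩ := hall
  exact step_pair hf hrat hHM hM hrat_all s a hrec hzero hy hA (Finset.mem_of_mem_erase hx₂) hx₁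
    (Finset.ne_of_mem_erase hx₂) hne

omit hM hHM in
/-- subfield subgroups are maximal as soon as all transvections at rational vectors are reached -/
theorem subfield_maximal_of (hn : 0 < Fintype.card ι) {r : ℕ} (hr : r.Prime)
    (hcard : Fintype.card F = Nat.card F₀ ^ r)
    (hC : ∀ M : Subgroup (GL ι F), subfieldSubgroup F₀ P ⊓ isoSub f ≤ M → M ≤ isoSub f → ∀ (v : ι → F),
      stv hf v 1 ∈ M → (∀ (t : F) (d : ι → F₀), v ≠ t • em F₀ P d) → ∀ (b : ι → F₀) (y : F), stv hf (em F₀ P b) y ∈ M) :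
    IsMaximalIn (isoSub f) (subfieldSubgroup F₀ P ⊓ isoSub f) := by
  have hf' := f₀_symplectic hf hrat
  obtain ⟨γ, hγ⟩ : ∃ γ : F, γ ∉ F₀ := by
    by_contra hcon
    push Not at hcon
    have h1 : Nat.card F ≤ Nat.card F₀ := Nat.card_le_card_of_injective (fun x => (⟨x, hcon x⟩ : F₀))
      fun p q h => congrArg Subtype.val h
    rw [Nat.card_eq_fintype_card, hcard] at h1
    have h2 : 1 < Nat.card F₀ := Finite.one_lt_card
    have h3 : Nat.card F₀ ^ 2 ≤ Nat.card F₀ ^ r := Nat.pow_le_pow_right (by omega) hr.two_le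
    nlinarith
  refine isMaximalIn_of_centres hf (fun hle => ?_) fun M hHM hM hMH => ?_
  · obtain ⟨i⟩ : Nonempty ι := Fintype.card_pos_iff.1 (by omega)
    have hu0 : (Pi.single i 1 : ι → F₀) ≠ 0 := fun h => one_ne_zero (α := F₀) (by simpa using congrFun h i)
    obtain ⟨u, hu⟩ : ∃ u, u = (Pi.single i 1 : ι → F₀) := ⟨_, rfl⟩
    rw [← hu] at hu0
    obtain ⟨h, huh, -⟩ := exists_val hf hrat (S := (∅ : Set (ι → F₀))) (x := u) (by simpa using hu0)
    obtain ⟨c, hc⟩ := Subf.subfield_image F₀ P (hle (stv_iso hf (em F₀ P u) γ))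
    obtain ⟨d, hd⟩ := hc u
    obtain ⟨d', hd'⟩ := hc h
    rw [stv_mulVec, hf.alternating, mul_zero, zero_smul, add_zero] at hd
    rw [stv_mulVec, hf.skew (em F₀ P h), f_one hrat huh] at hd'
    have h1 := congrArg (fun y => f y (em F₀ P h)) hd
    simp only [hf.bilinear.smul_left, f_one hrat huh] at h1
    have hne : f (em F₀ P d) (em F₀ P h) ≠ 0 := fun h0 => one_ne_zero (by rw [h1, h0, mul_zero])
    have hcF : c ∈ F₀ := by
      rw [eq_inv_of_mul_eq_one_left h1.symm]
      exact F₀.inv_mem (hrat _ _)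
    have h2 := congrArg (fun y => f y (em F₀ P h)) hd'
    simp only [hf.bilinear.add_left, hf.bilinear.smul_left, hf.alternating, zero_add, f_one hrat huh] at h2
    refine hγ ?_
    rw [show γ = -(c * f (em F₀ P d') (em F₀ P h)) by linear_combination -h2]
    exact F₀.neg_mem (F₀.mul_mem hcF (hrat _ _))
  obtain ⟨g, hgM, hg⟩ := SetLike.not_le_iff_exists.1 hMH
  obtain ⟨a, hirr⟩ : ∃ a : ι → F₀, ∀ (t : F) (d : ι → F₀), (g : Matrix ι ι F) *ᵥ em F₀ P a ≠ t • em F₀ P d := by
    by_contra hcon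
    push Not at hcon
    choose t d htd using hcon
    obtain ⟨i⟩ : Nonempty ι := Fintype.card_pos_iff.1 (by omega)
    have hsingle : ∀ j, (Pi.single j 1 : ι → F₀) ≠ 0 := fun j h => one_ne_zero (α := F₀) (by simpa using congrFun h j)
    have ht : ∀ a, a ≠ 0 → t a ≠ 0 := fun a ha h0 => em_ne_zero F₀ P ha (gl_mulVec_eq_zero.1 (by
      rw [htd, h0, zero_smul]))
    refine hg (Subf.mem_subfieldSubgroup_of_image F₀ P (c := t (Pi.single i 1)) (ht _ (hsingle i)) fun j => ?_)
    obtain ⟨a, ha⟩ : ∃ a, a = (Pi.single i 1 : ι → F₀) := ⟨_, rfl⟩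
    obtain ⟨b, hb⟩ : ∃ b, b = (Pi.single j 1 : ι → F₀) := ⟨_, rfl⟩
    rw [← ha, ← hb]
    rcases eq_or_ne j i with hji | hji
    · rw [hb, hji, ← ha]; exact ⟨_, htd a⟩
    have hat : t a ≠ 0 := ht a (ha ▸ hsingle i)
    have hbt : t b ≠ 0 := ht b (hb ▸ hsingle j)
    have hind : ∀ {p q : ι → F₀}, q ∉ Submodule.span F₀ ({p} : Set (ι → F₀)) → p ≠ 0 → t q ≠ 0 → t p ≠ 0 →
        d q ∉ Submodule.span F₀ ({d p} : Set (ι → F₀)) := by
      intro p q hq hp0 htq htp hm
      obtain ⟨s, hs⟩ := Submodule.mem_span_singleton.1 hm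
      have h1 : (g : Matrix ι ι F) *ᵥ em F₀ P q = (g : Matrix ι ι F) *ᵥ ((t q * (s : F) / t p) • em F₀ P p) := by
        rw [mulVec_smul, htd p, htd q, ← hs, em_smul, smul_smul, smul_smul, div_mul_cancel₀ _ htp]
      have h2 := congrArg (fun y => ((g⁻¹ : GL ι F) : Matrix ι ι F) *ᵥ y) h1
      simp only [gl_inv_mulVec] at h2
      obtain ⟨w, hw, hw'⟩ := exists_val hf hrat hq
      have h3 := congrArg (fun y => f y (em F₀ P w)) h2
      simp only [hf.bilinear.smul_left, f_one hrat hw, f_zero hrat (hw' p rfl), mul_zero] at h3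
      exact one_ne_zero h3
    have hba : b ∉ Submodule.span F₀ ({a} : Set (ι → F₀)) := fun hm => by
      obtain ⟨s, hs⟩ := Submodule.mem_span_singleton.1 hm
      have := congrFun hs j
      simp [ha, hb, hji] at this
    have hdd := hind hba (ha ▸ hsingle i) hbt hat
    have hdd' := not_span_single hf hrat hdd (fun h0 => em_ne_zero F₀ P (ha ▸ hsingle i : a ≠ 0)
      (gl_mulVec_eq_zero.1 (by rw [htd a, h0, em_zero, smul_zero])))
    have hsum := htd (a + b)
    rw [em_add, mulVec_add, htd a, htd b] at hsum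
    obtain ⟨p, hp⟩ := coeff_mem hf hrat hdd' hsum
    obtain ⟨q, hq⟩ := coeff_mem hf hrat hdd (p := t b) (by rw [add_comm]; exact hsum)
    refine ⟨((q / p : F₀)) • d b, ?_⟩
    have hp0 : (p : F) ≠ 0 := fun h0 => hat (by rw [hp, h0, mul_zero])
    rw [htd b, em_smul, smul_smul]
    congr 1
    push_cast
    rw [hp, hq]
    field_simp
  intro u
  have hvc : stv hf ((g : Matrix ι ι F) *ᵥ em F₀ P a) 1 ∈ M := by
    refine stv_conj_mem hf hM hgM ?_
    have := rat_tv hf hrat hHM a 1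
    push_cast at this
    exact this
  exact centres_univ hf hrat hHM hM (fun b y => hC M hHM hM _ hvc hirr b y) u

omit hM hHM in
/-- subfield subgroups are maximal -/
theorem subfield_maximal (hn : 6 ≤ Fintype.card ι) {r : ℕ} (hr : r.Prime)
    (hcard : Fintype.card F = Nat.card F₀ ^ r) :
    IsMaximalIn (isoSub f) (subfieldSubgroup F₀ P ⊓ isoSub f) :=
  subfield_maximal_of hf hrat (by omega) hr hcard fun M hHM hM _v hvc hirr b y =>
    cset_eq_top hf hrat hHM hM hn hr hcard one_ne_zero hvc hirr b y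

end CfsgLib.Perm.Trans.Symp
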