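import Cfsg.Agent.Lib.Perm.Trans.SympDecomp
import Cfsg.Agent.Lib.Perm.Trans.SympPair
import Cfsg.Agent.Lib.Perm.Trans.SympSubfMax
import Cfsg.Agent.Lib.Perm.Trans.SympQuad
import Cfsg.Agent.Lib.Perm.Trans.SympExtData
import Cfsg.Agent.Lib.Perm.Trans.SympOverData
import Cfsg.Agent.Lib.Perm.Trans.SympMax
import Cfsg.Agent.Lib.Perm.Trans.TensorSO.Small

/-!
# Geometric maximal subgroups of symplectic groups of rank at least three
-/

set_option autoImplicit false
set_option linter.all false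

namespace CfsgLib.Perm.Trans.GeomSp

open Cfsg Cfsg.Geo CfsgLib.Perm.Trans CfsgLib.Perm.Trans.Symp
open scoped Matrix

/-- decompositions into non-degenerate subspaces -/
theorem decomposition_maximal_sp {F : Type*} [Field F] [Fintype F] (m : ℕ) (hm : 3 ≤ m) {t : ℕ} (k : ℕ) (D : Fin t → Submodule F (Fin m ⊕ Fin m → F)) (hD : IsNondegenerateMDecomposition (sympForm m F) k D) (hex : ¬ (k = 2 ∧ Fintype.card F = 2)) : IsMaximalIn (spGL m F) (decompositionStabilizer D ⊓ spGL m F) := by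
  classical
  refine decomposition_maximal isSymplecticForm_sympForm hD ?_
  by_cases hq : ∃ r : F, r ≠ 0 ∧ r ≠ -1
  · exact Or.inr hq
  refine Or.inl ?_
  push Not at hq
  have hcard : Fintype.card F = 2 := by
    have h1 : Fintype.card F ≤ 2 := by
      rw [← Finset.card_univ]
      refine (Finset.card_le_card (t := {0, -1}) fun r _ => ?_).trans Finset.card_le_two
      rcases eq_or_ne r 0 with rfl | hr
      · simp
      · simp [hq r hr]
    have h2 := Fintype.one_lt_card (α := F)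
    omega
  have hk2 : k ≠ 2 := fun h => hex ⟨h, hcard⟩
  have hpos := hD.decomp.pos
  have hk1 : k ≠ 1 := by
    intro h1
    have ht := hD.decomp.two_le
    let i : Fin t := ⟨0, by omega⟩
    have hfr := hD.decomp.finrank_eq i
    rw [h1] at hfr
    obtain ⟨v, hv0, hv⟩ := finrank_eq_one_iff'.1 hfr
    obtain ⟨x, hx, hvx⟩ := (hD.nondegenerate i v v.2 (fun h => hv0 (Subtype.ext h))).2
    obtain ⟨c, hc⟩ := hv ⟨x, hx⟩
    have hxv : x = c • (v : Fin m ⊕ Fin m → F) := (congrArg Subtype.val hc).symm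
    exact hvx (by
      rw [hxv, isSymplecticForm_sympForm.bilinear.smul_right,
        isSymplecticForm_sympForm.alternating, mul_zero])
  omega

/-- pairs of totally isotropic subspaces -/
theorem pair_maximal_sp {F : Type*} [Field F] [Fintype F] (m : ℕ) (hm : 3 ≤ m) (hodd : Odd (Fintype.card F)) (D : Fin 2 → Submodule F (Fin m ⊕ Fin m → F)) (hD : IsMDecomposition m D) (hts : ∀ i, IsTotallySingularFor (sympForm m F) (D i)) : IsMaximalIn (spGL m F) (decompositionStabilizer D ⊓ spGL m F) := by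
  classical
  have h2 : (2 : F) ≠ 0 := Ring.two_ne_zero fun h => by
    have := FiniteField.even_card_iff_char_two.1 h
    rw [Nat.odd_iff] at hodd
    omega
  have hsup : D 0 ⊔ D 1 = ⊤ := top_le_iff.1 (hD.iSup_eq_top ▸ iSup_le fun i => by
    fin_cases i
    exacts [le_sup_left, le_sup_right])
  have hinf : D 0 ⊓ D 1 = ⊥ := (hD.indep.pairwiseDisjoint (show (0 : Fin 2) ≠ 1 by decide)).eq_bot
  have P : Polar (sympForm m F) (D 0) (D 1) :=
    ⟨hts 0, hts 1, hsup, hinf, by rw [hD.finrank_eq]; omega, by rw [hD.finrank_eq]; omega,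
      by rw [hD.finrank_eq, hD.finrank_eq]⟩
  have hmap : ∀ (g : Matrix.GeneralLinearGroup (Fin m ⊕ Fin m) F) i j,
      (∀ x ∈ D i, (g : Matrix (Fin m ⊕ Fin m) (Fin m ⊕ Fin m) F) *ᵥ x ∈ D j) →
        (D i).map (Matrix.toLin' (g : Matrix (Fin m ⊕ Fin m) (Fin m ⊕ Fin m) F)) = D j := by
    intro g i j h
    refine Submodule.eq_of_le_of_finrank_le (fun x hx => ?_) ?_
    · obtain ⟨y, hy, rfl⟩ := Submodule.mem_map.1 hx
      rw [Matrix.toLin'_apply]
      exact h y hy
    · refine ((hD.finrank_eq j).trans (hD.finrank_eq i).symm).le.trans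
        (Submodule.equivMapOfInjective _ (fun a b hab => ?_) (D i)).finrank_eq.le
      have h1 := congrArg (fun v => ((g⁻¹ : Matrix.GeneralLinearGroup (Fin m ⊕ Fin m) F) :
        Matrix (Fin m ⊕ Fin m) (Fin m ⊕ Fin m) F) *ᵥ v) hab
      simpa [Matrix.toLin'_apply] using h1
  refine polar_maximal isSymplecticForm_sympForm P h2 fun g => ?_
  constructor
  · rintro ⟨σ, hσ⟩
    have hm' : ∀ i, ∀ x ∈ D i, (g : Matrix (Fin m ⊕ Fin m) (Fin m ⊕ Fin m) F) *ᵥ x ∈ D (σ i) := fun i x hx => by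
      rw [← hσ i, ← Matrix.toLin'_apply]
      exact Submodule.mem_map_of_mem hx
    rcases (show σ 0 = 0 ∨ σ 0 = 1 by omega) with h0 | h0
    · have h1 : σ 1 = 1 := by
        rcases (show σ 1 = 0 ∨ σ 1 = 1 by omega) with h | h
        · exact absurd (σ.injective (h.trans h0.symm)) (by decide)
        · exact h
      exact Or.inl ⟨fun x hx => h0 ▸ hm' 0 x hx, fun x hx => h1 ▸ hm' 1 x hx⟩
    · have h1 : σ 1 = 0 := by
        rcases (show σ 1 = 0 ∨ σ 1 = 1 by omega) with h | h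
        · exact h
        · exact absurd (σ.injective (h.trans h0.symm)) (by decide)
      exact Or.inr ⟨fun x hx => h0 ▸ hm' 0 x hx, fun x hx => h1 ▸ hm' 1 x hx⟩
  · rintro (⟨hX, hY⟩ | ⟨hX, hY⟩)
    · refine ⟨1, fun i => ?_⟩
      fin_cases i
      exacts [hmap g 0 0 hX, hmap g 1 1 hY]
    · refine ⟨Equiv.swap 0 1, fun i => ?_⟩
      fin_cases i
      · exact hmap g 0 1 hX
      · exact hmap g 1 0 hY

/-- subfield groups -/
theorem subfield_maximal_sp {F : Type*} [Field F] [Fintype F] (m : ℕ) (hm : 3 ≤ m) (F₀ : Subfield F) (r : ℕ) (hr : r.Prime) (hcard : Fintype.card F = Nat.card F₀ ^ r) (P : Matrix.GeneralLinearGroup (Fin m ⊕ Fin m) F) (ζ : F) (hζ : ζ ≠ 0) (hP : IsFormRationalStructure (sympForm m F) F₀ ζ P) : IsMaximalIn (spGL m F) (subfieldSubgroup F₀ P ⊓ spGL m F) := by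
  have hs := isSymplecticForm_sympForm (m := m) (F := F)
  let f : (Fin m ⊕ Fin m → F) → (Fin m ⊕ Fin m → F) → F := fun u v => ζ * sympForm m F u v
  have hf : IsSymplecticForm f :=
    { bilinear :=
        ⟨fun x y v => by show ζ * _ = ζ * _ + ζ * _; rw [hs.bilinear.add_left, mul_add],
         fun c x v => by show ζ * _ = c * (ζ * _); rw [hs.bilinear.smul_left, mul_left_comm],
         fun v x y => by show ζ * _ = ζ * _ + ζ * _; rw [hs.bilinear.add_right, mul_add],
         fun c v x => by show ζ * _ = c * (ζ * _); rw [hs.bilinear.smul_right, mul_left_comm]⟩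
      skew := fun v w => by show ζ * _ = -(ζ * _); rw [hs.skew, mul_neg]
      alternating := fun v => by show ζ * _ = 0; rw [hs.alternating, mul_zero]
      nondegenerate := fun v hv => by
        obtain ⟨⟨a, ha⟩, ⟨b, hb⟩⟩ := hs.nondegenerate v hv
        exact ⟨⟨a, mul_ne_zero hζ ha⟩, ⟨b, mul_ne_zero hζ hb⟩⟩ }
  have hrat : ∀ a b, f (Subf.em F₀ P a) (Subf.em F₀ P b) ∈ F₀ := fun a b =>
    hP _ _ (fun i => (a i).2) (fun i => (b i).2)
  have heq : spGL m F = isoSub f := SetLike.ext fun g =>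
    ⟨fun h => mem_isoSub.2 fun x y => congrArg (ζ * ·)
        ((mem_isoSub (f := sympForm m F)).1 h x y),
     fun h => (mem_isoSub (f := sympForm m F)).2 fun x y =>
        mul_left_cancel₀ hζ (mem_isoSub.1 h x y)⟩
  rw [heq]
  exact subfield_maximal hf hrat (by simp only [Fintype.card_sum, Fintype.card_fin]; omega) hr hcard

/-- orthogonal subgroups in characteristic two -/
theorem quad_maximal_sp {F : Type*} [Field F] [Fintype F] (m : ℕ) (hm : 3 ≤ m) (heven : ¬ Odd (Fintype.card F)) (Q : (Fin m ⊕ Fin m → F) → F) (hQ : IsNondegenerateQuadraticForm Q) (hpol : ∀ u v, QuadraticMap.polar Q u v = sympForm m F u v) : IsMaximalIn (spGL m F) (quadSimilarityGroup Q ⊓ spGL m F) := by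
  have h2 : (2 : F) = 0 := by
    have h := FiniteField.even_card_iff_char_two.2 (Nat.even_iff.1 (Nat.not_odd_iff_even.1 heven))
    have h' := CharP.cast_eq_zero F (ringChar F)
    rw [h] at h'
    exact_mod_cast h'
  exact quad_maximal isSymplecticForm_sympForm hQ hpol h2
    (by simp only [Fintype.card_sum, Fintype.card_fin]; omega)

/-- normalisers of self-adjoint extension fields -/
theorem extField_maximal_sp {F : Type*} [Field F] [Fintype F] (m : ℕ) (hm : 3 ≤ m) (r : ℕ) (hr : r.Prime)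
    (K : Subalgebra F (Matrix (Fin m ⊕ Fin m) (Fin m ⊕ Fin m) F)) (hK : IsFieldSubalgebra r K)
    (hsa : IsSelfAdjointFor (sympForm m F) K)
    (halt : ∀ k ∈ K, ∀ v : (Fin m ⊕ Fin m → F), sympForm m F (Matrix.mulVec k v) v = 0) :
    IsMaximalIn (spGL m F) (subalgebraNormalizer K ⊓ spGL m F) := by
  rw [spGL_eq_isoSub]
  exact Ext.extField_maximal isSymplecticForm_sympForm
    (by simp only [Fintype.card_sum, Fintype.card_fin]; omega) hr hK hsa halt

/-- normalisers of unitary overfields -/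
theorem overfield_maximal_sp {F : Type*} [Field F] [Fintype F] (m : ℕ) (hm : 3 ≤ m)
    (hodd : Odd (Fintype.card F)) (K : Subalgebra F (Matrix (Fin m ⊕ Fin m) (Fin m ⊕ Fin m) F))
    (hK : IsFieldSubalgebra 2 K) (hac : IsAdjointClosedFor (sympForm m F) K)
    (hnsa : ¬ IsSelfAdjointFor (sympForm m F) K) :
    IsMaximalIn (spGL m F) (subalgebraNormalizer K ⊓ spGL m F) := by
  rw [spGL_eq_isoSub]
  exact Over.overfield_maximal isSymplecticForm_sympForm (CfsgLib.Perm.Asch.two_ne_zero_of_odd hodd)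
    (by simp only [Fintype.card_sum, Fintype.card_fin]; omega) hK hac hnsa

/-- symplectic-orthogonal tensor products -/
theorem tensor_maximal_sp {F : Type*} [Field F] [Fintype F] (m : ℕ) (hm : 5 ≤ m) (hodd : Odd (Fintype.card F))
    {n₁ n₂ : ℕ} (hn₂ : 3 ≤ n₂) (hex : 4 ≤ n₂ ∨ 5 ≤ Fintype.card F) (e : (Fin m ⊕ Fin m) ≃ Fin n₁ × Fin n₂)
    (P : Matrix.GeneralLinearGroup (Fin m ⊕ Fin m) F) (f₁ : (Fin n₁ → F) → (Fin n₁ → F) → F)
    (f₂ : (Fin n₂ → F) → (Fin n₂ → F) → F) (hf₁ : IsSymplecticForm f₁) (hf₂ : IsSymmetricForm f₂)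
    (hT : IsTensorFormStructure id (sympForm m F) f₁ f₂ e P) :
    IsMaximalIn (spGL m F) (tensorProductSubgroup n₁ n₂ e P ⊓ spGL m F) := by
  rw [spGL_eq_isoSub]
  refine TensorSO.symp_orth_maximal isSymplecticForm_sympForm hf₁ hf₂ hT
    (TensorSO.two_ne_zero_of_odd_card hodd) hn₂ (by simp; omega) (hex.imp_right fun h => ?_)
  exact TensorSO.exists_non_sign (by omega)

/-- symplectic-orthogonal tensor products in degree six -/
theorem tensor_maximal_sp_six {F : Type*} [Field F] [Fintype F] (hodd : Odd (Fintype.card F))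
    (hq : 5 ≤ Fintype.card F) (e : (Fin 3 ⊕ Fin 3) ≃ Fin 2 × Fin 3)
    (P : Matrix.GeneralLinearGroup (Fin 3 ⊕ Fin 3) F) (f₁ : (Fin 2 → F) → (Fin 2 → F) → F)
    (f₂ : (Fin 3 → F) → (Fin 3 → F) → F) (hf₁ : IsSymplecticForm f₁) (hf₂ : IsSymmetricForm f₂)
    (hT : IsTensorFormStructure id (sympForm 3 F) f₁ f₂ e P) :
    IsMaximalIn (spGL 3 F) (tensorProductSubgroup 2 3 e P ⊓ spGL 3 F) := by
  rw [spGL_eq_isoSub]
  exact TensorSO.symp_orth_maximal_small isSymplecticForm_sympForm hf₁ hf₂ hT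
    (TensorSO.two_ne_zero_of_odd_card hodd) rfl rfl hq

end CfsgLib.Perm.Trans.GeomSp
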