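import Cfsg.Agent.Lib.Perm.Trans.SympQuad

/-!
# Orthogonal subgroups of four-dimensional symplectic groups in characteristic two
-/

set_option autoImplicit false
set_option linter.all false

namespace CfsgLib.Perm.Trans.Symp

open scoped Matrix
open Matrix Cfsg.Geo CfsgLib.Perm.Asch CfsgLib.Perm.Trans

variable {ι : Type} [Fintype ι] [DecidableEq ι] {F : Type*} [Field F] [Finite F]
variable {f : (ι → F) → (ι → F) → F} (hf : IsSymplecticForm f)
variable {Q : (ι → F) → F} (hQ : IsNondegenerateQuadraticForm Q) (hpol : ∀ u v, QuadraticMap.polar Q u v = f u v)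
  (h2 : (2 : F) = 0)
include hf hQ hpol h2

/-- every value is taken on every affine hyperplane through a hyperbolic pair -/
theorem exists_value_four (hn : 4 ≤ Fintype.card ι) (d y : ι → F) (a r : F) (hy : f y d = 1) :
    ∃ x, f x d = a ∧ Q x = r := by
  classical
  obtain ⟨z, ⟨hzd, hzy⟩, hQz⟩ : ∃ z ∈ LinearMap.ker (sfun hf d) ⊓ LinearMap.ker (sfun hf y), Q z ≠ 0 := by
    by_contra hcon
    push Not at hcon
    generalize hZ : LinearMap.ker (sfun hf d) ⊓ LinearMap.ker (sfun hf y) = Z at hcon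
    have hts : ∀ u ∈ Z, ∀ v ∈ Z, f u v = 0 := fun u hu v hv => by
      have h1 := q_add hf hQ hpol u v
      rw [hcon _ hu, hcon _ hv, hcon _ (Submodule.add_mem _ hu hv)] at h1
      linear_combination -h1
    have k1 := Orth.finrank_le_inf_ker ⊤ (sfun hf d)
    have k2 := Orth.finrank_le_inf_ker (⊤ ⊓ LinearMap.ker (sfun hf d)) (sfun hf y)
    rw [finrank_top, Module.finrank_fintype_fun_eq_card] at k1
    rw [top_inf_eq] at k1 k2
    rw [hZ] at k2
    have hperp : ∀ u ∈ Z, f u d = 0 := fun u hu => by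
      rw [← hZ] at hu
      exact hu.1
    have hdZ : d ∉ Z := fun h => by
      rw [← hZ] at h
      have h' : f d y = 0 := h.2
      rw [hf.skew, hy] at h'
      exact one_ne_zero (neg_eq_zero.1 h')
    have h4 := two_mul_finrank_le hf (Z := Z ⊔ Submodule.span F {d}) (fun u hu v hv => by
      obtain ⟨u', hu', s, hs, rfl⟩ := Submodule.mem_sup.1 hu
      obtain ⟨v', hv', t, ht, rfl⟩ := Submodule.mem_sup.1 hv
      obtain ⟨s', rfl⟩ := Submodule.mem_span_singleton.1 hs
      obtain ⟨t', rfl⟩ := Submodule.mem_span_singleton.1 ht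
      simp only [hf.bilinear.add_left, hf.bilinear.add_right, hf.bilinear.smul_left, hf.bilinear.smul_right,
        hts _ hu' _ hv', hperp _ hu', hf.skew d v', hperp _ hv', hf.alternating]
      ring)
    have h5 : Module.finrank F Z < Module.finrank F (Z ⊔ Submodule.span F {d} : Submodule F (ι → F)) :=
      Submodule.finrank_lt_finrank_of_lt (left_lt_sup.2 fun h => hdZ (h (Submodule.mem_span_singleton_self d)))
    omega
  obtain ⟨c, hc⟩ := exists_sq h2 ((r - a ^ 2 * Q y) / Q z)
  change f z d = 0 at hzd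
  change f z y = 0 at hzy
  refine ⟨a • y + c • z, ?_, ?_⟩
  · rw [hf.bilinear.add_left, hf.bilinear.smul_left, hf.bilinear.smul_left, hy, hzd]
    ring
  · rw [q_add hf hQ hpol, hQ.smul, hQ.smul, hf.bilinear.smul_left, hf.bilinear.smul_right, swap_zero hf hzy, hc,
      div_mul_cancel₀ _ hQz]
    ring

/-- reflections are transitive on the vectors with a given value, in degree four -/
theorem quad_move_four (hn : 4 ≤ Fintype.card ι) {s : F} (hs0 : s ≠ 0) (hs1 : s ≠ 1) {M : Subgroup (GL ι F)}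
    (hM : quadSimilarityGroup Q ⊓ isoSub f ≤ M) {v w : ι → F} (hv : v ≠ 0) (hw : w ≠ 0) (hQvw : Q v = Q w) :
    ∃ t ∈ M, (t : Matrix ι ι F) *ᵥ v = w := by
  classical
  have direct : ∀ {v w : ι → F}, Q v = Q w → f v w ≠ 0 → ∃ t ∈ M, (t : Matrix ι ι F) *ᵥ v = w := by
    intro v w hQe hne
    refine ⟨stv hf (w - v) (f v w)⁻¹, hM (stv_mem_quad hf hQ hpol h2 ?_), ?_⟩
    · have h3 := q_add hf hQ hpol (w - v) v
      rw [sub_add_cancel, sub_left hf, hf.alternating, sub_zero, hQe, hf.skew w v] at h3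
      rw [show Q (w - v) = f v w by linear_combination -h3, inv_mul_cancel₀ hne]
    · rw [stv_mulVec, sub_right hf, hf.alternating, sub_zero, inv_mul_cancel₀ hne, one_smul, add_sub_cancel]
  by_cases hvw : f v w = 0
  swap
  · exact direct hQvw hvw
  suffices hx : ∃ x, f x v ≠ 0 ∧ f x w ≠ 0 ∧ Q x = Q v by
    obtain ⟨x, h1, h3, h4⟩ := hx
    obtain ⟨s', hs', hsv⟩ := direct (v := v) (w := x) h4.symm (swap_ne hf h1)
    obtain ⟨t, ht, htx⟩ := direct (v := x) (w := w) (h4.trans hQvw) h3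
    exact ⟨t * s', M.mul_mem ht hs', by rw [gl_mul_mulVec, hsv, htx]⟩
  by_cases hmem : w ∈ Submodule.span F ({v} : Set (ι → F))
  · obtain ⟨a, rfl⟩ := Submodule.mem_span_singleton.1 hmem
    have ha : a ≠ 0 := fun h0 => hw (by rw [h0, zero_smul])
    obtain ⟨y, hy⟩ := (hf.nondegenerate v hv).1
    obtain ⟨x, h1, h3⟩ := exists_value_four hf hQ hpol h2 hn v ((f y v)⁻¹ • y) 1 (Q v)
      (by rw [hf.bilinear.smul_left, inv_mul_cancel₀ hy])
    exact ⟨x, by rw [h1]; exact one_ne_zero, by rw [hf.bilinear.smul_right, h1, mul_one]; exact ha, h3⟩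
  have hmem' : v ∉ Submodule.span F ({w} : Set (ι → F)) := fun h => hmem (by
    obtain ⟨a, rfl⟩ := Submodule.mem_span_singleton.1 h
    have ha : a ≠ 0 := fun h0 => hv (by rw [h0, zero_smul])
    exact Submodule.mem_span_singleton.2 ⟨a⁻¹, by rw [smul_smul, inv_mul_cancel₀ ha, one_smul]⟩)
  have hdual : ∀ {a b : ι → F}, a ∉ Submodule.span F ({b} : Set (ι → F)) → ∃ p, f p a = 1 ∧ f p b = 0 := by
    intro a b hab
    obtain ⟨φ, hφ, hφS⟩ := exists_dual _ hab
    obtain ⟨p, hp⟩ := exists_rep hf φ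
    exact ⟨-p, by rw [neg_left hf, hf.skew p, hp, neg_neg, hφ],
      by rw [neg_left hf, hf.skew p, hp, neg_neg, hφS b (Submodule.mem_span_singleton_self b)]⟩
  obtain ⟨p, hpv, hpw⟩ := hdual hmem'
  obtain ⟨q, hqw, hqv⟩ := hdual hmem
  obtain ⟨x₀, hx₀⟩ : ∃ x₀, x₀ = p + s • q := ⟨_, rfl⟩
  have hxv : f x₀ v = 1 := by rw [hx₀, hf.bilinear.add_left, hf.bilinear.smul_left, hpv, hqv, mul_zero, add_zero]
  have hxw : f x₀ w = s := by rw [hx₀, hf.bilinear.add_left, hf.bilinear.smul_left, hpw, hqw, mul_one, zero_add]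
  by_cases hQv : Q v = 0
  · refine ⟨x₀ + Q x₀ • v, ?_, ?_, ?_⟩
    · rw [hf.bilinear.add_left, hf.bilinear.smul_left, hf.alternating, mul_zero, add_zero, hxv]
      exact one_ne_zero
    · rw [hf.bilinear.add_left, hf.bilinear.smul_left, hvw, mul_zero, add_zero, hxw]
      exact hs0
    · rw [q_add hf hQ hpol, hQ.smul, hQv, hf.bilinear.smul_right, hxv]
      linear_combination (Q x₀) * h2
  · obtain ⟨z, hz⟩ : ∃ z, z = s • v + w := ⟨_, rfl⟩
    have hQz : Q z = (s + 1) ^ 2 * Q v := by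
      rw [hz, q_add hf hQ hpol, hQ.smul, hf.bilinear.smul_left, hvw, mul_zero, add_zero, ← hQvw]
      linear_combination -(s * Q v) * h2
    have hs2 : (s + 1) ^ 2 ≠ 0 := pow_ne_zero _ fun h => hs1 (by linear_combination h - h2)
    obtain ⟨c, hc⟩ := exists_sq h2 ((Q v - Q x₀) / Q z)
    refine ⟨x₀ + c • z, ?_, ?_, ?_⟩
    · rw [hf.bilinear.add_left, hf.bilinear.smul_left, hxv, hz, hf.bilinear.add_left, hf.bilinear.smul_left,
        hf.alternating, swap_zero hf hvw, mul_zero, add_zero, mul_zero, add_zero]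
      exact one_ne_zero
    · rw [hf.bilinear.add_left, hf.bilinear.smul_left, hxw, hz, hf.bilinear.add_left, hf.bilinear.smul_left,
        hf.alternating, hvw, mul_zero, add_zero, mul_zero, add_zero]
      exact hs0
    · have hxz : f x₀ z = 0 := by
        rw [hz, hf.bilinear.add_right, hf.bilinear.smul_right, hxv, hxw]
        linear_combination s * h2
      rw [q_add hf hQ hpol, hQ.smul, hf.bilinear.smul_right, hxz, hc, div_mul_cancel₀ _ (by
        rw [hQz]; exact mul_ne_zero hs2 hQv)]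
      ring

/-- orthogonal groups are maximal in four-dimensional symplectic groups over fields of even order at least four -/
theorem quad_maximal_four (hn : 4 ≤ Fintype.card ι) {s : F} (hs0 : s ≠ 0) (hs1 : s ≠ 1) :
    IsMaximalIn (isoSub f) (quadSimilarityGroup Q ⊓ isoSub f) :=
  quad_maximal_of hf hQ hpol h2 (by omega) (fun d y a r hy => exists_value_four hf hQ hpol h2 hn d y a r hy)
    (fun hM _ _ hv hw hQvw => quad_move_four hf hQ hpol h2 hn hs0 hs1 hM hv hw hQvw)

end CfsgLib.Perm.Trans.Symp
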