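import Cfsg.Agent.Lib.Perm.Trans.SympSubfMax

/-!
# Subfield subgroups of symplectic groups in characteristic two, from degree four on
-/

set_option autoImplicit false
set_option linter.all false

namespace CfsgLib.Perm.Trans.Symp

open scoped Matrix
open Matrix Cfsg.Geo CfsgLib.Perm.Asch CfsgLib.Perm.Trans
open CfsgLib.Perm.Trans.Subf (em lift em_add em_neg em_sub em_smul em_sum em_zero em_injective em_ne_zero exists_coords lift_em lift_mem ext_em)

variable {ι : Type} [Fintype ι] [DecidableEq ι] {F : Type*} [Field F] [Fintype F]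
variable {F₀ : Subfield F} {P : GL ι F}
variable {f : (ι → F) → (ι → F) → F} (hf : IsSymplecticForm f) (hrat : ∀ a b, f (em F₀ P a) (em F₀ P b) ∈ F₀)
variable (h2 : (2 : F) = 0)

omit hf hrat in
include h2 in
theorem sqrt_mem {x : F} (h : x * x ∈ F₀) : x ∈ F₀ := by
  have h20 : (2 : F₀) = 0 := Subtype.ext (by push_cast; exact h2)
  obtain ⟨b, hb⟩ := (Finite.injective_iff_surjective (f := fun b : F₀ => b * b)).1 (fun p q (hpq : p * p = q * q) => by
    have h5 : (p - q) * (p - q) = 0 := by linear_combination hpq + (q * q - p * q) * h20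
    exact sub_eq_zero.1 (mul_self_eq_zero.1 h5)) ⟨x * x, h⟩
  have hb' : (b : F) * b = x * x := congrArg Subtype.val hb
  have h5 : (x - b) * (x - b) = 0 := by linear_combination (b * b - x * b) * h2 - hb'
  rw [sub_eq_zero.1 (mul_self_eq_zero.1 h5)]
  exact b.2

variable {M : Subgroup (GL ι F)} (hHM : subfieldSubgroup F₀ P ⊓ isoSub f ≤ M) (hM : M ≤ isoSub f)
include hf hrat h2 hHM hM

/-- irrational centres give one in a rational isotropic plane -/
theorem exists_plane_centre_two (hn : 4 ≤ Fintype.card ι) {v : ι → F} {c : F} (hc : c ≠ 0) (hvc : stv hf v c ∈ M)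
    (hirr : ∀ (t : F) (d : ι → F₀), v ≠ t • em F₀ P d) :
    ∃ (e x : ι → F₀) (γ : F) (k : F₀), f₀ hrat e x = 0 ∧ x ∉ Submodule.span F₀ ({e} : Set (ι → F₀)) ∧ e ≠ 0 ∧
      γ ∉ F₀ ∧ k ≠ 0 ∧ stv hf (em F₀ P e + γ • em F₀ P x) (k : F) ∈ M := by
  have hf' := f₀_symplectic hf hrat
  by_cases hx : ∃ x : ι → F₀, x ≠ 0 ∧ f v (em F₀ P x) = 0
  · obtain ⟨x, hx0, hvx⟩ := hx
    exact centre_in_plane hf hrat hHM hM hc hvc hirr hx0 hvx
  push Not at hx
  obtain ⟨i⟩ : Nonempty ι := Fintype.card_pos_iff.1 (by omega)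
  have hu0 : (Pi.single i 1 : ι → F₀) ≠ 0 := fun h => one_ne_zero (α := F₀) (by simpa using congrFun h i)
  obtain ⟨u, hu⟩ : ∃ u, u = (Pi.single i 1 : ι → F₀) := ⟨_, rfl⟩
  rw [← hu] at hu0
  obtain ⟨w₀, hw₀, hw₀'⟩ := exists_orth hf hrat ![u] (by omega)
  have huw₀ : f₀ hrat u w₀ = 0 := hw₀ 0
  have hw₀u : w₀ ∉ Submodule.span F₀ ({u} : Set (ι → F₀)) := by
    simpa using hw₀'
  obtain ⟨w, huw, hwu, hP⟩ : ∃ w, f₀ hrat u w = 0 ∧ w ∉ Submodule.span F₀ ({u} : Set (ι → F₀)) ∧
      1 + c * f v (em F₀ P u) * f v (em F₀ P w) ≠ 0 := by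
    by_cases hP : 1 + c * f v (em F₀ P u) * f v (em F₀ P w₀) = 0
    · refine ⟨u + w₀, by rw [hf'.bilinear.add_right, huw₀, hf'.alternating, add_zero], fun hm => hw₀u ?_, ?_⟩
      · have h1 := Submodule.sub_mem _ hm (Submodule.mem_span_singleton_self u)
        rwa [add_sub_cancel_left] at h1
      · rw [em_add, hf.bilinear.add_right, mul_add, ← add_assoc, add_comm (1 : F), add_assoc, hP, add_zero]
        exact mul_ne_zero (mul_ne_zero hc (hx u hu0)) (hx u hu0)
    · exact ⟨w₀, huw₀, hw₀u, hP⟩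
  have hw0 : w ≠ 0 := ne_zero_of_not_mem_span hwu
  have huw' := f_zero hrat huw
  obtain ⟨A, hA⟩ : ∃ A, A = f v (em F₀ P u) := ⟨_, rfl⟩
  obtain ⟨B, hB⟩ : ∃ B, B = f v (em F₀ P w) := ⟨_, rfl⟩
  rw [← hA, ← hB] at hP
  have hA0 : A ≠ 0 := hA ▸ hx u hu0
  have hB0 : B ≠ 0 := hB ▸ hx w hw0
  obtain ⟨L, hL⟩ : ∃ L, L = A • em F₀ P w + B • em F₀ P u := ⟨_, rfl⟩
  have hv' : stv hf (v + L) c ∈ M := by
    have h1 := stv_conj_mem hf hM (rat_sh hf hrat hHM huw 1) hvc
    rw [sh_mulVec hf huw'] at h1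
    push_cast at h1
    rwa [one_mul, one_mul, ← hA, ← hB, add_assoc, ← hL] at h1
  have hg := M.mul_mem hv' hvc
  have hfu : f (em F₀ P u) v = A := by rw [hf.skew, ← hA]; linear_combination -A * h2
  have hfw : f (em F₀ P w) v = B := by rw [hf.skew, ← hB]; linear_combination -B * h2
  have hfvL : f v L = 0 := by
    rw [hL, hf.bilinear.add_right, hf.bilinear.smul_right, hf.bilinear.smul_right, ← hA, ← hB]
    linear_combination A * B * h2
  have happ : ∀ y : ι → F₀, f (em F₀ P y) L = 0 → ((stv hf (v + L) c * stv hf v c : GL ι F) : Matrix ι ι F) *ᵥ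
      em F₀ P y = em F₀ P y + (c * f (em F₀ P y) v) • L := by
    intro y hy
    rw [gl_mul_mulVec, stv_mulVec hf v, stv_mulVec hf (v + L)]
    simp only [hf.bilinear.add_left, hf.bilinear.add_right, hf.bilinear.smul_left, hf.alternating, hfvL, hy,
      mul_zero, add_zero]
    match_scalars <;> first | ring1 | linear_combination (c * f (em F₀ P y) v) * h2
  have hmu := stv_conj_mem hf hM hg (rat_tv hf hrat hHM u 1)
  rw [happ u (by rw [hL, hf.bilinear.add_right, hf.bilinear.smul_right, hf.bilinear.smul_right, huw',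
    hf.alternating, mul_zero, mul_zero, add_zero]), hfu, hL,
    show em F₀ P u + (c * A) • (A • em F₀ P w + B • em F₀ P u) =
      (1 + c * A * B) • em F₀ P u + (c * A * A) • em F₀ P w by module] at hmu
  have hmw := stv_conj_mem hf hM hg (rat_tv hf hrat hHM w 1)
  rw [happ w (by rw [hL, hf.bilinear.add_right, hf.bilinear.smul_right, hf.bilinear.smul_right,
    swap_zero hf huw', hf.alternating, mul_zero, mul_zero, add_zero]), hfw, hL,
    show em F₀ P w + (c * B) • (A • em F₀ P w + B • em F₀ P u) =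
      (c * B * B) • em F₀ P u + (1 + c * A * B) • em F₀ P w by module] at hmw
  push_cast at hmu hmw
  have hperp : ∀ p q : F, f (p • em F₀ P u + q • em F₀ P w) (em F₀ P u) = 0 := fun p q => by
    rw [hf.bilinear.add_left, hf.bilinear.smul_left, hf.bilinear.smul_left, hf.alternating, swap_zero hf huw',
      mul_zero, mul_zero, add_zero]
  by_cases hi1 : ∀ (t : F) (d : ι → F₀),
      (1 + c * A * B) • em F₀ P u + (c * A * A) • em F₀ P w ≠ t • em F₀ P d
  · exact centre_in_plane hf hrat hHM hM one_ne_zero hmu hi1 hu0 (hperp _ _)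
  by_cases hi2 : ∀ (t : F) (d : ι → F₀),
      (c * B * B) • em F₀ P u + (1 + c * A * B) • em F₀ P w ≠ t • em F₀ P d
  · exact centre_in_plane hf hrat hHM hM one_ne_zero hmw hi2 hu0 (hperp _ _)
  push Not at hi1 hi2
  obtain ⟨t₁, d₁, e1⟩ := hi1
  obtain ⟨t₂, d₂, e2⟩ := hi2
  exfalso
  have huw'' : u ∉ Submodule.span F₀ ({w} : Set (ι → F₀)) := not_span_single hf hrat hwu hu0
  obtain ⟨a₁, ha₁⟩ := coeff_mem hf hrat huw'' e1
  obtain ⟨b₁, hb₁⟩ := coeff_mem hf hrat hwu (p := c * A * A) (by rw [add_comm]; exact e1)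
  obtain ⟨a₂, ha₂⟩ := coeff_mem hf hrat huw'' e2
  obtain ⟨b₂, hb₂⟩ := coeff_mem hf hrat hwu (p := 1 + c * A * B) (by rw [add_comm]; exact e2)
  obtain ⟨T, hT⟩ : ∃ T, T = c * A * B / (1 + c * A * B) := ⟨_, rfl⟩
  have hX : c * A * A / (1 + c * A * B) ∈ F₀ := by
    rw [ha₁] at hP
    rw [hb₁, ha₁, mul_div_mul_left _ _ (left_ne_zero_of_mul hP)]
    exact F₀.div_mem b₁.2 a₁.2
  have hY : c * B * B / (1 + c * A * B) ∈ F₀ := by
    rw [hb₂] at hP
    rw [ha₂, hb₂, mul_div_mul_left _ _ (left_ne_zero_of_mul hP)]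
    exact F₀.div_mem a₂.2 b₂.2
  have hTF : T ∈ F₀ := by
    refine sqrt_mem h2 ?_
    have h3 := F₀.mul_mem hX hY
    convert h3 using 1
    rw [hT]
    field_simp
  have h1T : 1 + T = 1 / (1 + c * A * B) := by
    rw [hT]
    field_simp
    linear_combination (c * A * B) * h2
  have hPF : 1 + c * A * B ∈ F₀ := by
    have h3 := F₀.inv_mem (F₀.add_mem F₀.one_mem hTF)
    rwa [h1T, one_div, inv_inv] at h3
  have hcAA : c * A * A ∈ F₀ := by
    have h3 := F₀.mul_mem hX hPF
    rwa [div_mul_cancel₀ _ hP] at h3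
  have hcAB : c * A * B ∈ F₀ := by
    have h3 := F₀.sub_mem hPF F₀.one_mem
    rwa [add_sub_cancel_left] at h3
  have hratio : A / B ∈ F₀ := by
    rw [show A / B = c * A * A / (c * A * B) by field_simp]
    exact F₀.div_mem hcAA hcAB
  refine hx (u - (⟨_, hratio⟩ : F₀) • w) (sub_ne_zero.2 fun h0 => huw'' (Submodule.mem_span_singleton.2
    ⟨_, h0.symm⟩)) ?_
  rw [em_sub, em_smul, sub_right hf, hf.bilinear.smul_right, ← hA, ← hB]
  show A - A / B * B = 0
  rw [div_mul_cancel₀ _ hB0, sub_self]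

/-- all transvections at rational vectors -/
theorem cset_eq_top_two (hn : 4 ≤ Fintype.card ι) {r : ℕ} (hr : r.Prime) (hcard : Fintype.card F = Nat.card F₀ ^ r)
    {v : ι → F} {c : F} (hc : c ≠ 0) (hvc : stv hf v c ∈ M)
    (hirr : ∀ (t : F) (d : ι → F₀), v ≠ t • em F₀ P d) (a : ι → F₀) (y : F) : stv hf (em F₀ P a) y ∈ M := by
  have hf' := f₀_symplectic hf hrat
  obtain ⟨e, x, γ, k, hex, hxe, he0, hγ, hk, hmem⟩ :=
    exists_plane_centre_two hf hrat h2 hHM hM hn hc hvc hirr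
  have hk' : (k : F) ≠ 0 := fun h => hk (Subtype.ext h)
  have hx0 : x ≠ 0 := ne_zero_of_not_mem_span hxe
  obtain ⟨w, hxw, hw'⟩ := exists_val hf hrat hxe
  have hew : f₀ hrat e w = 0 := hw' e rfl
  have hex' := f_zero hrat hex
  have hexw' := f_zero hrat hew
  have hxw' := f_one hrat hxw
  have hwx' : f (em F₀ P w) (em F₀ P x) = 1 := by rw [hf.skew, hxw']; linear_combination -h2
  have h3' : (3 : F) = 1 := by linear_combination h2
  have h4' : (4 : F) = 0 := by linear_combination 2 * h2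
  have hone : ∀ b : ι → F₀, stv hf (em F₀ P b) 1 ∈ M := fun b => by
    have := rat_tv hf hrat hHM b 1
    push_cast at this
    exact this
  have hinv : ∀ {u : ι → F} {s : F}, stv hf u s ∈ M → stv hf u (-s) ∈ M := fun {u s} h => by
    have : stv hf u (-s) = (stv hf u s)⁻¹ := eq_inv_of_mul_eq_one_left (by rw [stv_mul, neg_add_cancel, stv_zero])
    rw [this]
    exact M.inv_mem h
  have hE : ∀ {s t : F} {g : GL ι F} {p : ι → F}, g ∈ M → (g : Matrix ι ι F) *ᵥ em F₀ P e = em F₀ P e →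
      sh hf (em F₀ P e) p s * stv hf (em F₀ P e) t ∈ M →
      sh hf (em F₀ P e) ((g : Matrix ι ι F) *ᵥ p) s * stv hf (em F₀ P e) t ∈ M := by
    intro s t g p hg hge h
    have h1 := M.mul_mem (M.mul_mem hg h) (M.inv_mem hg)
    rw [show g * (sh hf (em F₀ P e) p s * stv hf (em F₀ P e) t) * g⁻¹ =
        (g * sh hf (em F₀ P e) p s * g⁻¹) * (g * stv hf (em F₀ P e) t * g⁻¹) by group,
      sh_conj hf (hM hg), stv_conj hf (hM hg), hge] at h1
    exact h1
  have hfix : ∀ {p : ι → F} {κ : F}, f (em F₀ P e) p = 0 →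
      (stv hf p κ : Matrix ι ι F) *ᵥ em F₀ P e = em F₀ P e := fun {p κ} hp => by
    rw [stv_mulVec, hp, mul_zero, zero_smul, add_zero]
  have htow : ∀ {s t : F}, sh hf (em F₀ P e) (em F₀ P x) s * stv hf (em F₀ P e) t ∈ M →
      sh hf (em F₀ P e) (em F₀ P w) s * stv hf (em F₀ P e) t ∈ M := fun {s t} h => by
    have h1 := hE (hone (x + w)) (hfix (by rw [em_add, hf.bilinear.add_right, hex', hexw', add_zero])) h
    have h3 : (stv hf (em F₀ P (x + w)) 1 : Matrix ι ι F) *ᵥ em F₀ P x = em F₀ P w := by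
      rw [stv_mulVec, em_add, hf.bilinear.add_right, hf.alternating, hxw']
      match_scalars <;> first | ring1 | linear_combination h2
    rwa [h3] at h1
  have hscale : ∀ {μ : F₀} {s t : F}, μ ≠ 0 → sh hf (em F₀ P e) (em F₀ P x) s * stv hf (em F₀ P e) t ∈ M →
      sh hf (em F₀ P e) (em F₀ P x) ((μ : F) * s) * stv hf (em F₀ P e) t ∈ M := by
    intro μ s t hμ h
    have hμ' : (μ : F) ≠ 0 := fun h => hμ (Subtype.ext h)
    have h1 := hE (rat_tv hf hrat hHM (w + μ • x) μ⁻¹) (hfix (by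
      rw [em_add, em_smul, hf.bilinear.add_right, hf.bilinear.smul_right, hex', hexw', mul_zero, add_zero])) (htow h)
    have h3 : (stv hf (em F₀ P (w + μ • x)) ((μ⁻¹ : F₀) : F) : Matrix ι ι F) *ᵥ em F₀ P w = (μ : F) • em F₀ P x := by
      rw [stv_mulVec, em_add, em_smul, hf.bilinear.add_right, hf.bilinear.smul_right, hf.alternating, hwx',
        zero_add, mul_one]
      push_cast
      rw [inv_mul_cancel₀ hμ', one_smul]
      match_scalars <;> first | ring1 | linear_combination h2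
    rw [h3] at h1
    have h4 : sh hf (em F₀ P e) ((μ : F) • em F₀ P x) s = sh hf (em F₀ P e) (em F₀ P x) ((μ : F) * s) :=
      gl_ext_vec fun z => by
        rw [sh_mulVec hf hex', sh_mulVec hf (by rw [hf.bilinear.smul_right, hex', mul_zero]), hf.bilinear.smul_right,
          smul_smul]
        match_scalars <;> ring1
    rwa [h4] at h1
  let C := cset (P := P) hf hM e
  have hC : ∀ {s}, s ∈ C ↔ stv hf (em F₀ P e) s ∈ M := Iff.rfl
  have hrot : ∀ {s t : F}, sh hf (em F₀ P e) (em F₀ P x) s * stv hf (em F₀ P e) t ∈ M → s * s + t ∈ C := by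
    intro s t h
    have h1 := htow h
    have h3 := hE (hone w) (hfix hexw') h
    rw [stv_mulVec, one_mul, hxw', one_smul] at h3
    have h4 := M.mul_mem h3 (M.mul_mem h h1)
    rw [hC]
    convert h4 using 1
    refine gl_ext_vec fun z => ?_
    have hexw'' : f (em F₀ P e) (em F₀ P x + em F₀ P w) = 0 := by rw [hf.bilinear.add_right, hex', hexw', add_zero]
    simp only [gl_mul_mulVec, sh_mulVec hf hex', sh_mulVec hf hexw', sh_mulVec hf hexw'', stv_mulVec]
    simp only [hf.bilinear.add_left, hf.bilinear.add_right, hf.bilinear.smul_left, hf.bilinear.smul_right,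
      hf.alternating, hex', hexw', hxw', hwx', swap_zero hf hex', swap_zero hf hexw', mul_zero, add_zero]
    match_scalars <;> first
      | ring1
      | (ring_nf; simp only [h2, h3', h4', mul_one, mul_zero, zero_mul, add_zero, zero_add])
  have hF₀ : ∀ s : F₀, (s : F) ∈ C := fun s => rat_tv hf hrat hHM e s
  obtain ⟨σ, hσ⟩ : ∃ σ, σ = (k : F) * γ * γ := ⟨_, rfl⟩
  have hσF : σ ∉ F₀ := fun hm => hγ (sqrt_mem h2 (by
    have := F₀.div_mem hm k.2
    rwa [hσ, mul_assoc, mul_div_cancel_left₀ _ hk'] at this))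
  have hT : sh hf (em F₀ P e) (em F₀ P x) σ * stv hf (em F₀ P e) σ ∈ M := by
    have hg := rat_sh hf hrat hHM hew 1
    have h1 := stv_conj_mem hf hM hg hmem
    have hge : (sh hf (em F₀ P e) (em F₀ P w) ((1 : F₀) : F) : Matrix ι ι F) *ᵥ (em F₀ P e + γ • em F₀ P x) =
        (1 + γ) • em F₀ P e + γ • em F₀ P x := by
      rw [sh_mulVec hf hexw']
      simp only [hf.bilinear.add_left, hf.bilinear.smul_left, hf.alternating, swap_zero hf hex', hexw', hxw']
      push_cast
      module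
    rw [hge] at h1
    have h4 := M.mul_mem h1 (hinv hmem)
    have heq : stv hf ((1 + γ) • em F₀ P e + γ • em F₀ P x) (k : F) * stv hf (em F₀ P e + γ • em F₀ P x) (-(k : F)) =
        sh hf (em F₀ P e) (em F₀ P x) σ * stv hf (em F₀ P e) σ :=
      gl_ext_vec fun z => by
        rw [hσ, gl_mul_mulVec, gl_mul_mulVec, sh_mulVec hf hex', stv_mulVec, stv_mulVec, stv_mulVec]
        simp only [hf.bilinear.add_left, hf.bilinear.add_right, hf.bilinear.smul_left, hf.bilinear.smul_right,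
          hf.alternating, hex', swap_zero hf hex', mul_zero, add_zero]
        match_scalars <;> first
          | ring1
          | linear_combination ((k : F) * γ * f z (em F₀ P e)) * h2
          | linear_combination -((k : F) * γ * f z (em F₀ P e)) * h2
    rwa [heq] at h4
  have hT2 : sh hf (em F₀ P e) (em F₀ P x) (σ * σ) * stv hf (em F₀ P e) (σ * σ * σ) ∈ M := by
    have h1 := htow hT
    have h3 := hE hmem (hfix (by rw [hf.bilinear.add_right, hf.bilinear.smul_right, hf.alternating, hex', mul_zero,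
      add_zero])) h1
    rw [stv_mulVec, hf.bilinear.add_right, hf.bilinear.smul_right, swap_zero hf hexw', hwx', zero_add, mul_one] at h3
    have h4 := M.mul_mem h3 h1
    convert h4 using 1
    refine gl_ext_vec fun z => ?_
    have hperp : f (em F₀ P e) (em F₀ P w + ((k : F) * γ) • (em F₀ P e + γ • em F₀ P x)) = 0 := by
      rw [hf.bilinear.add_right, hf.bilinear.smul_right, hf.bilinear.add_right, hf.bilinear.smul_right,
        hf.alternating, hex', hexw', mul_zero, add_zero, mul_zero, add_zero]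
    simp only [gl_mul_mulVec, sh_mulVec hf hex', sh_mulVec hf hexw', sh_mulVec hf hperp, stv_mulVec]
    rw [hσ]
    simp only [hf.bilinear.add_left, hf.bilinear.add_right, hf.bilinear.smul_left, hf.bilinear.smul_right,
      hf.alternating, hex', hexw', hxw', hwx', swap_zero hf hex', swap_zero hf hexw', mul_zero, add_zero, smul_add]
    match_scalars <;> first
      | ring1
      | (ring_nf; simp only [h2, h3', h4', mul_one, mul_zero, zero_mul, add_zero, zero_add])
  obtain ⟨s₀, hs₀, hs₀F⟩ : ∃ s ∈ C, s ∉ F₀ := by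
    by_contra hcon
    push Not at hcon
    have ha := hcon _ (hrot hT)
    have hb := hcon _ (hrot hT2)
    obtain ⟨p, hp⟩ : ∃ p, p = σ * σ + σ := ⟨_, rfl⟩
    rw [← hp] at ha
    have hps : p * σ ∈ F₀ := by
      have h3 := F₀.sub_mem hb (F₀.mul_mem ha ha)
      convert h3 using 1
      rw [hp]
      linear_combination (σ * σ + σ * σ * σ) * h2
    rcases eq_or_ne p 0 with hp0 | hp0
    · rcases eq_or_ne σ 0 with h0 | h0
      · exact hσF (h0 ▸ F₀.zero_mem)
      · refine hσF ?_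
        rw [show σ = -1 from eq_neg_of_add_eq_zero_left ((mul_eq_zero.1
          (show σ * (σ + 1) = 0 by linear_combination hp0 - hp)).resolve_left h0)]
        exact F₀.neg_mem F₀.one_mem
    · refine hσF ?_
      have h3 := F₀.div_mem hps ha
      rwa [mul_div_cancel_left₀ _ hp0] at h3
  have hP : ∀ c₁ ∈ C, ∀ c₂ ∈ C, sh hf (em F₀ P e) (em F₀ P x) (c₁ * c₂) * stv hf (em F₀ P e) (c₁ * (c₂ * c₂)) ∈ M := by
    intro c₁ hc₁ c₂ hc₂
    have hew0 : e + w ≠ 0 := fun h => by
      have h1 : w = -e := eq_neg_of_add_eq_zero_right h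
      rw [h1, neg_right hf', swap_zero hf' hex, neg_zero] at hxw
      exact zero_ne_one hxw
    have hw0 : w ≠ 0 := fun h => by rw [h, zero_right hf'] at hxw; exact zero_ne_one hxw
    have hg := short_of_long hf hrat hHM hM he0 hw0 hew0 hc₂
    have h1 := stv_conj_mem hf hM hg (cset_move hf hrat hHM hM he0 hx0 hc₁)
    have hgx : (sh hf (em F₀ P e) (em F₀ P w) c₂ : Matrix ι ι F) *ᵥ em F₀ P x = em F₀ P x + c₂ • em F₀ P e := by
      rw [sh_mulVec hf hexw', swap_zero hf hex', hxw']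
      simp
    rw [hgx] at h1
    have h4 := M.mul_mem h1 (hinv (cset_move hf hrat hHM hM he0 hx0 hc₁))
    convert h4 using 1
    refine gl_ext_vec fun z => ?_
    rw [gl_mul_mulVec, gl_mul_mulVec, sh_mulVec hf hex', stv_mulVec, stv_mulVec, stv_mulVec]
    simp only [hf.bilinear.add_left, hf.bilinear.add_right, hf.bilinear.smul_left, hf.bilinear.smul_right,
      hf.alternating, hex', swap_zero hf hex', mul_zero, add_zero]
    module
  have h1C : (1 : F) ∈ C := by simpa using hF₀ 1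
  have hμC : ∀ (μ : F₀), μ ≠ 0 → ∀ c₁ ∈ C, ∀ c₂ ∈ C,
      c₂ * c₂ * ((μ : F) * μ * (c₁ * c₁) + c₁) ∈ C := fun μ hμ c₁ hc₁ c₂ hc₂ => by
    convert hrot (hscale hμ (hP c₁ hc₁ c₂ hc₂)) using 1
    ring
  have hsq : ∀ d ∈ C, d * d ∈ C := fun d hd => by
    have h3 := C.sub_mem (hμC 1 one_ne_zero d hd 1 h1C) hd
    push_cast at h3
    rwa [one_mul, one_mul, one_mul, add_sub_cancel_right] at h3
  have hsurj : ∀ b ∈ C, ∃ d ∈ C, d * d = b := fun b hb => by
    obtain ⟨⟨d, hd⟩, hdd⟩ := (Finite.injective_iff_surjective (f := fun d : C => (⟨(d : F) * d, hsq d d.2⟩ : C))).1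
      (fun p q hpq => by
        have h5 : ((p : F) * p) = q * q := congrArg Subtype.val hpq
        have h6 : ((p : F) - q) * (p - q) = 0 := by linear_combination h5 + ((q : F) * q - p * q) * h2
        exact Subtype.ext (sub_eq_zero.1 (mul_self_eq_zero.1 h6))) ⟨b, hb⟩
    exact ⟨d, hd, congrArg Subtype.val hdd⟩
  let R : Set F := {u | ∀ b ∈ C, b * u ∈ C}
  have hR : ∀ (μ : F₀), μ ≠ 0 → ∀ c₁ ∈ C, (μ : F) * μ * (c₁ * c₁) + c₁ ∈ R := fun μ hμ c₁ hc₁ b hb => by
    obtain ⟨d, hd, rfl⟩ := hsurj b hb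
    exact hμC μ hμ c₁ hc₁ d hd
  have hRadd : ∀ p ∈ R, ∀ q ∈ R, p + q ∈ R := fun p hp q hq b hb => by
    rw [mul_add]; exact C.add_mem (hp b hb) (hq b hb)
  have hRmul : ∀ p ∈ R, ∀ q ∈ R, p * q ∈ R := fun p hp q hq b hb => by
    rw [← mul_assoc]; exact hq _ (hp b hb)
  have hR1 : (1 : F) ∈ R := fun b hb => by rwa [mul_one]
  have hRF : ∀ s : F₀, (s : F) ∈ R := by
    intro s
    have h20 : (2 : F₀) = 0 := Subtype.ext (by push_cast; exact h2)
    obtain ⟨μ, rfl⟩ := (Finite.injective_iff_surjective (f := fun b : F₀ => b * b)).1 (fun p q (hpq : p * p = q * q) => by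
      have h5 : (p - q) * (p - q) = 0 := by linear_combination hpq + (q * q - p * q) * h20
      exact sub_eq_zero.1 (mul_self_eq_zero.1 h5)) s
    rcases eq_or_ne μ 0 with rfl | hμ
    · intro b hb
      push_cast
      rw [mul_zero, mul_zero]
      exact C.zero_mem
    · have h3 := hRadd _ (hR μ hμ 1 h1C) _ hR1
      push_cast
      convert h3 using 1
      linear_combination -h2
  suffices hall : ∀ z : F, z ∈ C by
    rcases eq_or_ne a 0 with rfl | ha
    · rw [em_zero, stv_zero_left]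
      exact M.one_mem
    exact cset_move hf hrat hHM hM he0 ha (hall y)
  intro z
  by_cases hbig : ∃ u ∈ R, u ∉ F₀
  · obtain ⟨u, hu, huF⟩ := hbig
    have h3 := Subf.eq_univ_of_closed hr hcard (C := R) hRadd hRmul hRF hu huF z 1 h1C
    rwa [one_mul] at h3
  push Not at hbig
  -- the prime field, and `s₀` generates the field of four elements
  have htwo : ∀ μ : F₀, μ = 0 ∨ μ = 1 := by
    intro μ
    by_contra hne
    push Not at hne
    have h3 := F₀.sub_mem (hbig _ (hR μ hne.1 s₀ hs₀)) (hbig _ (hR 1 one_ne_zero s₀ hs₀))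
    push_cast at h3
    have hμ1 : (μ : F) * μ - 1 ≠ 0 := fun h => by
      have h5 : ((μ : F) - 1) * (μ - 1) = 0 := by linear_combination h + (1 - (μ : F)) * h2
      exact hne.2 (Subtype.ext (sub_eq_zero.1 (mul_self_eq_zero.1 h5)))
    refine hs₀F (sqrt_mem h2 ?_)
    have h6 := F₀.div_mem h3 (F₀.sub_mem (F₀.mul_mem μ.2 μ.2) F₀.one_mem)
    rwa [show ((μ : F) * μ * (s₀ * s₀) + s₀ - (1 * 1 * (s₀ * s₀) + s₀)) = ((μ : F) * μ - 1) * (s₀ * s₀) by ring,
      mul_div_cancel_left₀ _ hμ1] at h6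
  have hs2 : s₀ * s₀ = s₀ + 1 := by
    have h3 := hbig _ (hR 1 one_ne_zero s₀ hs₀)
    push_cast at h3
    rcases htwo ⟨_, h3⟩ with h5 | h5
    · have h6 : (1 : F) * 1 * (s₀ * s₀) + s₀ = 0 := congrArg Subtype.val h5
      exfalso
      rcases mul_eq_zero.1 (show s₀ * (s₀ + 1) = 0 by linear_combination h6) with h7 | h7
      · exact hs₀F (h7 ▸ F₀.zero_mem)
      · exact hs₀F (eq_neg_of_add_eq_zero_left h7 ▸ F₀.neg_mem F₀.one_mem)
    · have h6 : (1 : F) * 1 * (s₀ * s₀) + s₀ = 1 := congrArg Subtype.val h5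
      linear_combination h6 - s₀ * h2
  let S : Set F := {u | ∃ p q : F₀, u = p + q * s₀}
  have hS := Subf.eq_univ_of_closed hr hcard (C := S)
    (fun p ⟨p₁, q₁, hp⟩ q ⟨p₂, q₂, hq⟩ => ⟨p₁ + p₂, q₁ + q₂, by rw [hp, hq]; push_cast; ring⟩)
    (fun p ⟨p₁, q₁, hp⟩ q ⟨p₂, q₂, hq⟩ => ⟨p₁ * p₂ + q₁ * q₂, p₁ * q₂ + q₁ * p₂ + q₁ * q₂, by
      rw [hp, hq]; push_cast; linear_combination ((q₁ : F) * q₂) * hs2⟩)
    (fun s => ⟨s, 0, by push_cast; ring⟩) (show s₀ ∈ S from ⟨0, 1, by push_cast; ring⟩) hs₀F z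
  obtain ⟨p, q, rfl⟩ := hS
  refine C.add_mem (hF₀ p) ?_
  rcases htwo q with rfl | rfl
  · push_cast
    rw [zero_mul]
    exact C.zero_mem
  · push_cast
    rwa [one_mul]

omit hM hHM in
/-- subfield subgroups are maximal in characteristic two from degree four on -/
theorem subfield_maximal_two (hn : 4 ≤ Fintype.card ι) {r : ℕ} (hr : r.Prime)
    (hcard : Fintype.card F = Nat.card F₀ ^ r) :
    IsMaximalIn (isoSub f) (subfieldSubgroup F₀ P ⊓ isoSub f) :=
  subfield_maximal_of hf hrat (by omega) hr hcard fun M hHM hM _v hvc hirr b y =>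
    cset_eq_top_two hf hrat h2 hHM hM hn hr hcard one_ne_zero hvc hirr b y

end CfsgLib.Perm.Trans.Symp
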