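import Cfsg.Agent.Lib.Perm.Trans.GeomSp
import Cfsg.Agent.Lib.Perm.Trans.SympQuadFour
import Cfsg.Agent.Lib.Perm.Trans.SympSubfFour

/-!
# Geometric maximal subgroups of four-dimensional symplectic groups over fields of even order at least four
-/

set_option autoImplicit false
set_option linter.all false

namespace CfsgLib.Perm.Trans.GeomSpFour

open Cfsg Cfsg.Geo CfsgLib.Perm.Trans CfsgLib.Perm.Trans.Symp
open scoped Matrix

theorem exists_ne_zero_one {F : Type*} [Field F] [Fintype F] (h4 : 4 ≤ Fintype.card F) : ∃ s : F, s ≠ 0 ∧ s ≠ 1 := by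
  classical
  by_contra hcon
  push Not at hcon
  have h1 : Fintype.card F ≤ 2 := by
    rw [← Finset.card_univ]
    refine (Finset.card_le_card (t := {0, 1}) fun r _ => ?_).trans Finset.card_le_two
    rcases eq_or_ne r 0 with rfl | hr
    · simp
    · simp [hcon r hr]
  omega

theorem two_eq_zero {F : Type*} [Field F] [Fintype F] (heven : ¬ Odd (Fintype.card F)) : (2 : F) = 0 := by
  have h := FiniteField.even_card_iff_char_two.2 (Nat.even_iff.1 (Nat.not_odd_iff_even.1 heven))
  have h' := CharP.cast_eq_zero F (ringChar F)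
  rw [h] at h'
  exact_mod_cast h'

/-- self-adjoint quadratic extensions -/
theorem extField_maximal_four {F : Type*} [Field F] [Fintype F] (h4 : 4 ≤ Fintype.card F)
    (K : Subalgebra F (Matrix (Fin 2 ⊕ Fin 2) (Fin 2 ⊕ Fin 2) F)) (hK : IsFieldSubalgebra 2 K)
    (hsa : IsSelfAdjointFor (sympForm 2 F) K)
    (halt : ∀ k ∈ K, ∀ v : (Fin 2 ⊕ Fin 2 → F), sympForm 2 F (Matrix.mulVec k v) v = 0) :
    IsMaximalIn (spGL 2 F) (subalgebraNormalizer K ⊓ spGL 2 F) := by
  rw [spGL_eq_isoSub]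
  exact Ext.extField_maximal_of isSymplecticForm_sympForm (by simp) (Or.inr (exists_ne_zero_one h4))
    Nat.prime_two hK hsa halt

/-- orthogonal groups -/
theorem quad_maximal_sp_four {F : Type*} [Field F] [Fintype F] (heven : ¬ Odd (Fintype.card F))
    (h4 : 4 ≤ Fintype.card F) (Q : (Fin 2 ⊕ Fin 2 → F) → F) (hQ : IsNondegenerateQuadraticForm Q)
    (hpol : ∀ u v, QuadraticMap.polar Q u v = sympForm 2 F u v) :
    IsMaximalIn (spGL 2 F) (quadSimilarityGroup Q ⊓ spGL 2 F) := by
  obtain ⟨s, hs0, hs1⟩ := exists_ne_zero_one (F := F) h4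
  exact quad_maximal_four isSymplecticForm_sympForm hQ hpol (two_eq_zero heven) (by simp) hs0 hs1

/-- subfield groups -/
theorem subfield_maximal_sp_four {F : Type*} [Field F] [Fintype F] (heven : ¬ Odd (Fintype.card F))
    (F₀ : Subfield F) (r : ℕ) (hr : r.Prime) (hcard : Fintype.card F = Nat.card F₀ ^ r)
    (P : Matrix.GeneralLinearGroup (Fin 2 ⊕ Fin 2) F) (ζ : F) (hζ : ζ ≠ 0)
    (hP : IsFormRationalStructure (sympForm 2 F) F₀ ζ P) :
    IsMaximalIn (spGL 2 F) (subfieldSubgroup F₀ P ⊓ spGL 2 F) := by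
  have hs := isSymplecticForm_sympForm (m := 2) (F := F)
  let f : (Fin 2 ⊕ Fin 2 → F) → (Fin 2 ⊕ Fin 2 → F) → F := fun u v => ζ * sympForm 2 F u v
  have hf : IsSymplecticForm f :=
    { bilinear :=
        ⟨fun x y v => by show ζ * _ = ζ * _ + ζ * _; rw [hs.bilinear.add_left, mul_add],
         fun c x v => by show ζ * _ = c * (ζ * _); rw [hs.bilinear.smul_left, mul_left_comm],
         fun v x y => by show ζ * _ = ζ * _ + ζ * _; rw [hs.bilinear.add_right, mul_add],
         fun c v x => by show ζ * _ = c * (ζ * _); rw [hs.bilinear.smul_right, mul_left_comm]⟩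
      skew := fun v w => by show ζ * _ = -(ζ * _); rw [hs.skew, mul_neg]
      alternating := fun v => by show ζ * _ = 0; rw [hs.alternating, mul_zero]
      nondegenerate := fun v hv => by
        obtain ⟨⟨a, ha⟩, ⟨b, hb⟩⟩ := hs.nondegenerate v hv
        exact ⟨⟨a, mul_ne_zero hζ ha⟩, ⟨b, mul_ne_zero hζ hb⟩⟩ }
  have hrat : ∀ a b, f (Subf.em F₀ P a) (Subf.em F₀ P b) ∈ F₀ := fun a b =>
    hP _ _ (fun i => (a i).2) (fun i => (b i).2)
  have heq : spGL 2 F = isoSub f := SetLike.ext fun g =>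
    ⟨fun h => mem_isoSub.2 fun x y => congrArg (ζ * ·)
        ((mem_isoSub (f := sympForm 2 F)).1 h x y),
     fun h => (mem_isoSub (f := sympForm 2 F)).2 fun x y =>
        mul_left_cancel₀ hζ (mem_isoSub.1 h x y)⟩
  rw [heq]
  exact subfield_maximal_two hf hrat (two_eq_zero heven) (by simp) hr hcard

end CfsgLib.Perm.Trans.GeomSpFour
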