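import Cfsg.Agent.Lib.Perm.Trans.QuadNondegFour
import Cfsg.Agent.Lib.Perm.Trans.QuadPair

/-!
# Stabilisers of nondegenerate planes in dimension five are maximal in `Ω`
-/

set_option autoImplicit false
set_option linter.all false

namespace CfsgLib.Perm.Trans.Quad

open scoped Matrix commutatorElement
open Matrix Cfsg.Geo CfsgLib.Perm.Trans

variable {ι : Type} [Fintype ι] [DecidableEq ι] {F : Type*} [Field F] [Fintype F]
variable {Q : (ι → F) → F}

local notation "pol" => QuadraticMap.polar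

/-- two quadratic polynomials have a common non-root -/
theorem exists_avoid_two (hq : 5 ≤ Fintype.card F) {a b c a' b' c' : F} (h : a ≠ 0 ∨ b ≠ 0 ∨ c ≠ 0)
    (h' : a' ≠ 0 ∨ b' ≠ 0 ∨ c' ≠ 0) : ∃ t : F, a + b * t + c * t ^ 2 ≠ 0 ∧ a' + b' * t + c' * t ^ 2 ≠ 0 := by
  classical
  have key : ∀ x y z : F, (x ≠ 0 ∨ y ≠ 0 ∨ z ≠ 0) →
      ∃ p : Polynomial F, p ≠ 0 ∧ p.natDegree ≤ 2 ∧ ∀ t, p.eval t = x + y * t + z * t ^ 2 := by
    intro x y z hxyz
    refine ⟨Polynomial.C x + Polynomial.C y * Polynomial.X + Polynomial.C z * Polynomial.X ^ 2, fun h0 => ?_, ?_,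
      fun t => by simp⟩
    · have e0 := congrArg (fun p => Polynomial.coeff p 0) h0
      have e1 := congrArg (fun p => Polynomial.coeff p 1) h0
      have e2 := congrArg (fun p => Polynomial.coeff p 2) h0
      simp at e0 e1 e2
      rcases hxyz with h | h | h <;> contradiction
    · compute_degree
  obtain ⟨p, hp, hpd, hpe⟩ := key a b c h
  obtain ⟨r, hr, hrd, hre⟩ := key a' b' c' h'
  obtain ⟨t, ht⟩ : ∃ t, t ∉ (p * r).roots.toFinset := by
    by_contra hcon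
    push Not at hcon
    have h1 : (Finset.univ : Finset F) ⊆ (p * r).roots.toFinset := fun x _ => hcon x
    have h2 := (Finset.card_le_card h1).trans ((Multiset.toFinset_card_le _).trans (Polynomial.card_roots' _))
    have h3 := Polynomial.natDegree_mul_le (p := p) (q := r)
    rw [Finset.card_univ] at h2
    omega
  have hne : (p * r).eval t ≠ 0 := fun h0 => ht (by
    rw [Multiset.mem_toFinset, Polynomial.mem_roots (mul_ne_zero hp hr)]
    exact h0)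
  rw [Polynomial.eval_mul, hpe, hre] at hne
  exact ⟨t, left_ne_zero_of_mul hne, right_ne_zero_of_mul hne⟩

variable (hQ : IsNondegenerateQuadraticForm Q) (h2 : (2 : F) ≠ 0)
include hQ

include h2 in
/-- the orthogonal of a hyperbolic pair in a three-dimensional space is an anisotropic line -/
theorem pair_three {P : Submodule F (ι → F)} (hP : NdOn Q P) (hd : Module.finrank F P = 3) {u u' : ι → F}
    (hu : u ∈ P) (hu' : u' ∈ P) (hQu : Q u = 0) (hQu' : Q u' = 0) (huu' : pol Q u u' = 1) :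
    ∃ e ∈ P, Q e ≠ 0 ∧ pol Q e u = 0 ∧ pol Q e u' = 0 ∧
      ∀ x ∈ P, ∃ c : F, x = pol Q x u' • u + pol Q x u • u' + c • e := by
  obtain ⟨T, hT⟩ : ∃ T, T = pairPerp hQ P u u' := ⟨_, rfl⟩
  have hTnd : NdOn Q T := hT ▸ pair_nd hQ hu hu' hQu hQu' huu' hP
  have hT1 : 1 ≤ Module.finrank F T := by
    have := pair_finrank hQ hu hu' hQu hQu' huu' (P := P)
    rw [← hT] at this
    omega
  have hli : LinearIndependent F ![u, u'] := by
    refine LinearIndependent.pair_iff.2 fun s t hst => ?_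
    have e1 := congrArg (fun z => pol Q z u) hst
    have e2 := congrArg (fun z => pol Q z u') hst
    simp only [padd_left hQ, psmul_left hQ, pzero_left hQ, pself hQ, hQu, hQu', pcomm u' u, huu', mul_zero, mul_one,
      zero_add, add_zero] at e1 e2
    exact ⟨e2, e1⟩
  have hT2 : Module.finrank F T ≤ 1 := by
    have h1 := Submodule.finrank_sup_add_finrank_inf_eq T (Submodule.span F (Set.range ![u, u']))
    have h3 : Module.finrank F ↥(T ⊔ Submodule.span F (Set.range ![u, u'])) ≤ 3 := by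
      rw [← hd]
      refine Submodule.finrank_mono (sup_le (fun x hx => ?_) (Submodule.span_le.2 ?_))
      · rw [hT] at hx
        exact ((mem_pairPerp hQ).1 hx).1
      · rintro _ ⟨i, rfl⟩
        fin_cases i <;> simp [hu, hu']
    have h4 : T ⊓ Submodule.span F (Set.range ![u, u']) = ⊥ := by
      refine (Submodule.eq_bot_iff _).2 fun x hx => ?_
      obtain ⟨hxT, hxs⟩ := Submodule.mem_inf.1 hx
      rw [hT] at hxT
      obtain ⟨-, hxu, hxu'⟩ := (mem_pairPerp hQ).1 hxT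
      rw [Matrix.range_cons_cons_empty, Submodule.mem_span_pair] at hxs
      obtain ⟨s, t, rfl⟩ := hxs
      simp only [padd_left hQ, psmul_left hQ, pself hQ, hQu, hQu', pcomm u' u, huu', mul_zero, mul_one, zero_add,
        add_zero] at hxu hxu'
      rw [hxu, hxu', zero_smul, zero_smul, add_zero]
    rw [h4, finrank_bot, finrank_span_eq_card hli, Fintype.card_fin] at h1
    omega
  obtain ⟨e, he, he0⟩ := Submodule.exists_mem_ne_zero_of_ne_bot (show T ≠ ⊥ from fun h => by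
    rw [h, finrank_bot] at hT1; omega)
  have hspan : ∀ z ∈ T, ∃ c : F, z = c • e := fun z hz => by
    obtain ⟨c, hc⟩ := (finrank_eq_one_iff_of_nonzero' (⟨e, he⟩ : T) (fun h => he0 (congrArg Subtype.val h))).1
      (show Module.finrank F T = 1 from le_antisymm hT2 hT1) ⟨z, hz⟩
    exact ⟨c, (congrArg Subtype.val hc).symm⟩
  have hQe : Q e ≠ 0 := fun h0 => by
    obtain ⟨y, hy, hey⟩ := (hTnd e he he0).2
    obtain ⟨c, rfl⟩ := hspan y hy
    exact hey (by rw [psmul_right hQ, pself hQ, h0, mul_zero, mul_zero])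
  have heT := he
  rw [hT] at heT
  obtain ⟨heP, heu, heu'⟩ := (mem_pairPerp hQ).1 heT
  refine ⟨e, heP, hQe, heu, heu', fun x hx => ?_⟩
  obtain ⟨c, hc⟩ := hspan _ (hT ▸ pair_proj hQ hu hu' hQu hQu' huu' hx)
  exact ⟨c, by rw [← hc]; abel⟩

include h2 in
/-- singular vectors avoid two hyperplanes -/
theorem exists_singular_avoid (hq : 5 ≤ Fintype.card F) {P : Submodule F (ι → F)} (hP : NdOn Q P)
    (hd : Module.finrank F P = 3) {f f' : (ι → F) →ₗ[F] F} (hf : ∃ x ∈ P, f x ≠ 0) (hf' : ∃ x ∈ P, f' x ≠ 0) :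
    ∃ v ∈ P, Q v = 0 ∧ f v ≠ 0 ∧ f' v ≠ 0 := by
  obtain ⟨u, hu, hu0, hQu⟩ := exists_qsingular hQ hP (by omega)
  obtain ⟨u', hu', hQu', huu'⟩ := exists_qpartner hQ hP hu hu0 hQu
  obtain ⟨e, he, hQe, heu, heu', hsp⟩ := pair_three hQ h2 hP hd hu hu' hQu hQu' huu'
  have hne : ∀ g : (ι → F) →ₗ[F] F, (∃ x ∈ P, g x ≠ 0) → g u ≠ 0 ∨ g e ≠ 0 ∨ -(Q e * g u') ≠ 0 := by
    rintro g ⟨x, hx, hgx⟩
    by_contra hcon
    push Not at hcon
    obtain ⟨c, hc⟩ := hsp x hx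
    refine hgx ?_
    rw [hc, map_add, map_add, map_smul, map_smul, map_smul, hcon.1, hcon.2.1,
      (mul_eq_zero.1 (neg_eq_zero.1 hcon.2.2)).resolve_left hQe]
    simp
  obtain ⟨t, ht, ht'⟩ := exists_avoid_two hq (hne f hf) (hne f' hf')
  obtain ⟨v, hv⟩ : ∃ v, v = u + t • e + (-(t ^ 2 * Q e)) • u' := ⟨_, rfl⟩
  refine ⟨v, hv ▸ P.add_mem (P.add_mem hu (P.smul_mem _ he)) (P.smul_mem _ hu'), ?_, ?_, ?_⟩
  · rw [hv, qadd hQ, qadd hQ, qsmul hQ, qsmul hQ, psmul_right hQ, psmul_right hQ, padd_left hQ, psmul_left hQ, hQu,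
      hQu', pcomm u e, heu, heu', huu']
    ring
  · rw [hv, map_add, map_add, map_smul, map_smul, smul_eq_mul, smul_eq_mul]
    exact fun h => ht (by linear_combination h)
  · rw [hv, map_add, map_add, map_smul, map_smul, smul_eq_mul, smul_eq_mul]
    exact fun h => ht' (by linear_combination h)

/-- an element of `Ω` scaling a hyperbolic pair by a square and fixing its orthogonal -/
theorem exists_pair_scale (hn : 5 ≤ Fintype.card ι) {u u' : ι → F} (hQu : Q u = 0) (hQu' : Q u' = 0)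
    (huu' : pol Q u u' = 1) {k : F} (hk : k ≠ 0) :
    ∃ s ∈ omegaGL Q, (∀ x, pol Q x u = 0 → pol Q x u' = 0 → (s : Matrix ι ι F) *ᵥ x = x) ∧
      (s : Matrix ι ι F) *ᵥ u = (k ^ 2) • u := by
  obtain ⟨a, ha⟩ : ∃ a, a = u - u' := ⟨_, rfl⟩
  obtain ⟨b, hb⟩ : ∃ b, b = k⁻¹ • (u' - (k ^ 2) • u) := ⟨_, rfl⟩
  have hQa : Q a = -1 := by rw [ha, qsub hQ, hQu, hQu', huu']; ring
  have hQb : Q b = -1 := by
    rw [hb, qsmul hQ, qsub hQ, qsmul hQ, hQu, hQu', psmul_right hQ, pcomm u' u, huu']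
    field_simp
    ring
  obtain ⟨r, hr, hra⟩ := exists_refl hQ (v := a) (by rw [hQa]; exact neg_ne_zero.2 one_ne_zero)
  obtain ⟨r', hr', hrb⟩ := exists_refl hQ (v := b) (by rw [hQb]; exact neg_ne_zero.2 one_ne_zero)
  refine ⟨r' * r, refl_pair_omega hQ hn (by rw [hQb]; exact neg_ne_zero.2 one_ne_zero) (hQb.trans hQa.symm) hr' hr
    hrb hra, fun x hxu hxu' => ?_, ?_⟩
  · rw [gl_mul_mulVec, refl_fix hQ hra (by rw [ha, psub_right hQ, hxu, hxu', sub_zero]),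
      refl_fix hQ hrb (by rw [hb, psmul_right hQ, psub_right hQ, psmul_right hQ, hxu, hxu', mul_zero, sub_zero,
        mul_zero])]
  · have h1 := hrb.smul hQ hk
    rw [hb, smul_smul, mul_inv_cancel₀ hk, one_smul] at h1
    have hra' := hra
    rw [ha] at hra'
    rw [gl_mul_mulVec, refl_moves hQ (hQu.trans hQu'.symm) (by rw [← ha, hQa]; exact neg_ne_zero.2 one_ne_zero) hra',
      refl_moves hQ (by rw [qsmul hQ, hQu, hQu', mul_zero]) (by
        rw [qsub hQ, qsmul hQ, hQu, hQu', psmul_right hQ, pcomm u' u, huu']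
        simpa using hk) h1]

/-- an element of `Ω` exchanging the lines of a hyperbolic pair -/
theorem exists_pair_swap' (hn : 5 ≤ Fintype.card ι) {u u' e : ι → F} (hQu : Q u = 0) (hQu' : Q u' = 0)
    (huu' : pol Q u u' = 1) (hQe : Q e ≠ 0) (heu : pol Q e u = 0) (heu' : pol Q e u' = 0) :
    ∃ s ∈ omegaGL Q, (∀ x, pol Q x u = 0 → pol Q x u' = 0 → pol Q x e = 0 → (s : Matrix ι ι F) *ᵥ x = x) ∧
      (s : Matrix ι ι F) *ᵥ u = (-Q e) • u' := by
  obtain ⟨v, hv⟩ : ∃ v, v = u - (-Q e) • u' := ⟨_, rfl⟩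
  have hQv : Q v = Q e := by rw [hv, qsub hQ, qsmul hQ, psmul_right hQ, hQu, hQu', huu']; ring
  obtain ⟨r, hr, hre⟩ := exists_refl hQ hQe
  obtain ⟨r', hr', hrv⟩ := exists_refl hQ (v := v) (by rwa [hQv])
  refine ⟨r * r', refl_pair_omega hQ hn hQe hQv.symm hr hr' hre hrv, fun x hxu hxu' hxe => ?_, ?_⟩
  · rw [gl_mul_mulVec, refl_fix hQ hrv (by rw [hv, psub_right hQ, psmul_right hQ, hxu, hxu', mul_zero, sub_zero]),
      refl_fix hQ hre hxe]
  · have hrv' := hrv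
    rw [hv] at hrv'
    rw [gl_mul_mulVec, refl_moves hQ (by rw [qsmul hQ, hQu, hQu', mul_zero]) (by rw [← hv, hQv]; exact hQe) hrv',
      refl_fix hQ hre (by rw [psmul_left hQ, pcomm u' e, heu', mul_zero])]

variable {W : Submodule F (ι → F)}

/-- Eichler transformations inside the orthogonal stabilise the plane -/
theorem ein_stab_five (hn : 5 ≤ Fintype.card ι) {u p : ι → F} (hu : u ∈ qperp hQ W) (hQu : Q u = 0)
    (hp : p ∈ qperp hQ W) (hup : pol Q u p = 0) :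
    ∃ e ∈ subspaceStabilizer W ⊓ omegaGL Q, IsE Q u p e ∧ ∀ w ∈ W, (e : Matrix ι ι F) *ᵥ w = w := by
  obtain ⟨e, he, heE⟩ := ein_omega hQ hn hQu hup
  have hfix : ∀ w ∈ W, (e : Matrix ι ι F) *ᵥ w = w := fun w hw => by
    rw [heE, pcomm w u, hu w hw, pcomm w p, hp w hw]
    simp
  exact ⟨e, ⟨mem_stab_of_maps fun x hx => by rw [hfix x hx]; exact hx, he⟩, heE, hfix⟩

include h2 in
/-- one mixed Eichler transformation gives a pair of centres -/
theorem five_pair_of_mixed (hn : 5 ≤ Fintype.card ι) (hq : 5 ≤ Fintype.card F) (hW : NdOn Q W)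
    (hP3 : Module.finrank F (qperp hQ W) = 3) {M : Subgroup (GL ι F)}
    (hHM : subspaceStabilizer W ⊓ omegaGL Q ≤ M) (hM : M ≤ Cfsg.isometryGroup F Q) {u : ι → F}
    (hu : u ∈ qperp hQ W) (hu0 : u ≠ 0) (hQu : Q u = 0) {a : ι → F} (hua : pol Q u a = 0) (haP : a ∉ qperp hQ W)
    (hE : EIn Q M u a) : ∃ e ∈ eCentres Q M, ∃ f ∈ eCentres Q M, pol Q e f ≠ 0 := by
  have hPnd := qperp_nd hQ hW
  obtain ⟨u', hu', hQu', huu'⟩ := exists_qpartner hQ hPnd hu hu0 hQu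
  obtain ⟨e, he, hQe, heu, heu', hsp⟩ := pair_three hQ h2 hPnd hP3 hu hu' hQu hQu' huu'
  have hWp : ∀ x ∈ W, ∀ p ∈ qperp hQ W, pol Q x p = 0 := fun x hx p hp => by rw [pcomm]; exact hp x hx
  have hPE : ∀ p ∈ qperp hQ W, pol Q u p = 0 → EIn Q M u p := fun p hp hup => by
    obtain ⟨g, hg, hgE, -⟩ := ein_stab_five hQ hn hu hQu hp hup
    exact ⟨g, hHM hg, hgE⟩
  obtain ⟨w₀, hw₀, hw₀W, hw₀u⟩ := exists_pair_swap' hQ hn hQu hQu' huu' hQe heu heu'
  have hw₀st : w₀ ∈ subspaceStabilizer W := mem_stab_of_maps fun x hx => by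
    rw [hw₀W x (hWp x hx u hu) (hWp x hx u' hu') (hWp x hx e he)]; exact hx
  -- elements of `M` scaling `u` and acting like a given isometry on `W`
  have hlift : ∀ h ∈ Cfsg.isometryGroup F Q, (∀ x ∈ qperp hQ W, (h : Matrix ι ι F) *ᵥ x = x) →
      ∃ s ∈ M, ∃ c : F, c ≠ 0 ∧ (s : Matrix ι ι F) *ᵥ u = c • u ∧
        ∀ x ∈ W, (s : Matrix ι ι F) *ᵥ x = (h : Matrix ι ι F) *ᵥ x := by
    intro h hh hhP
    have hhW : ∀ z ∈ W, (h : Matrix ι ι F) *ᵥ z ∈ W := fun z hz => by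
      rw [← qperp_qperp hQ hW]
      intro p hp
      conv_lhs => rw [← hhP p hp, iso_pol hh, pcomm]
      exact hp z hz
    obtain ⟨s, hs, hsh⟩ := exists_omega_agree_values hQ hn (R := Submodule.span F {u, u'})
      (fun c => ⟨u + c • u', Submodule.add_mem _ (Submodule.subset_span (by simp))
        (Submodule.smul_mem _ _ (Submodule.subset_span (by simp))),
        by rw [qadd hQ, qsmul hQ, psmul_right hQ, hQu, hQu', huu']; ring⟩) hh
    have hin : ∀ x, pol Q x u = 0 → pol Q x u' = 0 → x ∈ qperp hQ (Submodule.span F {u, u'}) := fun x h1 h3 =>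
      (mem_qperp_span hQ).2 (by rintro _ (rfl | rfl) <;> assumption)
    have hsW : ∀ x ∈ W, (s : Matrix ι ι F) *ᵥ x = (h : Matrix ι ι F) *ᵥ x := fun x hx =>
      hsh x (hin x (hWp x hx u hu) (hWp x hx u' hu'))
    have hsst : s ∈ subspaceStabilizer W := mem_stab_of_maps fun x hx => by rw [hsW x hx]; exact hhW x hx
    have hsi := omegaGL_le_iso hs
    have hse : (s : Matrix ι ι F) *ᵥ e = e := by rw [hsh e (hin e heu heu'), hhP e he]
    have hsuP : (s : Matrix ι ι F) *ᵥ u ∈ qperp hQ W :=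
      (mem_subspaceStabilizer_iff.1 (stab_qperp hQ hW hsi hsst) u).1 hu
    obtain ⟨c, hc⟩ := hsp _ hsuP
    obtain ⟨α, hα⟩ : ∃ α, α = pol Q ((s : Matrix ι ι F) *ᵥ u) u' := ⟨_, rfl⟩
    obtain ⟨β, hβ⟩ : ∃ β, β = pol Q ((s : Matrix ι ι F) *ᵥ u) u := ⟨_, rfl⟩
    rw [← hα, ← hβ] at hc
    have hc0 : c = 0 := by
      have h1 := iso_pol hsi u e
      rw [hse, pcomm u e, heu, hc, padd_left hQ, padd_left hQ, psmul_left hQ, psmul_left hQ, psmul_left hQ,
        pcomm u e, heu, pcomm u' e, heu', pself hQ] at h1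
      simpa [h2, hQe] using h1
    rw [hc0, zero_smul, add_zero] at hc
    have hαβ : α * β = 0 := by
      have h1 := mem_iso.1 hsi u
      rw [hc, qadd hQ, qsmul hQ, qsmul hQ, psmul_left hQ, psmul_right hQ, hQu, hQu', huu'] at h1
      linear_combination h1
    rcases mul_eq_zero.1 hαβ with hα0 | hβ0
    · have hsu : (s : Matrix ι ι F) *ᵥ u = β • u' := by rw [hc, hα0, zero_smul, zero_add]
      have hβ0 : β ≠ 0 := fun h0 => hu0 (gl_mulVec_eq_zero.1 (by rw [hsu, h0, zero_smul]))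
      have hw₀u' : ((w₀⁻¹ : GL ι F) : Matrix ι ι F) *ᵥ u' = (-Q e)⁻¹ • u := by
        conv_rhs => rw [← gl_inv_mulVec w₀ u, hw₀u]
        rw [mulVec_smul, smul_smul, inv_mul_cancel₀ (neg_ne_zero.2 hQe), one_smul]
      refine ⟨w₀⁻¹ * s, mul_mem (inv_mem (hHM ⟨hw₀st, hw₀⟩)) (hHM ⟨hsst, hs⟩), β * (-Q e)⁻¹,
        mul_ne_zero hβ0 (inv_ne_zero (neg_ne_zero.2 hQe)), ?_, fun x hx => ?_⟩
      · rw [gl_mul_mulVec, hsu, mulVec_smul, hw₀u', smul_smul]
      · rw [gl_mul_mulVec, hsW x hx]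
        conv_lhs => rw [← hw₀W _ (hWp _ (hhW x hx) u hu) (hWp _ (hhW x hx) u' hu') (hWp _ (hhW x hx) e he),
          gl_inv_mulVec]
    · have hsu : (s : Matrix ι ι F) *ᵥ u = α • u := by rw [hc, hβ0, zero_smul, add_zero]
      exact ⟨s, hHM ⟨hsst, hs⟩, α, fun h0 => hu0 (gl_mulVec_eq_zero.1 (by rw [hsu, h0, zero_smul])), hsu, hsW⟩
  -- scaling
  have hscale : ∀ w ∈ W, EIn Q M u w → ∀ c : F, EIn Q M u (c • w) := by
    intro w hw hEw
    have hsq : ∀ k : F, EIn Q M u ((k ^ 2) • w) := by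
      intro k
      rcases eq_or_ne k 0 with rfl | hk
      · have := EIn.smul_self hQ M hQu 0
        rw [zero_smul] at this
        rwa [zero_pow two_ne_zero, zero_smul]
      obtain ⟨s, hs, hsfix, hsu⟩ := exists_pair_scale hQ hn hQu hQu' huu' hk
      have hsW : ∀ x ∈ W, (s : Matrix ι ι F) *ᵥ x = x := fun x hx => hsfix x (hWp x hx u hu) (hWp x hx u' hu')
      have hsM : s ∈ M := hHM ⟨mem_stab_of_maps fun x hx => by rw [hsW x hx]; exact hx, hs⟩
      obtain ⟨g, hg, hgE⟩ := EIn.conj hEw (hM hsM) hsM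
      rw [hsu, hsW w hw] at hgE
      exact ⟨g, hg, hgE.smul_left hQ (pow_ne_zero 2 hk)⟩
    intro c
    obtain ⟨x, y, hxy⟩ := exists_sq_add_sq hQ h2 c
    have hperp : ∀ d : F, pol Q u (d • w) = 0 := fun d => by rw [psmul_right hQ, hu w hw, mul_zero]
    have h1 := EIn.add hQ hQu (hperp _) (hperp _) (hsq x) (hsq y)
    rwa [← add_smul, hxy] at h1
  let S : Submodule F (ι → F) :=
    { carrier := {w | w ∈ W ∧ ∀ c : F, EIn Q M u (c • w)}
      zero_mem' := ⟨W.zero_mem, fun c => by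
        rw [smul_zero]
        have := EIn.smul_self hQ M hQu 0
        rwa [zero_smul] at this⟩
      add_mem' := fun {p p'} hp hp' => ⟨W.add_mem hp.1 hp'.1, fun c => by
        rw [smul_add]
        exact EIn.add hQ hQu (by rw [psmul_right hQ, hu p hp.1, mul_zero])
          (by rw [psmul_right hQ, hu p' hp'.1, mul_zero]) (hp.2 c) (hp'.2 c)⟩
      smul_mem' := fun c p hp => ⟨W.smul_mem c hp.1, fun d => by rw [smul_smul]; exact hp.2 _⟩ }
  obtain ⟨w, hw, haw⟩ := qperp_decomp hQ hW a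
  have hwS : w ∈ S := by
    refine ⟨hw, hscale w hw ?_⟩
    have h1 : pol Q u (-(a - w)) = 0 := by rw [pneg_right hQ, psub_right hQ, hua, hu w hw, sub_zero, neg_zero]
    have h3 := EIn.add hQ hQu hua h1 hE (hPE _ ((qperp hQ W).neg_mem haw) h1)
    rwa [show a + -(a - w) = w by abel] at h3
  have hw0 : w ≠ 0 := fun h => haP (by rwa [h, sub_zero] at haw)
  obtain ⟨B, hBQ, hB⟩ := exists_bundled hQ
  subst hBQ
  have hWS : W ≤ S := by
    refine closed_value_eq hQ hW (fun x hx => hx.1) (fun h => hw0 ((Submodule.eq_bot_iff S).1 h w hwS))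
      (fun x hx hx0 y hy hy0 hyx => ?_) (fun _ _ => by omega)
    have hnP : ∀ z ∈ W, z ≠ 0 → z ∉ qperp hQ W := fun z hz hz0 h => by
      obtain ⟨t, ht, hzt⟩ := (hW z hz hz0).2
      exact hzt (h t ht)
    obtain ⟨g, hgi, hgP, hgx⟩ := Witt.exists_step (Q := B) hB (W := qperp hQ W) (hnP x hx.1 hx0) (hnP y hy hy0) hyx
      (fun p hp => by rw [pcomm y p, hp y hy, pcomm x p, hp x hx.1])
    obtain ⟨k, hk, hkg⟩ := exists_iso_of_equiv (Q := ⇑B) g hgi
    obtain ⟨s, hs, c, hc, hsu, hsW⟩ := hlift k hk fun z hz => by rw [hkg, hgP z hz]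
    refine ⟨hy, fun d => ?_⟩
    have h1 := EIn.conj (hx.2 1) (hM hs) hs
    rw [one_smul, hsu, hsW x hx.1, hkg, hgx] at h1
    obtain ⟨m, hm, hmE⟩ := h1
    have h3 := hscale _ (W.smul_mem c hy) ⟨m, hm, hmE.smul_left hQ hc⟩ (d * c⁻¹)
    rwa [smul_smul, mul_assoc, inv_mul_cancel₀ hc, mul_one] at h3
  have huC : u ∈ eCentres (⇑B) M := by
    refine ⟨hQu, fun b hub => ?_⟩
    obtain ⟨v, hv, hbv⟩ := qperp_decomp hQ hW b
    have h1 := (hWS hv).2 1
    rw [one_smul] at h1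
    have h3 := EIn.add hQ hQu (hu v hv) (by rw [psub_right hQ, hub, hu v hv, sub_zero]) h1
      (hPE _ hbv (by rw [psub_right hQ, hub, hu v hv, sub_zero]))
    rwa [add_sub_cancel] at h3
  refine ⟨u, huC, _, eCentres_conj hM (hHM ⟨hw₀st, hw₀⟩) huC, ?_⟩
  rw [hw₀u, psmul_right hQ, huu', mul_one]
  exact neg_ne_zero.2 hQe

include h2 in
/-- a singular vector common to the orthogonal and its translate gives a pair of centres -/
theorem five_pair_of_common (hn : 5 ≤ Fintype.card ι) (hq : 5 ≤ Fintype.card F) (hW : NdOn Q W)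
    (hP3 : Module.finrank F (qperp hQ W) = 3) {M : Subgroup (GL ι F)}
    (hHM : subspaceStabilizer W ⊓ omegaGL Q ≤ M) (hM : M ≤ Cfsg.isometryGroup F Q) {g : GL ι F} (hg : g ∈ M)
    (hgW : g ∉ subspaceStabilizer W) {u : ι → F} (hu : u ∈ qperp hQ W) (hu0 : u ≠ 0) (hQu : Q u = 0)
    (hgu : (g : Matrix ι ι F) *ᵥ u ∈ qperp hQ W) :
    ∃ e ∈ eCentres Q M, ∃ f ∈ eCentres Q M, pol Q e f ≠ 0 := by
  have hPnd := qperp_nd hQ hW
  obtain ⟨v, hv⟩ : ∃ v, v = (g : Matrix ι ι F) *ᵥ u := ⟨_, rfl⟩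
  rw [← hv] at hgu
  have hv0 : v ≠ 0 := fun h => hu0 (gl_mulVec_eq_zero.1 (hv.symm.trans h))
  have hQv : Q v = 0 := by rw [hv, mem_iso.1 (hM hg), hQu]
  by_cases hmix : ∃ p ∈ qperp hQ W, pol Q u p = 0 ∧ (g : Matrix ι ι F) *ᵥ p ∉ qperp hQ W
  · obtain ⟨p, hp, hup, hgp⟩ := hmix
    refine five_pair_of_mixed hQ h2 hn hq hW hP3 hHM hM hgu hv0 hQv (a := (g : Matrix ι ι F) *ᵥ p)
      (by rw [hv, iso_pol (hM hg), hup]) hgp ?_
    obtain ⟨e, he, heE, -⟩ := ein_stab_five hQ hn hu hQu hp hup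
    rw [hv]
    exact EIn.conj ⟨e, hHM he, heE⟩ (hM hg) hg
  push Not at hmix
  obtain ⟨u', hu', hQu', huu'⟩ := exists_qpartner hQ hPnd hu hu0 hQu
  obtain ⟨w, hw, hwp⟩ := qperp_decomp hQ hW ((g : Matrix ι ι F) *ᵥ u')
  have hvw : pol Q v w = 0 := hgu w hw
  obtain ⟨e, he, heE⟩ := exists_E hQ hQv hvw
  obtain ⟨h, hh⟩ : ∃ h, h = e⁻¹ * g := ⟨_, rfl⟩
  have hhi : h ∈ Cfsg.isometryGroup F Q := hh ▸ mul_mem (inv_mem he) (hM hg)
  have hback : ∀ x y, (e : Matrix ι ι F) *ᵥ y = (g : Matrix ι ι F) *ᵥ x → (h : Matrix ι ι F) *ᵥ x = y :=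
    fun x y hy => by rw [hh, gl_mul_mulVec, ← hy, gl_inv_mulVec]
  have hU₀ : ∀ x ∈ qperp hQ W, pol Q u x = 0 → (h : Matrix ι ι F) *ᵥ x ∈ qperp hQ W := by
    intro x hx hux
    have h1 := hmix x hx hux
    rw [hback x ((g : Matrix ι ι F) *ᵥ x) ?_]
    · exact h1
    · rw [heE, show pol Q ((g : Matrix ι ι F) *ᵥ x) v = 0 by rw [hv, iso_pol (hM hg), pcomm, hux],
        show pol Q ((g : Matrix ι ι F) *ᵥ x) w = 0 from h1 w hw]
      simp
  have hhu' : (h : Matrix ι ι F) *ᵥ u' ∈ qperp hQ W := by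
    rw [hback u' ((g : Matrix ι ι F) *ᵥ u' - w + Q w • v) ?_]
    · exact (qperp hQ W).add_mem hwp ((qperp hQ W).smul_mem _ hgu)
    · rw [heE]
      have h1 : pol Q ((g : Matrix ι ι F) *ᵥ u' - w + Q w • v) v = 1 := by
        rw [padd_left hQ, psub_left hQ, psmul_left hQ, pself hQ v, hQv, pcomm w v, hvw, hv, iso_pol (hM hg),
          pcomm, huu']
        ring
      have h3 : pol Q ((g : Matrix ι ι F) *ᵥ u' - w + Q w • v) w = 0 := by
        rw [padd_left hQ, psmul_left hQ, hvw, mul_zero, add_zero]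
        exact hwp w hw
      rw [h1, h3]
      module
  have hhP : ∀ x ∈ qperp hQ W, (h : Matrix ι ι F) *ᵥ x ∈ qperp hQ W := fun x hx => by
    rw [← sub_add_cancel x (pol Q u x • u'), mulVec_add, mulVec_smul]
    exact (qperp hQ W).add_mem (hU₀ _ ((qperp hQ W).sub_mem hx ((qperp hQ W).smul_mem _ hu'))
      (by rw [psub_right hQ, psmul_right hQ, huu', mul_one, sub_self])) ((qperp hQ W).smul_mem _ hhu')
  have hhst : h ∈ subspaceStabilizer W := by
    have := stab_qperp hQ hPnd hhi (mem_stab_of_maps hhP)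
    rwa [qperp_qperp hQ hW] at this
  have hw0 : w ≠ 0 := fun h0 => hgW (by
    have h1 : e = 1 := heE.unique (by
      rw [h0]
      have := IsE.one hQ hQv (0 : F)
      rwa [zero_smul] at this)
    have h3 : h = g := by rw [hh, h1, inv_one, one_mul]
    rwa [← h3])
  -- an element fixing `W` and scaling `v` by a square other than one
  obtain ⟨k, hk0, hk1⟩ : ∃ k : F, k ≠ 0 ∧ k ^ 2 ≠ 1 := by
    obtain ⟨t, ht, ht'⟩ := exists_avoid_two hq (a := (0 : F)) (b := 1) (c := 0) (a' := -1) (b' := 0) (c' := 1)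
      (by simp) (by simp)
    exact ⟨t, fun h => ht (by rw [h]; ring), fun h => ht' (by rw [h]; ring)⟩
  obtain ⟨v', hv', hQv', hvv'⟩ := exists_qpartner hQ hPnd hgu hv0 hQv
  obtain ⟨s, hs, hsfix, hsv⟩ := exists_pair_scale hQ hn hQv hQv' hvv' hk0
  have hsW : ∀ x ∈ W, (s : Matrix ι ι F) *ᵥ x = x := fun x hx =>
    hsfix x (by rw [pcomm]; exact hgu x hx) (by rw [pcomm]; exact hv' x hx)
  have hsst : s ∈ subspaceStabilizer W := mem_stab_of_maps fun x hx => by rw [hsW x hx]; exact hx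
  have hsi := omegaGL_le_iso hs
  -- its conjugate differs from it by a mixed transformation
  have hs' : h⁻¹ * s * h ∈ subspaceStabilizer W ⊓ omegaGL Q := by
    refine ⟨(subspaceStabilizer W).mul_mem ((subspaceStabilizer W).mul_mem ((subspaceStabilizer W).inv_mem hhst) hsst) hhst, ?_⟩
    have h1 := mul_mem (mem_omegaGL_comm (inv_mem hhi) hsi) hs
    rwa [inv_inv, inv_mul_cancel_right] at h1
  obtain ⟨m, hm⟩ : ∃ m, m = g * (h⁻¹ * s * h) * g⁻¹ * s⁻¹ := ⟨_, rfl⟩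
  have hmM : m ∈ M := hm ▸ mul_mem (mul_mem (mul_mem hg (hHM hs')) (inv_mem hg)) (inv_mem (hHM ⟨hsst, hs⟩))
  have hms : m * (s * e * s⁻¹) = e := by rw [hm, hh]; group
  have hconj := heE.conj hsi
  rw [hsv, hsW w hw] at hconj
  have hconj' := hconj.smul_left hQ (pow_ne_zero 2 hk0)
  have hperp : ∀ d : F, pol Q v (d • w) = 0 := fun d => by rw [psmul_right hQ, hvw, mul_zero]
  obtain ⟨m₀, -, hm₀⟩ := exists_E hQ hQv (hperp (1 - k ^ 2))
  have hm₀s : m₀ * (s * e * s⁻¹) = e := by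
    have h1 := hm₀.mul hQ hQv (hperp _) (hperp _) hconj'
    rw [← add_smul, sub_add_cancel, one_smul] at h1
    exact h1.unique heE
  refine five_pair_of_mixed hQ h2 hn hq hW hP3 hHM hM hgu hv0 hQv (a := (1 - k ^ 2) • w) (hperp _) (fun hmem => ?_)
    ⟨m, hmM, mul_right_cancel (hms.trans hm₀s.symm) ▸ hm₀⟩
  obtain ⟨t, ht, hwt⟩ := (hW w hw hw0).2
  have h3 := hmem t ht
  rw [psmul_left hQ, mul_eq_zero] at h3
  exact hwt (h3.resolve_left (sub_ne_zero.2 (Ne.symm hk1)))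

include h2 in
/-- a plane common to the orthogonal and a translate leads to a common singular vector -/
theorem five_common_of_plane (hn : 5 ≤ Fintype.card ι) (hq : 5 ≤ Fintype.card F) (hW : NdOn Q W)
    (hP3 : Module.finrank F (qperp hQ W) = 3) {M : Subgroup (GL ι F)}
    (hHM : subspaceStabilizer W ⊓ omegaGL Q ≤ M) (hM : M ≤ Cfsg.isometryGroup F Q) {g : GL ι F} (hg : g ∈ M)
    (hgW : g ∉ subspaceStabilizer W) {p' : ι → F} (hp' : p' ∈ qperp hQ W) (hQp' : Q p' ≠ 0)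
    (hK : ∀ x ∈ qperp hQ W, pol Q x p' = 0 → (g : Matrix ι ι F) *ᵥ x ∈ qperp hQ W) :
    ∃ k ∈ M, k ∉ subspaceStabilizer W ∧
      ∃ u ∈ qperp hQ W, u ≠ 0 ∧ Q u = 0 ∧ (k : Matrix ι ι F) *ᵥ u ∈ qperp hQ W := by
  have hPnd := qperp_nd hQ hW
  by_cases hno : ∃ u ∈ qperp hQ W, u ≠ 0 ∧ Q u = 0 ∧ (g : Matrix ι ι F) *ᵥ u ∈ qperp hQ W
  · exact ⟨g, hg, hgW, hno⟩
  push Not at hno
  have hgi := hM hg
  -- the common vectors are those orthogonal to `p'`
  have hKeq : ∀ z ∈ qperp hQ W, (g : Matrix ι ι F) *ᵥ z ∈ qperp hQ W → pol Q z p' = 0 := by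
    intro z hz hgz
    by_contra hne
    refine hgW ?_
    have h1 := stab_qperp hQ hPnd hgi (mem_stab_of_maps fun x hx => ?_)
    · rwa [qperp_qperp hQ hW] at h1
    obtain ⟨t, ht⟩ : ∃ t, t = pol Q x p' / pol Q z p' := ⟨_, rfl⟩
    rw [← sub_add_cancel x (t • z), mulVec_add, mulVec_smul]
    exact (qperp hQ W).add_mem (hK _ ((qperp hQ W).sub_mem hx ((qperp hQ W).smul_mem _ hz))
      (by rw [psub_left hQ, psmul_left hQ, ht, div_mul_cancel₀ _ hne, sub_self]))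
      ((qperp hQ W).smul_mem _ hgz)
  -- a singular vector of the translate
  obtain ⟨v₀, hv₀, hv₀0, hQv₀⟩ := exists_qsingular hQ hPnd (by omega)
  obtain ⟨y, hy⟩ : ∃ y, y = ((g⁻¹ : GL ι F) : Matrix ι ι F) *ᵥ v₀ := ⟨_, rfl⟩
  have hgy : (g : Matrix ι ι F) *ᵥ y = v₀ := by rw [hy, gl_mulVec_inv]
  have hQy : Q y = 0 := by rw [← mem_iso.1 hgi y, hgy, hQv₀]
  have hy0 : y ≠ 0 := fun h => hv₀0 (by rw [← hgy, h, mulVec_zero])
  have hyP : y ∉ qperp hQ W := fun h => hno y h hy0 hQy (hgy ▸ hv₀)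
  obtain ⟨w₀, hw₀, hyw⟩ := qperp_decomp hQ hW y
  obtain ⟨p₀, hp₀⟩ : ∃ p₀, p₀ = y - w₀ := ⟨_, rfl⟩
  rw [← hp₀] at hyw
  obtain ⟨L, hL⟩ : ∃ L, L = qperp hQ W ⊓ LinearMap.ker (pfl hQ p₀) := ⟨_, rfl⟩
  have hLd : 2 ≤ Module.finrank F L := by
    have := finrank_inf_pfl hQ (qperp hQ W) p₀
    rw [hL]; omega
  have hLm : ∀ x ∈ L, x ∈ qperp hQ W ∧ pol Q x p₀ = 0 := fun x hx => by rw [hL] at hx; exact ⟨hx.1, hx.2⟩
  obtain ⟨d₂, hd₂, hd₂0⟩ := Submodule.exists_mem_ne_zero_of_ne_bot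
    (show L ⊓ LinearMap.ker (pfl hQ p') ≠ ⊥ from fun h => by
      have := finrank_inf_pfl hQ L p'
      rw [h, finrank_bot] at this
      omega)
  obtain ⟨hd₂L, hd₂p'⟩ := Submodule.mem_inf.1 hd₂
  replace hd₂p' : pol Q d₂ p' = 0 := hd₂p'
  obtain ⟨hd₂P, hd₂p₀⟩ := hLm d₂ hd₂L
  have hQd₂ : Q d₂ ≠ 0 := fun h0 => hno d₂ hd₂P hd₂0 h0 (hK d₂ hd₂P hd₂p')
  obtain ⟨d₁, hd₁, hd₁p'⟩ : ∃ d ∈ L, pol Q d p' ≠ 0 := by
    by_contra hcon
    push Not at hcon
    obtain ⟨K, hKdef⟩ : ∃ K, K = qperp hQ W ⊓ LinearMap.ker (pfl hQ p') := ⟨_, rfl⟩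
    have hK2 : Module.finrank F K ≤ 2 := by
      have hlt : K < qperp hQ W := lt_of_le_of_ne (hKdef ▸ inf_le_left) fun e => by
        have h1 : p' ∈ K := e.symm ▸ hp'
        rw [hKdef] at h1
        have h3 : pol Q p' p' = 0 := h1.2
        rw [pself hQ] at h3
        exact mul_ne_zero h2 hQp' h3
      have := Submodule.finrank_lt_finrank_of_lt hlt
      omega
    have hLK : L = K := Submodule.eq_of_le_of_finrank_le
      (fun x hx => hKdef ▸ ⟨(hLm x hx).1, hcon x hx⟩) (by omega)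
    -- `y` would be in the radical of the translate
    obtain ⟨z, hz, hyz⟩ := (hPnd v₀ hv₀ hv₀0).2
    have hz' : z ∈ (K ⊔ Submodule.span F {y}).map (Matrix.mulVecLin (g : Matrix ι ι F)) := by
      have hmap : (K ⊔ Submodule.span F {y}).map (Matrix.mulVecLin (g : Matrix ι ι F)) = qperp hQ W := by
        refine Submodule.eq_of_le_of_finrank_le ?_ ?_
        · rw [Submodule.map_sup, sup_le_iff, Submodule.map_span, Set.image_singleton, Submodule.span_singleton_le_iff_mem,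
            Matrix.mulVecLin_apply, hgy]
          refine ⟨?_, hv₀⟩
          rintro _ ⟨x, hx, rfl⟩
          rw [SetLike.mem_coe, hKdef] at hx
          exact hK x hx.1 hx.2
        · have hinj : Function.Injective (Matrix.mulVecLin (g : Matrix ι ι F)) := fun a b hab => by
            have := congrArg (fun x => ((g⁻¹ : GL ι F) : Matrix ι ι F) *ᵥ x) hab
            simpa [gl_inv_mulVec] using this
          rw [← (Submodule.equivMapOfInjective _ hinj _).finrank_eq]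
          have hlt : K < K ⊔ Submodule.span F {y} := lt_of_le_of_ne le_sup_left fun e => hyP (by
            have h1 : y ∈ K := e.symm ▸ Submodule.mem_sup_right (Submodule.mem_span_singleton_self y)
            rw [hKdef] at h1
            exact h1.1)
          have h1 := Submodule.finrank_lt_finrank_of_lt hlt
          have h3 : 2 ≤ Module.finrank F K := hLK ▸ hLd
          omega
      rw [hmap]; exact hz
    obtain ⟨x, hx, rfl⟩ := hz'
    obtain ⟨k, hk, s, hs, rfl⟩ := Submodule.mem_sup.1 hx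
    obtain ⟨c, rfl⟩ := Submodule.mem_span_singleton.1 hs
    refine hyz ?_
    rw [Matrix.mulVecLin_apply, ← hgy, iso_pol hgi, padd_right hQ, psmul_right hQ, pself hQ, hQy]
    rw [← hLK] at hk
    obtain ⟨hkP, hkp₀⟩ := hLm k hk
    rw [show y = p₀ + w₀ by rw [hp₀]; abel, padd_left hQ, pcomm p₀ k, hkp₀, pcomm w₀ k, hkP w₀ hw₀]
    ring
  obtain ⟨hd₁P, hd₁p₀⟩ := hLm d₁ hd₁
  obtain ⟨t, ht, ht'⟩ := exists_avoid_two hq (a := Q d₁) (b := pol Q d₁ d₂) (c := Q d₂) (a' := pol Q d₁ d₂)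
    (b' := 2 * Q d₂) (c' := 0) (Or.inr (Or.inr hQd₂)) (Or.inr (Or.inl (mul_ne_zero h2 hQd₂)))
  obtain ⟨d, hd⟩ : ∃ d, d = d₁ + t • d₂ := ⟨_, rfl⟩
  have hQd : Q d ≠ 0 := by
    rw [hd, qadd hQ, qsmul hQ, psmul_right hQ]
    exact fun h => ht (by linear_combination h)
  have hdd₂ : pol Q d d₂ ≠ 0 := by
    rw [hd, padd_left hQ, psmul_left hQ, pself hQ]
    exact fun h => ht' (by linear_combination h)
  have hdP : d ∈ qperp hQ W := hd ▸ (qperp hQ W).add_mem hd₁P ((qperp hQ W).smul_mem _ hd₂P)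
  have hdp₀ : pol Q d p₀ = 0 := by rw [hd, padd_left hQ, psmul_left hQ, hd₁p₀, hd₂p₀, mul_zero, add_zero]
  have hdp' : pol Q p' d ≠ 0 := by
    rw [pcomm, hd, padd_left hQ, psmul_left hQ, hd₂p', mul_zero, add_zero]
    exact hd₁p'
  obtain ⟨r, hr, hrd⟩ := exists_refl hQ hQd
  have hrW : ∀ x ∈ W, (r : Matrix ι ι F) *ᵥ x = x := fun x hx => refl_fix hQ hrd (by rw [pcomm]; exact hdP x hx)
  -- an element fixing `W` and moving `p'` as the reflection does
  obtain ⟨K, hKdef⟩ : ∃ K, K = qperp hQ W ⊓ LinearMap.ker (pfl hQ p') := ⟨_, rfl⟩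
  have hKnd : NdOn Q K := hKdef ▸ nd_inf_perp hQ hPnd hp' h2 hQp'
  have hKd : 2 ≤ Module.finrank F K := by
    have := finrank_inf_pfl hQ (qperp hQ W) p'
    rw [hKdef]; omega
  have hKp : ∀ x, x ∈ W ∨ x = p' → x ∈ qperp hQ K := fun x hx k hk => by
    rw [hKdef] at hk
    rcases hx with hx | rfl
    · rw [pcomm]; exact hk.1 x hx
    · rw [pcomm]; exact hk.2
  obtain ⟨s, hs, hsr⟩ := exists_omega_agree hQ hn hKnd hKd hr
  have hsW : ∀ x ∈ W, (s : Matrix ι ι F) *ᵥ x = x := fun x hx => by rw [hsr x (hKp x (Or.inl hx)), hrW x hx]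
  have hsi := omegaGL_le_iso hs
  obtain ⟨h, hh⟩ : ∃ h, h = s⁻¹ := ⟨_, rfl⟩
  have hhW : ∀ x ∈ W, (h : Matrix ι ι F) *ᵥ x = x := fun x hx => by
    conv_lhs => rw [← hsW x hx, hh, gl_inv_mulVec]
  have hhH : h ∈ subspaceStabilizer W ⊓ omegaGL Q :=
    ⟨mem_stab_of_maps fun x hx => by rw [hhW x hx]; exact hx, by rw [hh]; exact (omegaGL Q).inv_mem hs⟩
  have hhi := omegaGL_le_iso hhH.2
  have hhP : ∀ x ∈ qperp hQ W, (h : Matrix ι ι F) *ᵥ x ∈ qperp hQ W := fun x hx =>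
    (mem_subspaceStabilizer_iff.1 (stab_qperp hQ hW hhi hhH.1) x).1 hx
  have hhpol : ∀ x, pol Q ((h : Matrix ι ι F) *ᵥ x) p' = pol Q x ((r : Matrix ι ι F) *ᵥ p') := fun x => by
    rw [← iso_pol hsi ((h : Matrix ι ι F) *ᵥ x), hh, gl_mulVec_inv, hsr p' (hKp p' (Or.inr rfl))]
  have hgh : ∀ x, ((g * h * g⁻¹ : GL ι F) : Matrix ι ι F) *ᵥ ((g : Matrix ι ι F) *ᵥ x) =
      (g : Matrix ι ι F) *ᵥ ((h : Matrix ι ι F) *ᵥ x) := fun x => by
    rw [gl_mul_mulVec, gl_mul_mulVec, gl_inv_mulVec]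
  refine ⟨g * h * g⁻¹, mul_mem (mul_mem hg (hHM hhH)) (inv_mem hg), fun hst => ?_, v₀, hv₀, hv₀0, hQv₀, ?_⟩
  · have hki : g * h * g⁻¹ ∈ Cfsg.isometryGroup F Q := mul_mem (mul_mem hgi hhi) (inv_mem hgi)
    have h1 : (g : Matrix ι ι F) *ᵥ ((h : Matrix ι ι F) *ᵥ d₂) ∈ qperp hQ W := by
      rw [← hgh]
      exact (mem_subspaceStabilizer_iff.1 (stab_qperp hQ hW hki hst) _).1 (hK d₂ hd₂P hd₂p')
    have h3 := hKeq _ (hhP d₂ hd₂P) h1
    rw [hhpol, hrd, psub_right hQ, psmul_right hQ, hd₂p', zero_sub, neg_eq_zero, mul_eq_zero, mul_eq_zero,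
      inv_eq_zero, pcomm d₂ d] at h3
    rcases h3 with (h3 | h3) | h3
    exacts [hQd h3, hdp' h3, hdd₂ h3]
  · rw [show ((g * h * g⁻¹ : GL ι F) : Matrix ι ι F) *ᵥ v₀ =
        v₀ + (g : Matrix ι ι F) *ᵥ ((h : Matrix ι ι F) *ᵥ p₀ - p₀) by
      conv_lhs => rw [← hgy, hgh, show (h : Matrix ι ι F) *ᵥ y = y + ((h : Matrix ι ι F) *ᵥ p₀ - p₀) by
        rw [show y = w₀ + p₀ by rw [hp₀]; abel, mulVec_add, hhW w₀ hw₀]; abel, mulVec_add, hgy]]
    refine (qperp hQ W).add_mem hv₀ (hK _ ((qperp hQ W).sub_mem (hhP p₀ hyw) hyw) ?_)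
    rw [psub_left hQ, hhpol, show pol Q p₀ ((r : Matrix ι ι F) *ᵥ p') = pol Q p₀ p' by
      conv_lhs => rw [← refl_fix hQ hrd (x := p₀) (by rw [pcomm, hdp₀]), iso_pol hr], sub_self]

include h2 in
/-- some element outside the stabiliser keeps a singular vector of the orthogonal in it -/
theorem five_exists_common (hn : 5 ≤ Fintype.card ι) (hn' : Fintype.card ι = 5) (hq : 5 ≤ Fintype.card F)
    (hW : NdOn Q W) (hW2 : Module.finrank F W = 2) (hP3 : Module.finrank F (qperp hQ W) = 3) {M : Subgroup (GL ι F)}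
    (hHM : subspaceStabilizer W ⊓ omegaGL Q ≤ M) (hM : M ≤ Cfsg.isometryGroup F Q) {g : GL ι F} (hg : g ∈ M)
    (hgW : g ∉ subspaceStabilizer W) :
    ∃ k ∈ M, k ∉ subspaceStabilizer W ∧
      ∃ u ∈ qperp hQ W, u ≠ 0 ∧ Q u = 0 ∧ (k : Matrix ι ι F) *ᵥ u ∈ qperp hQ W := by
  have hPnd := qperp_nd hQ hW
  have hgi := hM hg
  by_cases hno : ∃ u ∈ qperp hQ W, u ≠ 0 ∧ Q u = 0 ∧ (g : Matrix ι ι F) *ᵥ u ∈ qperp hQ W
  · exact ⟨g, hg, hgW, hno⟩
  push Not at hno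
  obtain ⟨C, hC⟩ : ∃ C, C = qperp hQ W ⊓ (qperp hQ W).comap (Matrix.mulVecLin (g : Matrix ι ι F)) := ⟨_, rfl⟩
  have hCm : ∀ x, x ∈ C ↔ x ∈ qperp hQ W ∧ (g : Matrix ι ι F) *ᵥ x ∈ qperp hQ W := fun x => by rw [hC]; rfl
  have hCne : ∀ x ∈ C, x ≠ 0 → Q x ≠ 0 := fun x hx hx0 h0 => hno x ((hCm x).1 hx).1 hx0 h0 ((hCm x).1 hx).2
  by_cases hC2 : 2 ≤ Module.finrank F C
  · -- a common plane
    have hCle : C ≤ qperp hQ W := fun x hx => ((hCm x).1 hx).1
    have hC3 : Module.finrank F C ≤ 2 := by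
      by_contra hcon
      obtain ⟨x, hx, hx0, hQx⟩ := exists_singular_mem hQ C (by omega)
      exact hCne x hx hx0 hQx
    have hCnd : NdOn Q C := fun v hv hv0 => by
      have h : pol Q v v ≠ 0 := by rw [pself hQ]; exact mul_ne_zero h2 (hCne v hv hv0)
      exact ⟨⟨v, hv, h⟩, v, hv, h⟩
    obtain ⟨z, hz, hzC⟩ := SetLike.not_le_iff_exists.1 (show ¬ qperp hQ W ≤ C from fun h => by
      have := Submodule.finrank_mono h
      omega)
    obtain ⟨c, hc, hzc⟩ := qperp_decomp hQ hCnd z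
    obtain ⟨p', hp'⟩ : ∃ p', p' = z - c := ⟨_, rfl⟩
    rw [← hp'] at hzc
    have hp'P : p' ∈ qperp hQ W := hp' ▸ (qperp hQ W).sub_mem hz (hCle hc)
    have hp'0 : p' ≠ 0 := fun h => hzC (by rw [sub_eq_zero.1 (hp'.symm.trans h)]; exact hc)
    have hsup : C ⊔ Submodule.span F {p'} = qperp hQ W := by
      refine Submodule.eq_of_le_of_finrank_le (sup_le hCle ((Submodule.span_singleton_le_iff_mem _ _).2 hp'P)) ?_
      have hlt : C < C ⊔ Submodule.span F {p'} := lt_of_le_of_ne le_sup_left fun e => hzC (by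
        have h1 : p' ∈ C := e.symm ▸ Submodule.mem_sup_right (Submodule.mem_span_singleton_self p')
        have h3 := C.add_mem h1 hc
        rwa [hp', sub_add_cancel] at h3)
      have := Submodule.finrank_lt_finrank_of_lt hlt
      omega
    have hQp' : Q p' ≠ 0 := fun h0 => by
      obtain ⟨y, hy, hyp⟩ := (hPnd p' hp'P hp'0).2
      rw [← hsup] at hy
      obtain ⟨k, hk, s, hs, rfl⟩ := Submodule.mem_sup.1 hy
      obtain ⟨t, rfl⟩ := Submodule.mem_span_singleton.1 hs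
      exact hyp (by rw [padd_right hQ, psmul_right hQ, hzc k hk, pself hQ, h0]; ring)
    refine five_common_of_plane hQ h2 hn hq hW hP3 hHM hM hg hgW hp'P hQp' fun x hx hxp => ?_
    have hx' : x ∈ C ⊔ Submodule.span F {p'} := by rw [hsup]; exact hx
    obtain ⟨k, hk, s, hs, rfl⟩ := Submodule.mem_sup.1 hx'
    obtain ⟨t, rfl⟩ := Submodule.mem_span_singleton.1 hs
    rw [padd_left hQ, psmul_left hQ, pcomm k p', hzc k hk, pself hQ, zero_add] at hxp
    rw [(mul_eq_zero.1 hxp).resolve_right (mul_ne_zero h2 hQp'), zero_smul, add_zero]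
    exact ((hCm k).1 hk).2
  -- exactly one common line
  obtain ⟨x, hx, hx0⟩ := Submodule.exists_mem_ne_zero_of_ne_bot (show C ≠ ⊥ from fun h => by
    have hinj : Function.Injective (Matrix.mulVecLin (g : Matrix ι ι F)) := fun a b hab => by
      have := congrArg (fun x => ((g⁻¹ : GL ι F) : Matrix ι ι F) *ᵥ x) hab
      simpa [gl_inv_mulVec] using this
    have hsurj : Function.Surjective (Matrix.mulVecLin (g : Matrix ι ι F)) := LinearMap.surjective_of_injective hinj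
    have h1 := Submodule.finrank_sup_add_finrank_inf_eq (qperp hQ W)
      ((qperp hQ W).comap (Matrix.mulVecLin (g : Matrix ι ι F)))
    have h3 : Module.finrank F ((qperp hQ W).comap (Matrix.mulVecLin (g : Matrix ι ι F))) = 3 := by
      rw [(Submodule.equivMapOfInjective _ hinj _).finrank_eq, Submodule.map_comap_eq_of_surjective hsurj, hP3]
    have h4 := Submodule.finrank_le (qperp hQ W ⊔ (qperp hQ W).comap (Matrix.mulVecLin (g : Matrix ι ι F)))
    rw [Module.finrank_fintype_fun_eq_card, hn'] at h4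
    rw [← hC, h, finrank_bot, h3, hP3] at h1
    omega)
  obtain ⟨hxP, hgx⟩ := (hCm x).1 hx
  have hQx : Q x ≠ 0 := hCne x hx hx0
  have hline : ∀ z ∈ qperp hQ W, (g : Matrix ι ι F) *ᵥ z ∈ qperp hQ W → ∃ c : F, z = c • x := by
    intro z hz hgz
    obtain ⟨c, hc⟩ := (finrank_eq_one_iff_of_nonzero' (⟨x, hx⟩ : C) (fun h => hx0 (congrArg Subtype.val h))).1
      (show Module.finrank F C = 1 from le_antisymm (Nat.le_of_lt_succ (lt_of_not_ge hC2))
        (Submodule.one_le_finrank_iff.2 (fun h => hx0 (by simpa [h] using hx)))) ⟨z, (hCm z).2 ⟨hz, hgz⟩⟩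
    exact ⟨c, (congrArg Subtype.val hc).symm⟩
  have hgh : ∀ (h : GL ι F) (z : ι → F), ((g * h * g⁻¹ : GL ι F) : Matrix ι ι F) *ᵥ ((g : Matrix ι ι F) *ᵥ z) =
      (g : Matrix ι ι F) *ᵥ ((h : Matrix ι ι F) *ᵥ z) := fun h z => by
    rw [gl_mul_mulVec, gl_mul_mulVec, gl_inv_mulVec]
  -- an element moving the common line gives an element outside the stabiliser
  have hout : ∀ h ∈ subspaceStabilizer W ⊓ omegaGL Q, (∀ c : F, (h : Matrix ι ι F) *ᵥ x ≠ c • x) →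
      g * h * g⁻¹ ∈ M ∧ g * h * g⁻¹ ∉ subspaceStabilizer W := by
    intro h hh hne
    refine ⟨mul_mem (mul_mem hg (hHM hh)) (inv_mem hg), fun hst => ?_⟩
    have hhi := omegaGL_le_iso hh.2
    have h1 : (g : Matrix ι ι F) *ᵥ ((h : Matrix ι ι F) *ᵥ x) ∈ qperp hQ W := by
      rw [← hgh]
      exact (mem_subspaceStabilizer_iff.1
        (stab_qperp hQ hW (mul_mem (mul_mem hgi hhi) (inv_mem hgi)) hst) _).1 hgx
    obtain ⟨c, hc⟩ := hline _ ((mem_subspaceStabilizer_iff.1 (stab_qperp hQ hW hhi hh.1) x).1 hxP) h1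
    exact hne c hc
  -- Eichler transformations moving the line
  have hmove : ∀ u ∈ qperp hQ W, Q u = 0 → pol Q x u ≠ 0 → ∃ r ∈ qperp hQ W, ∃ h ∈ subspaceStabilizer W ⊓ omegaGL Q,
      IsE Q u r h ∧ (∀ w ∈ W, (h : Matrix ι ι F) *ᵥ w = w) ∧ pol Q u r = 0 ∧
      ∀ c : F, (h : Matrix ι ι F) *ᵥ x ≠ c • x := by
    intro u hu hQu hxu
    have hu0 : u ≠ 0 := fun h => hxu (by rw [h, pzero_right hQ])
    obtain ⟨r, hr, hru⟩ := SetLike.not_le_iff_exists.1
      (show ¬ qperp hQ W ⊓ LinearMap.ker (pfl hQ u) ≤ Submodule.span F {u} from fun h => by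
        have h1 := Submodule.finrank_mono h
        have h3 := finrank_inf_pfl hQ (qperp hQ W) u
        rw [finrank_span_singleton hu0] at h1
        omega)
    obtain ⟨hrP, hru'⟩ := Submodule.mem_inf.1 hr
    have hur : pol Q u r = 0 := by rw [pcomm]; exact hru'
    obtain ⟨h, hh, hhE, hhW⟩ := ein_stab_five hQ hn hu hQu hrP hur
    refine ⟨r, hrP, h, hh, hhE, hhW, hur, fun c hc => hru ?_⟩
    have hhu : (h : Matrix ι ι F) *ᵥ u = u := by rw [hhE, pself hQ, hQu, hur]; simp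
    have h1 := iso_pol (omegaGL_le_iso hh.2) x u
    rw [hc, hhu, psmul_left hQ] at h1
    have hc1 : c = 1 := mul_right_cancel₀ hxu (by rw [h1, one_mul])
    rw [hhE, hc1, one_smul, sub_sub, ← add_smul, add_sub_assoc, add_eq_left, sub_eq_zero] at hc
    refine (Submodule.smul_mem_iff _ hxu).1 ?_
    rw [hc]
    exact Submodule.smul_mem _ _ (Submodule.mem_span_singleton_self u)
  by_cases hgW' : ∀ w ∈ W, (g : Matrix ι ι F) *ᵥ w ∈ qperp hQ W
  · -- replace the element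
    obtain ⟨u, hu, hQu, hxu, -⟩ := exists_singular_avoid hQ h2 hq hPnd hP3 (f := pfl hQ x) (f' := pfl hQ x)
      ⟨x, hxP, by show pol Q x x ≠ 0; rw [pself hQ]; exact mul_ne_zero h2 hQx⟩
      ⟨x, hxP, by show pol Q x x ≠ 0; rw [pself hQ]; exact mul_ne_zero h2 hQx⟩
    obtain ⟨r, -, h, hh, -, hhW, -, hne⟩ := hmove u hu hQu (by rw [pcomm]; exact hxu)
    obtain ⟨hkM, hkW⟩ := hout h hh hne
    refine five_common_of_plane hQ h2 hn hq hW hP3 hHM hM hkM hkW hgx (by rwa [mem_iso.1 hgi]) fun z hz hzx => ?_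
    -- vectors orthogonal to the line come from `W`
    have hinj : Function.Injective (Matrix.mulVecLin (g : Matrix ι ι F)) := fun a b hab => by
      have := congrArg (fun x => ((g⁻¹ : GL ι F) : Matrix ι ι F) *ᵥ x) hab
      simpa [gl_inv_mulVec] using this
    have hmap : (W ⊔ Submodule.span F {x}).map (Matrix.mulVecLin (g : Matrix ι ι F)) = qperp hQ W := by
      refine Submodule.eq_of_le_of_finrank_le ?_ ?_
      · rw [Submodule.map_sup, sup_le_iff, Submodule.map_span, Set.image_singleton,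
          Submodule.span_singleton_le_iff_mem, Matrix.mulVecLin_apply]
        exact ⟨by rintro _ ⟨w, hw, rfl⟩; exact hgW' w hw, hgx⟩
      · rw [← (Submodule.equivMapOfInjective _ hinj _).finrank_eq]
        have hlt : W < W ⊔ Submodule.span F {x} := lt_of_le_of_ne le_sup_left fun e => by
          have h1 : x ∈ W := e.symm ▸ Submodule.mem_sup_right (Submodule.mem_span_singleton_self x)
          exact mul_ne_zero h2 hQx (by rw [← pself hQ]; exact hxP x h1)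
        have := Submodule.finrank_lt_finrank_of_lt hlt
        omega
    have hz' : z ∈ (W ⊔ Submodule.span F {x}).map (Matrix.mulVecLin (g : Matrix ι ι F)) := by rw [hmap]; exact hz
    obtain ⟨z', hz'', rfl⟩ := hz'
    obtain ⟨w, hw, s, hs, rfl⟩ := Submodule.mem_sup.1 hz''
    obtain ⟨t, rfl⟩ := Submodule.mem_span_singleton.1 hs
    rw [Matrix.mulVecLin_apply, iso_pol hgi, padd_left hQ, psmul_left hQ, pcomm w x, hxP w hw, pself hQ,
      zero_add] at hzx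
    rw [(mul_eq_zero.1 hzx).resolve_right (mul_ne_zero h2 hQx), zero_smul, add_zero, Matrix.mulVecLin_apply, hgh,
      hhW w hw]
    exact hgW' w hw
  -- a singular vector of the translate in general position
  obtain ⟨p, hp, hpx, z₀, hz₀, hz₀p⟩ : ∃ p ∈ qperp hQ W, pol Q p x = 0 ∧ ∃ z ∈ qperp hQ W,
      pol Q (((g⁻¹ : GL ι F) : Matrix ι ι F) *ᵥ z) p ≠ 0 := by
    by_contra hcon
    push Not at hcon hgW'
    obtain ⟨w, hw, hgw⟩ := hgW'
    have hinj : Function.Injective (Matrix.mulVecLin ((g⁻¹ : GL ι F) : Matrix ι ι F)) := fun a b hab => by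
      have := congrArg (fun x => (g : Matrix ι ι F) *ᵥ x) hab
      simpa [gl_mulVec_inv] using this
    have hle : (qperp hQ W).map (Matrix.mulVecLin ((g⁻¹ : GL ι F) : Matrix ι ι F)) ≤ W ⊔ Submodule.span F {x} := by
      rintro _ ⟨z, hz, rfl⟩
      rw [Matrix.mulVecLin_apply]
      obtain ⟨a, ha, hza⟩ := qperp_decomp hQ hW (((g⁻¹ : GL ι F) : Matrix ι ι F) *ᵥ z)
      obtain ⟨q, hq'⟩ : ∃ q, q = ((g⁻¹ : GL ι F) : Matrix ι ι F) *ᵥ z - a -
          (pol Q (((g⁻¹ : GL ι F) : Matrix ι ι F) *ᵥ z - a) x / (2 * Q x)) • x := ⟨_, rfl⟩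
      have hqP : q ∈ qperp hQ W := hq' ▸ (qperp hQ W).sub_mem hza ((qperp hQ W).smul_mem _ hxP)
      have hqx : pol Q q x = 0 := by
        rw [hq', psub_left hQ, psmul_left hQ, pself hQ, div_mul_cancel₀ _ (mul_ne_zero h2 hQx), sub_self]
      have hq0 : q = 0 := by
        by_contra hne
        obtain ⟨y, hy, hqy⟩ := (hPnd q hqP hne).2
        obtain ⟨t, ht⟩ : ∃ t, t = pol Q y x / (2 * Q x) := ⟨_, rfl⟩
        obtain ⟨y', hy'⟩ : ∃ y', y' = y - t • x := ⟨_, rfl⟩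
        have hy'P : y' ∈ qperp hQ W := hy' ▸ (qperp hQ W).sub_mem hy ((qperp hQ W).smul_mem _ hxP)
        have hy'x : pol Q y' x = 0 := by
          rw [hy', psub_left hQ, psmul_left hQ, pself hQ, ht, div_mul_cancel₀ _ (mul_ne_zero h2 hQx), sub_self]
        refine hqy ?_
        have h1 : pol Q q y' = 0 := by
          rw [hq', psub_left hQ, psub_left hQ, psmul_left hQ, hcon y' hy'P hy'x z hz, pcomm a y', hy'P a ha,
            pcomm x y', hy'x]
          ring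
        rw [show y = y' + t • x by rw [hy', sub_add_cancel], padd_right hQ, psmul_right hQ, h1, hqx]
        ring
      rw [hq', sub_eq_zero] at hq0
      rw [← sub_add_cancel (((g⁻¹ : GL ι F) : Matrix ι ι F) *ᵥ z) a, hq0, add_comm]
      exact Submodule.add_mem_sup ha (Submodule.mem_span_singleton.2 ⟨_, rfl⟩)
    have heq := Submodule.eq_of_le_of_finrank_le hle (by
      rw [← (Submodule.equivMapOfInjective _ hinj _).finrank_eq, hP3]
      have h1 := Submodule.finrank_add_le_finrank_add_finrank W (Submodule.span F {x})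
      rw [finrank_span_singleton hx0, hW2] at h1
      exact h1)
    have h1 : w ∈ (qperp hQ W).map (Matrix.mulVecLin ((g⁻¹ : GL ι F) : Matrix ι ι F)) := by
      rw [heq]; exact Submodule.mem_sup_left hw
    obtain ⟨z, hz, rfl⟩ := h1
    rw [Matrix.mulVecLin_apply, gl_mulVec_inv] at hgw
    exact hgw hz
  obtain ⟨v₀, hv₀, hQv₀, hv₀x, hv₀p⟩ := exists_singular_avoid hQ h2 hq hPnd hP3
    (f := pfl hQ ((g : Matrix ι ι F) *ᵥ x)) (f' := (pfl hQ p).comp (Matrix.mulVecLin ((g⁻¹ : GL ι F) : Matrix ι ι F)))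
    ⟨_, hgx, by show pol Q _ _ ≠ 0; rw [pself hQ, mem_iso.1 hgi]; exact mul_ne_zero h2 hQx⟩ ⟨z₀, hz₀, hz₀p⟩
  obtain ⟨y, hy⟩ : ∃ y, y = ((g⁻¹ : GL ι F) : Matrix ι ι F) *ᵥ v₀ := ⟨_, rfl⟩
  have hgy : (g : Matrix ι ι F) *ᵥ y = v₀ := by rw [hy, gl_mulVec_inv]
  have hQy : Q y = 0 := by rw [← mem_iso.1 hgi y, hgy, hQv₀]
  have hv₀0 : v₀ ≠ 0 := fun h => hv₀x (by rw [h, map_zero])
  have hyx : pol Q y x ≠ 0 := by rw [← iso_pol hgi, hgy]; exact hv₀x
  have hyp : pol Q y p ≠ 0 := by rw [hy]; exact hv₀p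
  obtain ⟨w₀, hw₀, hyw⟩ := qperp_decomp hQ hW y
  obtain ⟨p₀, hp₀⟩ : ∃ p₀, p₀ = y - w₀ := ⟨_, rfl⟩
  rw [← hp₀] at hyw
  have hy' : y = w₀ + p₀ := by rw [hp₀]; abel
  have hp₀x : pol Q p₀ x ≠ 0 := by rwa [hp₀, psub_left hQ, pcomm w₀ x, hxP w₀ hw₀, sub_zero]
  have hp₀p : pol Q p₀ p ≠ 0 := by rwa [hp₀, psub_left hQ, pcomm w₀ p, hp w₀ hw₀, sub_zero]
  have finish : ∀ h ∈ subspaceStabilizer W ⊓ omegaGL Q, (h : Matrix ι ι F) *ᵥ y = y →
      (∀ c : F, (h : Matrix ι ι F) *ᵥ x ≠ c • x) → ∃ k ∈ M, k ∉ subspaceStabilizer W ∧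
        ∃ u ∈ qperp hQ W, u ≠ 0 ∧ Q u = 0 ∧ (k : Matrix ι ι F) *ᵥ u ∈ qperp hQ W := fun h hh hhy hne =>
    ⟨_, (hout h hh hne).1, (hout h hh hne).2, v₀, hv₀, hv₀0, hQv₀, by rw [← hgy, hgh, hhy, hgy]; exact hv₀⟩
  by_cases hQp₀ : Q p₀ = 0
  · obtain ⟨r, hr, h, hh, hhE, hhW, hp₀r, hne⟩ := hmove p₀ hyw hQp₀ (by rw [pcomm]; exact hp₀x)
    refine finish h hh ?_ hne
    have hhp₀ : (h : Matrix ι ι F) *ᵥ p₀ = p₀ := by rw [hhE, pself hQ, hQp₀, hp₀r]; simp
    rw [hy', mulVec_add, hhW w₀ hw₀, hhp₀]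
  have hQw₀ : Q w₀ = -Q p₀ := by
    rw [hy', qadd hQ, pcomm, hyw w₀ hw₀] at hQy
    linear_combination hQy
  obtain ⟨w₁, hw₁, hQw₁⟩ := exists_nonsingular hQ (nd_inf_perp hQ hW hw₀ h2 (by rw [hQw₀]; simpa using hQp₀))
    (fun h => by
      have := finrank_inf_pfl hQ W w₀
      rw [h, finrank_bot, hW2] at this
      omega)
  obtain ⟨hw₁W, hw₁w₀⟩ := Submodule.mem_inf.1 hw₁
  replace hw₁w₀ : pol Q w₁ w₀ = 0 := hw₁w₀
  obtain ⟨L, hL⟩ : ∃ L, L = qperp hQ W ⊓ LinearMap.ker (pfl hQ p₀) := ⟨_, rfl⟩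
  have hLnd : NdOn Q L := hL ▸ nd_inf_perp hQ hPnd hyw h2 hQp₀
  have hLd : 2 ≤ Module.finrank F L := by
    have := finrank_inf_pfl hQ (qperp hQ W) p₀
    rw [hL]; omega
  have hLm : ∀ z ∈ L, z ∈ qperp hQ W ∧ pol Q z p₀ = 0 := fun z hz => by rw [hL] at hz; exact ⟨hz.1, hz.2⟩
  obtain ⟨a, ha, hQa, hax⟩ : ∃ a ∈ L, Q a = Q w₁ ∧ pol Q a x ≠ 0 := by
    obtain ⟨a₀, ha₀, hQa₀⟩ := exists_value_two hQ hLnd hLd (Q w₁)
    by_cases ha₀x : pol Q a₀ x = 0
    swap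
    · exact ⟨a₀, ha₀, hQa₀, ha₀x⟩
    obtain ⟨e, he, hex⟩ : ∃ e ∈ L, pol Q e x ≠ 0 := by
      by_contra hcon
      push Not at hcon
      obtain ⟨t, ht⟩ : ∃ t, t = pol Q p p₀ / (2 * Q p₀) := ⟨_, rfl⟩
      have h1 : p - t • p₀ ∈ L := by
        rw [hL]
        refine ⟨(qperp hQ W).sub_mem hp ((qperp hQ W).smul_mem _ hyw), ?_⟩
        show pol Q _ p₀ = 0
        rw [psub_left hQ, psmul_left hQ, pself hQ, ht, div_mul_cancel₀ _ (mul_ne_zero h2 hQp₀), sub_self]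
      have h3 := hcon _ h1
      rw [psub_left hQ, psmul_left hQ, hpx, zero_sub, neg_eq_zero, mul_eq_zero, or_iff_left hp₀x, ht,
        div_eq_zero_iff, or_iff_left (mul_ne_zero h2 hQp₀), pcomm] at h3
      exact hp₀p h3
    have hQa₀0 : Q a₀ ≠ 0 := by rw [hQa₀]; exact hQw₁
    obtain ⟨t, ht, ht'⟩ := exists_avoid_two hq (a := Q a₀) (b := pol Q a₀ e) (c := Q e) (a' := (0 : F))
      (b' := 2 * Q a₀) (c' := pol Q a₀ e) (Or.inl hQa₀0) (Or.inr (Or.inl (mul_ne_zero h2 hQa₀0)))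
    obtain ⟨v, hv⟩ : ∃ v, v = a₀ + t • e := ⟨_, rfl⟩
    have hQv : Q v ≠ 0 := by
      rw [hv, qadd hQ, qsmul hQ, psmul_right hQ]
      exact fun h => ht (by linear_combination h)
    obtain ⟨r, hr, hrv⟩ := exists_refl hQ hQv
    refine ⟨(r : Matrix ι ι F) *ᵥ a₀, ?_, by rw [mem_iso.1 hr, hQa₀], ?_⟩
    · rw [hrv]
      exact L.sub_mem ha₀ (L.smul_mem _ (hv ▸ L.add_mem ha₀ (L.smul_mem _ he)))
    · intro h
      rw [hrv, psub_left hQ, psmul_left hQ, ha₀x, zero_sub, neg_eq_zero, mul_eq_zero, mul_eq_zero, inv_eq_zero,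
        or_iff_right hQv, hv, padd_right hQ, psmul_right hQ, pself hQ, padd_left hQ, psmul_left hQ, ha₀x, zero_add,
        mul_eq_zero, or_iff_left hex] at h
      rcases h with h | h
      · exact ht' (by linear_combination t * h)
      · exact ht' (by rw [h]; ring)
  obtain ⟨haP, hap₀⟩ := hLm a ha
  have ha0 : Q a ≠ 0 := by rw [hQa]; exact hQw₁
  obtain ⟨r₁, hr₁, hr₁E⟩ := exists_refl hQ hQw₁
  obtain ⟨r₂, hr₂, hr₂E⟩ := exists_refl hQ ha0
  have hsΩ : r₁ * r₂ ∈ omegaGL Q := refl_pair_omega hQ hn hQw₁ hQa.symm hr₁ hr₂ hr₁E hr₂E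
  have hr₂W : ∀ w ∈ W, (r₂ : Matrix ι ι F) *ᵥ w = w := fun w hw => refl_fix hQ hr₂E (by rw [pcomm]; exact haP w hw)
  have hsst : r₁ * r₂ ∈ subspaceStabilizer W := mem_stab_of_maps fun w hw => by
    rw [gl_mul_mulVec, hr₂W w hw, hr₁E]
    exact W.sub_mem hw (W.smul_mem _ hw₁W)
  refine finish (r₁ * r₂) ⟨hsst, hsΩ⟩ ?_ fun c hc => hax ?_
  · rw [gl_mul_mulVec, refl_fix hQ hr₂E (by rw [hy', padd_left hQ, pcomm w₀ a, haP w₀ hw₀, pcomm p₀ a, hap₀, add_zero]),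
      refl_fix hQ hr₁E (by rw [hy', padd_left hQ, pcomm w₀ w₁, hw₁w₀, hyw w₁ hw₁W, add_zero])]
  · rw [gl_mul_mulVec, refl_fix hQ hr₁E (by
      rw [hr₂E, psub_left hQ, psmul_left hQ, hxP w₁ hw₁W, haP w₁ hw₁W, mul_zero, sub_zero]), hr₂E] at hc
    obtain ⟨β, hβ⟩ : ∃ β, β = (Q a)⁻¹ * pol Q x a := ⟨_, rfl⟩
    rw [← hβ] at hc
    have h1 := congrArg (fun z => pol Q z p₀) hc
    simp only [psub_left hQ, psmul_left hQ, hap₀, mul_zero, sub_zero] at h1
    have hc1 : c = 1 := mul_right_cancel₀ (b := pol Q x p₀) (by rw [pcomm]; exact hp₀x) (by rw [one_mul]; exact h1.symm)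
    rw [hc1, one_smul, sub_eq_self, smul_eq_zero, or_iff_left (fun h => ha0 (by rw [h, qzero hQ])), hβ,
      mul_eq_zero, or_iff_right (inv_ne_zero ha0), pcomm] at hc
    exact hc

include h2 in
/-- stabilisers of nondegenerate planes in dimension five are maximal in `Ω` -/
theorem plane_stabilizer_maximal_five (hn : Fintype.card ι = 5) (hq : 5 ≤ Fintype.card F) (hW : NdOn Q W)
    (hW2 : Module.finrank F W = 2) : IsMaximalIn (omegaGL Q) (subspaceStabilizer W ⊓ omegaGL Q) := by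
  have hn5 : 5 ≤ Fintype.card ι := hn.ge
  have hPnd := qperp_nd hQ hW
  have hP3 : Module.finrank F (qperp hQ W) = 3 := by
    have h1 := finrank_qperp hQ W
    have h3 := Submodule.finrank_sup_add_finrank_inf_eq W (qperp hQ W)
    have h4 : W ⊓ qperp hQ W = ⊥ := (Submodule.eq_bot_iff _).2 fun x hx => by
      by_contra hne
      obtain ⟨t, ht, hxt⟩ := (hW x hx.1 hne).2
      exact hxt (hx.2 t ht)
    have h5 := Submodule.finrank_le (W ⊔ qperp hQ W)
    rw [Module.finrank_fintype_fun_eq_card] at h5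
    rw [h4, finrank_bot] at h3
    omega
  refine isMaximalIn_of_pair hQ hn5 (fun hle => ?_) fun M hHM hM hMH => ?_
  · obtain ⟨w, hw, hw0⟩ := Submodule.exists_mem_ne_zero_of_ne_bot
      (show W ≠ ⊥ from fun h => by rw [h, finrank_bot] at hW2; omega)
    obtain ⟨u, hu, hu0, hQu⟩ := exists_qsingular hQ hPnd (by omega)
    obtain ⟨w', hw', hww'⟩ := (hW w hw hw0).2
    obtain ⟨g, hg, hgE⟩ := ein_omega hQ hn5 hQu (hu w hw)
    have h1 : (g : Matrix ι ι F) *ᵥ w' ∈ W := (mem_subspaceStabilizer_iff.1 (hle hg) w').1 hw'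
    rw [hgE, pcomm w' u, hu w' hw', zero_smul, add_zero, mul_zero, zero_smul, sub_zero, W.sub_mem_iff_right hw',
      W.smul_mem_iff (by rwa [pcomm])] at h1
    obtain ⟨t, ht, hut⟩ := (hW u h1 hu0).2
    exact hut (hu t ht)
  have hMi : M ≤ Cfsg.isometryGroup F Q := hM.trans omegaGL_le_iso
  obtain ⟨g, hg, hgW⟩ := SetLike.not_le_iff_exists.1 hMH
  obtain ⟨k, hk, hkW, u, hu, hu0, hQu, hku⟩ := five_exists_common hQ h2 hn5 hn hq hW hW2 hP3 hHM hMi hg hgW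
  exact five_pair_of_common hQ h2 hn5 hq hW hP3 hHM hMi hk hkW hu hu0 hQu hku

end CfsgLib.Perm.Trans.Quad
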