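import Cfsg.Agent.Lib.Perm.LinDecomp.Reflect
import Cfsg.Agent.Lib.Perm.Trans.SL
import Cfsg.Agent.Lib.Perm.Asch.Proper

/-!
# Stabilisers of four lines are maximal in the special linear group of degree four

Over a field with at least seven elements an element outside the monomial group yields one that fixes a
coordinate vector: zero entries are removed by torus conjugation, and for an element without zero entries
the torus elements making one entry of a conjugate vanish fall into at most three lines.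
-/

set_option autoImplicit false
set_option linter.all false

namespace CfsgLib.Perm.Trans.MonoFour

open scoped Matrix
open Matrix Cfsg.Geo CfsgLib.Perm.Asch CfsgLib.Perm.Trans CfsgLib.Perm.LinDecomp

section tail

variable {ι : Type} [Fintype ι] [DecidableEq ι] {F : Type*} [Field F] {M : Subgroup (GL ι F)}

/-- a non-monomial element fixing a coordinate vector gives all transvections -/
theorem fullSub_of_fixed [Fintype F] (hN : ∀ (σ : Equiv.Perm ι) (d : ι → Fˣ),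
      (mon σ d : GL ι F) ∈ specialLinear ι F → mon σ d ∈ M) (h5 : 5 ≤ Fintype.card F) (hn : 4 ≤ Fintype.card ι)
    {g : GL ι F} (hgM : g ∈ M) (hgS : g ∈ specialLinear ι F) {l : ι}
    (hgl : (g : Matrix ι ι F) *ᵥ Pi.single l 1 = Pi.single l 1) (hgm : ¬ Mono g) : fullSub M = ⊤ := by
  classical
  obtain ⟨ν, hν, hν2, -⟩ := exists_nu h5
  obtain ⟨φ, hφ⟩ : ∃ φ : ι → F, φ = Pi.single l 1 ᵥ* ((g⁻¹ : GL ι F) : Matrix ι ι F) - Pi.single l 1 := ⟨_, rfl⟩
  have hφx : ∀ x, φ ⬝ᵥ ((g : Matrix ι ι F) *ᵥ x) = x l - ((g : Matrix ι ι F) *ᵥ x) l := fun x => by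
    rw [hφ, sub_dotProduct, ← dotProduct_mulVec, gl_inv_mulVec, single_dotProduct, single_dotProduct, one_mul,
      one_mul]
  have hφl : φ ⬝ᵥ Pi.single l 1 = 0 := by
    have := hφx (Pi.single l 1)
    rwa [hgl, Pi.single_eq_same, sub_self] at this
  obtain ⟨g', hg'def⟩ : ∃ g', g' = tv (Pi.single l 1) φ hφl * g := ⟨_, rfl⟩
  have hg'x : ∀ x, (g' : Matrix ι ι F) *ᵥ x
      = (g : Matrix ι ι F) *ᵥ x + Pi.single l (x l - ((g : Matrix ι ι F) *ᵥ x) l) := fun x => by
    rw [hg'def, gl_mul_mulVec, tv_mulVec, hφx, ← Pi.single_smul, smul_eq_mul, mul_one]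
  have hg'l : (g' : Matrix ι ι F) *ᵥ Pi.single l 1 = Pi.single l 1 := by
    rw [hg'x, hgl, Pi.single_eq_same, sub_self, Pi.single_zero, add_zero]
  have hrow : ∀ x, ((g' : Matrix ι ι F) *ᵥ x) l = x l := fun x => by
    rw [hg'x, Pi.add_apply, Pi.single_eq_same, add_sub_cancel]
  have hmem : g' ∈ modLine M l := ⟨1, one_ne_zero, hg'l, g, hgM, hgl,
    fun x => ⟨((g : Matrix ι ι F) *ᵥ x) l - x l, by
      rw [hg'x, add_assoc, ← Pi.single_add, sub_add_sub_cancel, sub_self, Pi.single_zero, add_zero]⟩⟩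
  by_cases hm : Mono g'
  · obtain ⟨σ, d, hσd⟩ := hm
    have hS : g' ∈ specialLinear ι F := hg'def ▸ Subgroup.mul_mem _ (tv_mem_SL _ _ hφl) hgS
    refine fullSub_of_centre hN (by omega) hν (l := l) ⟨hφl, ?_⟩ (fun e => hgm ⟨σ, d, ?_⟩)
    · rw [eq_mul_inv_of_mul_eq hg'def.symm]
      exact M.mul_mem (hσd ▸ hN σ d (hσd ▸ hS)) (M.inv_mem hgM)
    · rw [← hσd, hg'def]
      exact gl_ext_vec fun x => by rw [gl_mul_mulVec, tv_mulVec, e, zero_dotProduct, zero_smul, add_zero]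
  refine fullSub_of_modLine (l := l) hN (by omega) hν hν2 ?_
  obtain ⟨a, hcol⟩ : ∃ a, ∀ k, ∃ j, j ≠ k ∧ (g' : Matrix ι ι F) j a ≠ 0 := by
    by_contra hcon
    push Not at hcon
    exact hm (mono_of_cols hcon)
  have hal : a ≠ l := fun e => by
    obtain ⟨j, hj, hj0⟩ := hcol l
    have := congrFun hg'l j
    rw [mulVec_single_col, Pi.single_eq_of_ne hj] at this
    exact hj0 (e ▸ this)
  have hNl : ∀ (σ : Equiv.Perm ι) (d : ι → Fˣ), σ l = l → (mon σ d : GL ι F) ∈ specialLinear ι F →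
      mon σ d ∈ modLine M l := fun σ d => modLine_mon hN σ d
  set u : ι → F := (g' : Matrix ι ι F) *ᵥ Pi.single a 1 with hu
  set α : ι → F := fun k => ((g'⁻¹ : GL ι F) : Matrix ι ι F) a k with hα
  have hyl : ∀ x, (((g'⁻¹ : GL ι F) : Matrix ι ι F) *ᵥ x) l = x l := by
    intro x
    have h1 := hrow (((g'⁻¹ : GL ι F) : Matrix ι ι F) *ᵥ x)
    rw [gl_mulVec_inv] at h1
    exact h1.symm
  have hul : u l = 0 := by rw [hu, hrow, Pi.single_eq_of_ne hal.symm]
  have hαl : α l = 0 := by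
    show ((g'⁻¹ : GL ι F) : Matrix ι ι F) a l = 0
    rw [← mulVec_single_col ((g'⁻¹ : GL ι F) : Matrix ι ι F) l a, ← hg'l, gl_inv_mulVec, Pi.single_eq_of_ne hal]
  have hRf : Rf (modLine M l) ν l u α := by
    refine ⟨hul, hαl, ?_, g' * tor a l ν * g'⁻¹, (modLine M l).mul_mem ((modLine M l).mul_mem hmem
      (hNl _ _ rfl (tor_mem_SL hal ν))) ((modLine M l).inv_mem hmem), fun x => ?_⟩
    · show (((g'⁻¹ : GL ι F) : Matrix ι ι F) *ᵥ u) a = 1
      rw [hu, gl_inv_mulVec, Pi.single_eq_same]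
    · set y := ((g'⁻¹ : GL ι F) : Matrix ι ι F) *ᵥ x with hy
      have h1 : ((tor a l ν : GL ι F) : Matrix ι ι F) *ᵥ y
          = y + ((((ν : F) - 1) * y a) • Pi.single a 1 + (((ν : F)⁻¹ - 1) * y l) • Pi.single l 1) := by
        funext k
        rw [tor_mulVec hal, Pi.add_apply, Pi.add_apply, Pi.smul_apply, Pi.smul_apply, smul_eq_mul, smul_eq_mul]
        split_ifs with h1 h2
        · subst h1; rw [Pi.single_eq_same, Pi.single_eq_of_ne hal]; ring
        · subst h2; rw [Pi.single_eq_same, Pi.single_eq_of_ne hal.symm]; ring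
        · rw [Pi.single_eq_of_ne h1, Pi.single_eq_of_ne h2]; ring
      rw [gl_mul_mulVec, gl_mul_mulVec, ← hy, h1, Matrix.mulVec_add, Matrix.mulVec_add, Matrix.mulVec_smul,
        Matrix.mulVec_smul, ← hu, hg'l, hy, gl_mulVec_inv, hyl, ← Pi.single_smul, smul_eq_mul, mul_one, ← add_assoc]
      rfl
  obtain ⟨j₁, -, hj₁⟩ := hcol a
  obtain ⟨j₂, hne, hj₂⟩ := hcol j₁
  refine elem_of_refl hNl h5 (by omega) hν hν2 hRf hne ?_ ?_
  · rw [hu, mulVec_single_col]; exact hj₂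
  · rw [hu, mulVec_single_col]; exact hj₁

end tail

variable {F : Type*} [Field F] [Fintype F] {M : Subgroup (GL (Fin 4) F)}

theorem exists_nu_four (h7 : 7 ≤ Fintype.card F) :
    ∃ ν : Fˣ, ν ^ 2 ≠ 1 ∧ ν ^ 3 ≠ 1 ∧ ν ^ 4 ≠ 1 := by
  classical
  obtain ⟨ν, hν⟩ := IsCyclic.exists_generator (α := Fˣ)
  have ho : orderOf ν = Fintype.card F - 1 := by
    rw [orderOf_eq_card_of_forall_mem_zpowers hν, Nat.card_eq_fintype_card, Fintype.card_units]
  have key : ∀ i, 0 < i → i < 6 → ν ^ i ≠ 1 := fun i h0 h4 e => by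
    have := Nat.le_of_dvd h0 (orderOf_dvd_of_pow_eq_one e)
    omega
  exact ⟨ν, key 2 (by omega) (by omega), key 3 (by omega) (by omega), key 4 (by omega) (by omega)⟩

/-- no column of a non-monomial element is a multiple of a coordinate vector -/
def NoLine (M : Subgroup (GL (Fin 4) F)) : Prop :=
  ∀ g ∈ M, ¬ Mono g → ∀ (l p : Fin 4) (c : F), (g : Matrix (Fin 4) (Fin 4) F) *ᵥ Pi.single l 1 ≠ Pi.single p c

/-- the torus elements of determinant one lie in the monomial group -/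
theorem diag_mem (hN : ∀ (σ : Equiv.Perm (Fin 4)) (d : Fin 4 → Fˣ),
      (mon σ d : GL (Fin 4) F) ∈ specialLinear (Fin 4) F → mon σ d ∈ M) {d : Fin 4 → Fˣ}
    (hd : ∏ l, (d l : F) = 1) : (mon 1 d : GL (Fin 4) F) ∈ M :=
  hN _ _ (mon_mem_SL (by rw [map_one, Units.val_one, Int.cast_one, one_mul, hd]))

variable (hN : ∀ (σ : Equiv.Perm (Fin 4)) (d : Fin 4 → Fˣ),
    (mon σ d : GL (Fin 4) F) ∈ specialLinear (Fin 4) F → mon σ d ∈ M)
include hN

/-- two zeros in a column are impossible -/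
theorem no_two_zeros (h7 : 7 ≤ Fintype.card F) (hno : NoLine M) {g : GL (Fin 4) F} (hg : g ∈ M) (hgm : ¬ Mono g)
    {k p q : Fin 4} (hpq : p ≠ q) (hp : (g : Matrix (Fin 4) (Fin 4) F) p k = 0)
    (hq : (g : Matrix (Fin 4) (Fin 4) F) q k = 0) : False := by
  obtain ⟨ν, h2, h3, h4⟩ := exists_nu_four h7
  obtain ⟨y, hy⟩ : ∃ y, y = g⁻¹ * tor p q ν * g := ⟨_, rfl⟩
  have hyM : y ∈ M := hy ▸ M.mul_mem (M.mul_mem (M.inv_mem hg) (hN _ _ (tor_mem_SL hpq ν))) hg
  have hfix : ((tor p q ν : GL (Fin 4) F) : Matrix (Fin 4) (Fin 4) F) *ᵥ ((g : Matrix (Fin 4) (Fin 4) F) *ᵥ Pi.single k 1) =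
      (g : Matrix (Fin 4) (Fin 4) F) *ᵥ Pi.single k 1 := funext fun l => by
    rw [tor_mulVec hpq]
    split_ifs with h1 h2
    · rw [h1, mulVec_single_col, hp, mul_zero]
    · rw [h2, mulVec_single_col, hq, mul_zero]
    · rw [one_mul]
  have hyk : (y : Matrix (Fin 4) (Fin 4) F) *ᵥ Pi.single k 1 = Pi.single k 1 := by
    rw [hy, gl_mul_mulVec, gl_mul_mulVec, hfix, gl_inv_mulVec]
  obtain ⟨σ, d, hσd⟩ : Mono y := by
    by_contra h
    exact hno y hyM h k k 1 hyk
  obtain ⟨a, b, hab, rfl, -⟩ := torus_conj_perm h2 h3 hpq (hy.symm.trans hσd) (fun l c => hno g hg hgm l p c)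
  have hT : g * (y * y) = tor p q ν * tor p q ν * g := by rw [hy]; group
  rw [hσd, mon_mul, Equiv.swap_mul_self] at hT
  obtain ⟨d', hd'⟩ : ∃ d' : Fin 4 → Fˣ, d' = fun l => d (Equiv.swap a b l) * d l := ⟨_, rfl⟩
  rw [← hd'] at hT
  obtain ⟨l, hl⟩ : ∃ l, (g : Matrix (Fin 4) (Fin 4) F) p l ≠ 0 := by
    by_contra hcon
    push Not at hcon
    exact (Matrix.GeneralLinearGroup.det g).ne_zero
      (by rw [Matrix.GeneralLinearGroup.val_det_apply]; exact Matrix.det_eq_zero_of_row_eq_zero p hcon)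
  have hrow : ∀ r, (d' l : F) * (g : Matrix (Fin 4) (Fin 4) F) r l =
      (if r = p then (ν : F) else if r = q then (ν : F)⁻¹ else 1) *
      ((if r = p then (ν : F) else if r = q then (ν : F)⁻¹ else 1) * (g : Matrix (Fin 4) (Fin 4) F) r l) := by
    intro r
    have h := congrArg (fun A : GL (Fin 4) F => ((A : Matrix (Fin 4) (Fin 4) F) *ᵥ Pi.single l 1) r) hT
    simp only [gl_mul_mulVec] at h
    simp only [mon_mulVec_single, Equiv.Perm.one_apply, mul_one, tor_mulVec hpq, mulVec_single_col] at h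
    rw [← h, show (Pi.single l (d' l : F) : Fin 4 → F) = (d' l : F) • Pi.single l 1 by
      rw [← Pi.single_smul, smul_eq_mul, mul_one], mulVec_smul, Pi.smul_apply, mulVec_single_col, smul_eq_mul]
  have hdl : (d' l : F) = (ν : F) * ν := by
    have h := hrow p
    rw [if_pos rfl, ← mul_assoc] at h
    exact mul_right_cancel₀ hl h
  refine hno g hg hgm l p ((g : Matrix (Fin 4) (Fin 4) F) p l) (funext fun r => ?_)
  rw [mulVec_single_col]
  rcases eq_or_ne r p with rfl | hr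
  · rw [Pi.single_eq_same]
  rw [Pi.single_eq_of_ne hr]
  by_contra h0
  have h := hrow r
  rw [hdl, if_neg hr] at h
  have hν0 := ν.ne_zero
  by_cases hrq : r = q
  · rw [if_pos hrq, ← mul_assoc] at h
    have h' := mul_right_cancel₀ h0 h
    refine h4 (Units.ext ?_)
    rw [Units.val_pow_eq_pow_val, Units.val_one]
    field_simp at h'
    linear_combination h'
  · rw [if_neg hrq, one_mul, one_mul] at h
    refine h2 (Units.ext ?_)
    rw [Units.val_pow_eq_pow_val, Units.val_one, pow_two]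
    exact mul_right_cancel₀ h0 (by rw [one_mul]; exact h)

/-- no entry of a non-monomial element is zero -/
theorem all_entries (h7 : 7 ≤ Fintype.card F) (hno : NoLine M) {g : GL (Fin 4) F} (hg : g ∈ M) (hgm : ¬ Mono g)
    (p k : Fin 4) : (g : Matrix (Fin 4) (Fin 4) F) p k ≠ 0 := by
  intro hp
  obtain ⟨u, -, -, hu4⟩ := exists_nu_four h7
  obtain ⟨v, hv⟩ : ∃ v : Fˣ, v = (u ^ 4)⁻¹ := ⟨_, rfl⟩
  have hv1 : (v : F) - 1 ≠ 0 := sub_ne_zero.2 fun e => hu4 (by
    have : v = 1 := Units.ext e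
    rw [hv, inv_eq_one] at this
    exact this)
  obtain ⟨D, hD⟩ : ∃ D : Fin 4 → Fˣ, D = Function.update (fun _ => u) p (u * v) := ⟨_, rfl⟩
  have hDM : (mon 1 D : GL (Fin 4) F) ∈ M := diag_mem hN (by
    rw [← Units.coe_prod, hD, Finset.prod_update_of_mem (Finset.mem_univ p), Finset.prod_const, Finset.card_sdiff,
      Finset.inter_univ, Finset.card_singleton, Finset.card_univ, Fintype.card_fin, hv,
      show u * (u ^ 4)⁻¹ * u ^ (4 - 1) = (u ^ 4)⁻¹ * (u ^ (4 - 1) * u) by ac_rfl, ← pow_succ,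
      Nat.sub_add_cancel (by omega), inv_mul_cancel, Units.val_one])
  have hDx : ∀ x, ((mon 1 D : GL (Fin 4) F) : Matrix (Fin 4) (Fin 4) F) *ᵥ x =
      (u : F) • (x + (((v : F) - 1) * x p) • Pi.single p 1) := fun x => funext fun r => by
    rw [mon_mulVec, Pi.smul_apply, Pi.add_apply, Pi.smul_apply, smul_eq_mul, smul_eq_mul, hD, Equiv.Perm.one_def,
      Equiv.refl_symm, Equiv.refl_apply]
    rcases eq_or_ne r p with rfl | hr
    · simp [Pi.single_eq_same]; ring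
    · simp [Pi.single_eq_of_ne hr, Function.update_of_ne hr]
  obtain ⟨y, hy⟩ : ∃ y, y = g⁻¹ * mon 1 D * g := ⟨_, rfl⟩
  have hyM : y ∈ M := hy ▸ M.mul_mem (M.mul_mem (M.inv_mem hg) hDM) hg
  obtain ⟨c, hc⟩ : ∃ c, c = ((g⁻¹ : GL (Fin 4) F) : Matrix (Fin 4) (Fin 4) F) *ᵥ Pi.single p 1 := ⟨_, rfl⟩
  have hyx : ∀ x, (y : Matrix (Fin 4) (Fin 4) F) *ᵥ x =
      (u : F) • (x + (((v : F) - 1) * ((g : Matrix (Fin 4) (Fin 4) F) *ᵥ x) p) • c) := fun x => by
    rw [hy, gl_mul_mulVec, gl_mul_mulVec, hDx, mulVec_smul, mulVec_add, mulVec_smul, gl_inv_mulVec, ← hc]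
  have hyk : (y : Matrix (Fin 4) (Fin 4) F) *ᵥ Pi.single k 1 = Pi.single k (u : F) := by
    rw [hyx, mulVec_single_col, hp, mul_zero, zero_smul, add_zero, ← Pi.single_smul, smul_eq_mul, mul_one]
  obtain ⟨π, d, hπ⟩ : Mono y := by
    by_contra h
    exact hno y hyM h k k u hyk
  obtain ⟨a, ha⟩ : ∃ a, (g : Matrix (Fin 4) (Fin 4) F) p a ≠ 0 := by
    by_contra hcon
    push Not at hcon
    exact (Matrix.GeneralLinearGroup.det g).ne_zero
      (by rw [Matrix.GeneralLinearGroup.val_det_apply]; exact Matrix.det_eq_zero_of_row_eq_zero p hcon)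
  have hoff : ∀ i, i ≠ a → i ≠ π a → ((g⁻¹ : GL (Fin 4) F) : Matrix (Fin 4) (Fin 4) F) i p = 0 := fun i hia hiπ => by
    have h := congrFun (hyx (Pi.single a 1)) i
    rw [hπ, mon_mulVec_single, Pi.single_eq_of_ne hiπ, mulVec_single_col, Pi.smul_apply, Pi.add_apply,
      Pi.single_eq_of_ne hia, zero_add, Pi.smul_apply, smul_eq_mul, smul_eq_mul, hc, mulVec_single_col] at h
    exact (mul_eq_zero.1 ((mul_eq_zero.1 h.symm).resolve_left u.ne_zero)).resolve_left (mul_ne_zero hv1 ha)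
  obtain ⟨r, -, hr⟩ := Finset.exists_mem_notMem_of_card_lt_card (s := {a, π a}) (t := (Finset.univ : Finset (Fin 4)))
    (lt_of_le_of_lt Finset.card_le_two (by simp))
  obtain ⟨s, -, hs⟩ := Finset.exists_mem_notMem_of_card_lt_card (s := {a, π a, r})
    (t := (Finset.univ : Finset (Fin 4))) (lt_of_le_of_lt Finset.card_le_three (by simp))
  simp only [Finset.mem_insert, Finset.mem_singleton, not_or] at hr hs
  exact no_two_zeros hN h7 hno (M.inv_mem hg) (fun h => hgm (by simpa using h.inv)) (Ne.symm hs.2.2)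
    (hoff r hr.1 hr.2) (hoff s hs.1 hs.2.1)

/-- the vectors with sum zero and the given product lie on three lines -/
theorem three_lines (h7 : 7 ≤ Fintype.card F) (hno : NoLine M) {g : GL (Fin 4) F} (hg : g ∈ M) (hgm : ¬ Mono g)
    {a : Fin 4 → F}
    (ha : a = fun l => (g : Matrix (Fin 4) (Fin 4) F) 0 l * ((g⁻¹ : GL (Fin 4) F) : Matrix (Fin 4) (Fin 4) F) l 1)
    (X : Fin 4 → Fin 4 → F) (hX0 : ∀ r l, X r l ≠ 0) (hXs : ∀ r, ∑ l, X r l = 0) (hXp : ∀ r, ∏ l, X r l = ∏ l, a l) :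
    ∃ r s, r ≠ s ∧ ∃ c : F, X r = c • X s := by
  have hgi : ¬ Mono g⁻¹ := fun h => hgm (by simpa using h.inv)
  have ha0 : ∀ l, a l ≠ 0 := fun l => ha ▸
    mul_ne_zero (all_entries hN h7 hno hg hgm 0 l) (all_entries hN h7 hno (M.inv_mem hg) hgi l 1)
  have key : ∀ r, ∃ m : {m : Fin 4 // m ≠ 0}, ∃ e : F, e ≠ 0 ∧
      X r = e • fun l => (g : Matrix (Fin 4) (Fin 4) F) 0 l * ((g⁻¹ : GL (Fin 4) F) : Matrix (Fin 4) (Fin 4) F) l m := by
    intro r
    obtain ⟨t, ht⟩ : ∃ t : Fin 4 → Fˣ, ∀ l, (t l : F) = X r l / a l :=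
      ⟨fun l => Units.mk0 _ (div_ne_zero (hX0 r l) (ha0 l)), fun l => rfl⟩
    have htp : ∏ l, (t l : F) = 1 := by
      simp only [ht]
      rw [Finset.prod_div_distrib, hXp, div_self (Finset.prod_ne_zero_iff.2 fun l _ => ha0 l)]
    obtain ⟨y, hy⟩ : ∃ y, y = g * mon 1 t * g⁻¹ := ⟨_, rfl⟩
    have hyM : y ∈ M := hy ▸ M.mul_mem (M.mul_mem hg (diag_mem hN htp)) (M.inv_mem hg)
    have htl : ∀ l, (t l : F) * ((g⁻¹ : GL (Fin 4) F) : Matrix (Fin 4) (Fin 4) F) l 1 * (g : Matrix (Fin 4) (Fin 4) F) 0 l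
        = X r l := fun l => by
      rw [mul_assoc, mul_comm (((g⁻¹ : GL (Fin 4) F) : Matrix (Fin 4) (Fin 4) F) l 1),
        show (g : Matrix (Fin 4) (Fin 4) F) 0 l * ((g⁻¹ : GL (Fin 4) F) : Matrix (Fin 4) (Fin 4) F) l 1 = a l by rw [ha],
        ht, div_mul_cancel₀ _ (ha0 l)]
    have hy01 : (y : Matrix (Fin 4) (Fin 4) F) 0 1 = 0 := by
      rw [← mulVec_single_col (y : Matrix (Fin 4) (Fin 4) F) 1 0, hy, gl_mul_mulVec, gl_mul_mulVec, mulVec, dotProduct]
      refine Eq.trans (Finset.sum_congr rfl fun l _ => ?_) (hXs r)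
      rw [mon_mulVec, mulVec_single_col, Equiv.Perm.one_def, Equiv.refl_symm, Equiv.refl_apply, mul_comm, htl]
    obtain ⟨τ, d, hτ⟩ : Mono y := by
      by_contra h
      exact all_entries hN h7 hno hyM h 0 1 hy01
    have hτ0 : τ 1 ≠ 0 := fun e => by
      rw [hτ, mon_apply, if_pos e.symm] at hy01
      exact (d 1).ne_zero hy01
    refine ⟨⟨τ 1, hτ0⟩, d 1, (d 1).ne_zero, funext fun l => ?_⟩
    have h := congrArg (fun A : GL (Fin 4) F => ((A : Matrix (Fin 4) (Fin 4) F) *ᵥ Pi.single 1 1) l)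
      (show mon 1 t * g⁻¹ = g⁻¹ * mon τ d by rw [← hτ, hy]; group)
    simp only [gl_mul_mulVec, mon_mulVec_single, mul_one] at h
    rw [show (Pi.single (τ 1) (d 1 : F) : Fin 4 → F) = (d 1 : F) • Pi.single (τ 1) 1 by
      rw [← Pi.single_smul, smul_eq_mul, mul_one], mulVec_smul, Pi.smul_apply, mulVec_single_col, mon_mulVec,
      mulVec_single_col, Equiv.Perm.one_def, Equiv.refl_symm, Equiv.refl_apply, smul_eq_mul] at h
    rw [Pi.smul_apply, smul_eq_mul, ← htl, h]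
    ring
  choose m e he hXe using key
  obtain ⟨r, s, hrs, hm⟩ := Fintype.exists_ne_map_eq_of_card_lt m (by simp)
  refine ⟨r, s, hrs, e r / e s, ?_⟩
  conv_rhs => rw [hXe s, smul_smul, div_mul_cancel₀ _ (he s), ← hm]
  exact hXe r

omit hN in
/-- two opposite pairs -/
theorem exists_pairs {a : Fin 4 → F} (hs : ∑ l, a l = 0) {v : Equiv.Perm (Fin 4)} {c : F}
    (hv : v = Equiv.swap 0 1 * Equiv.swap 2 3 ∨ v = Equiv.swap 0 2 * Equiv.swap 1 3 ∨
      v = Equiv.swap 0 3 * Equiv.swap 1 2) (hc : ∀ l, a (v l) = c * a l) (ha : ∀ l, a l ≠ 0) :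
    ∃ π : Equiv.Perm (Fin 4), a (π 1) = -a (π 0) ∧ a (π 3) = -a (π 2) := by
  have key : ∀ π : Equiv.Perm (Fin 4), a (π 1) = c * a (π 0) → a (π 0) = c * a (π 1) → a (π 3) = c * a (π 2) →
      ∃ π : Equiv.Perm (Fin 4), a (π 1) = -a (π 0) ∧ a (π 3) = -a (π 2) := by
    intro π h1 h0 h3
    have hsum : a (π 0) + a (π 1) + a (π 2) + a (π 3) = 0 := by
      rw [← hs, ← Equiv.sum_comp π, Fin.sum_univ_four]
    rcases mul_eq_zero.1 (show (c - 1) * (c + 1) = 0 from (mul_eq_zero.1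
      (show ((c - 1) * (c + 1)) * a (π 0) = 0 by linear_combination -c * h1 - h0)).resolve_right (ha _)) with hc1 | hc1
    · rw [sub_eq_zero.1 hc1, one_mul] at h1 h3
      by_cases h2 : (2 : F) = 0
      · exact ⟨π, by linear_combination h1 + a (π 0) * h2, by linear_combination h3 + a (π 2) * h2⟩
      · refine ⟨π * Equiv.swap 1 2, ?_, ?_⟩
        · show a (π (Equiv.swap 1 2 1)) = -a (π (Equiv.swap 1 2 0))
          rw [Equiv.swap_apply_left, Equiv.swap_apply_of_ne_of_ne (by decide) (by decide)]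
          exact eq_neg_of_add_eq_zero_right ((mul_eq_zero.1
            (show (2 : F) * (a (π 0) + a (π 2)) = 0 by linear_combination hsum - h1 - h3)).resolve_left h2)
        · show a (π (Equiv.swap 1 2 3)) = -a (π (Equiv.swap 1 2 2))
          rw [Equiv.swap_apply_right, Equiv.swap_apply_of_ne_of_ne (by decide) (by decide), h3, h1]
          exact eq_neg_of_add_eq_zero_right ((mul_eq_zero.1
            (show (2 : F) * (a (π 0) + a (π 2)) = 0 by linear_combination hsum - h1 - h3)).resolve_left h2)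
    · rw [eq_neg_of_add_eq_zero_left hc1, neg_one_mul] at h1 h3
      exact ⟨π, h1, h3⟩
  rcases hv with rfl | rfl | rfl
  · exact key 1 (hc 0) (hc 1) (hc 2)
  · exact key (Equiv.swap 1 2) (hc 0) (hc 2) (hc 1)
  · exact key (Equiv.swap 1 3) (hc 0) (hc 3) (hc 2)

/-- some non-monomial element has a column with one entry -/
theorem not_noLine (h7 : 7 ≤ Fintype.card F) {g : GL (Fin 4) F} (hg : g ∈ M) (hgm : ¬ Mono g) : ¬ NoLine M := by
  intro hno
  have hgi : ¬ Mono g⁻¹ := fun h => hgm (by simpa using h.inv)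
  obtain ⟨a, ha⟩ : ∃ a : Fin 4 → F,
      a = fun l => (g : Matrix (Fin 4) (Fin 4) F) 0 l * ((g⁻¹ : GL (Fin 4) F) : Matrix (Fin 4) (Fin 4) F) l 1 := ⟨_, rfl⟩
  have ha0 : ∀ l, a l ≠ 0 := fun l => ha ▸
    mul_ne_zero (all_entries hN h7 hno hg hgm 0 l) (all_entries hN h7 hno (M.inv_mem hg) hgi l 1)
  have hsum : ∑ l, a l = 0 := by
    have h := congrArg (fun A : GL (Fin 4) F => (A : Matrix (Fin 4) (Fin 4) F) 0 1) (mul_inv_cancel g)
    rw [Units.val_mul, Matrix.mul_apply, Units.val_one, Matrix.one_apply_ne (by decide)] at h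
    simpa only [ha] using h
  -- two opposite pairs
  let V : Fin 4 → Equiv.Perm (Fin 4) :=
    ![1, Equiv.swap 0 1 * Equiv.swap 2 3, Equiv.swap 0 2 * Equiv.swap 1 3, Equiv.swap 0 3 * Equiv.swap 1 2]
  have hV : (∀ r, V r * V r = 1) ∧ ∀ r s, r ≠ s → V r * V s = Equiv.swap 0 1 * Equiv.swap 2 3 ∨
      V r * V s = Equiv.swap 0 2 * Equiv.swap 1 3 ∨ V r * V s = Equiv.swap 0 3 * Equiv.swap 1 2 := by decide
  obtain ⟨r, s, hrs, c, hc⟩ := three_lines hN h7 hno hg hgm ha (fun r l => a (V r l)) (fun r l => ha0 _)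
    (fun r => by rw [Equiv.sum_comp (V r) a, hsum]) (fun r => Equiv.prod_comp (V r) a)
  obtain ⟨π, h1, h3⟩ := exists_pairs hsum (hV.2 r s hrs) (c := c) (fun l => by
    have h := congrFun hc (V s l)
    simp only [Pi.smul_apply, smul_eq_mul] at h
    rw [← Equiv.Perm.mul_apply (V s), hV.1 s] at h
    exact h) ha0
  -- four lines
  obtain ⟨ν, hν2, -, hν4⟩ := exists_nu_four h7
  obtain ⟨z, hz⟩ : ∃ z, z = a (π 0) := ⟨_, rfl⟩
  obtain ⟨w, hw⟩ : ∃ w, w = a (π 2) := ⟨_, rfl⟩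
  have hz0 : z ≠ 0 := hz ▸ ha0 _
  have hw0 : w ≠ 0 := hw ▸ ha0 _
  obtain ⟨e, he, hne⟩ : ∃ e : F, e ≠ 0 ∧ w / e ≠ -(e * z) := by
    by_cases h : w = -z
    · refine ⟨ν, ν.ne_zero, fun e => hν2 (Units.ext ?_)⟩
      rw [h, div_eq_iff ν.ne_zero] at e
      rw [Units.val_pow_eq_pow_val, Units.val_one]
      exact mul_left_cancel₀ hz0 (by linear_combination e)
    · exact ⟨1, one_ne_zero, by rwa [div_one, one_mul]⟩
  have hν0 := ν.ne_zero
  let Y : Fin 4 → Fin 4 → F := ![![z, -z, w, -w], ![ν * z, -(ν * z), w / ν, -(w / ν)],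
    ![ν * ν * z, -(ν * ν * z), w / (ν * ν), -(w / (ν * ν))], ![e * z, w / e, -(e * z), -(w / e)]]
  have hY0 : ∀ r l, Y r l ≠ 0 := by
    intro r l
    fin_cases r <;> fin_cases l <;> simp [Y, hz0, hw0, he]
  obtain ⟨r, s, hrs, d, hd⟩ := three_lines hN h7 hno hg hgm ha (fun r l => Y r (π.symm l))
    (fun r l => hY0 r _) (fun r => by
      rw [Equiv.sum_comp π.symm (Y r), Fin.sum_univ_four]
      fin_cases r <;> simp [Y] <;> ring) (fun r => by
      rw [Equiv.prod_comp π.symm (Y r), ← Equiv.prod_comp π a, Fin.prod_univ_four, Fin.prod_univ_four, h1, h3, ← hz, ← hw]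
      fin_cases r <;> simp [Y] <;> field_simp)
  have hval : ∀ l, Y r l = d * Y s l := fun l => by
    have h := congrFun hd (π l)
    simpa using h
  have hd0 : d ≠ 0 := fun h => hY0 r 0 (by rw [hval, h, zero_mul])
  have hanti : ∀ k, k ≠ 3 → Y k 1 = -Y k 0 := fun k hk => by fin_cases k <;> simp [Y] at hk ⊢
  have hne' : Y 3 1 ≠ -Y 3 0 := by simpa [Y] using hne
  by_cases hr3 : r = 3
  · subst hr3
    exact hne' (by rw [hval 1, hval 0, hanti s (Ne.symm hrs), mul_neg])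
  by_cases hs3 : s = 3
  · subst hs3
    refine hne' (mul_left_cancel₀ hd0 ?_)
    rw [← hval 1, mul_neg, ← hval 0, hanti r hr3]
  have hcross : Y r 0 * Y s 2 = Y r 2 * Y s 0 := by rw [hval 0, hval 2]; ring
  have hν2' : (ν : F) ^ 2 ≠ 1 := fun h => hν2 (Units.ext (by simpa using h))
  have hν4' : (ν : F) ^ 4 ≠ 1 := fun h => hν4 (Units.ext (by simpa using h))
  fin_cases r <;> fin_cases s <;> simp [Y] at hcross hrs hr3 hs3 <;> field_simp at hcross <;>
    first
    | exact hν2' (by linear_combination hcross)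
    | exact hν2' (by linear_combination -hcross)
    | exact hν4' (by linear_combination hcross)
    | exact hν4' (by linear_combination -hcross)

/-- overgroups of the monomial group in dimension four -/
theorem monomial_full (h7 : 7 ≤ Fintype.card F) (hM : M ≤ specialLinear (Fin 4) F) {g : GL (Fin 4) F} (hg : g ∈ M)
    (hgm : ¬ Mono g) : fullSub M = ⊤ := by
  have h := not_noLine hN h7 hg hgm
  simp only [NoLine, not_forall, not_not] at h
  obtain ⟨x, hx, hxm, l, p, c, hc⟩ := h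
  have hc0 : c ≠ 0 := fun h0 => by
    rw [h0, Pi.single_zero, gl_mulVec_eq_zero] at hc
    simpa using congrFun hc l
  obtain ⟨m, hmp⟩ : ∃ m : Fin 4, m ≠ p := exists_ne p
  obtain ⟨d, hdp, hd⟩ : ∃ d : Fin 4 → Fˣ, d p = (Units.mk0 c hc0)⁻¹ ∧
      ((Equiv.Perm.sign (Equiv.swap p l) : ℤ) : F) * ∏ i, (d i : F) = 1 := by
    obtain ⟨S, hS⟩ : ∃ S : Fˣ, S = Units.map (Int.castRingHom F : ℤ →* F) (Equiv.Perm.sign (Equiv.swap p l)) := ⟨_, rfl⟩
    refine ⟨Function.update (Function.update (fun _ => 1) p (Units.mk0 c hc0)⁻¹) m (S⁻¹ * Units.mk0 c hc0),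
      by rw [Function.update_of_ne hmp.symm, Function.update_self], ?_⟩
    rw [← Units.coe_prod, Finset.prod_update_of_mem (Finset.mem_univ m),
      Finset.prod_update_of_mem (by simp [Ne.symm hmp]), Finset.prod_const_one, mul_one,
      show S⁻¹ * Units.mk0 c hc0 * (Units.mk0 c hc0)⁻¹ = S⁻¹ by group,
      show ((Equiv.Perm.sign (Equiv.swap p l) : ℤ) : F) = (S : F) by rw [hS]; rfl, ← Units.val_mul, mul_inv_cancel,
      Units.val_one]
  have hw := hN _ _ (mon_mem_SL hd)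
  refine fullSub_of_fixed hN (by omega) (by simp) (M.mul_mem hw hx) (hM (M.mul_mem hw hx)) (l := l) ?_
    (not_mono_mon_mul hxm _ _)
  rw [gl_mul_mulVec, hc, mon_mulVec_single, Equiv.swap_apply_left, hdp, Units.val_inv_eq_inv_val, Units.val_mk0,
    inv_mul_cancel₀ hc0]

omit hN in
/-- line decomposition stabilisers are maximal -/
theorem monomial_maximal (h7 : 7 ≤ Fintype.card F) {D : Fin 4 → Submodule F (Fin 4 → F)} (hD : IsMDecomposition 1 D) :
    IsMaximalIn (specialLinear (Fin 4) F) (decompositionStabilizer D ⊓ specialLinear (Fin 4) F) := by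
  classical
  refine ⟨lt_SL_of_not_le (not_le_decompositionStabilizer hD), fun M hHM hMS => ?_⟩
  by_cases hle : M ≤ decompositionStabilizer D
  · exact Or.inl (le_antisymm (le_inf hle hMS) hHM)
  obtain ⟨g, hgM, hg⟩ := SetLike.not_le_iff_exists.1 hle
  refine Or.inr (eq_SL_of_fullSub hMS ?_)
  have hb : ∀ i, ∃ b, b ∈ D i ∧ b ≠ 0 := fun i => by
    obtain ⟨b, hb, hb0⟩ := Submodule.exists_mem_ne_zero_of_ne_bot (show D i ≠ ⊥ from fun h => by
      have := hD.finrank_eq i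
      rw [h, finrank_bot] at this
      exact absurd this.symm one_ne_zero)
    exact ⟨b, hb, hb0⟩
  choose b hbm hb0 using hb
  have hind : LinearIndependent F b := hD.indep.linearIndependent _ hbm hb0
  obtain ⟨B, hB⟩ : ∃ B : GL (Fin 4) F, ∀ i, (B : Matrix (Fin 4) (Fin 4) F) *ᵥ Pi.single i 1 = b i := by
    have h1 : IsUnit (Matrix.of fun i j => b i j : Matrix (Fin 4) (Fin 4) F) := Matrix.linearIndependent_rows_iff_isUnit.1 hind
    have h2 : IsUnit (Matrix.of fun j i => b i j : Matrix (Fin 4) (Fin 4) F) := by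
      rw [Matrix.isUnit_iff_isUnit_det] at h1 ⊢
      rw [show (Matrix.of fun j i => b i j : Matrix (Fin 4) (Fin 4) F) = (Matrix.of fun i j => b i j : Matrix (Fin 4) (Fin 4) F)ᵀ from rfl,
        Matrix.det_transpose]
      exact h1
    refine ⟨h2.unit, fun i => funext fun j => ?_⟩
    rw [mulVec_single_col]
    rfl
  have hline : ∀ i x, x ∈ D i → ∃ c : F, x = c • b i := fun i x hx => by
    have heq : Submodule.span F {b i} = D i := Submodule.eq_of_le_of_finrank_eq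
      (by rw [Submodule.span_le, Set.singleton_subset_iff]; exact hbm i)
      (by rw [finrank_span_singleton (hb0 i), hD.finrank_eq])
    rw [← heq] at hx
    obtain ⟨c, hc⟩ := Submodule.mem_span_singleton.1 hx
    exact ⟨c, hc.symm⟩
  -- monomial matrices correspond to the stabiliser
  have hmon : ∀ (σ : Equiv.Perm (Fin 4)) (d : Fin 4 → Fˣ), B * mon σ d * B⁻¹ ∈ decompositionStabilizer D := by
    intro σ d
    refine ⟨σ, fun i => Submodule.eq_of_le_of_finrank_eq ?_ ?_⟩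
    · rintro _ ⟨x, hx, rfl⟩
      obtain ⟨c, rfl⟩ := hline i x hx
      rw [Matrix.toLin'_apply, mulVec_smul, gl_mul_mulVec, gl_mul_mulVec, ← hB i, gl_inv_mulVec, mon_mulVec_single,
        mul_one, show (Pi.single (σ i) (d i : F) : Fin 4 → F) = (d i : F) • Pi.single (σ i) 1 by
          rw [← Pi.single_smul, smul_eq_mul, mul_one], mulVec_smul, hB, smul_smul]
      exact Submodule.smul_mem _ _ (hbm _)
    · rw [hD.finrank_eq, ← hD.finrank_eq i]
      exact (LinearEquiv.finrank_eq (Submodule.equivMapOfInjective _ (fun u v h => by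
        have := congrArg (fun w => (((B * mon σ d * B⁻¹ : GL (Fin 4) F)⁻¹ : GL (Fin 4) F) : Matrix (Fin 4) (Fin 4) F) *ᵥ w) h
        simpa only [Matrix.toLin'_apply, gl_inv_mulVec] using this) _)).symm
  let c : GL (Fin 4) F ≃* GL (Fin 4) F := MulAut.conj B⁻¹
  have hc : ∀ x, c x = B⁻¹ * x * B := fun x => by simp [c]
  have hdet : ∀ x, x ∈ specialLinear (Fin 4) F ↔ B⁻¹ * x * B ∈ specialLinear (Fin 4) F := fun x => by
    show Matrix.GeneralLinearGroup.det x = 1 ↔ Matrix.GeneralLinearGroup.det (B⁻¹ * x * B) = 1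
    rw [map_mul, map_mul, map_inv, mul_comm (Matrix.GeneralLinearGroup.det B)⁻¹, mul_assoc, inv_mul_cancel, mul_one]
  have hN : ∀ (σ : Equiv.Perm (Fin 4)) (d : Fin 4 → Fˣ), (mon σ d : GL (Fin 4) F) ∈ specialLinear (Fin 4) F →
      mon σ d ∈ M.map c.toMonoidHom := fun σ d h => ⟨B * mon σ d * B⁻¹, hHM ⟨hmon σ d,
        (hdet _).2 (by simpa [mul_assoc] using h)⟩, by show c _ = _; rw [hc]; group⟩
  have hM' : M.map c.toMonoidHom ≤ specialLinear (Fin 4) F := by
    rintro _ ⟨x, hx, rfl⟩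
    show c x ∈ _
    rw [hc]
    exact (hdet x).1 (hMS hx)
  have hfull := monomial_full hN h7 hM' (g := c g) ⟨g, hgM, rfl⟩ (by
    rintro ⟨σ, d, e⟩
    rw [hc] at e
    refine hg ?_
    rw [show g = B * mon σ d * B⁻¹ by rw [← e]; group]
    exact hmon σ d)
  refine Submodule.eq_top_iff'.2 fun u φ hφ => ?_
  obtain ⟨h0, x, hx, hxe⟩ := (show FullC (M.map c.toMonoidHom) (((B⁻¹ : GL (Fin 4) F) : Matrix (Fin 4) (Fin 4) F) *ᵥ u) from
    (hfull ▸ Submodule.mem_top : _ ∈ fullSub (M.map c.toMonoidHom))) (φ ᵥ* (B : Matrix (Fin 4) (Fin 4) F))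
    (by rw [← dotProduct_mulVec, gl_mulVec_inv, hφ])
  refine ⟨hφ, ?_⟩
  suffices x = tv u φ hφ by rw [← this]; exact hx
  refine gl_ext_vec fun v => ?_
  have h1 : x = B * tv _ _ h0 * B⁻¹ := by
    rw [← hxe]; show x = B * c x * B⁻¹; rw [hc]; group
  rw [h1, gl_mul_mulVec, gl_mul_mulVec, tv_mulVec, mulVec_add, mulVec_smul, gl_mulVec_inv, gl_mulVec_inv, tv_mulVec,
    ← dotProduct_mulVec, gl_mulVec_inv]

end CfsgLib.Perm.Trans.MonoFour
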