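import Cfsg.Agent.Lib.Perm.Trans.SympMax
import Cfsg.Agent.Lib.Perm.ExtField.Basic

/-!
# Overgroups of symplectic groups over an extension field: the descent

`E` is an extension of prime degree acting self-adjointly for the alternating form `f`. A map outside the
semilinear group gives, by a descent on the rank of the pairing of a line with the image of a line, an element
fixing a hyperplane of a line over `E` and moving the line by a vector not orthogonal to it.
-/

set_option autoImplicit false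
set_option linter.all false

namespace CfsgLib.Perm.Trans.Symp.Ext

open scoped Matrix
open Matrix Module Cfsg.Geo CfsgLib.Perm.Asch CfsgLib.Perm.Trans CfsgLib.Perm.Trans.Symp

variable {ι : Type} [Fintype ι] [DecidableEq ι] {F : Type*} [Field F] [Fintype F]
variable {E : Type*} [Field E] [Algebra F E] [FiniteDimensional F E]
variable [Module E (ι → F)] [IsScalarTower F E (ι → F)]
variable {f : (ι → F) → (ι → F) → F}

/-- the data of an overgroup -/
structure SData (E : Type*) [Field E] [Algebra F E] [Module E (ι → F)] (f : (ι → F) → (ι → F) → F)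
    (M : Subgroup (GL ι F)) : Prop where
  form : IsSymplecticForm f
  prime : (finrank F E).Prime
  two_le : 2 ≤ finrank E (ι → F)
  adj : ∀ (e : E) (x y : ι → F), f (e • x) y = f x (e • y)
  alt : ∀ (e : E) (x : ι → F), f (e • x) x = 0
  le : M ≤ isoSub f
  lin_le : ∀ g ∈ isoSub f, (∀ (e : E) (x : ι → F), (g : Matrix ι ι F) *ᵥ (e • x) = e • ((g : Matrix ι ι F) *ᵥ x)) →
    g ∈ M

variable (F E) in
theorem exists_trace_fn : ∃ τ : E →ₗ[F] F, τ 1 = 1 :=
  exists_fn_one' (one_ne_zero (α := E))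
where
  exists_fn_one' {a : E} (ha : a ≠ 0) : ∃ τ : E →ₗ[F] F, τ a = 1 := by
    obtain ⟨τ, hτ, -⟩ := Submodule.exists_dual_map_eq_bot_of_notMem (p := (⊥ : Submodule F E)) (x := a)
      (by simpa using ha) inferInstance
    exact ⟨(τ a)⁻¹ • τ, by simp [hτ]⟩

variable (F E) in
/-- a fixed non-zero functional -/
noncomputable def tr : E →ₗ[F] F := (exists_trace_fn F E).choose

theorem tr_ext {a b : E} (h : ∀ q : E, tr F E (q * a) = tr F E (q * b)) : a = b := by
  by_contra hne
  have h1 := h (a - b)⁻¹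
  rw [← sub_eq_zero, ← map_sub, ← mul_sub, inv_mul_cancel₀ (sub_ne_zero.2 hne), tr,
    (exists_trace_fn F E).choose_spec] at h1
  exact one_ne_zero h1

theorem tr_smul_one (c : F) : tr F E (c • (1 : E)) = c := by
  rw [map_smul, tr, (exists_trace_fn F E).choose_spec, smul_eq_mul, mul_one]

variable (F E) in
/-- `a ↦ (q ↦ tr (q a))` -/
noncomputable def trDual : E ≃ₗ[F] Module.Dual F E :=
  LinearEquiv.ofBijective
    ({ toFun := fun a => (tr F E).comp (LinearMap.mulRight F a)
       map_add' := fun a b => LinearMap.ext fun q => by simp [mul_add]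
       map_smul' := fun c a => LinearMap.ext fun q => by simp } : E →ₗ[F] Module.Dual F E)
    (by
      have hinj : Function.Injective
          ({ toFun := fun a => (tr F E).comp (LinearMap.mulRight F a)
             map_add' := fun a b => LinearMap.ext fun q => by simp [mul_add]
             map_smul' := fun c a => LinearMap.ext fun q => by simp } : E →ₗ[F] Module.Dual F E) :=
        fun a b hab => tr_ext (F := F) fun q => LinearMap.congr_fun hab q
      exact ⟨hinj, (LinearMap.injective_iff_surjective_of_finrank_eq_finrank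
        (Subspace.dual_finrank_eq).symm).1 hinj⟩)

theorem trDual_apply (a q : E) : trDual F E a q = tr F E (q * a) := rfl

/-- outside a subspace there is a functional `e ↦ tr (e ·)` killing it and equal to one at the given point -/
theorem exists_tr_separate {R : Submodule F E} {z : E} (hz : z ∉ R) :
    ∃ e : E, (∀ r ∈ R, tr F E (e * r) = 0) ∧ tr F E (e * z) = 1 := by
  obtain ⟨φ, hφ, hR⟩ := Submodule.exists_dual_map_eq_bot_of_notMem hz inferInstance
  refine ⟨(trDual F E).symm ((φ z)⁻¹ • φ), fun r hr => ?_, ?_⟩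
  · rw [mul_comm, ← trDual_apply, LinearEquiv.apply_symm_apply, LinearMap.smul_apply,
      show φ r = 0 from (Submodule.eq_bot_iff _).1 hR _ ⟨r, hr, rfl⟩, smul_zero]
  · rw [mul_comm, ← trDual_apply, LinearEquiv.apply_symm_apply, LinearMap.smul_apply, smul_eq_mul,
      inv_mul_cancel₀ hφ]

section

variable {M : Subgroup (GL ι F)} (S : SData E f M)
include S

/-- `q ↦ f (q x) y` -/
noncomputable def qfun (x y : ι → F) : Module.Dual F E where
  toFun q := f (q • x) y
  map_add' p q := by rw [add_smul, S.form.bilinear.add_left]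
  map_smul' c q := by rw [smul_assoc, S.form.bilinear.smul_left]; rfl

/-- the form over `E` -/
noncomputable def Bf (x y : ι → F) : E := (trDual F E).symm (qfun S x y)

theorem tr_Bf (q : E) (x y : ι → F) : tr F E (q * Bf S x y) = f (q • x) y := by
  rw [← trDual_apply, Bf, LinearEquiv.apply_symm_apply]
  rfl

theorem Bf_add_left (x x' y : ι → F) : Bf S (x + x') y = Bf S x y + Bf S x' y := tr_ext (F := F) fun q => by
  rw [mul_add, map_add, tr_Bf, tr_Bf, tr_Bf, smul_add, S.form.bilinear.add_left]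

theorem Bf_smul_left (e : E) (x y : ι → F) : Bf S (e • x) y = e * Bf S x y := tr_ext (F := F) fun q => by
  rw [← mul_assoc, tr_Bf, tr_Bf, smul_smul]

theorem Bf_fsmul_left (c : F) (x y : ι → F) : Bf S (c • x) y = c • Bf S x y := by
  rw [← algebraMap_smul E c x, Bf_smul_left, Algebra.smul_def]

theorem Bf_self (x : ι → F) : Bf S x x = 0 := tr_ext (F := F) fun q => by
  rw [mul_zero, map_zero, tr_Bf, S.alt]

theorem Bf_swap (x y : ι → F) : Bf S y x = -Bf S x y := tr_ext (F := F) fun q => by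
  rw [mul_neg, map_neg, tr_Bf, tr_Bf, S.adj, S.form.skew]

theorem Bf_add_right (x y y' : ι → F) : Bf S x (y + y') = Bf S x y + Bf S x y' := by
  rw [Bf_swap S (y + y'), Bf_add_left, Bf_swap S y, Bf_swap S y']; ring

theorem Bf_smul_right (e : E) (x y : ι → F) : Bf S x (e • y) = e * Bf S x y := by
  rw [Bf_swap S (e • y), Bf_smul_left, Bf_swap S y]; ring

theorem Bf_zero_left (y : ι → F) : Bf S 0 y = 0 := by
  simpa using Bf_smul_left S (0 : E) 0 y

theorem Bf_zero_right (x : ι → F) : Bf S x 0 = 0 := by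
  simpa using Bf_smul_right S (0 : E) x 0

theorem isotropic_line (v : ι → F) (p q : E) : f (p • v) (q • v) = 0 := by
  rw [← S.adj q (p • v) v, smul_smul, S.alt]

/-- `B · v` over `E` -/
noncomputable def Bfun (v : ι → F) : (ι → F) →ₗ[E] E where
  toFun x := Bf S x v
  map_add' x y := Bf_add_left S x y v
  map_smul' e x := Bf_smul_left S e x v

theorem exists_Bfun (φ : (ι → F) →ₗ[E] E) : ∃ u, ∀ x, Bf S x u = φ x := by
  haveI : FiniteDimensional E (ι → F) := Module.Finite.of_restrictScalars_finite F E (ι → F)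
  let L : (ι → F) →ₗ[E] Module.Dual E (ι → F) :=
    { toFun := fun u => Bfun S u
      map_add' := fun a b => LinearMap.ext fun x => Bf_add_right S x a b
      map_smul' := fun e a => LinearMap.ext fun x => Bf_smul_right S e x a }
  have hinj : Function.Injective L := by
    refine (injective_iff_map_eq_zero L).2 fun u hu => by_contra fun hne => ?_
    obtain ⟨⟨x, hx⟩, -⟩ := S.form.nondegenerate u hne
    apply hx
    have h1 : Bf S x u = 0 := LinearMap.congr_fun hu x
    rw [← one_smul E x, ← tr_Bf S 1 x u, h1, mul_zero, map_zero]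
  obtain ⟨u, hu⟩ := (LinearMap.injective_iff_surjective_of_finrank_eq_finrank
    (Subspace.dual_finrank_eq).symm).1 hinj φ
  exact ⟨u, fun x => LinearMap.congr_fun hu x⟩

theorem exists_pair {x y : ι → F} (h : y ∉ Submodule.span E {x}) : ∃ u, Bf S x u = 0 ∧ Bf S y u ≠ 0 := by
  obtain ⟨φ, hy, hx⟩ := CfsgLib.Perm.ExtField.exists_fn h
  obtain ⟨u, hu⟩ := exists_Bfun S φ
  exact ⟨u, by rw [hu, hx x (Submodule.mem_span_singleton_self x)], by rw [hu, hy]; exact one_ne_zero⟩

theorem exists_Tm (v : ι → F) (e : E) :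
    ∃ g ∈ M, ∀ x, (g : Matrix ι ι F) *ᵥ x = x + (e * Bf S x v) • v := by
  let L : E → ((ι → F) →ₗ[F] (ι → F)) := fun e =>
    { toFun := fun x => x + (e * Bf S x v) • v
      map_add' := fun x y => by rw [Bf_add_left, mul_add, add_smul]; abel
      map_smul' := fun c x => by
        show c • x + (e * Bf S (c • x) v) • v = c • (x + (e * Bf S x v) • v)
        rw [Bf_fsmul_left, mul_smul_comm, smul_assoc, smul_add] }
  have hL : ∀ e x, L e x = x + (e * Bf S x v) • v := fun e x => rfl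
  have hcomp : ∀ e : E, L e ∘ₗ L (-e) = LinearMap.id := fun e => LinearMap.ext fun x => by
    rw [LinearMap.comp_apply, hL, hL, Bf_add_left, Bf_smul_left, Bf_self, mul_zero, add_zero, neg_mul, neg_smul,
      add_assoc, neg_add_cancel, add_zero, LinearMap.id_apply]
  obtain ⟨g, hg⟩ : ∃ g : GL ι F, ∀ x, (g : Matrix ι ι F) *ᵥ x = L e x :=
    ⟨⟨LinearMap.toMatrix' (L e), LinearMap.toMatrix' (L (-e)),
      by rw [← LinearMap.toMatrix'_comp, hcomp, LinearMap.toMatrix'_id],
      by
        rw [← LinearMap.toMatrix'_comp]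
        conv_lhs => rw [show L e = L (- -e) by rw [neg_neg]]
        rw [hcomp, LinearMap.toMatrix'_id]⟩,
      fun x => LinearMap.toMatrix'_mulVec (L e) x⟩
  refine ⟨g, S.lin_le g (mem_isoSub.2 fun x y => ?_) fun a x => ?_, fun x => by rw [hg, hL]⟩
  · have h1 : f ((e * Bf S x v) • v) y = tr F E (e * Bf S x v * Bf S v y) := (tr_Bf S _ _ _).symm
    have h2 : f x ((e * Bf S y v) • v) = tr F E (e * Bf S y v * Bf S x v) := by rw [tr_Bf, S.adj]
    rw [hg, hg, hL, hL, S.form.bilinear.add_left, S.form.bilinear.add_right, S.form.bilinear.add_right,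
      isotropic_line S, add_zero, h1, h2, Bf_swap S y v, add_assoc, ← map_add,
      show e * Bf S y v * Bf S x v + e * Bf S x v * -Bf S y v = 0 by ring, map_zero, add_zero]
  · rw [hg, hg, hL, hL, Bf_smul_left, smul_add, smul_smul]
    congr 2
    ring

/-- the pairing of the image of the line of `v` with the line of `u` -/
noncomputable def pairMap (g : GL ι F) (v u : ι → F) : E →ₗ[F] E where
  toFun p := Bf S ((g : Matrix ι ι F) *ᵥ (p • v)) u
  map_add' p q := by rw [add_smul, mulVec_add, Bf_add_left]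
  map_smul' c p := by rw [smul_assoc, mulVec_smul, Bf_fsmul_left]; rfl

theorem pairMap_apply (g : GL ι F) (v u : ι → F) (p : E) :
    pairMap S g v u p = Bf S ((g : Matrix ι ι F) *ᵥ (p • v)) u := rfl

/-- a partial pairing of rank at most `k` -/
def Bad (g : GL ι F) (v u : ι → F) : Prop :=
  g ∈ M ∧ pairMap S g v u ≠ 0 ∧ LinearMap.ker (pairMap S g v u) ≠ ⊥

theorem exists_bad {g : GL ι F} (hg : g ∈ M) {v : ι → F} {e : E}
    (h : (g : Matrix ι ι F) *ᵥ (e • v) ∉ Submodule.span E {(g : Matrix ι ι F) *ᵥ v}) :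
    ∃ u, Bad S g v u := by
  obtain ⟨u, hx, hy⟩ := exists_pair S h
  refine ⟨u, hg, fun h0 => hy ?_, fun h0 => ?_⟩
  · rw [← pairMap_apply S g v u e, h0]; rfl
  · have h1 : (1 : E) ∈ LinearMap.ker (pairMap S g v u) := by
      rw [LinearMap.mem_ker, pairMap_apply, one_smul, hx]
    rw [h0, Submodule.mem_bot] at h1
    exact one_ne_zero h1

/-- the element `g⁻¹ a g` and its pairing of a line with itself -/
theorem descent {g : GL ι F} {v u : ι → F} (h : Bad S g v u) (e : E) :
    ∃ g' ∈ M, (∀ p : E, (g' : Matrix ι ι F) *ᵥ (p • v) =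
        p • v + ((g⁻¹ : GL ι F) : Matrix ι ι F) *ᵥ ((e * pairMap S g v u p) • u)) ∧
      ∀ p q : E, tr F E (q * pairMap S g' v v p) =
        -tr F E (e * (pairMap S g v u p * pairMap S g v u q)) := by
  obtain ⟨a, ha, hax⟩ := exists_Tm S u e
  have hform : ∀ p : E, ((g⁻¹ * a * g : GL ι F) : Matrix ι ι F) *ᵥ (p • v) =
        p • v + ((g⁻¹ : GL ι F) : Matrix ι ι F) *ᵥ ((e * pairMap S g v u p) • u) := fun p => by
    rw [gl_mul_mulVec, gl_mul_mulVec, hax, mulVec_add, gl_inv_mulVec, pairMap_apply]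
  refine ⟨g⁻¹ * a * g, M.mul_mem (M.mul_mem (M.inv_mem h.1) ha) h.1, hform, fun p q => ?_⟩
  have hgi := mem_isoSub.1 (S.le h.1)
  rw [pairMap_apply S (g⁻¹ * a * g), hform, Bf_add_left, Bf_smul_left, Bf_self, mul_zero, zero_add, tr_Bf,
    S.adj, ← hgi _ (q • v), gl_mulVec_inv, ← tr_Bf S, Bf_swap, ← pairMap_apply, mul_neg, map_neg, mul_assoc]

/-- **The descent.** -/
theorem exists_rank_one {g : GL ι F} {v u : ι → F} (h : Bad S g v u) :
    ∃ (g : GL ι F) (v u : ι → F) (a : E) (φ : E →ₗ[F] F), Bad S g v u ∧ a ≠ 0 ∧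
      ∀ p, pairMap S g v u p = φ p • a := by
  classical
  have hex : ∃ k, ∃ (g : GL ι F) (v u : ι → F), Bad S g v u ∧
      finrank F (LinearMap.range (pairMap S g v u)) = k := ⟨_, g, v, u, h, rfl⟩
  obtain ⟨g₀, v₀, u₀, h₀, hk⟩ := Nat.find_spec hex
  set P := pairMap S g₀ v₀ u₀ with hP
  set R := LinearMap.range P with hR
  have hdich : ∀ e : E, (∀ p q, tr F E (e * (P p * P q)) = 0) ∨
      ∀ p, (∀ q, tr F E (e * (P p * P q)) = 0) → P p = 0 := by
    intro e
    by_contra hcon
    push Not at hcon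
    obtain ⟨⟨p₁, q₁, h1⟩, p₂, h2, h3⟩ := hcon
    obtain ⟨g', hg', -, htr⟩ := descent S h₀ e
    have hne : pairMap S g' v₀ v₀ ≠ 0 := fun h0 => h1 (by
      have := htr p₁ q₁
      rw [h0, LinearMap.zero_apply, mul_zero, map_zero, eq_comm, neg_eq_zero] at this
      exact this)
    have hp2 : p₂ ∈ LinearMap.ker (pairMap S g' v₀ v₀) := LinearMap.mem_ker.2 (tr_ext (F := F) fun q => by
      rw [mul_zero, map_zero, htr, h2, neg_zero])
    have hle : LinearMap.ker P ≤ LinearMap.ker (pairMap S g' v₀ v₀) := fun p hp =>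
      LinearMap.mem_ker.2 (tr_ext (F := F) fun q => by
        rw [htr, LinearMap.mem_ker.1 hp, zero_mul, mul_zero, map_zero, mul_zero, map_zero, neg_zero])
    have hlt : LinearMap.ker P < LinearMap.ker (pairMap S g' v₀ v₀) :=
      lt_of_le_of_ne hle fun he => h3 (LinearMap.mem_ker.1 (he ▸ hp2))
    have hbad : Bad S g' v₀ v₀ := ⟨hg', hne, fun h0 => h₀.2.2 (le_bot_iff.1 (h0 ▸ hle))⟩
    have hmin := Nat.find_min' hex ⟨g', v₀, v₀, hbad, rfl⟩
    have r1 := LinearMap.finrank_range_add_finrank_ker P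
    have r2 := LinearMap.finrank_range_add_finrank_ker (pairMap S g' v₀ v₀)
    have r3 := Submodule.finrank_lt_finrank_of_lt hlt
    have hk' : finrank F (LinearMap.range P) = Nat.find hex := hk
    omega
  obtain ⟨p₀, hp₀⟩ : ∃ p, P p ≠ 0 := by
    by_contra hcon
    push Not at hcon
    exact h₀.2.1 (LinearMap.ext hcon)
  have hprod : ∀ p₁ p q : E, P p₁ ≠ 0 → ∃ s, P p * P q = P p₁ * P s := by
    intro p₁ p q hp₁
    by_contra hcon
    push Not at hcon
    obtain ⟨e, he1, he2⟩ := exists_tr_separate (R := R.map (LinearMap.mulLeft F (P p₁))) (z := P p * P q) (by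
      rintro ⟨_, ⟨s, rfl⟩, hs⟩
      exact hcon s hs.symm)
    rcases hdich e with h4 | h4
    · rw [h4 p q] at he2; exact zero_ne_one he2
    · exact hp₁ (h4 p₁ fun s => he1 _ ⟨P s, ⟨s, rfl⟩, rfl⟩)
  let A : Submodule F E := R.map (LinearMap.mulLeft F (P p₀)⁻¹)
  have hmem : ∀ x, x ∈ A ↔ ∃ p, x = (P p₀)⁻¹ * P p := fun x =>
    ⟨fun ⟨_, ⟨p, rfl⟩, hx⟩ => ⟨p, hx.symm⟩, fun ⟨p, hx⟩ => ⟨P p, ⟨p, rfl⟩, hx.symm⟩⟩
  have hone : (1 : E) ∈ A := (hmem 1).2 ⟨p₀, (inv_mul_cancel₀ hp₀).symm⟩
  have hmul : ∀ x y, x ∈ A → y ∈ A → x * y ∈ A := by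
    intro x y hx hy
    obtain ⟨p, rfl⟩ := (hmem x).1 hx
    obtain ⟨q, rfl⟩ := (hmem y).1 hy
    obtain ⟨s, hs⟩ := hprod p₀ p q hp₀
    refine (hmem _).2 ⟨s, ?_⟩
    rw [mul_mul_mul_comm, hs, ← mul_assoc, mul_assoc (P p₀)⁻¹ (P p₀)⁻¹, inv_mul_cancel₀ hp₀, mul_one]
  haveI := Subalgebra.isSimpleOrder_of_finrank_prime F E S.prime
  rcases IsSimpleOrder.eq_bot_or_eq_top (A.toSubalgebra hone hmul) with hA | hA
  · have hscal : ∀ p, ∃ c : F, P p = c • P p₀ := fun p => by
      have h1 : (P p₀)⁻¹ * P p ∈ A.toSubalgebra hone hmul := (hmem _).2 ⟨p, rfl⟩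
      rw [hA, Algebra.mem_bot] at h1
      obtain ⟨c, hc⟩ := h1
      exact ⟨c, by rw [Algebra.smul_def, hc, mul_comm (P p₀)⁻¹, inv_mul_cancel_right₀ hp₀]⟩
    choose c hc using hscal
    refine ⟨g₀, v₀, u₀, P p₀,
      { toFun := c
        map_add' := fun p q => smul_left_injective F hp₀ (by
          show c (p + q) • P p₀ = (c p + c q) • P p₀
          rw [add_smul, ← hc, ← hc, ← hc, map_add])
        map_smul' := fun s p => smul_left_injective F hp₀ (by
          show c (s • p) • P p₀ = (s * c p) • P p₀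
          rw [mul_smul, ← hc, ← hc, map_smul]) }, h₀, hp₀, hc⟩
  · exfalso
    have hsurj : Function.Surjective P := fun y => by
      have h1 : (P p₀)⁻¹ * y ∈ A.toSubalgebra hone hmul := hA ▸ Algebra.mem_top
      obtain ⟨p, hp⟩ := (hmem _).1 h1
      exact ⟨p, (mul_left_cancel₀ (inv_ne_zero hp₀) hp).symm⟩
    exact h₀.2.2 (LinearMap.ker_eq_bot.2 (LinearMap.injective_iff_surjective.2 hsurj))

/-- **The normal form.** -/
theorem exists_state {g : GL ι F} (hg : g ∈ M) {v : ι → F} {e : E}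
    (h : (g : Matrix ι ι F) *ᵥ (e • v) ∉ Submodule.span E {(g : Matrix ι ι F) *ᵥ v}) :
    ∃ g ∈ M, ∃ (v w : ι → F) (β : E) (c : F), v ≠ 0 ∧ β ≠ 0 ∧ c ≠ 0 ∧ Bf S w v = c • β ∧
      ∀ p : E, (g : Matrix ι ι F) *ᵥ (p • v) = p • v + tr F E (p * β) • w := by
  obtain ⟨u, hu⟩ := exists_bad S hg h
  obtain ⟨g₀, v₀, u₀, a, φ, h₀, ha, hφ⟩ := exists_rank_one S hu
  obtain ⟨p₁, hp₁⟩ : ∃ p, φ p ≠ 0 := by
    by_contra hcon
    push Not at hcon
    exact h₀.2.1 (LinearMap.ext fun p => by rw [hφ, hcon, zero_smul]; rfl)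
  obtain ⟨e₀, -, he₀⟩ := exists_tr_separate (R := (⊥ : Submodule F E)) (z := a * a)
    (by simpa using mul_ne_zero ha ha)
  obtain ⟨g', hg', hform, htr⟩ := descent S h₀ e₀
  set w := ((g₀⁻¹ : GL ι F) : Matrix ι ι F) *ᵥ ((e₀ * a) • u₀) with hw
  have hform' : ∀ p : E, (g' : Matrix ι ι F) *ᵥ (p • v₀) = p • v₀ + φ p • w := fun p => by
    rw [hform, hφ, mul_smul_comm, smul_assoc, mulVec_smul]
  have hB : ∀ p q : E, φ p * tr F E (q * Bf S w v₀) = -(φ p * φ q) := fun p q => by
    have h1 := htr p q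
    rw [pairMap_apply, hform', Bf_add_left, Bf_smul_left, Bf_self, mul_zero, zero_add, Bf_fsmul_left, hφ, hφ,
      mul_smul_comm, map_smul, smul_eq_mul, smul_mul_smul_comm, mul_smul_comm, map_smul, he₀, smul_eq_mul,
      mul_one] at h1
    exact h1
  set β := Bf S w v₀ with hβdef
  have hφβ : ∀ q, φ q = -tr F E (q * β) := fun q => by
    have h1 := hB p₁ q
    rw [← mul_neg] at h1
    rw [mul_left_cancel₀ hp₁ h1, neg_neg]
  refine ⟨g', hg', v₀, -w, β, -1, ?_, ?_, neg_ne_zero.2 one_ne_zero, ?_, fun p => ?_⟩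
  · intro hv
    refine h₀.2.1 (LinearMap.ext fun p => ?_)
    rw [pairMap_apply, hv, smul_zero, mulVec_zero, Bf_zero_left]
    rfl
  · intro h0
    exact hp₁ (by rw [hφβ, h0, mul_zero, map_zero, neg_zero])
  · rw [show (-w) = (-1 : F) • w by rw [neg_one_smul], Bf_fsmul_left]
  · rw [hform', hφβ, neg_smul, smul_neg]

end

end CfsgLib.Perm.Trans.Symp.Ext
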