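import Cfsg.Agent.Lib.Perm.Trans.QuadDecompBase

/-!
# Orthogonal decompositions: components, reflection classes
-/

set_option autoImplicit false
set_option linter.all false

namespace CfsgLib.Perm.Trans.Quad

open scoped Matrix commutatorElement
open Matrix Cfsg.Geo CfsgLib.Perm.Asch CfsgLib.Perm.Trans

variable {ι : Type} [Fintype ι] [DecidableEq ι] {F : Type*} [Field F] [Fintype F]
variable {Q : (ι → F) → F}

local notation "pol" => QuadraticMap.polar

/-- the product of the reflections along `v` and `w` lies in `M` -/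
def RRel (Q : (ι → F) → F) (M : Subgroup (GL ι F)) (v w : ι → F) : Prop :=
  ∃ r ∈ Cfsg.isometryGroup F Q, ∃ s ∈ Cfsg.isometryGroup F Q, IsRefl Q v r ∧ IsRefl Q w s ∧ r * s ∈ M

/-- the vectors whose reflection agrees modulo `M` with the one of a component vector -/
def rclass (Q : (ι → F) → F) {t : ℕ} (D : Fin t → Submodule F (ι → F)) (M : Subgroup (GL ι F)) (c : F) :
    Set (ι → F) :=
  {v | Q v = c ∧ ∃ j, ∃ w ∈ D j, Q w = c ∧ RRel Q M v w}

omit [Fintype F] in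
theorem RRel.conj {M : Subgroup (GL ι F)} {v w : ι → F} (h : RRel Q M v w) {g : GL ι F}
    (hgi : g ∈ Cfsg.isometryGroup F Q) (hg : g ∈ M) :
    RRel Q M ((g : Matrix ι ι F) *ᵥ v) ((g : Matrix ι ι F) *ᵥ w) := by
  obtain ⟨r, hr, s, hs, hrv, hsw, hm⟩ := h
  refine ⟨_, mul_mem (mul_mem hgi hr) (inv_mem hgi), _, mul_mem (mul_mem hgi hs) (inv_mem hgi), hrv.conj hgi,
    hsw.conj hgi, ?_⟩
  rw [show g * r * g⁻¹ * (g * s * g⁻¹) = g * (r * s) * g⁻¹ by group]
  exact mul_mem (mul_mem hg hm) (inv_mem hg)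

variable (hQ : IsNondegenerateQuadraticForm Q)
include hQ

omit [Fintype F] in
theorem refl_mul_self {v : ι → F} (hv : Q v ≠ 0) {r : GL ι F} (hr : IsRefl Q v r) : r * r = 1 :=
  gl_ext_vec fun x => by
    rw [gl_mul_mulVec, hr, hr, Units.val_one, one_mulVec]
    simp only [psub_left hQ, psmul_left hQ, pself hQ v]
    match_scalars <;> field_simp <;> ring

omit [Fintype F] in
theorem rrel_self {M : Subgroup (GL ι F)} {v : ι → F} (hv : Q v ≠ 0) : RRel Q M v v := by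
  obtain ⟨r, hr, hrv⟩ := exists_refl hQ hv
  exact ⟨r, hr, r, hr, hrv, hrv, by rw [refl_mul_self hQ hv hrv]; exact one_mem _⟩

omit [Fintype F] in
theorem RRel.symm {M : Subgroup (GL ι F)} {v w : ι → F} (hv : Q v ≠ 0) (hw : Q w ≠ 0) (h : RRel Q M v w) :
    RRel Q M w v := by
  obtain ⟨r, hr, s, hs, hrv, hsw, hm⟩ := h
  refine ⟨s, hs, r, hr, hsw, hrv, ?_⟩
  have h1 : (r * s)⁻¹ = s * r := by
    rw [_root_.mul_inv_rev, mul_eq_one_iff_inv_eq.1 (refl_mul_self hQ hw hsw),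
      mul_eq_one_iff_inv_eq.1 (refl_mul_self hQ hv hrv)]
  rw [← h1]
  exact inv_mem hm

omit [Fintype F] in
theorem RRel.trans {M : Subgroup (GL ι F)} {u v w : ι → F} (hv : Q v ≠ 0) (h : RRel Q M u v) (h' : RRel Q M v w) :
    RRel Q M u w := by
  obtain ⟨r, hr, s, hs, hru, hsv, hm⟩ := h
  obtain ⟨s', hs', x, hx, hs'v, hxw, hm'⟩ := h'
  refine ⟨r, hr, x, hx, hru, hxw, ?_⟩
  have h1 : r * x = r * s * (s' * x) := by
    rw [hs'v.unique hsv, mul_assoc, ← mul_assoc s s, refl_mul_self hQ hv hsv, one_mul]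
  rw [h1]
  exact mul_mem hm hm'

/-- an isometry, corrected by a subgroup with reflections of every value, lies in `Ω` -/
theorem exists_omega_mul (hn : 5 ≤ Fintype.card ι) (G₀ : Subgroup (GL ι F))
    (hval : ∀ c : F, c ≠ 0 → ∃ w r, Q w = c ∧ r ∈ Cfsg.isometryGroup F Q ∧ r ∈ G₀ ∧ IsRefl Q w r)
    {h : GL ι F} (hh : h ∈ Cfsg.isometryGroup F Q) :
    ∃ t ∈ G₀, t ∈ Cfsg.isometryGroup F Q ∧ t * h ∈ omegaGL Q := by
  obtain ⟨T, hT⟩ : ∃ T, T = G₀.comap (Cfsg.isometryGroup F Q).subtype ⊔ Cfsg.Omega F Q := ⟨_, rfl⟩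
  have hle : Cfsg.isometryGroup F Q ≤ T.map (Cfsg.isometryGroup F Q).subtype := by
    refine (iso_le_refl_closure hQ (by omega) (Or.inr (by omega))).trans ((Subgroup.closure_le _).2 ?_)
    rintro r ⟨hr, v, hv, hrv⟩
    obtain ⟨w, s, hQw, hs, hsG, hsw⟩ := hval (Q v) hv
    obtain ⟨k, hk, hkw⟩ := exists_move_value hQ hn (v := w) (w := v) (by rwa [hQw]) hQw
    have hki := eGroup_le_iso hk
    have h1 := hsw.conj hki
    rw [hkw] at h1
    have h2 : r = k * s * k⁻¹ * s⁻¹ * s := by rw [hrv.unique h1]; group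
    refine ⟨⟨r, hr⟩, ?_, rfl⟩
    show (⟨r, hr⟩ : Cfsg.isometryGroup F Q) ∈ T
    rw [show (⟨r, hr⟩ : Cfsg.isometryGroup F Q) =
        ⁅(⟨k, hki⟩ : Cfsg.isometryGroup F Q), ⟨s, hs⟩⁆ * ⟨s, hs⟩ from Subtype.ext h2, hT]
    exact mul_mem (Subgroup.mem_sup_right (Subgroup.commutator_mem_commutator (Subgroup.mem_top _) (Subgroup.mem_top _)))
      (Subgroup.mem_sup_left hsG)
  obtain ⟨y, hy, hyh⟩ := hle hh
  rw [hT] at hy
  obtain ⟨t, ht, w, hw, htw⟩ := Subgroup.mem_sup_of_normal_right.1 hy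
  refine ⟨(t⁻¹ : Cfsg.isometryGroup F Q).1, (inv_mem ht : t⁻¹ ∈ G₀.comap _), (t⁻¹).2, w, hw, ?_⟩
  show (w : GL ι F) = ((t⁻¹ : Cfsg.isometryGroup F Q) : GL ι F) * h
  rw [← show (y : GL ι F) = h from hyh, ← htw, Subgroup.coe_mul, Subgroup.coe_inv, inv_mul_cancel_left]

/-- products of reflections of equal value in two nonzero-value families generate `Ω` -/
theorem omega_le_of_value (hn : 5 ≤ Fintype.card ι) {M : Subgroup (GL ι F)} {c : F} (hc : c ≠ 0)
    (h : ∀ v w, Q v = c → Q w = c → RRel Q M v w) : omegaGL Q ≤ M := by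
  refine omega_le_of_eCentres hQ hn fun u hu => ⟨hu, fun a hua => ?_⟩
  have hpc : ∀ u a, Q u = 0 → pol Q u a = 0 → Q a = c → EIn Q M u a := by
    intro u a hu hua hQa
    have hau : pol Q a u = 0 := by rw [pcomm, hua]
    have hQb : Q (a + Q a • u) = c := by
      rw [qadd hQ, qsmul hQ, hu, psmul_right hQ, hau, ← hQa]
      ring
    obtain ⟨r, -, s, -, hra, hsb, hm⟩ := h a _ hQa hQb
    refine ⟨r * s, hm, fun x => ?_⟩
    have hQa0 : Q a ≠ 0 := by rw [hQa]; exact hc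
    rw [gl_mul_mulVec, hra, hsb, show Q (a + Q a • u) = Q a from hQb.trans hQa.symm]
    simp only [psub_left hQ, psmul_left hQ, padd_left hQ, padd_right hQ, psmul_right hQ, pself hQ a, hua]
    match_scalars <;> field_simp <;> ring
  rcases eq_or_ne u 0 with rfl | hu0
  · refine ⟨1, one_mem _, fun x => ?_⟩
    rw [Units.val_one, one_mulVec, pzero_right hQ]
    simp
  obtain ⟨u', -, hu', huu'⟩ := exists_qpartner hQ (ndOn_top hQ) Submodule.mem_top hu0 hu
  have hnd := pair_nd hQ (P := ⊤) (e := u) (f := u') Submodule.mem_top Submodule.mem_top hu hu' huu' (ndOn_top hQ)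
  have hdim := pair_finrank hQ (P := ⊤) (e := u) (f := u') Submodule.mem_top Submodule.mem_top hu hu' huu'
  rw [finrank_top, Module.finrank_fintype_fun_eq_card] at hdim
  let S : Submodule F (ι → F) :=
    { carrier := {p | pol Q u p = 0 ∧ ∀ s : F, EIn Q M u (s • p)}
      zero_mem' := ⟨pzero_right hQ u, fun s => by
        rw [smul_zero]
        have := EIn.smul_self hQ M hu 0
        rwa [zero_smul] at this⟩
      add_mem' := fun {p p'} hp hp' => ⟨by rw [padd_right hQ, hp.1, hp'.1, add_zero], fun s => by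
        rw [smul_add]
        exact EIn.add hQ hu (by rw [psmul_right hQ, hp.1, mul_zero]) (by rw [psmul_right hQ, hp'.1, mul_zero])
          (hp.2 s) (hp'.2 s)⟩
      smul_mem' := fun d p hp => ⟨by rw [psmul_right hQ, hp.1, mul_zero], fun s => by
        rw [smul_smul]; exact hp.2 _⟩ }
  have hle : pairPerp hQ ⊤ u u' ≤ S := le_of_value_mem hQ hnd (by omega) c fun v hv hQv => by
    obtain ⟨-, hvu, -⟩ := (mem_pairPerp hQ).1 hv
    have huv : pol Q u v = 0 := by rw [pcomm, hvu]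
    refine ⟨huv, fun s => ?_⟩
    rcases eq_or_ne s 0 with rfl | hs
    · have := EIn.smul_self hQ M hu 0
      rw [zero_smul] at this
      rwa [zero_smul]
    obtain ⟨g, hg, hgE⟩ := hpc (s • u) v (by rw [qsmul hQ, hu, mul_zero]) (by rw [psmul_left hQ, huv, mul_zero]) hQv
    obtain ⟨k, -, hkE⟩ := exists_E hQ hu (a := s • v) (by rw [psmul_right hQ, huv, mul_zero])
    exact ⟨k, (hgE.unique (hkE.smul hQ)) ▸ hg, hkE⟩
  have hp : a - pol Q a u' • u ∈ pairPerp hQ ⊤ u u' := by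
    refine (mem_pairPerp hQ).2 ⟨Submodule.mem_top, ?_, ?_⟩
    · rw [psub_left hQ, psmul_left hQ, pcomm, hua, pself hQ, hu]
      ring
    · rw [psub_left hQ, psmul_left hQ, huu']
      ring
  have h1 := (hle hp).2 1
  rw [one_smul] at h1
  have h2 := EIn.add hQ hu (hle hp).1 (by rw [psmul_right hQ, pself hQ, hu, mul_zero, mul_zero]) h1
    (EIn.smul_self hQ M hu (pol Q a u'))
  rwa [sub_add_cancel] at h2

/-- a nonsingular vector orthogonal to a given one -/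
theorem exists_nonsingular_perp {P : Submodule F (ι → F)} (hP : NdOn Q P) (hd : 3 ≤ Module.finrank F P) {x : ι → F}
    (hx : x ∈ P) : ∃ w ∈ P, Q w ≠ 0 ∧ pol Q w x = 0 := by
  by_cases hQx : Q x = 0
  swap
  · obtain ⟨w, hw, hQw, hwx⟩ := exists_value_perp hQ hP hd hx hQx 1
    exact ⟨w, hw, by rw [hQw]; exact one_ne_zero, hwx⟩
  rcases eq_or_ne x 0 with rfl | hx0
  · obtain ⟨w, hw, hQw⟩ := exists_nonsingular hQ hP (fun h => by rw [h, finrank_bot] at hd; omega)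
    exact ⟨w, hw, hQw, pzero_right hQ w⟩
  obtain ⟨f, hf, hQf, hxf⟩ := exists_qpartner hQ hP hx hx0 hQx
  have := pair_finrank hQ hx hf hQx hQf hxf
  obtain ⟨w, hw, hQw⟩ := exists_nonsingular hQ (pair_nd hQ hx hf hQx hQf hxf hP)
    (fun h => by rw [h, finrank_bot] at this; omega)
  obtain ⟨hwP, hwx, -⟩ := (mem_pairPerp hQ).1 hw
  exact ⟨w, hwP, hQw, hwx⟩

omit [Fintype F] in
theorem nd_disjoint {W : Submodule F (ι → F)} (hW : NdOn Q W) {x : ι → F} (hx : x ∈ W) (hx' : x ∈ qperp hQ W) :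
    x = 0 := by
  by_contra hne
  obtain ⟨y, hy, hxy⟩ := (hW x hx hne).2
  exact hxy (hx' y hy)

/-! ### Components -/

variable {t k : ℕ} {D : Fin t → Submodule F (ι → F)} (hD : IsNondegenerateMDecomposition (pol Q) k D)
include hD

/-- the component in `D i` -/
noncomputable def qcomp (i : Fin t) (x : ι → F) : ι → F :=
  Classical.choose (qperp_decomp hQ (hD.nondegenerate i) x)

omit [Fintype F] in
theorem qcomp_mem (i : Fin t) (x : ι → F) : qcomp hQ hD i x ∈ D i :=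
  (Classical.choose_spec (qperp_decomp hQ (hD.nondegenerate i) x)).1

omit [Fintype F] in
theorem qcomp_perp (i : Fin t) (x : ι → F) : x - qcomp hQ hD i x ∈ qperp hQ (D i) :=
  (Classical.choose_spec (qperp_decomp hQ (hD.nondegenerate i) x)).2

omit [Fintype F] in
theorem qcomp_eq {i : Fin t} {x a : ι → F} (ha : a ∈ D i) (hx : x - a ∈ qperp hQ (D i)) : qcomp hQ hD i x = a := by
  refine sub_eq_zero.1 (nd_disjoint hQ (hD.nondegenerate i) ((D i).sub_mem (qcomp_mem hQ hD i x) ha) ?_)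
  have := (qperp hQ (D i)).sub_mem hx (qcomp_perp hQ hD i x)
  rwa [sub_sub_sub_cancel_left] at this

omit [Fintype F] in
theorem mem_qperp_other {i j : Fin t} (hij : i ≠ j) {a : ι → F} (ha : a ∈ D i) : a ∈ qperp hQ (D j) :=
  fun w hw => hD.orthogonal i j hij a ha w hw

omit [Fintype F] in
theorem qcomp_self {i : Fin t} {a : ι → F} (ha : a ∈ D i) : qcomp hQ hD i a = a :=
  qcomp_eq hQ hD ha (by rw [sub_self]; exact zero_mem _)

omit [Fintype F] in
theorem qcomp_other {i j : Fin t} (hij : i ≠ j) {a : ι → F} (ha : a ∈ D i) : qcomp hQ hD j a = 0 :=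
  qcomp_eq hQ hD (zero_mem _) (by rw [sub_zero]; exact mem_qperp_other hQ hD hij ha)

omit [Fintype F] in
theorem qcomp_zero (i : Fin t) : qcomp hQ hD i 0 = 0 :=
  qcomp_eq hQ hD (zero_mem _) (by rw [sub_zero]; exact zero_mem _)

omit [Fintype F] in
theorem qcomp_add (i : Fin t) (x y : ι → F) : qcomp hQ hD i (x + y) = qcomp hQ hD i x + qcomp hQ hD i y :=
  qcomp_eq hQ hD ((D i).add_mem (qcomp_mem hQ hD i x) (qcomp_mem hQ hD i y)) (by
    rw [add_sub_add_comm]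
    exact (qperp hQ (D i)).add_mem (qcomp_perp hQ hD i x) (qcomp_perp hQ hD i y))

omit [Fintype F] in
theorem qcomp_smul (i : Fin t) (c : F) (x : ι → F) : qcomp hQ hD i (c • x) = c • qcomp hQ hD i x :=
  qcomp_eq hQ hD ((D i).smul_mem c (qcomp_mem hQ hD i x)) (by
    rw [← smul_sub]
    exact (qperp hQ (D i)).smul_mem c (qcomp_perp hQ hD i x))

omit [Fintype F] in
theorem qcomp_sub (i : Fin t) (x y : ι → F) : qcomp hQ hD i (x - y) = qcomp hQ hD i x - qcomp hQ hD i y := by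
  rw [sub_eq_add_neg, ← neg_one_smul F y, qcomp_add, qcomp_smul, neg_one_smul, sub_eq_add_neg]

omit [Fintype F] in
theorem qcomp_sum (i : Fin t) (s : Finset (Fin t)) (f : Fin t → ι → F) :
    qcomp hQ hD i (∑ j ∈ s, f j) = ∑ j ∈ s, qcomp hQ hD i (f j) := by
  induction s using Finset.induction_on with
  | empty => simp [qcomp_zero hQ hD]
  | @insert j s hj ih => rw [Finset.sum_insert hj, Finset.sum_insert hj, qcomp_add, ih]

omit [Fintype F] in
theorem qext_comp {x y : ι → F} (h : ∀ i, qcomp hQ hD i x = qcomp hQ hD i y) : x = y := by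
  refine sub_eq_zero.1 (eq_zero_of_perp_top hQ fun z => ?_)
  have hall : ∀ i, D i ≤ LinearMap.ker (pfl hQ (x - y)) := fun i w hw => by
    have := qcomp_perp hQ hD i (x - y)
    rw [qcomp_sub, h, sub_self, sub_zero] at this
    show pol Q w (x - y) = 0
    rw [pcomm]
    exact this w hw
  have htop : (⊤ : Submodule F (ι → F)) ≤ LinearMap.ker (pfl hQ (x - y)) := hD.decomp.iSup_eq_top ▸ iSup_le hall
  have h1 : pol Q z (x - y) = 0 := htop Submodule.mem_top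
  rw [pcomm]
  exact h1

omit [Fintype F] in
theorem qcomp_pol {i : Fin t} {x b : ι → F} (hb : b ∈ D i) : pol Q x b = pol Q (qcomp hQ hD i x) b := by
  have := qcomp_perp hQ hD i x b hb
  rwa [psub_left hQ, sub_eq_zero] at this

omit [Fintype F] in
theorem exists_qcomp_ne {x : ι → F} (hx : x ≠ 0) : ∃ i, qcomp hQ hD i x ≠ 0 := by
  by_contra hn
  push Not at hn
  exact hx (qext_comp hQ hD fun i => by rw [hn, qcomp_zero])

omit [Fintype F] in
theorem exists_qcomp_nonsingular {x : ι → F} (hx : Q x ≠ 0) : ∃ i, Q (qcomp hQ hD i x) ≠ 0 := by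
  by_contra hn
  push Not at hn
  refine hx ?_
  have hsum : x = ∑ i, qcomp hQ hD i x := qext_comp hQ hD fun j => by
    rw [qcomp_sum, Finset.sum_eq_single j]
    · rw [qcomp_self hQ hD (qcomp_mem hQ hD j x)]
    · exact fun i _ hij => qcomp_other hQ hD hij (qcomp_mem hQ hD i x)
    · simp
  suffices h : ∀ s : Finset (Fin t), Q (∑ i ∈ s, qcomp hQ hD i x) = 0 by rw [hsum]; exact h _
  intro s
  induction s using Finset.induction_on with
  | empty => rw [Finset.sum_empty]; exact qzero hQ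
  | @insert j s hj ih =>
    have hm : (∑ i ∈ s, qcomp hQ hD i x) ∈ qperp hQ (D j) := Submodule.sum_mem _ fun i hi =>
      mem_qperp_other hQ hD (fun h : i = j => hj (h ▸ hi)) (qcomp_mem hQ hD i x)
    rw [Finset.sum_insert hj, qadd hQ, hn, ih, pcomm, hm _ (qcomp_mem hQ hD j x)]
    ring

omit [Fintype F] in
theorem qcomp_disjoint {i j : Fin t} {x : ι → F} (hx : x ∈ D i) (hx' : x ∈ D j) (hx0 : x ≠ 0) : i = j := by
  by_contra hij
  exact hx0 (nd_disjoint hQ (hD.nondegenerate j) hx' (mem_qperp_other hQ hD hij hx))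

omit [Fintype F] in
theorem qmap_eq {g : GL ι F} {i j : Fin t} (h : ∀ x ∈ D i, (g : Matrix ι ι F) *ᵥ x ∈ D j) :
    (D i).map (Matrix.toLin' (g : Matrix ι ι F)) = D j := by
  have hinj : Function.Injective (Matrix.toLin' (g : Matrix ι ι F)) := fun a b hab => by
    have := congrArg (fun x => ((g⁻¹ : GL ι F) : Matrix ι ι F) *ᵥ x) hab
    simpa only [Matrix.toLin'_apply, gl_inv_mulVec] using this
  refine Submodule.eq_of_le_of_finrank_eq ?_ ?_
  · rintro y ⟨x, hx, rfl⟩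
    rw [Matrix.toLin'_apply]
    exact h x hx
  · rw [← (Submodule.equivMapOfInjective _ hinj (D i)).finrank_eq, hD.decomp.finrank_eq i, hD.decomp.finrank_eq j]

omit [Fintype F] hQ in
theorem mem_dec_maps {g : GL ι F} (hg : g ∈ decompositionStabilizer D) (i : Fin t) :
    ∃ j, ∀ x ∈ D i, (g : Matrix ι ι F) *ᵥ x ∈ D j :=
  let ⟨σ, hσ⟩ := hg
  ⟨σ i, fun x hx => hσ i ▸ ⟨x, hx, Matrix.toLin'_apply _ x⟩⟩

omit [Fintype F] in
theorem dec_of_maps {g : GL ι F} (h : ∀ i, ∃ j, ∀ x ∈ D i, (g : Matrix ι ι F) *ᵥ x ∈ D j) :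
    g ∈ decompositionStabilizer D := by
  choose σ hσ using h
  have hinj : Function.Injective σ := by
    intro i j hij
    by_contra hne
    have h1 := qmap_eq hQ hD (hσ i)
    have h2 := qmap_eq hQ hD (hσ j)
    rw [← hij, ← h1] at h2
    obtain ⟨x, hx, hx0⟩ := Submodule.exists_mem_ne_zero_of_ne_bot (p := D j) (fun h => by
      have := hD.decomp.finrank_eq j
      rw [h, finrank_bot] at this
      exact hD.decomp.pos.ne this)
    obtain ⟨y, hy, hyx⟩ := (h2.le ⟨x, hx, rfl⟩ : Matrix.toLin' (g : Matrix ι ι F) x ∈ _)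
    have hyx' : y = x := by
      have := congrArg (fun z => ((g⁻¹ : GL ι F) : Matrix ι ι F) *ᵥ z) hyx
      simpa only [Matrix.toLin'_apply, gl_inv_mulVec] using this
    exact hne (qcomp_disjoint hQ hD (hyx' ▸ hy) hx hx0)
  exact ⟨Equiv.ofBijective σ (Finite.injective_iff_bijective.1 hinj), fun i => qmap_eq hQ hD (hσ i)⟩

omit [Fintype F] in
/-- a reflection along a component vector stabilises every component -/
theorem refl_maps {l : Fin t} {w : ι → F} (hw : w ∈ D l) {r : GL ι F} (hr : IsRefl Q w r) (j : Fin t) :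
    ∀ x ∈ D j, (r : Matrix ι ι F) *ᵥ x ∈ D j := fun x hx => by
  rw [hr]
  rcases eq_or_ne j l with rfl | hne
  · exact (D j).sub_mem hx ((D j).smul_mem _ hw)
  · rw [hD.orthogonal j l hne x hx w hw, mul_zero, zero_smul, sub_zero]
    exact hx

variable {M : Subgroup (GL ι F)} (hn : 5 ≤ Fintype.card ι) (hM : M ≤ Cfsg.isometryGroup F Q)
  (hHM : decompositionStabilizer D ⊓ omegaGL Q ≤ M)
include hn hM hHM

theorem comp_rel {i j : Fin t} {v w : ι → F} (hv : v ∈ D i) (hw : w ∈ D j) (hQv : Q v ≠ 0) (hvw : Q v = Q w) :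
    RRel Q M v w := by
  obtain ⟨r, hr, hrv⟩ := exists_refl hQ hQv
  obtain ⟨s, hs, hsw⟩ := exists_refl hQ (v := w) (hvw ▸ hQv)
  refine ⟨r, hr, s, hs, hrv, hsw, hHM ⟨dec_of_maps hQ hD fun l => ⟨l, fun x hx => ?_⟩,
    refl_pair_omega hQ hn hQv hvw hr hs hrv hsw⟩⟩
  rw [gl_mul_mulVec]
  exact refl_maps hQ hD hv hrv l _ (refl_maps hQ hD hw hsw l x hx)

theorem comp_mem_rclass {i : Fin t} {v : ι → F} (hv : v ∈ D i) {c : F} (hc : c ≠ 0) (hQv : Q v = c) :
    v ∈ rclass Q D M c :=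
  ⟨hQv, i, v, hv, hQv, rrel_self hQ (hQv ▸ hc)⟩

theorem rclass_rel {c : F} (hc : c ≠ 0) {v w : ι → F} (hv : v ∈ rclass Q D M c) (hw : w ∈ rclass Q D M c) :
    RRel Q M v w := by
  obtain ⟨hQv, i, a, ha, hQa, hva⟩ := hv
  obtain ⟨hQw, j, b, hb, hQb, hwb⟩ := hw
  exact (hva.trans hQ (hQa ▸ hc) (comp_rel hQ hD hn hM hHM ha hb (hQa ▸ hc) (hQa.trans hQb.symm))).trans hQ (hQb ▸ hc)
    (hwb.symm hQ (hQw ▸ hc) (hQb ▸ hc))

theorem rclass_conj {c : F} (hc : c ≠ 0) {g : GL ι F} (hg : g ∈ M) {j₀ : Fin t} {w₀ : ι → F} (hw₀ : w₀ ∈ D j₀)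
    (hQw₀ : Q w₀ = c) (hgw₀ : (g : Matrix ι ι F) *ᵥ w₀ ∈ rclass Q D M c) {x : ι → F} (hx : x ∈ rclass Q D M c) :
    (g : Matrix ι ι F) *ᵥ x ∈ rclass Q D M c := by
  have h1 := (rclass_rel hQ hD hn hM hHM hc hx (comp_mem_rclass hQ hD hn hM hHM hw₀ hc hQw₀)).conj (hM hg) hg
  obtain ⟨hQ', j, w, hw, hQw, hrel⟩ := hgw₀
  exact ⟨(mem_iso.1 (hM hg) x).trans hx.1, j, w, hw, hQw, h1.trans hQ (hQ' ▸ hc) hrel⟩

theorem rclass_closed {c : F} (hc : c ≠ 0) {v x : ι → F} (hv : v ∈ rclass Q D M c) (hx : x ∈ rclass Q D M c) :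
    x - (c⁻¹ * pol Q x v) • v ∈ rclass Q D M c := by
  obtain ⟨r, hr, hrv⟩ := exists_refl hQ (v := v) (hv.1 ▸ hc)
  have he : (r : Matrix ι ι F) *ᵥ x = x - (c⁻¹ * pol Q x v) • v := by rw [hrv, hv.1]
  obtain ⟨hQv, j, w, hw, hQw, hvw⟩ := hv
  have hvx := rclass_rel hQ hD hn hM hHM hc ⟨hQv, j, w, hw, hQw, hvw⟩ hx
  have h1 : RRel Q M ((r : Matrix ι ι F) *ᵥ x) v := by
    obtain ⟨r₁, hr₁, s, hs, hr₁v, hsx, hm⟩ := hvx
    rw [hr₁v.unique hrv] at hm
    refine ⟨_, mul_mem (mul_mem hr hs) (inv_mem hr), r, hr, hsx.conj hr, hrv, ?_⟩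
    rw [inv_mul_cancel_right]
    exact hm
  rw [he] at h1
  exact ⟨by rw [← he, mem_iso.1 hr]; exact hx.1, j, w, hw, hQw, h1.trans hQ (hQv ▸ hc) hvw⟩

/-- changing one component inside the class -/
theorem rclass_move (hk : 3 ≤ k) {c : F} (hc : c ≠ 0) {x : ι → F} (hx : x ∈ rclass Q D M c) (i : Fin t) {y : ι → F}
    (hy : y ∈ D i) (hy0 : y ≠ 0) (hxi : qcomp hQ hD i x ≠ 0) (hQy : Q y = Q (qcomp hQ hD i x)) :
    x - qcomp hQ hD i x + y ∈ rclass Q D M c := by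
  obtain ⟨B, hBQ, hB⟩ := exists_bundled hQ
  subst hBQ
  obtain ⟨a, ha⟩ : ∃ a, a = qcomp hQ hD i x := ⟨_, rfl⟩
  have haD : a ∈ D i := ha ▸ qcomp_mem hQ hD i x
  rw [← ha] at hxi hQy ⊢
  have hnP : ∀ z ∈ D i, z ≠ 0 → z ∉ qperp hQ (D i) := fun z hz hz0 h =>
    hz0 (nd_disjoint hQ (hD.nondegenerate i) hz h)
  obtain ⟨g, hgi, hgP, hga⟩ := Witt.exists_step (Q := B) hB (W := qperp hQ (D i)) (hnP a haD hxi) (hnP y hy hy0) hQy
    (fun p hp => by rw [pcomm y p, hp y hy, pcomm a p, hp a haD])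
  obtain ⟨h, hh, hhg⟩ := exists_iso_of_equiv (Q := ⇑B) g hgi
  obtain ⟨z, hz⟩ : ∃ z, z = x - a + y := ⟨_, rfl⟩
  rw [← hz]
  have hxa : x - a ∈ qperp hQ (D i) := ha ▸ qcomp_perp hQ hD i x
  have hhx : (h : Matrix ι ι F) *ᵥ x = z := by
    rw [hz, show x = (x - a) + a by abel, mulVec_add, hhg, hhg, hgP _ hxa, hga]
    abel
  have hQz : B z = c := by rw [← hhx, mem_iso.1 hh, hx.1]
  have hhD : ∀ j, ∀ u ∈ D j, (h : Matrix ι ι F) *ᵥ u ∈ D j := by
    intro j u hu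
    rcases eq_or_ne j i with rfl | hne
    · rw [← qperp_qperp hQ (hD.nondegenerate j)]
      intro p hp
      have hp' : (h : Matrix ι ι F) *ᵥ p = p := (hhg p).trans (hgP p hp)
      conv_lhs => rw [← hp', iso_pol hh, pcomm]
      exact hp u hu
    · rw [hhg, hgP u (mem_qperp_other hQ hD hne hu)]
      exact hu
  obtain ⟨l, hl⟩ := exists_qcomp_nonsingular hQ hD (x := z) (by rw [hQz]; exact hc)
  obtain ⟨G₀, hG₀⟩ : ∃ G₀ : Subgroup (GL ι F), ∀ g : GL ι F,
      g ∈ G₀ ↔ (∀ j, g ∈ subspaceStabilizer (D j)) ∧ (g : Matrix ι ι F) *ᵥ z = z :=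
    ⟨{ carrier := {g | (∀ j, g ∈ subspaceStabilizer (D j)) ∧ (g : Matrix ι ι F) *ᵥ z = z}
       one_mem' := ⟨fun j => one_mem _, by rw [Units.val_one, one_mulVec]⟩
       mul_mem' := fun {p q} hp hq => ⟨fun j => mul_mem (hp.1 j) (hq.1 j), by rw [gl_mul_mulVec, hq.2, hp.2]⟩
       inv_mem' := fun {p} hp => ⟨fun j => inv_mem (hp.1 j), by
        conv_lhs => rw [← hp.2, gl_inv_mulVec]⟩ }, fun g => Iff.rfl⟩
  obtain ⟨s, hsG, hsi, hsΩ⟩ := exists_omega_mul hQ hn G₀ (fun d hd => by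
    obtain ⟨w, hw, hQw, hwz⟩ := exists_value_perp hQ (hD.nondegenerate l) (by rw [hD.decomp.finrank_eq]; exact hk)
      (qcomp_mem hQ hD l z) hl d
    obtain ⟨r, hr, hrw⟩ := exists_refl hQ (v := w) (by rw [hQw]; exact hd)
    exact ⟨w, r, hQw, hr, (hG₀ r).2 ⟨fun j => mem_stab_of_maps (refl_maps hQ hD hw hrw j),
      refl_fix hQ hrw (by rw [qcomp_pol hQ hD hw, pcomm]; exact hwz)⟩, hrw⟩) hh
  obtain ⟨hsD, hsz⟩ := (hG₀ s).1 hsG
  have hmaps : ∀ j, ∀ u ∈ D j, ((s * h : GL ι F) : Matrix ι ι F) *ᵥ u ∈ D j := fun j u hu => by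
    rw [gl_mul_mulVec]
    exact (mem_subspaceStabilizer_iff.1 (hsD j) _).1 (hhD j u hu)
  have hsM : s * h ∈ M := hHM ⟨dec_of_maps hQ hD fun j => ⟨j, hmaps j⟩, hsΩ⟩
  obtain ⟨w₀, hw₀, hQw₀⟩ := exists_value_two hQ (hD.nondegenerate i) (by rw [hD.decomp.finrank_eq]; omega) c
  have h1 := rclass_conj hQ hD hn hM hHM hc hsM hw₀ hQw₀ (comp_mem_rclass hQ hD hn hM hHM (hmaps i w₀ hw₀) hc
    (by rw [mem_iso.1 (hM hsM), hQw₀])) hx
  rwa [gl_mul_mulVec, hhx, hsz] at h1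

end CfsgLib.Perm.Trans.Quad
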