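import Cfsg.Agent.Lib.Perm.Trans.QuadDecompClass

/-!
# Orthogonal decompositions: a reflection class larger than the components contains every vector of its value
-/

set_option autoImplicit false
set_option linter.all false

namespace CfsgLib.Perm.Trans.Quad

open scoped Matrix
open Matrix Cfsg.Geo CfsgLib.Perm.Asch CfsgLib.Perm.Trans

variable {ι : Type} [Fintype ι] [DecidableEq ι] {F : Type*} [Field F] [Fintype F]
variable {Q : (ι → F) → F}

local notation "pol" => QuadraticMap.polar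

variable (hQ : IsNondegenerateQuadraticForm Q)
include hQ

/-- a displacement of a vector keeping its value -/
theorem exists_shift {P : Submodule F (ι → F)} (hP : NdOn Q P) (hd : 3 ≤ Module.finrank F P) {x : ι → F} (hx : x ∈ P)
    (hx0 : x ≠ 0) {δ : F} (hδ : δ ≠ 0) :
    ∃ x' ∈ P, x' ≠ 0 ∧ x' ≠ x ∧ Q x' = Q x ∧ pol Q x x' = 2 * Q x + δ := by
  obtain ⟨y, hy, hQy, hxy⟩ := exists_prescribed hQ hP hd hx hx0 (Q x) (2 * Q x + δ) (by
    by_cases h : Q x = 0
    · exact Or.inr (by rw [h, mul_zero, zero_add]; exact hδ)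
    · exact Or.inl h)
  refine ⟨y, hy, fun h => ?_, fun h => ?_, hQy, hxy⟩
  · rw [h, qzero hQ] at hQy
    rw [h, pzero_right hQ, ← hQy, mul_zero, zero_add] at hxy
    exact hδ hxy.symm
  · rw [h, pself hQ] at hxy
    exact hδ (by linear_combination -hxy)

omit [Fintype F] in
/-- a displacement by an orthogonal singular vector -/
theorem exists_shift_zero {P : Submodule F (ι → F)} {x : ι → F} (hx : x ∈ P) (hQx : Q x ≠ 0)
    (h : ∃ w ∈ P, w ≠ 0 ∧ Q w = 0 ∧ pol Q w x = 0) :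
    ∃ x' ∈ P, x' ≠ 0 ∧ x' ≠ x ∧ Q x' = Q x ∧ pol Q x x' = 2 * Q x + 0 := by
  obtain ⟨w, hw, hw0, hQw, hwx⟩ := h
  have hQ' : Q (x + w) = Q x := by rw [qadd hQ, hQw, pcomm, hwx, add_zero, add_zero]
  refine ⟨x + w, P.add_mem hx hw, fun h => hQx (by rw [← hQ', h, qzero hQ]), fun h => hw0 ?_, hQ', ?_⟩
  · exact add_eq_left.1 h
  · rw [padd_right hQ, pself hQ, pcomm x w, hwx, add_zero]

theorem exists_singular_perp {P : Submodule F (ι → F)} (hd : 4 ≤ Module.finrank F P) (x : ι → F) :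
    ∃ w ∈ P, w ≠ 0 ∧ Q w = 0 ∧ pol Q w x = 0 := by
  obtain ⟨w, hw, hw0, hQw⟩ := exists_singular_mem hQ (P ⊓ LinearMap.ker (pfl hQ x)) (by
    have := finrank_inf_pfl hQ P x
    omega)
  exact ⟨w, hw.1, hw0, hQw, hw.2⟩

theorem exists_nonzero_value {P : Submodule F (ι → F)} (hP : NdOn Q P) (hd : 3 ≤ Module.finrank F P) (a : F) :
    ∃ x ∈ P, x ≠ 0 ∧ Q x = a := by
  rcases eq_or_ne a 0 with rfl | ha
  · exact exists_qsingular hQ hP hd
  · obtain ⟨x, hx, hQx⟩ := exists_qvalue hQ hP hd a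
    exact ⟨x, hx, fun h => ha (by rw [← hQx, h, qzero hQ]), hQx⟩

variable {t k : ℕ} {D : Fin t → Submodule F (ι → F)} (hD : IsNondegenerateMDecomposition (pol Q) k D)
include hD
variable {M : Subgroup (GL ι F)} (hn : 5 ≤ Fintype.card ι) (hM : M ≤ Cfsg.isometryGroup F Q)
  (hHM : decompositionStabilizer D ⊓ omegaGL Q ≤ M) (hk : 3 ≤ k)
include hn hM hHM hk

/-- displacing two components of a class member gives a member in those two components -/
theorem two_step {c : F} (hc : c ≠ 0) {x : ι → F} (hx : x ∈ rclass Q D M c) {i j : Fin t} (hij : i ≠ j)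
    (hxi : qcomp hQ hD i x ≠ 0) (hxj : qcomp hQ hD j x ≠ 0) {δ : F}
    (hi : ∃ x' ∈ D i, x' ≠ 0 ∧ x' ≠ qcomp hQ hD i x ∧ Q x' = Q (qcomp hQ hD i x) ∧
      pol Q (qcomp hQ hD i x) x' = 2 * Q (qcomp hQ hD i x) + δ)
    (hj : ∃ x' ∈ D j, x' ≠ 0 ∧ x' ≠ qcomp hQ hD j x ∧ Q x' = Q (qcomp hQ hD j x) ∧
      pol Q (qcomp hQ hD j x) x' = 2 * Q (qcomp hQ hD j x) + (-c - δ))
    {yi yj : ι → F} (hyi : yi ∈ D i) (hyi0 : yi ≠ 0) (hQyi : Q yi = -δ) (hyj : yj ∈ D j) (hyj0 : yj ≠ 0)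
    (hQyj : Q yj = c + δ) : yi + yj ∈ rclass Q D M c := by
  obtain ⟨a, ha⟩ : ∃ a, a = qcomp hQ hD i x := ⟨_, rfl⟩
  obtain ⟨b, hb⟩ : ∃ b, b = qcomp hQ hD j x := ⟨_, rfl⟩
  have haD : a ∈ D i := ha ▸ qcomp_mem hQ hD i x
  have hbD : b ∈ D j := hb ▸ qcomp_mem hQ hD j x
  rw [← ha] at hi hxi
  rw [← hb] at hj hxj
  obtain ⟨a', ha', ha'0, ha'a, hQa', haa'⟩ := hi
  obtain ⟨b', hb', hb'0, hb'b, hQb', hbb'⟩ := hj
  have h1 := rclass_move hQ hD hn hM hHM hk hc hx i ha' ha'0 (ha ▸ hxi) (ha ▸ hQa')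
  rw [← ha] at h1
  have hcj : qcomp hQ hD j (x - a + a') = b := by
    rw [qcomp_add, qcomp_sub, qcomp_other hQ hD hij haD, qcomp_other hQ hD hij ha', ← hb, sub_zero, add_zero]
  have h2 := rclass_move hQ hD hn hM hHM hk hc h1 j hb' hb'0 (by rw [hcj]; exact hxj) (by rw [hcj]; exact hQb')
  rw [hcj] at h2
  have hpx : pol Q (x - a + a' - b + b') x = c := by
    simp only [padd_left hQ, psub_left hQ, pself hQ, hx.1]
    rw [pcomm a x, pcomm a' x, pcomm b x, pcomm b' x, qcomp_pol hQ hD haD, qcomp_pol hQ hD ha', qcomp_pol hQ hD hbD,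
      qcomp_pol hQ hD hb', ← ha, ← hb, pself hQ, pself hQ, haa', hbb']
    ring
  have h3 := rclass_closed hQ hD hn hM hHM hc hx h2
  rw [hpx, inv_mul_cancel₀ hc, one_smul, show x - a + a' - b + b' - x = (a' - a) + (b' - b) by abel] at h3
  have hda : a' - a ∈ D i := (D i).sub_mem ha' haD
  have hdb : b' - b ∈ D j := (D j).sub_mem hb' hbD
  have hQda : Q (a' - a) = -δ := by rw [qsub hQ, hQa', pcomm a' a, haa']; ring
  have hQdb : Q (b' - b) = c + δ := by rw [qsub hQ, hQb', pcomm b' b, hbb']; ring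
  have hci : qcomp hQ hD i (a' - a + (b' - b)) = a' - a := by
    rw [qcomp_add, qcomp_self hQ hD hda, qcomp_other hQ hD hij.symm hdb, add_zero]
  have h4 := rclass_move hQ hD hn hM hHM hk hc h3 i hyi hyi0 (by rw [hci]; exact sub_ne_zero.2 ha'a)
    (by rw [hci, hQyi, hQda])
  rw [hci] at h4
  rw [add_sub_cancel_left] at h4
  have hcj' : qcomp hQ hD j (b' - b + yi) = b' - b := by
    rw [qcomp_add, qcomp_self hQ hD hdb, qcomp_other hQ hD hij hyi, add_zero]
  have h5 := rclass_move hQ hD hn hM hHM hk hc h4 j hyj hyj0 (by rw [hcj']; exact sub_ne_zero.2 hb'b)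
    (by rw [hcj', hQyj, hQdb])
  rw [hcj', add_sub_cancel_left] at h5
  exact h5

/-- a member with a nonsingular component yields every member in two components -/
theorem all_pair (hk3q : k = 3 → 5 ≤ Fintype.card F) {c : F} (hc : c ≠ 0) {x : ι → F} (hx : x ∈ rclass Q D M c)
    {i j : Fin t} (hij : i ≠ j) (hxi : Q (qcomp hQ hD i x) ≠ 0) (hxj : qcomp hQ hD j x ≠ 0)
    {yi yj : ι → F} (hyi : yi ∈ D i) (hyi0 : yi ≠ 0) (hyj : yj ∈ D j) (hyj0 : yj ≠ 0) (hsum : Q yi + Q yj = c) :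
    yi + yj ∈ rclass Q D M c := by
  classical
  have hd : ∀ l, 3 ≤ Module.finrank F (D l) := fun l => by rw [hD.decomp.finrank_eq]; exact hk
  have hnd := hD.nondegenerate
  have hxi0 : qcomp hQ hD i x ≠ 0 := fun h => hxi (by rw [h]; exact qzero hQ)
  -- splittings into two nonzero values
  have hgen : ∀ zi ∈ D i, ∀ zj ∈ D j, Q zi ≠ 0 → Q zi ≠ c → Q zj = c - Q zi → zi + zj ∈ rclass Q D M c := by
    intro zi hzi zj hzj h0 hc' hQzj
    refine two_step hQ hD hn hM hHM hk hc hx hij hxi0 hxj (δ := -Q zi)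
      (exists_shift hQ (hnd i) (hd i) (qcomp_mem hQ hD i x) hxi0 (neg_ne_zero.2 h0))
      (exists_shift hQ (hnd j) (hd j) (qcomp_mem hQ hD j x) hxj (fun h => hc' (by linear_combination h)))
      hzi (fun h => h0 (by rw [h]; exact qzero hQ)) (by ring) hzj (fun h => hc' ?_) (by rw [hQzj]; ring)
    rw [h, qzero hQ] at hQzj
    linear_combination hQzj
  -- splittings with a singular part
  have hzero : ∀ {p q : Fin t}, p ≠ q → ∀ s ∈ rclass Q D M c, Q (qcomp hQ hD p s) ≠ 0 → qcomp hQ hD q s ≠ 0 →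
      (∃ w ∈ D p, w ≠ 0 ∧ Q w = 0 ∧ pol Q w (qcomp hQ hD p s) = 0) →
      ∀ zp ∈ D p, zp ≠ 0 → Q zp = 0 → ∀ zq ∈ D q, Q zq = c → zp + zq ∈ rclass Q D M c := by
    intro p q hpq s hs hsp hsq hw zp hzp hzp0 hQzp zq hzq hQzq
    refine two_step hQ hD hn hM hHM hk hc hs hpq (fun h => hsp (by rw [h]; exact qzero hQ)) hsq (δ := 0)
      (exists_shift_zero hQ (qcomp_mem hQ hD p s) hsp hw)
      (exists_shift hQ (hnd q) (hd q) (qcomp_mem hQ hD q s) hsq (by rw [sub_zero]; exact neg_ne_zero.2 hc))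
      hzp hzp0 (by rw [neg_zero]; exact hQzp) hzq (fun h => hc (by rw [← hQzq, h, qzero hQ]))
      (by rw [add_zero]; exact hQzq)
  have hcomp : ∀ {p q : Fin t} {a b : ι → F}, p ≠ q → a ∈ D p → b ∈ D q → qcomp hQ hD p (a + b) = a := by
    intro p q a b hpq ha hb
    rw [qcomp_add, qcomp_self hQ hD ha, qcomp_other hQ hD hpq.symm hb, add_zero]
  -- sources with a singular vector orthogonal to one component
  have hsrc : (∃ s ∈ rclass Q D M c, Q (qcomp hQ hD i s) ≠ 0 ∧ qcomp hQ hD j s ≠ 0 ∧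
        ∃ w ∈ D i, w ≠ 0 ∧ Q w = 0 ∧ pol Q w (qcomp hQ hD i s) = 0) ∧
      ((∀ zi ∈ D i, zi ≠ 0 → Q zi = 0 → ∀ zj ∈ D j, Q zj = c → zi + zj ∈ rclass Q D M c) →
        ∃ s ∈ rclass Q D M c, Q (qcomp hQ hD j s) ≠ 0 ∧ qcomp hQ hD i s ≠ 0 ∧
          ∃ w ∈ D j, w ≠ 0 ∧ Q w = 0 ∧ pol Q w (qcomp hQ hD j s) = 0) := by
    by_cases hk4 : 4 ≤ k
    · refine ⟨⟨x, hx, hxi, hxj, exists_singular_perp hQ (by rw [hD.decomp.finrank_eq]; exact hk4) _⟩, fun hz => ?_⟩
      obtain ⟨e, he, he0, hQe⟩ := exists_qsingular hQ (hnd i) (hd i)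
      obtain ⟨b, hb, hb0, hQb⟩ := exists_nonzero_value hQ (hnd j) (hd j) c
      have hcj : qcomp hQ hD j (e + b) = b := by rw [add_comm]; exact hcomp hij.symm hb he
      refine ⟨e + b, hz e he he0 hQe b hb hQb, by rw [hcj, hQb]; exact hc, by rw [hcomp hij he hb]; exact he0, ?_⟩
      rw [hcj]
      exact exists_singular_perp hQ (by rw [hD.decomp.finrank_eq]; exact hk4) _
    have hq5 := hk3q (by omega)
    have key : ∀ p, ∃ v ∈ D p, Q v ≠ 0 ∧ Q v ≠ c ∧ ∃ w ∈ D p, w ≠ 0 ∧ Q w = 0 ∧ pol Q w v = 0 := by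
      intro p
      obtain ⟨e, he, he0, hQe⟩ := exists_qsingular hQ (hnd p) (hd p)
      obtain ⟨f, hf, hQf, hef⟩ := exists_qpartner hQ (hnd p) he he0 hQe
      have hdim := pair_finrank hQ he hf hQe hQf hef
      obtain ⟨v, hv, hQv⟩ := exists_nonsingular hQ (pair_nd hQ he hf hQe hQf hef (hnd p))
        (fun h => by rw [h, finrank_bot] at hdim; have := hd p; omega)
      obtain ⟨hvP, hve, -⟩ := (mem_pairPerp hQ).1 hv
      obtain ⟨s, hs0, hs⟩ : ∃ s : F, s ≠ 0 ∧ s ^ 2 * Q v ≠ c := by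
        by_contra hcon
        push Not at hcon
        have h1 := hcon 1 one_ne_zero
        have hsub : (Finset.univ : Finset F) ⊆ {0, 1, -1} := fun s _ => by
          simp only [Finset.mem_insert, Finset.mem_singleton]
          by_cases hs : s = 0
          · exact Or.inl hs
          · exact Or.inr (mul_self_eq_one_iff.1 (mul_right_cancel₀ hQv (by linear_combination hcon s hs - h1)))
        have h5 := (Finset.card_le_card hsub).trans Finset.card_le_three
        rw [Finset.card_univ] at h5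
        omega
      refine ⟨s • v, (D p).smul_mem _ hvP, by rw [qsmul hQ]; exact mul_ne_zero (pow_ne_zero 2 hs0) hQv,
        by rw [qsmul hQ]; exact hs, e, he, he0, hQe, ?_⟩
      rw [psmul_right hQ, pcomm, hve, mul_zero]
    constructor
    · obtain ⟨v, hv, hQv, hvc, hw⟩ := key i
      obtain ⟨b, hb, hb0, hQb⟩ := exists_nonzero_value hQ (hnd j) (hd j) (c - Q v)
      refine ⟨v + b, hgen v hv b hb hQv hvc hQb, by rw [hcomp hij hv hb]; exact hQv,
        by rw [add_comm, hcomp hij.symm hb hv]; exact hb0, ?_⟩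
      rw [hcomp hij hv hb]
      exact hw
    · intro _
      obtain ⟨v, hv, hQv, hvc, hw⟩ := key j
      obtain ⟨a, ha, ha0, hQa⟩ := exists_nonzero_value hQ (hnd i) (hd i) (c - Q v)
      refine ⟨a + v, hgen a ha v hv (by rw [hQa]; exact sub_ne_zero.2 (Ne.symm hvc))
        (fun h => hQv (by linear_combination hQa - h)) (by rw [hQa]; ring),
        by rw [add_comm, hcomp hij.symm hv ha]; exact hQv, by rw [hcomp hij ha hv]; exact ha0, ?_⟩
      rw [add_comm, hcomp hij.symm hv ha]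
      exact hw
  obtain ⟨⟨s, hs, hs1, hs2, hs3⟩, hsrc2⟩ := hsrc
  have hz := hzero hij s hs hs1 hs2 hs3
  by_cases h0 : Q yi = 0
  · exact hz yi hyi hyi0 h0 yj hyj (by rw [← hsum, h0, zero_add])
  by_cases hc' : Q yi = c
  · obtain ⟨s', hs', hs'1, hs'2, hs'3⟩ := hsrc2 hz
    rw [add_comm]
    exact hzero hij.symm s' hs' hs'1 hs'2 hs'3 yj hyj hyj0 (by linear_combination hsum - hc') yi hyi hc'
  exact hgen yi hyi yj hyj h0 hc' (by linear_combination hsum)

/-- the class then contains every vector of its value -/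
theorem rclass_all (hk3q : k = 3 → 5 ≤ Fintype.card F)
    (hperm : ∀ a b : Fin t, ∃ s ∈ M, ∀ l, ∀ u ∈ D l, (s : Matrix ι ι F) *ᵥ u ∈ D (Equiv.swap a b l))
    {c : F} (hc : c ≠ 0) {x : ι → F} (hx : x ∈ rclass Q D M c) (hxD : ∀ j, x ∉ D j) {v : ι → F} (hv : Q v = c) :
    v ∈ rclass Q D M c := by
  classical
  have hd : ∀ l, 3 ≤ Module.finrank F (D l) := fun l => by rw [hD.decomp.finrank_eq]; exact hk
  let E : Fin t → Fin t → Prop := fun a b => a ≠ b ∧ ∀ p ∈ D a, p ≠ 0 → ∀ q ∈ D b, q ≠ 0 → Q p + Q q = c →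
    p + q ∈ rclass Q D M c
  have hsymm : ∀ {a b}, E a b → E b a := fun {a b} h => ⟨h.1.symm, fun p hp hp0 q hq hq0 hpq => by
    rw [add_comm]; exact h.2 q hq hq0 p hp hp0 (by rw [add_comm]; exact hpq)⟩
  obtain ⟨i₀, hi₀⟩ := exists_qcomp_nonsingular hQ hD (x := x) (by rw [hx.1]; exact hc)
  obtain ⟨j₀, hj₀i, hj₀⟩ : ∃ j, j ≠ i₀ ∧ qcomp hQ hD j x ≠ 0 := by
    by_contra hcon
    push Not at hcon
    refine hxD i₀ ?_
    have : x = qcomp hQ hD i₀ x := qext_comp hQ hD fun l => by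
      rcases eq_or_ne l i₀ with rfl | hl
      · rw [qcomp_self hQ hD (qcomp_mem hQ hD l x)]
      · rw [hcon l hl, qcomp_other hQ hD hl.symm (qcomp_mem hQ hD i₀ x)]
    rw [this]
    exact qcomp_mem hQ hD i₀ x
  have h00 : E i₀ j₀ := ⟨hj₀i.symm, fun p hp hp0 q hq hq0 hpq =>
    all_pair hQ hD hn hM hHM hk hk3q hc hx hj₀i.symm hi₀ hj₀ hp hp0 hq hq0 hpq⟩
  have hmove : ∀ {a b}, E a b → ∀ a' b', E (Equiv.swap a' b' a) (Equiv.swap a' b' b) := by
    intro a b hab a' b'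
    obtain ⟨s, hs, hsD⟩ := hperm a' b'
    refine ⟨fun h => hab.1 ((Equiv.swap a' b').injective h), fun p hp hp0 q hq hq0 hpq => ?_⟩
    rw [← qmap_eq hQ hD (hsD a)] at hp
    rw [← qmap_eq hQ hD (hsD b)] at hq
    obtain ⟨p', hp', rfl⟩ := hp
    obtain ⟨q', hq', rfl⟩ := hq
    rw [Matrix.toLin'_apply, Matrix.toLin'_apply] at hpq ⊢
    rw [Matrix.toLin'_apply] at hp0 hq0
    rw [← mulVec_add]
    obtain ⟨w, hw, hw0, hQw⟩ := exists_nonzero_value hQ (hD.nondegenerate a) (hd a) c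
    refine rclass_conj hQ hD hn hM hHM hc hs hw hQw
      (comp_mem_rclass hQ hD hn hM hHM (hsD a w hw) hc (by rw [mem_iso.1 (hM hs), hQw])) (hab.2 p' hp'
        (fun h => hp0 (by rw [h, mulVec_zero])) q' hq' (fun h => hq0 (by rw [h, mulVec_zero])) ?_)
    rwa [mem_iso.1 (hM hs), mem_iso.1 (hM hs)] at hpq
  have hall : ∀ a b, a ≠ b → E a b := by
    intro a b hab
    have h1 := hmove h00 i₀ a
    rw [Equiv.swap_apply_left] at h1
    have h2 := hmove h1 (Equiv.swap i₀ a j₀) b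
    rw [Equiv.swap_apply_left, Equiv.swap_apply_of_ne_of_ne h1.1 hab] at h2
    exact h2
  -- induction on the support
  suffices h : ∀ (m : ℕ) (z : ι → F), Q z = c → (Finset.univ.filter fun l => qcomp hQ hD l z ≠ 0).card ≤ m →
      z ∈ rclass Q D M c by exact h _ v hv le_rfl
  intro m
  induction m with
  | zero =>
    intro z hz hcard
    exfalso
    obtain ⟨i, hi⟩ := exists_qcomp_ne hQ hD (x := z) (fun h => hc (by rw [← hz, h, qzero hQ]))
    have hne : (Finset.univ.filter fun l => qcomp hQ hD l z ≠ 0).Nonempty :=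
      ⟨i, Finset.mem_filter.2 ⟨Finset.mem_univ i, hi⟩⟩
    have := Finset.card_pos.2 hne
    omega
  | succ m ih =>
    intro z hz hcard
    obtain ⟨j, hj⟩ := exists_qcomp_nonsingular hQ hD (x := z) (by rw [hz]; exact hc)
    have hj0 : qcomp hQ hD j z ≠ 0 := fun h => hj (by rw [h]; exact qzero hQ)
    by_cases h1 : ∀ l, l ≠ j → qcomp hQ hD l z = 0
    · have he : z = qcomp hQ hD j z := qext_comp hQ hD fun l => by
        rcases eq_or_ne l j with rfl | hl
        · rw [qcomp_self hQ hD (qcomp_mem hQ hD l z)]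
        · rw [h1 l hl, qcomp_other hQ hD hl.symm (qcomp_mem hQ hD j z)]
      have hzD : z ∈ D j := by rw [he]; exact qcomp_mem hQ hD j z
      exact comp_mem_rclass hQ hD hn hM hHM hzD hc hz
    push Not at h1
    obtain ⟨i, hij, hi⟩ := h1
    by_cases h2 : ∀ l, l ≠ i → l ≠ j → qcomp hQ hD l z = 0
    · have he : z = qcomp hQ hD i z + qcomp hQ hD j z := qext_comp hQ hD fun l => by
        rw [qcomp_add]
        rcases eq_or_ne l i with rfl | hli
        · rw [qcomp_self hQ hD (qcomp_mem hQ hD l z), qcomp_other hQ hD hij.symm (qcomp_mem hQ hD j z), add_zero]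
        rcases eq_or_ne l j with rfl | hlj
        · rw [qcomp_self hQ hD (qcomp_mem hQ hD l z), qcomp_other hQ hD hij (qcomp_mem hQ hD i z), zero_add]
        rw [h2 l hli hlj, qcomp_other hQ hD hli.symm (qcomp_mem hQ hD i z),
          qcomp_other hQ hD hlj.symm (qcomp_mem hQ hD j z), add_zero]
      rw [he]
      refine (hall i j hij).2 _ (qcomp_mem hQ hD i z) hi _ (qcomp_mem hQ hD j z) hj0 ?_
      have := congrArg Q he
      rw [hz, qadd hQ, hD.orthogonal i j hij _ (qcomp_mem hQ hD i z) _ (qcomp_mem hQ hD j z), add_zero] at this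
      exact this.symm
    obtain ⟨p, hp⟩ : ∃ p, p = qcomp hQ hD i z := ⟨_, rfl⟩
    obtain ⟨q, hq, hQq, hzq⟩ := exists_prescribed hQ (hD.nondegenerate j) (hd j) (qcomp_mem hQ hD j z) hj0
      (c - Q p) (c - 2 * Q p) (Or.inl hj)
    have hpD : p ∈ D i := hp ▸ qcomp_mem hQ hD i z
    have hq0 : q ≠ 0 := fun h => by
      rw [h, qzero hQ] at hQq
      rw [h, pzero_right hQ] at hzq
      exact hc (by linear_combination hzq - 2 * hQq)
    obtain ⟨w, hw⟩ : ∃ w, w = p + q := ⟨_, rfl⟩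
    have hwC : w ∈ rclass Q D M c :=
      hw ▸ (hall i j hij).2 p hpD (hp ▸ hi) q hq hq0 (by rw [hQq]; ring)
    have hzw : pol Q z w = c := by
      rw [hw, padd_right hQ, qcomp_pol hQ hD hpD, qcomp_pol hQ hD hq, ← hp, pself hQ, hzq]
      ring
    have hcomp' : ∀ l, qcomp hQ hD l (z - w) =
        if l = i then 0 else if l = j then qcomp hQ hD j z - q else qcomp hQ hD l z := fun l => by
      rw [qcomp_sub, hw, qcomp_add]
      split_ifs with h3 h4
      · subst h3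
        rw [qcomp_self hQ hD hpD, qcomp_other hQ hD hij.symm hq, add_zero, hp, sub_self]
      · subst h4
        rw [qcomp_other hQ hD hij hpD, qcomp_self hQ hD hq, zero_add]
      · rw [qcomp_other hQ hD (Ne.symm h3) hpD, qcomp_other hQ hD (Ne.symm h4) hq, add_zero, sub_zero]
    have hrec : z - w ∈ rclass Q D M c := by
      refine ih _ (by rw [qsub hQ, hz, hwC.1, hzw]; ring) ?_
      have hlt : (Finset.univ.filter fun l => qcomp hQ hD l (z - w) ≠ 0).card <
          (Finset.univ.filter fun l => qcomp hQ hD l z ≠ 0).card := by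
        refine Finset.card_lt_card (Finset.ssubset_iff_of_subset (fun l hl => ?_) |>.2 ⟨i, ?_, ?_⟩)
        · rw [Finset.mem_filter] at hl ⊢
          refine ⟨hl.1, fun h => hl.2 ?_⟩
          rw [hcomp']
          split_ifs with h3 h4
          · rfl
          · subst h4; exact absurd h hj0
          · exact h
        · exact Finset.mem_filter.2 ⟨Finset.mem_univ i, hi⟩
        · rw [Finset.mem_filter]
          exact fun h => h.2 (by rw [hcomp', if_pos rfl])
      omega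
    have h3 := rclass_closed hQ hD hn hM hHM hc hwC hrec
    have h4 : c⁻¹ * pol Q (z - w) w = -1 := by
      rw [psub_left hQ, pself hQ, hzw, hwC.1, show c - 2 * c = -c by ring, mul_neg, inv_mul_cancel₀ hc]
    rw [h4, neg_one_smul, sub_neg_eq_add, sub_add_cancel] at h3
    exact h3

end CfsgLib.Perm.Trans.Quad
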