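import Cfsg.Agent.Lib.Perm.Trans.QuadNondegCases
import Cfsg.Agent.Lib.Perm.Asch.OE.Types2

/-!
# Stabilisers of nondegenerate subspaces in dimension eight

The halves of dimension four: one of plus and one of minus type.
-/

set_option autoImplicit false
set_option linter.all false

namespace CfsgLib.Perm.Trans.Quad

open scoped Matrix
open Matrix Cfsg.Geo CfsgLib.Perm.Asch CfsgLib.Perm.Trans CfsgLib.Perm.Asch.OE

variable {ι : Type} [Fintype ι] [DecidableEq ι] {F : Type*} [Field F] [Fintype F]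
variable {Q : (ι → F) → F}

local notation "pol" => QuadraticMap.polar

variable (hQ : IsNondegenerateQuadraticForm Q)
include hQ

/-- one mixed Eichler transformation gives a pair of centres, the other half of dimension at least four -/
theorem nd_pair_of_mixed_four (hn : 5 ≤ Fintype.card ι) {W : Submodule F (ι → F)} (hW : NdOn Q W)
    (hP4 : 4 ≤ Module.finrank F (qperp hQ W))
    (hirr : Module.finrank F W = 2 → (∃ e ∈ W, e ≠ 0 ∧ Q e = 0) → 4 ≤ Fintype.card F) {M : Subgroup (GL ι F)}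
    (hHM : subspaceStabilizer W ⊓ omegaGL Q ≤ M) (hM : M ≤ Cfsg.isometryGroup F Q) {u : ι → F}
    (hu : u ∈ qperp hQ W) (hu0 : u ≠ 0) (hQu : Q u = 0) {a : ι → F} (hua : pol Q u a = 0) (haP : a ∉ qperp hQ W)
    (hE : EIn Q M u a) : ∃ e ∈ eCentres Q M, ∃ f ∈ eCentres Q M, pol Q e f ≠ 0 := by
  have hPnd := qperp_nd hQ hW
  obtain ⟨u', hu', hQu', huu'⟩ := exists_qpartner hQ hPnd hu hu0 hQu
  obtain ⟨R, hR⟩ : ∃ R, R = pairPerp hQ (qperp hQ W) u u' := ⟨_, rfl⟩
  have hRnd : NdOn Q R := hR ▸ pair_nd hQ hu hu' hQu hQu' huu' hPnd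
  have hRd : 2 ≤ Module.finrank F R := by
    have := pair_finrank hQ hu hu' hQu hQu' huu'
    rw [← hR] at this
    omega
  have hWR : ∀ x ∈ W, x ∈ qperp hQ R := fun x hx r hr => by
    rw [hR] at hr
    rw [pcomm]
    exact ((mem_pairPerp hQ).1 hr).1 x hx
  have huR : u ∈ qperp hQ R := fun r hr => by
    rw [hR] at hr
    rw [pcomm]
    exact ((mem_pairPerp hQ).1 hr).2.1
  -- elements of `M` acting like a given isometry on `W` and `u`
  have hlift : ∀ h ∈ Cfsg.isometryGroup F Q, (∀ x ∈ W, (h : Matrix ι ι F) *ᵥ x ∈ W) →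
      ∃ s ∈ M, ((s : Matrix ι ι F) *ᵥ u = (h : Matrix ι ι F) *ᵥ u) ∧
        ∀ x ∈ W, (s : Matrix ι ι F) *ᵥ x = (h : Matrix ι ι F) *ᵥ x := fun h hh hhW => by
    obtain ⟨s, hs, hsh⟩ := exists_omega_agree hQ hn hRnd hRd hh
    exact ⟨s, hHM ⟨mem_stab_of_maps fun x hx => by rw [hsh x (hWR x hx)]; exact hhW x hx, hs⟩,
      hsh u huR, fun x hx => hsh x (hWR x hx)⟩
  have hPE : ∀ p ∈ qperp hQ W, pol Q u p = 0 → EIn Q M u p := fun p hp hup => by
    obtain ⟨g, hg, hgE⟩ := ein_omega hQ hn hQu hup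
    refine ⟨g, hHM ⟨mem_stab_of_maps fun x hx => ?_, hg⟩, hgE⟩
    rw [hgE, pcomm x u, hu x hx, pcomm x p, hp x hx]
    simpa using hx
  -- scaling
  have hscale : ∀ w ∈ W, EIn Q M u w → ∀ c : F, EIn Q M u (c • w) := by
    intro w hw hEw c
    rcases eq_or_ne c 0 with rfl | hc
    · have := EIn.smul_self hQ M hQu 0
      rw [zero_smul] at this
      rwa [zero_smul]
    have h1 : Q (u - u') ≠ 0 := by rw [qsub hQ, hQu, hQu', huu']; simp
    have h2 : Q (u' - c • u) ≠ 0 := by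
      rw [qsub hQ, qsmul hQ, hQu, hQu', psmul_right hQ, pcomm u' u, huu']
      simpa using hc
    obtain ⟨r₁, hr₁, hr₁E⟩ := exists_refl hQ h1
    obtain ⟨r₂, hr₂, hr₂E⟩ := exists_refl hQ h2
    have hfix : ∀ x ∈ W, ((r₂ * r₁ : GL ι F) : Matrix ι ι F) *ᵥ x = x := fun x hx => by
      have e1 : pol Q x u = 0 := by rw [pcomm]; exact hu x hx
      have e2 : pol Q x u' = 0 := by rw [pcomm]; exact hu' x hx
      rw [gl_mul_mulVec, refl_fix hQ hr₁E (by rw [psub_right hQ, e1, e2, sub_zero]),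
        refl_fix hQ hr₂E (by rw [psub_right hQ, psmul_right hQ, e1, e2, mul_zero, sub_zero])]
    obtain ⟨s, hs, hsu, hsW⟩ := hlift _ (mul_mem hr₂ hr₁) fun x hx => by rw [hfix x hx]; exact hx
    have hsu' : (s : Matrix ι ι F) *ᵥ u = c • u := by
      rw [hsu, gl_mul_mulVec, refl_moves hQ (hQu.trans hQu'.symm) h1 hr₁E,
        refl_moves hQ (by rw [qsmul hQ, hQu, hQu', mul_zero]) h2 hr₂E]
    obtain ⟨g, hg, hgE⟩ := EIn.conj hEw (hM hs) hs
    rw [hsu', hsW w hw, hfix w hw] at hgE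
    obtain ⟨k, -, hkE⟩ := exists_E hQ hQu (a := c • w) (by rw [psmul_right hQ, hu w hw, mul_zero])
    exact ⟨k, (hgE.unique (hkE.smul hQ)) ▸ hg, hkE⟩
  let S : Submodule F (ι → F) :=
    { carrier := {w | w ∈ W ∧ ∀ c : F, EIn Q M u (c • w)}
      zero_mem' := ⟨W.zero_mem, fun c => by
        rw [smul_zero]
        have := EIn.smul_self hQ M hQu 0
        rwa [zero_smul] at this⟩
      add_mem' := fun {p p'} hp hp' => ⟨W.add_mem hp.1 hp'.1, fun c => by
        rw [smul_add]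
        exact EIn.add hQ hQu (by rw [psmul_right hQ, hu p hp.1, mul_zero])
          (by rw [psmul_right hQ, hu p' hp'.1, mul_zero]) (hp.2 c) (hp'.2 c)⟩
      smul_mem' := fun c p hp => ⟨W.smul_mem c hp.1, fun d => by rw [smul_smul]; exact hp.2 _⟩ }
  obtain ⟨w, hw, haw⟩ := qperp_decomp hQ hW a
  have hwS : w ∈ S := by
    refine ⟨hw, hscale w hw ?_⟩
    have h1 : pol Q u (-(a - w)) = 0 := by rw [pneg_right hQ, psub_right hQ, hua, hu w hw, sub_zero, neg_zero]
    have h2 := EIn.add hQ hQu hua h1 hE (hPE _ ((qperp hQ W).neg_mem haw) h1)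
    rwa [show a + -(a - w) = w by abel] at h2
  have hw0 : w ≠ 0 := fun h => haP (by rwa [h, sub_zero] at haw)
  obtain ⟨B, hBQ, hB⟩ := exists_bundled hQ
  subst hBQ
  have hWS : W ≤ S := by
    refine closed_value_eq hQ hW (fun x hx => hx.1) (fun h => hw0 ((Submodule.eq_bot_iff S).1 h w hwS))
      (fun x hx hx0 y hy hy0 hyx => ?_) hirr
    have hnP : ∀ z ∈ W, z ≠ 0 → z ∉ qperp hQ W := fun z hz hz0 h => by
      obtain ⟨t, ht, hzt⟩ := (hW z hz hz0).2
      exact hzt (h t ht)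
    obtain ⟨g, hgi, hgP, hgx⟩ := Witt.exists_step (Q := B) hB (W := qperp hQ W) (hnP x hx.1 hx0) (hnP y hy hy0) hyx
      (fun p hp => by rw [pcomm y p, hp y hy, pcomm x p, hp x hx.1])
    obtain ⟨k, hk, hkg⟩ := exists_iso_of_equiv (Q := ⇑B) g hgi
    obtain ⟨s, hs, hsu, hsW⟩ := hlift k hk fun z hz => by
      rw [← qperp_qperp hQ hW]
      intro p hp
      conv_lhs => rw [← hgP p hp, ← hkg, iso_pol hk, pcomm]
      exact hp z hz
    refine ⟨hy, hscale y hy ?_⟩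
    have h1 := EIn.conj (hx.2 1) (hM hs) hs
    rw [one_smul, hsu, hkg, hgP u hu, hsW x hx.1, hkg, hgx] at h1
    exact h1
  have huC : u ∈ eCentres (⇑B) M := by
    refine ⟨hQu, fun b hub => ?_⟩
    obtain ⟨v, hv, hbv⟩ := qperp_decomp hQ hW b
    have h1 := (hWS hv).2 1
    rw [one_smul] at h1
    have h2 := EIn.add hQ hQu (hu v hv) (by rw [psub_right hQ, hub, hu v hv, sub_zero]) h1
      (hPE _ hbv (by rw [psub_right hQ, hub, hu v hv, sub_zero]))
    rwa [add_sub_cancel] at h2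
  have h1 : B (u - u') ≠ 0 := by rw [qsub hQ, hQu, hQu', huu']; simp
  obtain ⟨r, hr, hrE⟩ := exists_refl hQ h1
  obtain ⟨s, hs, hsu, -⟩ := hlift r hr fun x hx => by
    rw [refl_fix hQ hrE (by rw [psub_right hQ, pcomm x u, hu x hx, pcomm x u', hu' x hx, sub_zero])]
    exact hx
  refine ⟨u, huC, _, eCentres_conj hM hs huC, ?_⟩
  rw [hsu, refl_moves hQ (hQu.trans hQu'.symm) h1 hrE, huu']
  exact one_ne_zero


omit [Fintype F] in
/-- two functionals, dependent on a subspace, cut out a hyperplane at most -/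
theorem inf_ker_of_dependent (U : Submodule F (ι → F)) {a b : ι → F} {α β : F} (h0 : α ≠ 0 ∨ β ≠ 0)
    (h : ∀ y ∈ U, α * pol Q y b + β * pol Q y a = 0) :
    Module.finrank F U ≤ Module.finrank F ↥(U ⊓ LinearMap.ker (pfl hQ a) ⊓ LinearMap.ker (pfl hQ b)) + 1 := by
  by_cases hα : α = 0
  · have hβ := h0.resolve_left (not_not.2 hα)
    have hle : U ≤ U ⊓ LinearMap.ker (pfl hQ a) := fun y hy => ⟨hy, by
      show pol Q y a = 0
      have := h y hy
      rw [hα, zero_mul, zero_add, mul_eq_zero] at this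
      exact this.resolve_left hβ⟩
    have h1 := finrank_inf_pfl hQ (U ⊓ LinearMap.ker (pfl hQ a)) b
    have h2 := Submodule.finrank_mono hle
    omega
  · have hle : U ⊓ LinearMap.ker (pfl hQ a) ≤ U ⊓ LinearMap.ker (pfl hQ a) ⊓ LinearMap.ker (pfl hQ b) :=
      fun y hy => ⟨hy, by
        show pol Q y b = 0
        have := h y hy.1
        rw [show pol Q y a = 0 from hy.2, mul_zero, add_zero, mul_eq_zero] at this
        exact this.resolve_left hα⟩
    have h1 := finrank_inf_pfl hQ U a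
    have h2 := Submodule.finrank_mono hle
    omega

omit [Fintype F] in
/-- in a four-space of plus type each hyperbolic pair has singular vectors in its perp -/
theorem pair_perp_singular_four {P : Submodule F (ι → F)} (hd : Module.finrank F P = 4) (hp : IsPlusTypeOn Q P)
    {u u' : ι → F} (hu : u ∈ P) (hu' : u' ∈ P) (hQu : Q u = 0) (hQu' : Q u' = 0) (huu' : pol Q u u' = 1) :
    ∃ v ∈ pairPerp hQ P u u', v ≠ 0 ∧ Q v = 0 := by
  obtain ⟨U, hUP, hU, hUd⟩ := hp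
  obtain ⟨z, hz, hzu, hzsp⟩ : ∃ z ∈ U, pol Q z u = 0 ∧ z ∉ Submodule.span F {u} := by
    by_contra hcon
    push Not at hcon
    have hu0 : u ≠ 0 := fun h => by rw [h, pzero_left hQ] at huu'; exact zero_ne_one huu'
    have h1 := finrank_inf_pfl hQ U u
    have h2 : U ⊓ LinearMap.ker (pfl hQ u) ≤ Submodule.span F {u} := fun z hz => hcon z hz.1 hz.2
    have h3 := Submodule.finrank_mono h2
    rw [finrank_span_singleton hu0] at h3
    have h4 : U ⊓ LinearMap.ker (pfl hQ u) = Submodule.span F {u} :=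
      Submodule.eq_of_le_of_finrank_le h2 (by rw [finrank_span_singleton hu0]; omega)
    have huU : u ∈ U := (h4.symm ▸ Submodule.mem_span_singleton_self u : u ∈ U ⊓ LinearMap.ker (pfl hQ u)).1
    have h5 : U ≤ U ⊓ LinearMap.ker (pfl hQ u) := fun z hz => ⟨hz, pol_zero_of_singular hQ hU hz huU⟩
    have h6 := Submodule.finrank_mono (h5.trans h2)
    rw [finrank_span_singleton hu0] at h6
    omega
  refine ⟨z - pol Q z u' • u, (mem_pairPerp hQ).2 ⟨P.sub_mem (hUP hz) (P.smul_mem _ hu), ?_, ?_⟩, fun h => hzsp ?_, ?_⟩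
  · rw [psub_left hQ, psmul_left hQ, pself hQ, hQu, hzu]; ring
  · rw [psub_left hQ, psmul_left hQ, huu']; ring
  · rw [sub_eq_zero.1 h]
    exact Submodule.smul_mem _ _ (Submodule.mem_span_singleton_self u)
  · rw [qsub hQ, qsmul hQ, hQu, hU z hz, psmul_right hQ, hzu]; ring

/-- stabilisers of nondegenerate subspaces of unequal halves -/
theorem nd_subspace_maximal_unequal (hn : 8 ≤ Fintype.card ι) {W : Submodule F (ι → F)} (hW0 : W ≠ ⊥) (hW1 : W ≠ ⊤)
    (hW : NdOn Q W) (hne : 2 * Module.finrank F W ≠ Fintype.card ι)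
    (hex : ∀ U, U = W ∨ U = qperp hQ W → Module.finrank F U = 2 → IsPlusTypeOn Q U → 4 ≤ Fintype.card F) :
    IsMaximalIn (omegaGL Q) (subspaceStabilizer W ⊓ omegaGL Q) := by
  have hsum := finrank_qperp_add hQ W
  have hPnd := qperp_nd hQ hW
  have hdimle : ∀ {A B : Submodule F (ι → F)} {g : GL ι F}, (∀ x ∈ A, (g : Matrix ι ι F) *ᵥ x ∈ B) →
      Module.finrank F A ≤ Module.finrank F B := by
    intro A B g h
    refine LinearMap.finrank_le_finrank_of_injective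
      (f := LinearMap.codRestrict B ((Matrix.mulVecLin (g : Matrix ι ι F)).comp A.subtype) fun x => h x x.2)
      fun x y hxy => ?_
    have h1 : (g : Matrix ι ι F) *ᵥ (x : ι → F) = (g : Matrix ι ι F) *ᵥ (y : ι → F) := congrArg Subtype.val hxy
    have h2 := congrArg (fun z => ((g⁻¹ : GL ι F) : Matrix ι ι F) *ᵥ z) h1
    simp only [gl_inv_mulVec] at h2
    exact Subtype.ext h2
  rcases le_or_gt (Module.finrank F W) (Module.finrank F (qperp hQ W)) with hle | hlt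
  · refine nd_subspace_maximal hQ (by omega) hW0 hW (by omega) (fun g hg h => ?_)
      fun h2 he => hex W (Or.inl rfl) h2 ((plane_plus_iff hQ h2).2 he)
    have := hdimle h
    omega
  · have hP0 : qperp hQ W ≠ ⊥ := fun h => hW1 (by
      rw [h, finrank_bot, zero_add] at hsum
      exact Submodule.eq_top_of_finrank_eq (by rw [Module.finrank_fintype_fun_eq_card]; omega))
    have hqq := qperp_qperp hQ hW
    have heq : subspaceStabilizer W ⊓ omegaGL Q = subspaceStabilizer (qperp hQ W) ⊓ omegaGL Q := by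
      refine le_antisymm (fun g hg => ⟨stab_qperp hQ hW (omegaGL_le_iso hg.2) hg.1, hg.2⟩) fun g hg => ⟨?_, hg.2⟩
      have := stab_qperp hQ hPnd (omegaGL_le_iso hg.2) hg.1
      rwa [hqq] at this
    rw [heq]
    refine nd_subspace_maximal hQ (by omega) hP0 hPnd (by rw [hqq]; omega) (fun g hg h => ?_)
      fun h2 he => hex _ (Or.inr rfl) h2 ((plane_plus_iff hQ h2).2 he)
    rw [hqq] at h
    have := hdimle h
    omega

/-- a totally singular line whose perps in both four-space halves are anisotropic does not exist in minus type -/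
theorem exists_singular_perp_line (hn : Fintype.card ι = 8) (hminus : ¬ IsPlusTypeOn Q ⊤) {W : Submodule F (ι → F)}
    (hW : NdOn Q W) (hd : Module.finrank F W = 4) {a b : ι → F} (hli : LinearIndependent F ![a, b]) (hQa : Q a = 0)
    (hQb : Q b = 0) (hab : pol Q a b = 0)
    (hD : ∀ v ∈ qperp hQ W ⊓ LinearMap.ker (pfl hQ a) ⊓ LinearMap.ker (pfl hQ b), Q v = 0 → v = 0) :
    ∃ w ∈ W ⊓ LinearMap.ker (pfl hQ a) ⊓ LinearMap.ker (pfl hQ b), w ≠ 0 ∧ Q w = 0 := by
  by_contra hcon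
  push Not at hcon
  have hsum := finrank_qperp_add hQ W
  have hsmall : ∀ D : Submodule F (ι → F), (∀ v ∈ D, Q v = 0 → v = 0) → Module.finrank F D ≤ 2 := fun D h => by
    by_contra h3
    obtain ⟨v, hv, hv0, hQv⟩ := exists_singular_mem hQ D (by omega)
    exact hv0 (h v hv hQv)
  have hX : ∀ x ∈ W ⊓ LinearMap.ker (pfl hQ a) ⊓ LinearMap.ker (pfl hQ b), Q x = 0 → x = 0 := fun x hx hQx => by
    by_contra hx0
    exact hcon x hx hx0 hQx
  obtain ⟨D, hDdef⟩ : ∃ D, D = qperp hQ W ⊓ LinearMap.ker (pfl hQ a) ⊓ LinearMap.ker (pfl hQ b) := ⟨_, rfl⟩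
  obtain ⟨X, hXdef⟩ : ∃ X, X = W ⊓ LinearMap.ker (pfl hQ a) ⊓ LinearMap.ker (pfl hQ b) := ⟨_, rfl⟩
  rw [← hDdef] at hD
  rw [← hXdef] at hX
  have htwo : ∀ U : Submodule F (ι → F), Module.finrank F U = 4 →
      2 ≤ Module.finrank F ↥(U ⊓ LinearMap.ker (pfl hQ a) ⊓ LinearMap.ker (pfl hQ b)) := fun U hU => by
    have h1 := finrank_inf_pfl hQ U a
    have h2 := finrank_inf_pfl hQ (U ⊓ LinearMap.ker (pfl hQ a)) b
    omega
  have hd1 : Module.finrank F D = 2 := le_antisymm (hsmall D hD) (hDdef ▸ htwo _ (by omega))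
  have hd2 : Module.finrank F X = 2 := le_antisymm (hsmall X hX) (hXdef ▸ htwo _ hd)
  have hm : ∀ U : Submodule F (ι → F), Module.finrank F U = 2 → (∀ v ∈ U, Q v = 0 → v = 0) → ¬ IsPlusTypeOn Q U :=
    fun U hU h hp => by
      obtain ⟨x, hx, hx0, hQx⟩ := (plane_plus_iff hQ hU).1 hp
      exact hx0 (h x hx hQx)
  have hDnd := nd_of_aniso_two hQ hd1 hD
  have hXnd := nd_of_aniso_two hQ hd2 hX
  have ho : AreOrthogonalFor (pol Q) D X := fun x hx y hy => by
    rw [hDdef] at hx; rw [hXdef] at hy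
    exact hx.1.1 y hy.1.1
  have hEp : IsPlusTypeOn Q (D ⊔ X) := (plus_sup_even hQ hDnd hXnd ho (by rw [hd1]; decide) (by rw [hd2]; decide)).2
    (iff_of_false (hm D hd1 hD) (hm X hd2 hX))
  have hEd : Module.finrank F ↥(D ⊔ X) = 4 := by
    rw [finrank_sup_disjoint hQ (orth_disjoint hQ hDnd ho), hd1, hd2]
  have hEnd := nd_sup hQ hDnd hXnd ho
  have hsum' := finrank_qperp_add hQ (D ⊔ X)
  refine hminus ((halves_even hQ hEnd (by rw [hEd]; decide) (by rw [hn]; decide)).2 (iff_of_true hEp ?_))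
  refine ⟨Submodule.span F {a, b}, Submodule.span_le.2 ?_, ?_, ?_⟩
  · have hboth : ∀ c, (∀ z ∈ D, pol Q z c = 0) → (∀ z ∈ X, pol Q z c = 0) → c ∈ qperp hQ (D ⊔ X) :=
      fun c h1 h2 z hz => by
        obtain ⟨x, hx, y, hy, rfl⟩ := Submodule.mem_sup.1 hz
        rw [pcomm, padd_left hQ, h1 x hx, h2 y hy, add_zero]
    rintro c (rfl | rfl)
    · exact hboth _ (fun z hz => by rw [hDdef] at hz; exact hz.1.2) fun z hz => by rw [hXdef] at hz; exact hz.1.2
    · exact hboth _ (fun z hz => by rw [hDdef] at hz; exact hz.2) fun z hz => by rw [hXdef] at hz; exact hz.2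
  · intro z hz
    obtain ⟨s, t, rfl⟩ := Submodule.mem_span_pair.1 hz
    rw [qadd hQ, qsmul hQ, qsmul hQ, psmul_left hQ, psmul_right hQ, hQa, hQb, hab]
    ring
  · rw [← Matrix.range_cons_cons_empty a b ![], finrank_span_eq_card hli, Fintype.card_fin]
    omega

/-- stabilisers of four-spaces of minus type in minus type of dimension eight -/
theorem nd_four_core (hn : Fintype.card ι = 8) (hminus : ¬ IsPlusTypeOn Q ⊤) {W : Submodule F (ι → F)}
    (hW : NdOn Q W) (hd : Module.finrank F W = 4) (hWm : ¬ IsPlusTypeOn Q W) (hPp : IsPlusTypeOn Q (qperp hQ W)) :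
    IsMaximalIn (omegaGL Q) (subspaceStabilizer W ⊓ omegaGL Q) := by
  have hPnd := qperp_nd hQ hW
  have hsum := finrank_qperp_add hQ W
  have hPd : Module.finrank F (qperp hQ W) = 4 := by omega
  have hn5 : 5 ≤ Fintype.card ι := by omega
  refine isMaximalIn_of_pair hQ hn5 (fun hle => ?_) fun M hHM hM hMH => ?_
  · obtain ⟨w, hw, hw0⟩ := Submodule.exists_mem_ne_zero_of_ne_bot (p := W) fun h => by
      rw [h, finrank_bot] at hd; omega
    obtain ⟨u, hu, hu0, hQu⟩ := exists_qsingular hQ hPnd (by omega)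
    obtain ⟨w', hw', hww'⟩ := (hW w hw hw0).2
    obtain ⟨g, hg, hgE⟩ := ein_omega hQ hn5 hQu (hu w hw)
    have h1 : (g : Matrix ι ι F) *ᵥ w' ∈ W := (mem_subspaceStabilizer_iff.1 (hle hg) w').1 hw'
    rw [hgE, pcomm w' u, hu w' hw', zero_smul, add_zero, mul_zero, zero_smul, sub_zero, W.sub_mem_iff_right hw',
      W.smul_mem_iff (by rwa [pcomm])] at h1
    obtain ⟨t, ht, hut⟩ := (hW u h1 hu0).2
    exact hut (hu t ht)
  have hMi : M ≤ Cfsg.isometryGroup F Q := hM.trans omegaGL_le_iso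
  have hqq := qperp_qperp hQ hW
  -- mixed transformations from a singular vector of `W`
  have hfromW : ∀ k ∈ M, ∀ w ∈ W, w ≠ 0 → Q w = 0 → (k : Matrix ι ι F) *ᵥ w ∈ W → ∀ p ∈ W, pol Q w p = 0 →
      (k : Matrix ι ι F) *ᵥ p ∉ W → ∃ e ∈ eCentres Q M, ∃ f ∈ eCentres Q M, pol Q e f ≠ 0 := by
    intro k hk w hw hw0 hQw hkw p hp hwp hkp
    have hHM' : subspaceStabilizer (qperp hQ W) ⊓ omegaGL Q ≤ M := fun g hg => hHM ⟨by
      have := stab_qperp hQ hPnd (omegaGL_le_iso hg.2) hg.1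
      rwa [hqq] at this, hg.2⟩
    have hwW : (k : Matrix ι ι F) *ᵥ w ∈ qperp hQ (qperp hQ W) := by rwa [hqq]
    refine nd_pair_of_mixed_four hQ hn5 hPnd (by rw [hqq]; omega) (fun h => by omega) hHM' hMi hwW
      (fun h => hw0 (gl_mulVec_eq_zero.1 h))
      ((mem_iso.1 (hMi hk) w).trans hQw) (a := (k : Matrix ι ι F) *ᵥ p) (by rw [iso_pol (hMi hk), hwp])
      (by rwa [hqq]) ?_
    obtain ⟨e, he, heE⟩ := ein_omega hQ hn5 hQw hwp
    exact EIn.conj ⟨e, hHM ⟨mem_stab_of_maps fun x hx => by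
      rw [heE]
      exact W.sub_mem (W.sub_mem (W.add_mem hx (W.smul_mem _ hp)) (W.smul_mem _ hw)) (W.smul_mem _ hw), he⟩, heE⟩
      (hMi hk) hk
  -- mixed transformations from a singular vector of the orthogonal
  have hfromP : ∀ g ∈ M, g ∉ subspaceStabilizer W → ∀ u₀ ∈ qperp hQ W, u₀ ≠ 0 → Q u₀ = 0 →
      (g : Matrix ι ι F) *ᵥ u₀ ∈ qperp hQ W → ∃ e ∈ eCentres Q M, ∃ f ∈ eCentres Q M, pol Q e f ≠ 0 := by
    intro g hg hgW u₀ hu₀ hu₀0 hQu₀ hgu₀
    have hmove : ∃ x ∈ qperp hQ W, (g : Matrix ι ι F) *ᵥ x ∉ qperp hQ W := by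
      by_contra hcon
      push Not at hcon
      refine hgW ?_
      have := stab_qperp hQ hPnd (hMi hg) (mem_stab_of_maps hcon)
      rwa [hqq] at this
    obtain ⟨u₁, hu₁, hu₁0, hQu₁, hgu₁, p, hp, hup, hgp⟩ : ∃ u₁ ∈ qperp hQ W, u₁ ≠ 0 ∧ Q u₁ = 0 ∧
        (g : Matrix ι ι F) *ᵥ u₁ ∈ qperp hQ W ∧ ∃ p ∈ qperp hQ W, pol Q u₁ p = 0 ∧
          (g : Matrix ι ι F) *ᵥ p ∉ qperp hQ W := by
      by_contra hcon
      push Not at hcon
      obtain ⟨u', hu', hQu', huu'⟩ := exists_qpartner hQ hPnd hu₀ hu₀0 hQu₀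
      obtain ⟨v, hv, hv0, hQv⟩ := pair_perp_singular_four hQ hPd hPp hu₀ hu' hQu₀ hQu' huu'
      obtain ⟨hvP, hvu, hvu'⟩ := (mem_pairPerp hQ).1 hv
      have h1 := hcon u₀ hu₀ hu₀0 hQu₀ hgu₀
      have hgv : (g : Matrix ι ι F) *ᵥ v ∈ qperp hQ W := h1 v hvP (by rw [pcomm, hvu])
      have hgu' : (g : Matrix ι ι F) *ᵥ u' ∈ qperp hQ W := hcon v hvP hv0 hQv hgv u' hu' hvu'
      obtain ⟨x, hx, hgx⟩ := hmove
      have h2 := h1 (x - pol Q u₀ x • u') ((qperp hQ W).sub_mem hx ((qperp hQ W).smul_mem _ hu'))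
        (by rw [psub_right hQ, psmul_right hQ, huu', mul_one, sub_self])
      rw [mulVec_sub, mulVec_smul] at h2
      exact hgx (((qperp hQ W).sub_mem_iff_left ((qperp hQ W).smul_mem _ hgu')).1 h2)
    refine nd_pair_of_mixed_four hQ hn5 hW (by omega) (fun h => by omega) hHM hMi hgu₁
      (fun h => hu₁0 (gl_mulVec_eq_zero.1 h))
      ((mem_iso.1 (hMi hg) u₁).trans hQu₁) (a := (g : Matrix ι ι F) *ᵥ p) (by rw [iso_pol (hMi hg), hup]) hgp ?_
    obtain ⟨e, he, heE⟩ := ein_omega hQ hn5 hQu₁ hup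
    exact EIn.conj ⟨e, hHM ⟨mem_stab_of_maps fun x hx => by
      rw [heE, pcomm x u₁, hu₁ x hx, pcomm x p, hp x hx]
      simpa using hx, he⟩, heE⟩ (hMi hg) hg
  obtain ⟨g, hg, hgW⟩ := SetLike.not_le_iff_exists.1 hMH
  by_cases hD : ∃ u₀ ∈ qperp hQ W, u₀ ≠ 0 ∧ Q u₀ = 0 ∧ (g : Matrix ι ι F) *ᵥ u₀ ∈ qperp hQ W
  · obtain ⟨u₀, hu₀, hu₀0, hQu₀, hgu₀⟩ := hD
    exact hfromP g hg hgW u₀ hu₀ hu₀0 hQu₀ hgu₀
  push Not at hD
  obtain ⟨u, hu, hQu, hgu⟩ : ∃ u ∈ qperp hQ W, Q u = 0 ∧ (g : Matrix ι ι F) *ᵥ u ∉ W := by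
    by_contra hcon
    push Not at hcon
    have hmaps : ∀ x ∈ qperp hQ W, (g : Matrix ι ι F) *ᵥ x ∈ W := fun x hx =>
      (le_of_singular_mem hQ (S := W.comap (Matrix.mulVecLin (g : Matrix ι ι F)))
        hPnd (by omega) (fun v hv hQv => hcon v hv hQv)) hx
    exact hWm (plus_of_isometric hQ (isometric_of_maps hQ (hMi hg) hmaps (by omega)) hPp)
  have hu0 : u ≠ 0 := fun h => hgu (by rw [h, mulVec_zero]; exact W.zero_mem)
  obtain ⟨u', hu', hQu', huu'⟩ := exists_qpartner hQ hPnd hu hu0 hQu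
  obtain ⟨p, hp, hp0, hQp⟩ := pair_perp_singular_four hQ hPd hPp hu hu' hQu hQu' huu'
  obtain ⟨hpP, hpu, hpu'⟩ := (mem_pairPerp hQ).1 hp
  have hup : pol Q u p = 0 := by rw [pcomm, hpu]
  have hind : ∀ s t : F, s • u + t • p = 0 → s = 0 ∧ t = 0 := fun s t h => by
    have h1 := congrArg (fun z => pol Q z u') h
    simp only [padd_left hQ, psmul_left hQ, huu', hpu', pzero_left hQ, mul_zero, mul_one, add_zero] at h1
    rw [h1, zero_smul, zero_add, smul_eq_zero] at h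
    exact ⟨h1, h.resolve_right hp0⟩
  obtain ⟨a, ha⟩ : ∃ a, a = (g : Matrix ι ι F) *ᵥ u := ⟨_, rfl⟩
  obtain ⟨b, hb⟩ : ∃ b, b = (g : Matrix ι ι F) *ᵥ p := ⟨_, rfl⟩
  have hli : LinearIndependent F ![a, b] := by
    rw [LinearIndependent.pair_iff]
    intro s t h
    refine hind s t (gl_mulVec_eq_zero (g := g) |>.1 ?_)
    rw [mulVec_add, mulVec_smul, mulVec_smul, ← ha, ← hb, h]
  have hQa : Q a = 0 := by rw [ha, mem_iso.1 (hMi hg), hQu]
  have hQb : Q b = 0 := by rw [hb, mem_iso.1 (hMi hg), hQp]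
  have hab : pol Q a b = 0 := by rw [ha, hb, iso_pol (hMi hg), hup]
  obtain ⟨e, he, heE⟩ := ein_omega hQ hn5 hQu hup
  have heM : e ∈ M := hHM ⟨mem_stab_of_maps fun x hx => by
    rw [heE, pcomm x u, hu x hx, pcomm x p, hpP x hx]
    simpa using hx, he⟩
  have hk : IsE Q a b (g * e * g⁻¹) := by rw [ha, hb]; exact heE.conj (hMi hg)
  have happ : ∀ x, ((g * e * g⁻¹ : GL ι F) : Matrix ι ι F) *ᵥ x = x + pol Q x a • b - pol Q x b • a := fun x => by
    rw [hk, hQb, zero_mul, zero_smul, sub_zero]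
  have hkM : g * e * g⁻¹ ∈ M := mul_mem (mul_mem hg heM) (inv_mem hg)
  -- no singular vector of the image line lies in the orthogonal
  have hline : ∀ s t : F, s • b + t • a ∈ qperp hQ W → s = 0 ∧ t = 0 := fun s t h => by
    have h2 : t • u + s • p = 0 := by
      by_contra hne
      refine hD _ ((qperp hQ W).add_mem ((qperp hQ W).smul_mem t hu) ((qperp hQ W).smul_mem s hpP)) hne ?_ ?_
      · rw [qadd hQ, qsmul hQ, qsmul hQ, hQu, hQp, psmul_left hQ, psmul_right hQ, hup]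
        ring
      · rwa [mulVec_add, mulVec_smul, mulVec_smul, ← ha, ← hb, add_comm]
    exact (hind t s h2).symm
  have hkW : g * e * g⁻¹ ∉ subspaceStabilizer W := fun hstab => hgu (by
    rw [← ha, ← hqq]
    intro x hx
    have h1 : ((g * e * g⁻¹ : GL ι F) : Matrix ι ι F) *ᵥ x ∈ qperp hQ W :=
      (mem_subspaceStabilizer_iff.1 (stab_qperp hQ hW (hMi hkM) hstab) x).1 hx
    rw [happ, add_sub_assoc, (qperp hQ W).add_mem_iff_right hx, sub_eq_add_neg, ← neg_smul] at h1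
    rw [pcomm]
    exact (hline _ _ h1).1)
  obtain ⟨D, hDdef⟩ : ∃ D, D = qperp hQ W ⊓ LinearMap.ker (pfl hQ a) ⊓ LinearMap.ker (pfl hQ b) := ⟨_, rfl⟩
  by_cases hDs : ∃ v ∈ D, v ≠ 0 ∧ Q v = 0
  · obtain ⟨v, hv, hv0, hQv⟩ := hDs
    rw [hDdef] at hv
    refine hfromP _ hkM hkW v hv.1.1 hv0 hQv ?_
    rw [happ, show pol Q v a = 0 from hv.1.2, show pol Q v b = 0 from hv.2]
    simpa using hv.1.1
  push Not at hDs
  have hD2 : Module.finrank F D ≤ 2 := by
    by_contra h3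
    obtain ⟨v, hv, hv0, hQv⟩ := exists_singular_mem hQ D (by omega)
    exact hDs v hv hv0 hQv
  have hD' : ∀ v ∈ D, Q v = 0 → v = 0 := fun v hv hQv => by
    by_contra hv0
    exact hDs v hv hv0 hQv
  rw [hDdef] at hD' hD2
  obtain ⟨w, hw, hw0, hQw⟩ := exists_singular_perp_line hQ hn hminus hW hd hli hQa hQb hab hD'
  have hkw : ((g * e * g⁻¹ : GL ι F) : Matrix ι ι F) *ᵥ w = w := by
    rw [happ, show pol Q w a = 0 from hw.1.2, show pol Q w b = 0 from hw.2]
    simp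
  by_cases hex : ∃ x ∈ W, pol Q w x = 0 ∧ ((g * e * g⁻¹ : GL ι F) : Matrix ι ι F) *ᵥ x ∉ W
  · obtain ⟨x, hx, hwx, hkx⟩ := hex
    exact hfromW _ hkM w hw.1.1 hw0 hQw (by rw [hkw]; exact hw.1.1) x hx hwx hkx
  exfalso
  push Not at hex
  -- then the hyperplane of `W` orthogonal to `w` is fixed
  have hsub : W ⊓ LinearMap.ker (pfl hQ w) ≤ W ⊓ LinearMap.ker (pfl hQ a) ⊓ LinearMap.ker (pfl hQ b) := by
    rintro x ⟨hx, hxw⟩
    have hxw' : pol Q x w = 0 := hxw
    have h1 := hex x hx (by rw [pcomm, hxw'])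
    rw [happ, add_sub_assoc, W.add_mem_iff_right hx] at h1
    have h3 : pol Q x a = 0 ∧ -pol Q x b = 0 := by
      by_contra hne
      have h4 := inf_ker_of_dependent hQ (qperp hQ W) (a := a) (b := b) (α := pol Q x a) (β := -pol Q x b)
        (by
          by_contra h5
          push Not at h5
          exact hne h5) fun y hy => by
        have h5 : pol Q y (pol Q x a • b - pol Q x b • a) = 0 := hy _ h1
        rw [psub_right hQ, psmul_right hQ, psmul_right hQ] at h5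
        linear_combination h5
      omega
    exact ⟨⟨hx, h3.1⟩, neg_eq_zero.1 h3.2⟩
  have hX3 : 3 ≤ Module.finrank F ↥(W ⊓ LinearMap.ker (pfl hQ a) ⊓ LinearMap.ker (pfl hQ b)) := by
    have h1 := finrank_inf_pfl hQ W w
    have h2 := Submodule.finrank_mono hsub
    omega
  obtain ⟨x₀, hx₀, hx₀a⟩ : ∃ x ∈ W, pol Q x a ≠ 0 := by
    by_contra hcon
    push Not at hcon
    exact hD u hu hu0 hQu fun y hy => by rw [pcomm, ← ha]; exact hcon y hy
  have hlt : W ⊓ LinearMap.ker (pfl hQ a) < W :=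
    lt_of_le_of_ne inf_le_left fun h => hx₀a (h.symm ▸ hx₀ : x₀ ∈ W ⊓ LinearMap.ker (pfl hQ a)).2
  have hlt' := Submodule.finrank_lt_finrank_of_lt hlt
  have heqA : W ⊓ LinearMap.ker (pfl hQ a) ⊓ LinearMap.ker (pfl hQ b) = W ⊓ LinearMap.ker (pfl hQ a) :=
    Submodule.eq_of_le_of_finrank_le inf_le_left (by omega)
  obtain ⟨c, hc⟩ : ∃ c, c = pol Q x₀ b / pol Q x₀ a := ⟨_, rfl⟩
  refine one_ne_zero (hline 1 (-c) fun y hy => ?_).1
  obtain ⟨z, hz⟩ : ∃ z, z = y - (pol Q y a / pol Q x₀ a) • x₀ := ⟨_, rfl⟩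
  have hzA : z ∈ W ⊓ LinearMap.ker (pfl hQ a) := ⟨hz ▸ W.sub_mem hy (W.smul_mem _ hx₀), by
    show pol Q z a = 0
    rw [hz, psub_left hQ, psmul_left hQ, div_mul_cancel₀ _ hx₀a, sub_self]⟩
  rw [← heqA] at hzA
  have hzb : pol Q z b = 0 := hzA.2
  rw [hz, psub_left hQ, psmul_left hQ] at hzb
  rw [pcomm, padd_right hQ, psmul_right hQ, psmul_right hQ, hc]
  linear_combination hzb

/-- stabilisers of nondegenerate four-spaces in minus type of dimension eight -/
theorem nd_four_maximal (hn : Fintype.card ι = 8) (hminus : ¬ IsPlusTypeOn Q ⊤) {W : Submodule F (ι → F)}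
    (hW : NdOn Q W) (hd : Module.finrank F W = 4) :
    IsMaximalIn (omegaGL Q) (subspaceStabilizer W ⊓ omegaGL Q) := by
  have hPnd := qperp_nd hQ hW
  have hiff := halves_even hQ hW (by rw [hd]; decide) (by rw [hn]; decide)
  have hqq := qperp_qperp hQ hW
  by_cases hWp : IsPlusTypeOn Q W
  · have heq : subspaceStabilizer W ⊓ omegaGL Q = subspaceStabilizer (qperp hQ W) ⊓ omegaGL Q := by
      refine le_antisymm (fun g hg => ⟨stab_qperp hQ hW (omegaGL_le_iso hg.2) hg.1, hg.2⟩) fun g hg => ⟨?_, hg.2⟩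
      have := stab_qperp hQ hPnd (omegaGL_le_iso hg.2) hg.1
      rwa [hqq] at this
    rw [heq]
    have hsum := finrank_qperp_add hQ W
    exact nd_four_core hQ hn hminus hPnd (by omega) (fun h => hminus (hiff.2 (iff_of_true hWp h)))
      (by rw [hqq]; exact hWp)
  · refine nd_four_core hQ hn hminus hW hd hWp ?_
    by_contra h
    exact hminus (hiff.2 (iff_of_false hWp h))

end CfsgLib.Perm.Trans.Quad
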