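import Cfsg.Agent.Lib.Perm.Trans.QuadMax
import Cfsg.Agent.Lib.Perm.Trans.QuadNondeg
import Cfsg.Agent.Lib.Perm.Trans.QuadSingFam

/-!
# Normalisers of unitary overfields are maximal in orthogonal groups

A unitary transvection is an Eichler transformation of a totally singular line over the overfield.  A conjugate outside
the normaliser gives an Eichler transformation moving a line over the overfield, and the unitary transvections spread
it to all of the orthogonal space.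
-/

set_option autoImplicit false
set_option linter.all false

namespace CfsgLib.Perm.Trans.Quad.Over

open scoped Matrix
open Matrix Cfsg.Geo CfsgLib.Perm.Asch CfsgLib.Perm.Trans

variable {ι : Type} [Fintype ι] [DecidableEq ι] {F : Type*} [Field F] [Fintype F]
variable {Q : (ι → F) → F} {E : Matrix ι ι F} {s N : F}

local notation "pol" => QuadraticMap.polar

/-- the data of a unitary overfield -/
structure QOData (Q : (ι → F) → F) (E : Matrix ι ι F) (s N : F) : Prop where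
  quad : IsNondegenerateQuadraticForm Q
  sq : ∀ v : ι → F, E *ᵥ (E *ᵥ v) = s • (E *ᵥ v) - N • v
  irr : ∀ a b : F, a * a + s * (a * b) + N * (b * b) = 0 → a = 0 ∧ b = 0
  adj : ∀ u v, QuadraticMap.polar Q (E *ᵥ u) v = s * QuadraticMap.polar Q u v - QuadraticMap.polar Q u (E *ᵥ v)
  scal : ∀ a b : F, ∃ c : F, (¬(a = 0 ∧ b = 0) → c ≠ 0) ∧ ∀ v : ι → F, Q (a • v + b • (E *ᵥ v)) = c * Q v
  big : 10 ≤ Fintype.card ι

/-- the line over the overfield -/
def kl (_D : QOData Q E s N) (x : ι → F) : Submodule F (ι → F) := Submodule.span F {x, E *ᵥ x}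

/-- `y` gives Eichler transformations at `x` in `M` -/
def Ain (_D : QOData Q E s N) (M : Subgroup (GL ι F)) (x y : ι → F) : Prop :=
  pol Q x y = 0 ∧ ∀ c : F, EIn Q M x (c • y)

variable (D : QOData Q E s N)
include D

theorem q_E {v : ι → F} (h : Q v = 0) : Q (E *ᵥ v) = 0 := by
  obtain ⟨c, -, hc⟩ := D.scal 0 1
  have := hc v
  rwa [h, mul_zero, zero_smul, zero_add, one_smul] at this

theorem b_self_E {v : ι → F} (h : Q v = 0) : pol Q v (E *ᵥ v) = 0 := by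
  obtain ⟨c, -, hc⟩ := D.scal 1 1
  have h1 := hc v
  rw [h, mul_zero, one_smul, one_smul, qadd D.quad, h, q_E D h, zero_add, zero_add] at h1
  exact h1

theorem b_self {v : ι → F} (h : Q v = 0) : pol Q v v = 0 := by rw [pself D.quad, h, mul_zero]

theorem b_EE (u v : ι → F) : pol Q (E *ᵥ u) (E *ᵥ v) = N * pol Q u v := by
  rw [D.adj, D.sq, psub_right D.quad, psmul_right D.quad, psmul_right D.quad]
  ring

theorem q_comb {v : ι → F} (h : Q v = 0) (a b : F) : Q (a • v + b • (E *ᵥ v)) = 0 := by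
  obtain ⟨c, -, hc⟩ := D.scal a b
  rw [hc, h, mul_zero]

theorem K_inv {W : Submodule F (ι → F)} (hW : ∀ w ∈ W, E *ᵥ w ∈ W) {u : ι → F} {a b : F} (hab : ¬(a = 0 ∧ b = 0))
    (h : a • u + b • (E *ᵥ u) ∈ W) : u ∈ W := by
  have h1 : (a * a + s * (a * b) + N * (b * b)) • u =
      (a + s * b) • (a • u + b • (E *ᵥ u)) - b • (E *ᵥ (a • u + b • (E *ᵥ u))) := by
    rw [mulVec_add, mulVec_smul, mulVec_smul, D.sq]
    module
  exact (Submodule.smul_mem_iff _ fun h0 => hab (D.irr a b h0)).1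
    (h1 ▸ W.sub_mem (W.smul_mem _ h) (W.smul_mem b (hW _ h)))

theorem combo_ne {u : ι → F} (hu : u ≠ 0) {a b : F} (hab : ¬(a = 0 ∧ b = 0)) : a • u + b • (E *ᵥ u) ≠ 0 :=
  fun h => hu ((Submodule.mem_bot F).1 (K_inv D (W := ⊥) (fun w hw => by
    rw [(Submodule.mem_bot F).1 hw, mulVec_zero]; exact Submodule.zero_mem _) hab (by rw [h]; exact Submodule.zero_mem _)))

theorem self_mem_kl (x : ι → F) : x ∈ kl D x := Submodule.subset_span (by simp)

theorem E_mem_kl (x : ι → F) : E *ᵥ x ∈ kl D x := Submodule.subset_span (by simp)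

theorem kl_inv {x v : ι → F} (h : v ∈ kl D x) : E *ᵥ v ∈ kl D x := by
  obtain ⟨a, b, rfl⟩ := Submodule.mem_span_pair.1 h
  rw [mulVec_add, mulVec_smul, mulVec_smul, D.sq, smul_sub, smul_smul, smul_smul]
  exact (kl D x).add_mem ((kl D x).smul_mem _ (E_mem_kl D x))
    ((kl D x).sub_mem ((kl D x).smul_mem _ (E_mem_kl D x)) ((kl D x).smul_mem _ (self_mem_kl D x)))

theorem finrank_kl_le (x : ι → F) : Module.finrank F (kl D x) ≤ 2 := by
  classical
  refine (finrank_span_le_card _).trans ?_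
  rw [Set.toFinset_insert, Set.toFinset_singleton]
  exact (Finset.card_insert_le _ _).trans (by simp)

/-- orthogonal to the line of `a` over the overfield -/
def pk (a : ι → F) : Submodule F (ι → F) :=
  LinearMap.ker (pfl D.quad a) ⊓ LinearMap.ker (pfl D.quad (E *ᵥ a))

theorem mem_pk {a v : ι → F} : v ∈ pk D a ↔ pol Q v a = 0 ∧ pol Q v (E *ᵥ a) = 0 := Iff.rfl

theorem pk_symm {a v : ι → F} (h : v ∈ pk D a) : a ∈ pk D v := by
  rw [mem_pk] at h ⊢
  exact ⟨by rw [pcomm, h.1], by rw [pcomm, D.adj, h.1, h.2, mul_zero, sub_zero]⟩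

theorem pk_inv {a v : ι → F} (h : v ∈ pk D a) : E *ᵥ v ∈ pk D a := by
  rw [mem_pk] at h ⊢
  exact ⟨by rw [D.adj, h.1, h.2, mul_zero, sub_zero], by rw [b_EE D, h.1, mul_zero]⟩

theorem pk_self {x : ι → F} (hx : Q x = 0) : x ∈ pk D x := (mem_pk D).2 ⟨b_self D hx, b_self_E D hx⟩

theorem kl_le_pk {x v : ι → F} (h : x ∈ pk D v) : kl D x ≤ pk D v :=
  Submodule.span_le.2 (Set.insert_subset h (Set.singleton_subset_iff.2 (pk_inv D h)))

theorem finrank_pk (W : Submodule F (ι → F)) (a : ι → F) :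
    Module.finrank F W ≤ Module.finrank F ↥(W ⊓ pk D a) + 2 := by
  have h1 := finrank_inf_pfl D.quad W a
  have h2 := finrank_inf_pfl D.quad (W ⊓ LinearMap.ker (pfl D.quad a)) (E *ᵥ a)
  rw [inf_assoc] at h2
  exact h1.trans (by rw [pk]; omega)

theorem finrank_pk1 (a : ι → F) : Fintype.card ι ≤ Module.finrank F ↥(pk D a) + 2 := by
  have := finrank_pk D ⊤ a
  rwa [finrank_top, Module.finrank_fintype_fun_eq_card, top_inf_eq] at this

theorem pk_ne {a : ι → F} (ha : a ≠ 0) : ∃ v, v ∉ pk D a := by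
  obtain ⟨⟨v, hv⟩, -⟩ := D.quad.nondegenerate a ha
  exact ⟨v, fun h => hv (by first | exact ((mem_pk D).1 h).1 | (rw [pcomm]; exact ((mem_pk D).1 h).1))⟩

/-- shifting a vector to a singular one, given a nonsingular vector -/
theorem shift_of (x : ι → F) (W : Submodule F (ι → F)) (hE : ∀ w ∈ W, E *ᵥ w ∈ W)
    {y : ι → F} (hy : y ∈ W) (hy0 : Q y ≠ 0) : ∃ w ∈ W, Q (x + w) = 0 := by
  have hyl : kl D y ≤ W := Submodule.span_le.2 (Set.insert_subset hy (Set.singleton_subset_iff.2 (hE y hy)))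
  by_cases hx : x ∈ kl D y
  · exact ⟨-x, W.neg_mem (hyl hx), by rw [add_neg_cancel, qzero D.quad]⟩
  have hyne : y ≠ 0 := fun h => hy0 (by rw [h, qzero D.quad])
  have hd : 3 ≤ Module.finrank F ↥(Submodule.span F {x} ⊔ kl D y) := by
    have h2 : 2 ≤ Module.finrank F (kl D y) := by
      have hli : LinearIndependent F ![y, E *ᵥ y] := LinearIndependent.pair_iff.2 fun a b h => by
        by_contra hne
        exact combo_ne D hyne hne h
      have := finrank_span_eq_card hli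
      rw [Matrix.range_cons_cons_empty, Fintype.card_fin] at this
      exact this.ge
    have hlt : kl D y < Submodule.span F {x} ⊔ kl D y := lt_of_le_of_ne le_sup_right fun h =>
      hx (h ▸ Submodule.mem_sup_left (Submodule.mem_span_singleton_self x))
    have := Submodule.finrank_lt_finrank_of_lt hlt
    omega
  obtain ⟨v, hv, hv0, hvq⟩ := exists_singular_mem D.quad _ hd
  obtain ⟨_, hc, w, hw, rfl⟩ := Submodule.mem_sup.1 hv
  obtain ⟨c, rfl⟩ := Submodule.mem_span_singleton.1 hc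
  rcases eq_or_ne c 0 with rfl | hc0
  · exfalso
    rw [zero_smul, zero_add] at hv0 hvq
    obtain ⟨a, b, rfl⟩ := Submodule.mem_span_pair.1 hw
    obtain ⟨k, hk, hkv⟩ := D.scal a b
    have hab : ¬(a = 0 ∧ b = 0) := fun h => hv0 (by rw [h.1, h.2, zero_smul, zero_smul, add_zero])
    rw [hkv] at hvq
    exact (mul_ne_zero (hk hab) hy0) hvq
  · refine ⟨c⁻¹ • w, W.smul_mem _ (hyl hw), ?_⟩
    rw [show x + c⁻¹ • w = c⁻¹ • (c • x + w) by rw [smul_add, inv_smul_smul₀ hc0], qsmul D.quad, hvq, mul_zero]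

/-- shifting a vector to a singular one -/
theorem shift (x : ι → F) (W : Submodule F (ι → F)) (hE : ∀ w ∈ W, E *ᵥ w ∈ W)
    (hW : Fintype.card ι < 2 * Module.finrank F W) : ∃ w ∈ W, Q (x + w) = 0 := by
  obtain ⟨y, hy, hy0⟩ : ∃ y ∈ W, Q y ≠ 0 := by
    by_contra hcon
    push Not at hcon
    have := ts_finrank_le D.quad (W := W) hcon
    omega
  exact shift_of D x W hE hy hy0

/-- shifting a vector to a singular one in a subspace not orthogonal to it -/
theorem shift' (x : ι → F) (W : Submodule F (ι → F)) (hE : ∀ w ∈ W, E *ᵥ w ∈ W)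
    {a : ι → F} (ha : a ∈ W) (hxa : pol Q x a ≠ 0) : ∃ w ∈ W, Q (x + w) = 0 := by
  by_cases hy : ∃ y ∈ W, Q y ≠ 0
  · obtain ⟨y, hy, hy0⟩ := hy
    exact shift_of D x W hE hy hy0
  push Not at hy
  refine ⟨(-(Q x / pol Q x a)) • a, W.smul_mem _ ha, ?_⟩
  rw [qadd D.quad, qsmul D.quad, hy a ha, psmul_right D.quad]
  field_simp
  ring

/-- a singular vector in a subspace avoiding a line over the overfield -/
theorem singular_avoid (W : Submodule F (ι → F)) (x : ι → F) (hW : 5 ≤ Module.finrank F W) :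
    ∃ m ∈ W, Q m = 0 ∧ m ∉ kl D x := by
  obtain ⟨C, hC⟩ := (kl D x).exists_isCompl
  have h1 := Submodule.finrank_sup_add_finrank_inf_eq W C
  have h2 : Module.finrank F ↥(W ⊔ C) ≤ Fintype.card ι := by
    have := Submodule.finrank_le (W ⊔ C)
    rwa [Module.finrank_fintype_fun_eq_card] at this
  have h3 := Submodule.finrank_add_eq_of_isCompl hC
  rw [Module.finrank_fintype_fun_eq_card] at h3
  have h4 := finrank_kl_le D x
  obtain ⟨m, ⟨hmW, hmC⟩, hm0, hmq⟩ := exists_singular_mem D.quad (W ⊓ C) (by omega)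
  exact ⟨m, hmW, hmq, fun h => hm0 (Submodule.disjoint_def.1 hC.disjoint m h hmC)⟩

/-- two vectors outside the line have a common non-orthogonal vector orthogonal to it -/
theorem exists_two {x a b : ι → F} (ha : a ∉ kl D x) (hb : b ∉ kl D x) :
    ∃ v ∈ pk D x, v ∉ pk D a ∧ v ∉ pk D b := by
  have key : ∀ a, a ∉ kl D x → ∃ v ∈ pk D x, v ∉ pk D a := fun a ha => by
    obtain ⟨p, hp, hap⟩ := exists_qperp_ne D.quad (W := kl D x) ha
    refine ⟨p, (mem_pk D).2 ⟨hp x (self_mem_kl D x), hp _ (E_mem_kl D x)⟩, fun h => ?_⟩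
    rw [pcomm, ((mem_pk D).1 h).1] at hap
    exact zero_ne_one hap
  obtain ⟨p, hp, hpa⟩ := key a ha
  obtain ⟨r, hr, hrb⟩ := key b hb
  by_cases h1 : p ∈ pk D b
  · by_cases h2 : r ∈ pk D a
    · exact ⟨p + r, (pk D x).add_mem hp hr, fun h => hpa (by simpa using (pk D a).sub_mem h h2),
        fun h => hrb (by simpa using (pk D b).sub_mem h h1)⟩
    · exact ⟨r, hr, h2, hrb⟩
  · exact ⟨p, hp, hpa, h1⟩

/-- the elements commuting with `E` -/
theorem ut_comm {u : ι → F} (hu : Q u = 0) {g : GL ι F} {c : F} (hg : IsE Q u (c • (E *ᵥ u)) g) (v : ι → F) :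
    E *ᵥ ((g : Matrix ι ι F) *ᵥ v) = (g : Matrix ι ι F) *ᵥ (E *ᵥ v) := by
  rw [hg, hg, qsmul D.quad, q_E D hu, psmul_right D.quad, psmul_right D.quad, D.adj, b_EE D]
  simp only [mulVec_sub, mulVec_add, mulVec_smul, D.sq]
  module

variable {M : Subgroup (GL ι F)} (hM : M ≤ Cfsg.isometryGroup F Q)
variable (hN : ∀ g ∈ omegaGL Q, (∀ v, E *ᵥ ((g : Matrix ι ι F) *ᵥ v) = (g : Matrix ι ι F) *ᵥ (E *ᵥ v)) → g ∈ M)
include hM hN

theorem ein_kl {u : ι → F} (hu : Q u = 0) (c : F) : EIn Q M u (c • (E *ᵥ u)) := by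
  obtain ⟨g, hg, hgE⟩ := ein_omega D.quad (by have := D.big; omega) hu (a := c • (E *ᵥ u))
    (by rw [psmul_right D.quad, b_self_E D hu, mul_zero])
  exact ⟨g, hN g hg (ut_comm D hu hgE), hgE⟩

omit hM hN in
theorem Ain.add {x y z : ι → F} (hx : Q x = 0) (h : Ain D M x y) (h' : Ain D M x z) : Ain D M x (y + z) :=
  ⟨by rw [padd_right D.quad, h.1, h'.1, add_zero], fun c => by
    rw [smul_add]
    exact EIn.add D.quad hx (by rw [psmul_right D.quad, h.1, mul_zero]) (by rw [psmul_right D.quad, h'.1, mul_zero])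
      (h.2 c) (h'.2 c)⟩

omit hM hN in
theorem Ain.smul {x y : ι → F} (h : Ain D M x y) (a : F) : Ain D M x (a • y) :=
  ⟨by rw [psmul_right D.quad, h.1, mul_zero], fun c => by rw [smul_smul]; exact h.2 _⟩

omit hM hN in
theorem Ain.sub {x y z : ι → F} (hx : Q x = 0) (h : Ain D M x y) (h' : Ain D M x z) : Ain D M x (y - z) := by
  rw [sub_eq_add_neg, ← neg_one_smul F z]
  exact Ain.add D hx h (Ain.smul D h' _)

omit hN in
theorem Ain.conj {x y : ι → F} (h : Ain D M x y) {k : GL ι F} (hk : k ∈ M) :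
    Ain D M ((k : Matrix ι ι F) *ᵥ x) ((k : Matrix ι ι F) *ᵥ y) :=
  ⟨by rw [iso_pol (hM hk), h.1], fun c => by rw [← mulVec_smul]; exact (h.2 c).conj (hM hk) hk⟩

omit hM hN in
theorem Ain.symm {x y : ι → F} (hx : Q x = 0) (hy : Q y = 0) (h : Ain D M x y) : Ain D M y x := by
  refine ⟨by rw [pcomm, h.1], fun c => ?_⟩
  obtain ⟨g, hg, hgE⟩ := h.2 (-c)
  refine ⟨g, hg, fun v => ?_⟩
  rw [hgE, qsmul D.quad, hy, qsmul D.quad, hx, psmul_right D.quad, psmul_right D.quad]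
  module

theorem Ain.of_kl {x y : ι → F} (hx : Q x = 0) (h : y ∈ kl D x) : Ain D M x y := by
  obtain ⟨a, b, rfl⟩ := Submodule.mem_span_pair.1 h
  exact Ain.add D hx
    ⟨by rw [psmul_right D.quad, b_self D hx, mul_zero], fun c => by rw [smul_smul]; exact EIn.smul_self D.quad M hx _⟩
    ⟨by rw [psmul_right D.quad, b_self_E D hx, mul_zero], fun c => by rw [smul_smul]; exact ein_kl D hM hN hx _⟩

/-- the displacement by a unitary transvection fixing `x` -/
theorem ain_shift {x p : ι → F} (hx : Q x = 0) (hp : Ain D M x p) {u : ι → F} (hu : Q u = 0) (hux : u ∈ pk D x) :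
    Ain D M x (pol Q p u • (E *ᵥ u) - pol Q p (E *ᵥ u) • u) := by
  obtain ⟨g, hg, hgE⟩ := ein_kl D hM hN hu 1
  obtain ⟨h1, h2⟩ := (mem_pk D).1 (pk_symm D hux)
  rw [one_smul] at hgE
  have hgx : (g : Matrix ι ι F) *ᵥ x = x := by
    rw [hgE, h1, h2]
    simp
  have h3 := Ain.conj D hM hp hg
  rw [hgx, hgE, q_E D hu, zero_mul, zero_smul, sub_zero] at h3
  have h4 := Ain.sub D hx h3 hp
  convert h4 using 1
  abel

/-- two displacements on one line over the overfield give the whole line -/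
theorem ain_pair {x y₁ y₂ u : ι → F} (hx : Q x = 0) (h₁ : Ain D M x y₁) (h₂ : Ain D M x y₂) (hu : Q u = 0)
    (hux : u ∈ pk D x) (hdet : pol Q y₁ u * pol Q y₂ (E *ᵥ u) - pol Q y₁ (E *ᵥ u) * pol Q y₂ u ≠ 0) :
    Ain D M x u ∧ Ain D M x (E *ᵥ u) := by
  have e₁ := ain_shift D hM hN hx h₁ hu hux
  have e₂ := ain_shift D hM hN hx h₂ hu hux
  obtain ⟨d, hd⟩ : ∃ d, d = pol Q y₁ u * pol Q y₂ (E *ᵥ u) - pol Q y₁ (E *ᵥ u) * pol Q y₂ u := ⟨_, rfl⟩
  rw [← hd] at hdet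
  constructor
  · have h3 := Ain.smul D (Ain.sub D hx (Ain.smul D e₁ (pol Q y₂ u)) (Ain.smul D e₂ (pol Q y₁ u))) d⁻¹
    convert h3 using 1
    rw [eq_inv_smul_iff₀ hdet, hd]
    module
  · have h3 := Ain.smul D
      (Ain.sub D hx (Ain.smul D e₁ (pol Q y₂ (E *ᵥ u))) (Ain.smul D e₂ (pol Q y₁ (E *ᵥ u)))) d⁻¹
    convert h3 using 1
    rw [eq_inv_smul_iff₀ hdet, hd]
    module

/-- spreading over the orthogonal of a singular vector -/
theorem ain_all {x p : ι → F} (hx : Q x = 0) (hp : Ain D M x p) (hpx : p ∉ kl D x) :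
    ∀ v ∈ pk D x, Ain D M x v := by
  have := D.big
  have hb1 := finrank_pk1 D x
  have hkxx : kl D x ≤ pk D x := kl_le_pk D (pk_self D hx)
  have hanis : ∀ {A B : F}, ¬(A = 0 ∧ B = 0) → B * B + s * (B * -A) + N * (-A * -A) ≠ 0 := fun hAB h =>
    hAB ⟨neg_eq_zero.1 (D.irr _ _ h).2, (D.irr _ _ h).1⟩
  have hlift : ∀ {t : ι → F}, t ∉ kl D x → ∃ r ∈ pk D x, r ∉ pk D t := fun {t} ht => by
    obtain ⟨r, hr, hrt, -⟩ := exists_two D ht ht
    exact ⟨r, hr, hrt⟩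
  -- a singular displacement
  obtain ⟨p, hpx', hp, hpq, hpx⟩ : ∃ m ∈ pk D x, Ain D M x m ∧ Q m = 0 ∧ m ∉ kl D x := by
    obtain ⟨u, hux, hw, hup, huk⟩ : ∃ u ∈ pk D x, Q u = 0 ∧ u ∉ pk D p ∧ u ∉ kl D x := by
      by_cases hxp : x ∈ pk D p
      · obtain ⟨r, hr, hrp⟩ := hlift hpx
        have hb2 := finrank_pk D (pk D x) p
        obtain ⟨w, ⟨hwx, hwp⟩, hw⟩ := shift D r (pk D x ⊓ pk D p) (fun w hw => ⟨pk_inv D hw.1, pk_inv D hw.2⟩)
          (by omega)
        have hup : r + w ∉ pk D p := fun h => hrp (by simpa using (pk D p).sub_mem h hwp)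
        exact ⟨r + w, (pk D x).add_mem hr hwx, hw, hup, fun h => hup (kl_le_pk D hxp h)⟩
      · obtain ⟨m, hmx, hmq, hmk⟩ := singular_avoid D (pk D x) x (by omega)
        by_cases hmp : m ∈ pk D p
        · refine ⟨m + x, (pk D x).add_mem hmx (pk_self D hx), ?_,
            fun h => hxp (by simpa using (pk D p).sub_mem h hmp),
            fun h => hmk (by simpa using (kl D x).sub_mem h (self_mem_kl D x))⟩
          rw [qadd D.quad, hmq, hx, ((mem_pk D).1 hmx).1]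
          ring
        · exact ⟨m, hmx, hmq, hmp, hmk⟩
    have hm := ain_shift D hM hN hx hp hw hux
    obtain ⟨m, hmdef⟩ : ∃ m, m = pol Q p u • (E *ᵥ u) - pol Q p (E *ᵥ u) • u := ⟨_, rfl⟩
    rw [← hmdef] at hm
    have hm' : m = (-pol Q p (E *ᵥ u)) • u + pol Q p u • (E *ᵥ u) := by rw [hmdef]; module
    have hAB : ¬(-pol Q p (E *ᵥ u) = 0 ∧ pol Q p u = 0) := fun h =>
      hup (pk_symm D ((mem_pk D).2 ⟨h.2, neg_eq_zero.1 h.1⟩))
    exact ⟨m, hm' ▸ (pk D x).add_mem ((pk D x).smul_mem _ hux) ((pk D x).smul_mem _ (pk_inv D hux)), hm,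
      hm' ▸ q_comb D hw _ _, fun h => huk (K_inv D (fun w hw => kl_inv D hw) hAB (hm' ▸ h))⟩
  -- a whole line
  obtain ⟨r, hr, hrp⟩ := hlift hpx
  have hb2 := finrank_pk D (pk D x) p
  obtain ⟨w, ⟨hwx, hwp⟩, hw⟩ := shift D r (pk D x ⊓ pk D p) (fun w hw => ⟨pk_inv D hw.1, pk_inv D hw.2⟩) (by omega)
  obtain ⟨u, hu⟩ : ∃ u, u = r + w := ⟨_, rfl⟩
  rw [← hu] at hw
  have hux : u ∈ pk D x := hu ▸ (pk D x).add_mem hr hwx
  have hup : u ∉ pk D p := fun h => hrp (by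
    have := (pk D p).sub_mem h hwp
    simpa [hu] using this)
  obtain ⟨A, hA⟩ : ∃ A, pol Q p u = A := ⟨_, rfl⟩
  obtain ⟨B, hB⟩ : ∃ B, pol Q p (E *ᵥ u) = B := ⟨_, rfl⟩
  have hAB : ¬(A = 0 ∧ B = 0) := fun h => hup (pk_symm D ((mem_pk D).2 ⟨hA.trans h.1, hB.trans h.2⟩))
  have hq := ain_shift D hM hN hx hp hw hux
  rw [hA, hB] at hq
  obtain ⟨q, hqdef⟩ : ∃ q, q = A • (E *ᵥ u) - B • u := ⟨_, rfl⟩
  rw [← hqdef] at hq
  have hqu : q ∈ kl D u := hqdef ▸ (kl D u).sub_mem ((kl D u).smul_mem _ (E_mem_kl D u))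
    ((kl D u).smul_mem _ (self_mem_kl D u))
  obtain ⟨Δ, hΔ⟩ : ∃ Δ, Δ = B * B + s * (B * -A) + N * (-A * -A) := ⟨_, rfl⟩
  have hΔ0 : Δ ≠ 0 := hΔ ▸ hanis hAB
  have e1 : pol Q (E *ᵥ p) u = s * A - B := by rw [D.adj, hA, hB]
  have e2 : pol Q (E *ᵥ p) (E *ᵥ u) = N * A := by rw [b_EE D, hA]
  have hqp : pol Q q p = 0 := by
    rw [hqdef, psub_left D.quad, psmul_left D.quad, psmul_left D.quad, pcomm (E *ᵥ u) p, pcomm u p, hA, hB]
    ring
  have hqEp : pol Q q (E *ᵥ p) = Δ := by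
    rw [hqdef, psub_left D.quad, psmul_left D.quad, psmul_left D.quad, pcomm (E *ᵥ u) (E *ᵥ p), pcomm u (E *ᵥ p),
      e1, e2, hΔ]
    ring
  have hpq' : p ∉ pk D q := fun h => hΔ0 (by rw [← hqEp]; exact ((mem_pk D).1 (pk_symm D h)).2)
  obtain ⟨t, htk, htdet⟩ : ∃ t ∈ kl D p, A * pol Q q (E *ᵥ t) - B * pol Q q t ≠ 0 := by
    by_cases hA0 : A = 0
    · refine ⟨E *ᵥ p, E_mem_kl D p, ?_⟩
      rw [D.sq, psub_right D.quad, psmul_right D.quad, psmul_right D.quad, hqEp, hqp, hA0, zero_mul, zero_sub,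
        neg_ne_zero]
      exact mul_ne_zero (fun h => hAB ⟨hA0, h⟩) hΔ0
    · refine ⟨p, self_mem_kl D p, ?_⟩
      rw [hqEp, hqp, mul_zero, sub_zero]
      exact mul_ne_zero hA0 hΔ0
  have hb3 := finrank_pk D (pk D x ⊓ pk D p) q
  obtain ⟨y₀, hy₀, hy₀0⟩ : ∃ y ∈ pk D x ⊓ pk D p ⊓ pk D q, Q y ≠ 0 := by
    by_contra hcon
    push Not at hcon
    obtain ⟨W, hW⟩ : ∃ W, W = pk D x ⊓ pk D p ⊓ pk D q := ⟨_, rfl⟩
    rw [← hW] at hcon hb3
    have hinf : W ⊓ kl D p = ⊥ := by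
      rw [Submodule.eq_bot_iff]
      rintro v ⟨hvW, hvk⟩
      obtain ⟨a, b, rfl⟩ := Submodule.mem_span_pair.1 hvk
      rw [hW] at hvW
      by_contra hv
      refine hpq' (K_inv D (fun w hw => pk_inv D hw) (fun h => hv ?_) hvW.2)
      rw [h.1, h.2, zero_smul, zero_smul, add_zero]
    have hts := ts_finrank_le D.quad (W := W ⊔ kl D p) fun v hv => by
      obtain ⟨a, ha, b, hb, rfl⟩ := Submodule.mem_sup.1 hv
      obtain ⟨c, d, rfl⟩ := Submodule.mem_span_pair.1 hb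
      have ha' := ha
      rw [hW] at ha'
      rw [qadd D.quad, hcon a ha, q_comb D hpq, padd_right D.quad, psmul_right D.quad, psmul_right D.quad,
        ((mem_pk D).1 ha'.1.2).1, ((mem_pk D).1 ha'.1.2).2]
      ring
    have h3 := Submodule.finrank_sup_add_finrank_inf_eq W (kl D p)
    rw [hinf, finrank_bot] at h3
    have h4 : 2 ≤ Module.finrank F (kl D p) := by
      have hp0 : p ≠ 0 := fun h => hpx (h ▸ Submodule.zero_mem _)
      have hli : LinearIndependent F ![p, E *ᵥ p] := LinearIndependent.pair_iff.2 fun a b h => by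
        by_contra hne
        exact combo_ne D hp0 hne h
      have := finrank_span_eq_card hli
      rw [Matrix.range_cons_cons_empty, Fintype.card_fin] at this
      exact this.ge
    omega
  obtain ⟨e, ⟨⟨hex, hep⟩, heq⟩, hz⟩ := shift_of D (t + u) (pk D x ⊓ pk D p ⊓ pk D q)
    (fun w hw => ⟨⟨pk_inv D hw.1.1, pk_inv D hw.1.2⟩, pk_inv D hw.2⟩) hy₀ hy₀0
  obtain ⟨z, hzdef⟩ : ∃ z, z = t + u + e := ⟨_, rfl⟩
  rw [← hzdef] at hz
  have hzx : z ∈ pk D x := hzdef ▸ (pk D x).add_mem ((pk D x).add_mem (kl_le_pk D hpx' htk) hux) hex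
  have hpt : kl D p ≤ pk D p := kl_le_pk D (pk_self D hpq)
  have hpz : pol Q p z = A ∧ pol Q p (E *ᵥ z) = B := by
    constructor
    · rw [hzdef, padd_right D.quad, padd_right D.quad, hA, pcomm p t, ((mem_pk D).1 (hpt htk)).1, pcomm p e,
        ((mem_pk D).1 hep).1]
      ring
    · rw [hzdef, mulVec_add, mulVec_add, padd_right D.quad, padd_right D.quad, hB, pcomm p (E *ᵥ t),
        ((mem_pk D).1 (pk_inv D (hpt htk))).1, pcomm p (E *ᵥ e), ((mem_pk D).1 (pk_inv D hep)).1]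
      ring
  have hqq : q ∈ pk D u := kl_le_pk D (pk_self D hw) hqu
  have hqz : pol Q q z = pol Q q t ∧ pol Q q (E *ᵥ z) = pol Q q (E *ᵥ t) := by
    constructor
    · rw [hzdef, padd_right D.quad, padd_right D.quad, ((mem_pk D).1 hqq).1, pcomm q e, ((mem_pk D).1 heq).1]
      ring
    · rw [hzdef, mulVec_add, mulVec_add, padd_right D.quad, padd_right D.quad, ((mem_pk D).1 hqq).2,
        pcomm q (E *ᵥ e), ((mem_pk D).1 (pk_inv D heq)).1]
      ring
  obtain ⟨hz1, hz2⟩ := ain_pair D hM hN hx hp hq hz hzx (by rw [hpz.1, hpz.2, hqz.1, hqz.2]; exact htdet)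
  have hzk : z ∉ kl D x := fun h => by
    have h5 := kl_le_pk D (pk_symm D hpx') h
    exact hAB ⟨by rw [← hpz.1, pcomm, ((mem_pk D).1 h5).1],
      by rw [← hpz.2, pcomm]; exact ((mem_pk D).1 (pk_inv D h5)).1⟩
  have hspread : ∀ {z : ι → F}, Ain D M x z → Ain D M x (E *ᵥ z) → ∀ {w : ι → F}, Q w = 0 → w ∈ pk D x →
      w ∉ pk D z → Ain D M x w ∧ Ain D M x (E *ᵥ w) := by
    intro z h1 h2 w hw hwx hwz
    refine ain_pair D hM hN hx h1 h2 hw hwx ?_
    rw [b_EE D, D.adj]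
    have := hanis (A := pol Q z w) (B := pol Q z (E *ᵥ w))
      fun h => hwz (pk_symm D ((mem_pk D).2 h))
    convert this using 1
    ring
  have hsing : ∀ w ∈ pk D x, Q w = 0 → Ain D M x w := by
    intro w hwx hw
    by_cases hwz : w ∈ pk D z
    swap
    · exact (hspread hz1 hz2 hw hwx hwz).1
    by_cases hin : w ∈ kl D x ⊔ kl D z
    · obtain ⟨a, ha, b, hb, rfl⟩ := Submodule.mem_sup.1 hin
      obtain ⟨c, d, rfl⟩ := Submodule.mem_span_pair.1 hb
      exact Ain.add D hx (Ain.of_kl D hM hN hx ha) (Ain.add D hx (Ain.smul D hz1 c) (Ain.smul D hz2 d))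
    obtain ⟨r, hr, hrz, hrw⟩ := exists_two D hzk (fun h => hin (Submodule.mem_sup_left h) : w ∉ kl D x)
    have hrS : r ∉ kl D x ⊔ kl D z ⊔ kl D w := fun h => hrz
      ((sup_le (sup_le (kl_le_pk D (pk_symm D hzx)) (kl_le_pk D (pk_self D hz))) (kl_le_pk D hwz)) h)
    obtain ⟨a, ha, hra⟩ := exists_qperp_ne D.quad hrS
    have haW : a ∈ pk D x ⊓ pk D z ⊓ pk D w :=
      ⟨⟨(mem_pk D).2 ⟨ha x (Submodule.mem_sup_left (Submodule.mem_sup_left (self_mem_kl D x))),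
          ha _ (Submodule.mem_sup_left (Submodule.mem_sup_left (E_mem_kl D x)))⟩,
        (mem_pk D).2 ⟨ha z (Submodule.mem_sup_left (Submodule.mem_sup_right (self_mem_kl D z))),
          ha _ (Submodule.mem_sup_left (Submodule.mem_sup_right (E_mem_kl D z)))⟩⟩,
        (mem_pk D).2 ⟨ha w (Submodule.mem_sup_right (self_mem_kl D w)),
          ha _ (Submodule.mem_sup_right (E_mem_kl D w))⟩⟩
    obtain ⟨e', ⟨⟨he'x, he'z⟩, he'w⟩, hv⟩ := shift' D r (pk D x ⊓ pk D z ⊓ pk D w)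
      (fun w hw => ⟨⟨pk_inv D hw.1.1, pk_inv D hw.1.2⟩, pk_inv D hw.2⟩) haW (by rw [hra]; exact one_ne_zero)
    obtain ⟨h1, h2⟩ := hspread hz1 hz2 hv ((pk D x).add_mem hr he'x)
      fun h => hrz (by simpa using (pk D z).sub_mem h he'z)
    exact (hspread h1 h2 hw hwx fun h => hrw (by
      simpa using (pk D w).sub_mem (pk_symm D h) he'w)).1
  intro v hv
  by_cases hvq : Q v = 0
  · exact hsing v hv hvq
  have hvk : v ∉ kl D x := fun h => by
    obtain ⟨a, b, rfl⟩ := Submodule.mem_span_pair.1 h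
    exact hvq (q_comb D hx a b)
  obtain ⟨r, hr, hrv⟩ := exists_qperp_ne D.quad (W := kl D x) hvk
  have hb1 := finrank_pk1 D x
  have hb2 := finrank_pk D (pk D x) v
  obtain ⟨w, ⟨hwx, hwv⟩, hw⟩ := shift D r (pk D x ⊓ pk D v) (fun w hw => ⟨pk_inv D hw.1, pk_inv D hw.2⟩) (by omega)
  have hrx : r ∈ pk D x := (mem_pk D).2 ⟨hr x (self_mem_kl D x), hr _ (E_mem_kl D x)⟩
  have hyv : pol Q v (r + w) = 1 := by
    rw [padd_right D.quad, hrv, pcomm, ((mem_pk D).1 hwv).1, add_zero]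
  have hq1 : Q (v - Q v • (r + w)) = 0 := by
    rw [qsub D.quad, qsmul D.quad, hw, psmul_right D.quad, hyv]
    ring
  have hy := (pk D x).smul_mem (Q v) ((pk D x).add_mem hrx hwx)
  have := Ain.add D hx (hsing _ ((pk D x).sub_mem hv hy) hq1) (hsing _ hy (by rw [qsmul D.quad, hw, mul_zero]))
  rwa [sub_add_cancel] at this

/-- the spreading reaches every singular vector -/
theorem ain_everywhere {x p : ι → F} (hx : Q x = 0) (hp : Ain D M x p) (hpx : p ∉ kl D x) (hx0 : x ≠ 0)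
    {x' : ι → F} (hx' : Q x' = 0) : ∀ v ∈ pk D x', Ain D M x' v := by
  have := D.big
  rcases eq_or_ne x' 0 with rfl | hx'0
  · intro v _
    refine ⟨pzero_left D.quad v, fun c => ⟨1, M.one_mem, fun y => ?_⟩⟩
    rw [Units.val_one, one_mulVec, pzero_right D.quad]
    simp
  obtain ⟨z1, hz1⟩ := pk_ne D hx0
  obtain ⟨z2, hz2⟩ := pk_ne D hx'0
  obtain ⟨z, hzx, hzx'⟩ : ∃ z, z ∉ pk D x ∧ z ∉ pk D x' := by
    by_cases h1 : z1 ∈ pk D x'
    · by_cases h2 : z2 ∈ pk D x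
      · exact ⟨z1 + z2, fun h => hz1 (by simpa using (pk D x).sub_mem h h2),
          fun h => hz2 (by simpa using (pk D x').sub_mem h h1)⟩
      · exact ⟨z2, h2, hz2⟩
    · exact ⟨z1, hz1, h1⟩
  have hb1 := finrank_pk1 D x
  have hb2 := finrank_pk D (pk D x) x'
  have hb3 := finrank_pk D (pk D x ⊓ pk D x') z
  obtain ⟨m, ⟨⟨hmx, hmx'⟩, hmz⟩, hm0, hmq⟩ := exists_singular_mem D.quad (pk D x ⊓ pk D x' ⊓ pk D z) (by omega)
  have notin : ∀ t, t ∉ pk D z → t ∉ kl D m := fun t ht h => ht (kl_le_pk D hmz h)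
  have h1 : Ain D M m x := Ain.symm D hx hmq (ain_all D hM hN hx hp hpx m hmx)
  have h2 := ain_all D hM hN hmq h1 (notin x fun h => hzx (pk_symm D h)) x' (pk_symm D hmx')
  refine ain_all D hM hN hx' (Ain.symm D hmq hx' h2) fun h => ?_
  obtain ⟨a, b, hab⟩ := Submodule.mem_span_pair.1 h
  have hab0 : ¬(a = 0 ∧ b = 0) := fun h0 => hm0 (by rw [← hab, h0.1, h0.2, zero_smul, zero_smul, add_zero])
  exact hzx' (pk_symm D (K_inv D (fun w hw => pk_inv D hw) hab0 (hab ▸ hmz)))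

/-- every singular vector has all its Eichler transformations in `M` -/
theorem centre_of {x₀ p₀ : ι → F} (hx₀ : Q x₀ = 0) (hp₀ : Ain D M x₀ p₀) (hpx₀ : p₀ ∉ kl D x₀) (hx₀0 : x₀ ≠ 0)
    {x : ι → F} (hx : Q x = 0) : x ∈ eCentres Q M := by
  have all := fun {x' : ι → F} (h : Q x' = 0) => ain_everywhere D hM hN hx₀ hp₀ hpx₀ hx₀0 (x' := x') h
  have := D.big
  rcases eq_or_ne x 0 with rfl | hx0
  · refine ⟨qzero D.quad, fun a _ => ⟨1, M.one_mem, fun y => ?_⟩⟩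
    rw [Units.val_one, one_mulVec, pzero_right D.quad]
    simp
  obtain ⟨z, hz⟩ := pk_ne D hx0
  have hb1 := finrank_pk1 D x
  obtain ⟨w, hwx, hw⟩ := shift D z (pk D x) (fun w hw => pk_inv D hw) (by omega)
  have hp0x : z + w ∉ pk D x := fun h => hz (by simpa using (pk D x).sub_mem h hwx)
  obtain ⟨α, hα⟩ : ∃ α, α = pol Q x (E *ᵥ (z + w)) := ⟨_, rfl⟩
  obtain ⟨β, hβ⟩ : ∃ β, β = -pol Q x (z + w) := ⟨_, rfl⟩
  have hαβ : ¬(α = 0 ∧ β = 0) := fun h => hp0x (pk_symm D ((mem_pk D).2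
    ⟨neg_eq_zero.1 (hβ ▸ h.2), hα ▸ h.1⟩))
  obtain ⟨p, hp⟩ : ∃ p, p = α • (z + w) + β • (E *ᵥ (z + w)) := ⟨_, rfl⟩
  have hpq : Q p = 0 := hp ▸ q_comb D hw α β
  have hxp : pol Q x p = 0 := by
    rw [hp, padd_right D.quad, psmul_right D.quad, psmul_right D.quad, hα, hβ]; ring
  have hppk : p ∉ pk D x := fun h => hp0x (K_inv D (fun w hw => pk_inv D hw) hαβ (hp ▸ h))
  have hpne : p ≠ 0 := fun h => hppk (h ▸ Submodule.zero_mem _)
  -- a singular vector orthogonal to both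
  have hb2 := finrank_pk D (pk D x) p
  obtain ⟨q, ⟨hqx, hqp⟩, hq0, hqq⟩ := exists_singular_mem D.quad (pk D x ⊓ pk D p) (by omega)
  have hqk : q ∉ kl D x := fun h => by
    obtain ⟨a, b, hab⟩ := Submodule.mem_span_pair.1 h
    have hab0 : ¬(a = 0 ∧ b = 0) := fun h0 => hq0 (by rw [← hab, h0.1, h0.2, zero_smul, zero_smul, add_zero])
    exact hppk (pk_symm D (K_inv D (fun w hw => pk_inv D hw) hab0 (hab ▸ hqp)))
  obtain ⟨r, hr, hrq, -⟩ := exists_two D hqk hqk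
  have hb3 := finrank_pk D (pk D x) q
  obtain ⟨w', ⟨hw'x, hw'q⟩, hw'⟩ := shift D r (pk D x ⊓ pk D q) (fun w hw => ⟨pk_inv D hw.1, pk_inv D hw.2⟩) (by omega)
  obtain ⟨y, hyx, hyq, hyB⟩ : ∃ y ∈ pk D x, Q y = 0 ∧ pol Q y q ≠ 0 := by
    have hy0 : r + w' ∉ pk D q := fun h => hrq (by simpa using (pk D q).sub_mem h hw'q)
    have hmem := (pk D x).add_mem hr hw'x
    by_cases h1 : pol Q (r + w') q = 0
    · refine ⟨E *ᵥ (r + w'), pk_inv D hmem, q_E D hw', ?_⟩
      rw [D.adj, h1, mul_zero, zero_sub, neg_ne_zero]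
      exact fun h2 => hy0 ((mem_pk D).2 ⟨h1, h2⟩)
    · exact ⟨_, hmem, hw', h1⟩
  obtain ⟨g, hg, hgE⟩ := (all hpq q hqp).2 1
  rw [one_smul] at hgE
  have hxq : pol Q x q = 0 := ((mem_pk D).1 (pk_symm D hqx)).1
  have hgx : (g : Matrix ι ι F) *ᵥ x = x := by
    rw [hgE, hxp, hxq]
    simp
  have h3 := Ain.conj D hM (all hx y hyx) hg
  rw [hgx, hgE, hqq, zero_mul, zero_smul, sub_zero] at h3
  -- the component outside the orthogonal over the overfield
  have h4 : Ain D M x p := by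
    have h5 := Ain.smul D (Ain.sub D hx (Ain.add D hx (all hx y hyx) (Ain.smul D (all hx q hqx) (pol Q y p))) h3)
      (pol Q y q)⁻¹
    convert h5 using 1
    rw [show y + pol Q y p • q - (y + pol Q y p • q - pol Q y q • p) = pol Q y q • p by abel, inv_smul_smul₀ hyB]
  refine ⟨hx, fun a ha => ?_⟩
  have hpEx : pol Q p (E *ᵥ x) ≠ 0 := fun h => hppk ((mem_pk D).2 ⟨by rw [pcomm, hxp], h⟩)
  obtain ⟨l, hl⟩ : ∃ l, l = pol Q a (E *ᵥ x) / pol Q p (E *ᵥ x) := ⟨_, rfl⟩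
  have hmem : a - l • p ∈ pk D x := (mem_pk D).2
    ⟨by rw [psub_left D.quad, psmul_left D.quad, pcomm a, ha, pcomm p, hxp, mul_zero, sub_zero],
     by rw [psub_left D.quad, psmul_left D.quad, hl, div_mul_cancel₀ _ hpEx, sub_self]⟩
  have h6 := Ain.add D hx (all hx _ hmem) (Ain.smul D h4 l)
  rw [sub_add_cancel] at h6
  have h7 := h6.2 1
  rwa [one_smul] at h7

end CfsgLib.Perm.Trans.Quad.Over
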