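import Cfsg.Agent.Lib.Perm.Trans.QuadDecompClass

/-!
# Nondegenerate planes over finite fields
-/

set_option autoImplicit false
set_option linter.all false

namespace CfsgLib.Perm.Trans.Quad

open scoped Matrix commutatorElement
open Matrix Cfsg.Geo CfsgLib.Perm.Asch CfsgLib.Perm.Trans

variable {ι : Type} [Fintype ι] [DecidableEq ι] {F : Type*} [Field F] [Fintype F]
variable {Q : (ι → F) → F}

local notation "pol" => QuadraticMap.polar

/-- `3` is excluded, and a plane with singular points needs at least seven field elements -/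
def PlaneOK (Q : (ι → F) → F) (P : Submodule F (ι → F)) : Prop :=
  Fintype.card F ≠ 3 ∧ ((∃ e ∈ P, e ≠ 0 ∧ Q e = 0) → 7 ≤ Fintype.card F)

/-- quotients of nonsquares are squares -/
theorem square_ratio (a b c : F) (ha : a ≠ 0) (hb : b ≠ 0) (hc : c ≠ 0) :
    IsSquare (b / a) ∨ IsSquare (c / a) ∨ IsSquare (c / b) := by
  classical
  by_cases h1 : IsSquare (b / a)
  · exact Or.inl h1
  by_cases h2 : IsSquare (c / a)
  · exact Or.inr (Or.inl h2)
  refine Or.inr (Or.inr ((quadraticChar_one_iff_isSquare (div_ne_zero hc hb)).1 ?_))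
  rw [show c / b = c / a * (b / a) * (a / b) ^ 2 by field_simp, map_mul, map_mul,
    quadraticChar_sq_one' (div_ne_zero ha hb), quadraticChar_neg_one_iff_not_isSquare.2 h1,
    quadraticChar_neg_one_iff_not_isSquare.2 h2]
  norm_num

/-- the vectors pairing to one with `x` -/
def valSet (Q : (ι → F) → F) (P : Submodule F (ι → F)) (x : ι → F) : Set F :=
  {a | ∃ u ∈ P, pol Q x u = 1 ∧ Q u = a}

variable (hQ : IsNondegenerateQuadraticForm Q) {P : Submodule F (ι → F)}
include hQ

omit [Fintype F] in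
theorem plane_base (hP : NdOn Q P) (hd : Module.finrank F P = 2) {x : ι → F} (hx : x ∈ P) (hx0 : x ≠ 0) :
    ∃ p ∈ P, pol Q x p = 1 ∧ ∃ n ∈ P, n ≠ 0 ∧ pol Q x n = 0 ∧ ∀ w ∈ P, pol Q x w = 0 → ∃ s : F, w = s • n := by
  obtain ⟨p₀, hp₀, hxp₀⟩ := (hP x hx hx0).2
  obtain ⟨p, hp⟩ : ∃ p, p = (pol Q x p₀)⁻¹ • p₀ := ⟨_, rfl⟩
  have hpP : p ∈ P := hp ▸ P.smul_mem _ hp₀
  have hxp : pol Q x p = 1 := by rw [hp, psmul_right hQ, inv_mul_cancel₀ hxp₀]
  have h1 := finrank_inf_pfl hQ P x
  obtain ⟨n, hn, hn0⟩ := Submodule.exists_mem_ne_zero_of_ne_bot (p := P ⊓ LinearMap.ker (pfl hQ x))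
    (fun h => by rw [h, finrank_bot] at h1; omega)
  have hxn : pol Q x n = 0 := by rw [pcomm]; exact hn.2
  refine ⟨p, hpP, hxp, n, hn.1, hn0, hxn, fun w hw hxw => ?_⟩
  have hlt := Submodule.finrank_lt_finrank_of_lt (lt_of_le_of_ne (inf_le_left : P ⊓ LinearMap.ker (pfl hQ x) ≤ P)
    fun h => by
      have h3 : pol Q p x = 0 := (h.symm ▸ hpP : p ∈ P ⊓ LinearMap.ker (pfl hQ x)).2
      rw [pcomm, hxp] at h3
      exact one_ne_zero h3)
  have heq := Submodule.eq_of_le_of_finrank_le ((Submodule.span_singleton_le_iff_mem _ _).2 hn)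
    (by rw [finrank_span_singleton hn0]; omega)
  have hmem : w ∈ P ⊓ LinearMap.ker (pfl hQ x) := ⟨hw, show pol Q w x = 0 by rw [pcomm]; exact hxw⟩
  rw [← heq] at hmem
  obtain ⟨s, hs⟩ := Submodule.mem_span_singleton.1 hmem
  exact ⟨s, hs.symm⟩

omit [Fintype F] in
theorem plane_nonsingular_perp (hP : NdOn Q P) (hd : Module.finrank F P = 2) {x : ι → F} (hx : x ∈ P)
    (hQx : Q x ≠ 0) : ∃ n ∈ P, Q n ≠ 0 ∧ pol Q n x = 0 := by
  obtain ⟨p, hp, hxp, n, hn, hn0, hxn, hall⟩ := plane_base hQ hP hd hx (fun h => hQx (by rw [h]; exact qzero hQ))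
  refine ⟨n, hn, fun hQn => ?_, by rw [pcomm]; exact hxn⟩
  -- an isotropic `n` would be radical
  obtain ⟨y, hy, hny⟩ := (hP n hn hn0).2
  obtain ⟨s, hs⟩ := hall (y - pol Q x y • p) (P.sub_mem hy (P.smul_mem _ hp))
    (by rw [psub_right hQ, psmul_right hQ, hxp, mul_one, sub_self])
  obtain ⟨s', hs'⟩ := hall (x - pol Q x x • p) (P.sub_mem hx (P.smul_mem _ hp))
    (by rw [psub_right hQ, psmul_right hQ, hxp, mul_one, sub_self])
  have hnn : pol Q n n = 0 := by rw [pself hQ, hQn, mul_zero]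
  have h1 := congrArg (fun z => pol Q n z) hs
  simp only [psub_right hQ, psmul_right hQ, hnn, mul_zero, sub_eq_zero] at h1
  have h2 := congrArg (fun z => pol Q n z) hs'
  simp only [psub_right hQ, psmul_right hQ, hnn, mul_zero, sub_eq_zero, pcomm n x, hxn] at h2
  by_cases hnp : pol Q n p = 0
  · exact hny (by rw [h1, hnp, mul_zero])
  have hxx : pol Q x x = 0 := (mul_eq_zero.1 h2.symm).resolve_right hnp
  have hsn : x = s' • n := by rw [hxx, zero_smul, sub_zero] at hs'; exact hs'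
  exact hQx (by rw [hsn, qsmul hQ, hQn, mul_zero])

omit [Fintype F] in
theorem valSet_apply {x p n : ι → F} (hp : p ∈ P) (hxp : pol Q x p = 1) (hn : n ∈ P) (hxn : pol Q x n = 0) (s : F) :
    Q p + s * pol Q p n + s ^ 2 * Q n ∈ valSet Q P x :=
  ⟨p + s • n, P.add_mem hp (P.smul_mem _ hn), by rw [padd_right hQ, psmul_right hQ, hxn, hxp, mul_zero, add_zero],
    by rw [qadd hQ, qsmul hQ, psmul_right hQ]; ring⟩

omit [Fintype F] in
theorem zero_notMem_valSet (hns : ∀ e ∈ P, e ≠ 0 → Q e ≠ 0) {x : ι → F} : (0 : F) ∉ valSet Q P x := by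
  rintro ⟨u, hu, hxu, hQu⟩
  exact hns u hu (fun h => by rw [h, pzero_right hQ] at hxu; exact zero_ne_one hxu) hQu

theorem valSet_card (hP : NdOn Q P) (hd : Module.finrank F P = 2) {x : ι → F} (hx : x ∈ P) (hx0 : x ≠ 0) :
    Fintype.card F ≤ 2 * Nat.card (valSet Q P x) := by
  classical
  obtain ⟨p, hp, hxp, n, hn, hn0, hxn, hall⟩ := plane_base hQ hP hd hx hx0
  have hsub : Finset.univ.image (fun s => Q p + s * pol Q p n + s ^ 2 * Q n) ⊆ (valSet Q P x).toFinset := by
    intro a ha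
    obtain ⟨s, -, rfl⟩ := Finset.mem_image.1 ha
    rw [Set.mem_toFinset]
    exact valSet_apply hQ hp hxp hn hxn s
  rw [Nat.card_eq_card_toFinset]
  refine le_trans (Finset.card_le_mul_card_image (f := fun s => Q p + s * pol Q p n + s ^ 2 * Q n)
    (Finset.univ : Finset F) 2 fun a ha => ?_) (Nat.mul_le_mul_left _ (Finset.card_le_card hsub))
  by_contra hcon
  obtain ⟨s₁, h1, s₂, h2, s₃, h3, h12, h13, h23⟩ := Finset.two_lt_card.1 (not_le.1 hcon)
  simp only [Finset.mem_filter, Finset.mem_univ, true_and] at h1 h2 h3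
  have e2 : (s₁ - s₂) * (pol Q p n + (s₁ + s₂) * Q n) = 0 := by linear_combination h1 - h2
  have e3 : (s₁ - s₃) * (pol Q p n + (s₁ + s₃) * Q n) = 0 := by linear_combination h1 - h3
  rw [mul_eq_zero, sub_eq_zero] at e2 e3
  have f2 := e2.resolve_left h12
  have f3 := e3.resolve_left h13
  have f4 : (s₂ - s₃) * Q n = 0 := by linear_combination f2 - f3
  rw [mul_eq_zero, sub_eq_zero] at f4
  have hQn := f4.resolve_left h23
  rw [hQn, mul_zero, add_zero] at f2
  obtain ⟨y, hy, hny⟩ := (hP n hn hn0).2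
  obtain ⟨s, hs⟩ := hall (y - pol Q x y • p) (P.sub_mem hy (P.smul_mem _ hp))
    (by rw [psub_right hQ, psmul_right hQ, hxp, mul_one, sub_self])
  refine hny ?_
  have h4 := congrArg (fun z => pol Q n z) hs
  simp only [psub_right hQ, psmul_right hQ, pself hQ n, hQn, pcomm n p, f2, mul_zero, sub_zero] at h4
  exact h4

/-- nonzero values of vectors pairing to one -/
theorem valSet_nonzero_card (hP : NdOn Q P) (hd : Module.finrank F P = 2) {x : ι → F} (hx : x ∈ P) (hx0 : x ≠ 0) :
    (Fintype.card F ≤ 2 * Nat.card (valSet Q P x \ {0} : Set F) ∧ ¬ ∃ e ∈ P, e ≠ 0 ∧ Q e = 0) ∨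
      (Fintype.card F ≤ 2 * Nat.card (valSet Q P x \ {0} : Set F) + 2 ∧ ∃ e ∈ P, e ≠ 0 ∧ Q e = 0) := by
  have h1 := valSet_card hQ hP hd hx hx0
  rw [Nat.card_coe_set_eq] at h1
  rw [Nat.card_coe_set_eq]
  by_cases hiso : ∃ e ∈ P, e ≠ 0 ∧ Q e = 0
  · refine Or.inr ⟨?_, hiso⟩
    have h2 := Set.ncard_le_ncard_sdiff_add_ncard (valSet Q P x) ({0} : Set F) (Set.finite_singleton 0)
    rw [Set.ncard_singleton] at h2
    omega
  · refine Or.inl ⟨?_, hiso⟩
    push Not at hiso
    rw [Set.sdiff_singleton_eq_self (zero_notMem_valSet hQ hiso)]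
    exact h1

theorem exists_valSet_ne (hP : NdOn Q P) (hd : Module.finrank F P = 2) (hok : PlaneOK Q P) {x : ι → F} (hx : x ∈ P)
    (hx0 : x ≠ 0) (d : F) (h2 : Fintype.card F = 2 → d = 0) : ∃ v ∈ valSet Q P x, v ≠ 0 ∧ v ≠ d := by
  by_contra hcon
  push Not at hcon
  have h3 : valSet Q P x \ {0} ⊆ {d} := fun v hv => hcon v hv.1 fun h => hv.2 (by rw [h]; rfl)
  have h4 := Set.ncard_le_ncard h3 (Set.finite_singleton _)
  rw [Set.ncard_singleton] at h4
  have h5 := hok.1
  have h6 := Fintype.one_lt_card (α := F)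
  rcases valSet_nonzero_card hQ hP hd hx hx0 with ⟨h1, hiso⟩ | ⟨h1, hiso⟩
  · rw [Nat.card_coe_set_eq] at h1
    have h7 : valSet Q P x \ {0} = {d} := Set.eq_of_subset_of_ncard_le h3 (by rw [Set.ncard_singleton]; omega)
    have h8 : d ∈ valSet Q P x \ {0} := h7 ▸ rfl
    exact h8.2 (by rw [h2 (by omega)]; rfl)
  · rw [Nat.card_coe_set_eq] at h1
    have := hok.2 hiso
    omega

/-- a second nonsingular direction not orthogonal to a given one -/
theorem plane_partner (hP : NdOn Q P) (hd : Module.finrank F P = 2) (hok : PlaneOK Q P) {a : ι → F} (ha : a ∈ P)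
    (hQa : Q a ≠ 0) : ∃ b ∈ P, pol Q a b = 1 ∧ Q b ≠ 0 ∧ b ∉ Submodule.span F {a} := by
  obtain ⟨v, hv, hv0, hvne⟩ := exists_valSet_ne hQ hP hd hok ha (fun h => hQa (by rw [h]; exact qzero hQ))
    ((2 * Q a)⁻¹ ^ 2 * Q a) (fun h7 => by
      have h8 : ((2 : ℕ) : F) = 0 := by rw [← h7]; exact FiniteField.cast_card_eq_zero F
      rw [show (2 : F) = 0 by simpa using h8]
      simp)
  obtain ⟨b, hb, hab, hQb⟩ := hv
  refine ⟨b, hb, hab, by rw [hQb]; exact hv0, fun h => ?_⟩
  obtain ⟨r, rfl⟩ := Submodule.mem_span_singleton.1 h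
  rw [psmul_right hQ, pself hQ] at hab
  exact hvne (by rw [← hQb, qsmul hQ, eq_inv_of_mul_eq_one_left hab])

/-- two reflections whose commutator fixes no nonzero vector of the plane -/
theorem plane_rotation (hP : NdOn Q P) (hd : Module.finrank F P = 2) (hok : PlaneOK Q P) :
    ∃ a ∈ P, ∃ b ∈ P, Q a ≠ 0 ∧ Q b ≠ 0 ∧ ∀ r s : GL ι F, IsRefl Q a r → IsRefl Q b s →
      ∀ y ∈ P, ((r * s * (r * s) : GL ι F) : Matrix ι ι F) *ᵥ y = y → y = 0 := by
  obtain ⟨a, ha, hQa⟩ := exists_nonsingular hQ hP (fun h => by rw [h, finrank_bot] at hd; omega)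
  obtain ⟨b, hb, hab, hQb, hbsp⟩ := plane_partner hQ hP hd hok ha hQa
  refine ⟨a, ha, b, hb, hQa, hQb, fun r s hr hs y hy hfix => ?_⟩
  have hrr := mul_eq_one_iff_inv_eq.1 (refl_mul_self hQ hQa hr)
  have hss := mul_eq_one_iff_inv_eq.1 (refl_mul_self hQ hQb hs)
  have h1 : ((r * s : GL ι F) : Matrix ι ι F) *ᵥ y = ((s * r : GL ι F) : Matrix ι ι F) *ᵥ y := by
    conv_rhs => rw [← hfix, show s * r = (r * s)⁻¹ by rw [_root_.mul_inv_rev, hrr, hss], gl_mul_mulVec (r * s) (r * s),
      gl_inv_mulVec]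
  rw [gl_mul_mulVec, gl_mul_mulVec, hs, hr, hr, hs] at h1
  simp only [psub_left hQ, psmul_left hQ, pcomm b a, hab] at h1
  have h2 : ((Q a)⁻¹ * ((Q b)⁻¹ * pol Q y b)) • a - ((Q b)⁻¹ * ((Q a)⁻¹ * pol Q y a)) • b = 0 := by
    linear_combination (norm := module) h1
  have hya : pol Q y a = 0 := by
    by_contra hne
    refine hbsp ((Submodule.smul_mem_iff _ (mul_ne_zero (inv_ne_zero hQb) (mul_ne_zero (inv_ne_zero hQa) hne))).1 ?_)
    rw [← sub_eq_zero.1 h2]
    exact Submodule.smul_mem _ _ (Submodule.mem_span_singleton_self a)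
  rw [hya, mul_zero, mul_zero, zero_smul, sub_zero, smul_eq_zero] at h2
  have hyb : pol Q y b = 0 := by
    have ha0 : a ≠ 0 := fun h => hQa (by rw [h]; exact qzero hQ)
    simpa [hQa, hQb] using h2.resolve_right ha0
  obtain ⟨p, -, -, n, -, hn0, -, hall⟩ := plane_base hQ hP hd ha (fun h => hQa (by rw [h]; exact qzero hQ))
  by_contra hy0
  obtain ⟨w, hw, hyw⟩ := (hP y hy hy0).2
  have hspan : Submodule.span F {a, b} = P := by
    refine Submodule.eq_of_le_of_finrank_le (Submodule.span_le.2 (by rintro z (rfl | rfl); exacts [ha, hb])) ?_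
    have hlt := Submodule.finrank_lt_finrank_of_lt (lt_of_le_of_ne
      (Submodule.span_mono (Set.singleton_subset_iff.2 (Or.inl rfl)) :
        Submodule.span F {a} ≤ Submodule.span F ({a, b} : Set (ι → F)))
      fun h => hbsp (h.symm ▸ Submodule.subset_span (Or.inr rfl)))
    rw [finrank_span_singleton (fun h => hQa (by rw [h]; exact qzero hQ))] at hlt
    omega
  rw [← hspan] at hw
  obtain ⟨m, m', rfl⟩ := Submodule.mem_span_pair.1 hw
  exact hyw (by rw [padd_right hQ, psmul_right hQ, psmul_right hQ, hya, hyb]; ring)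

/-- the multipliers reach every field element -/
theorem plane_line_full (hP : NdOn Q P) (hd : Module.finrank F P = 2) (hok : PlaneOK Q P)
    (S : AddSubgroup (ι → F))
    (hinv : ∀ a ∈ P, Q a ≠ 0 → ∀ y ∈ P, y ∈ S → y - ((Q a)⁻¹ * pol Q y a) • a ∈ S)
    {s₀ : ι → F} (hs₀ : s₀ ∈ P) (hs₀0 : s₀ ≠ 0) (hs₀S : s₀ ∈ S) : ∀ y ∈ P, y ∈ S := by
  classical
  have hq1 := Fintype.one_lt_card (α := F)
  have hfin : ∀ x : ι → F, (valSet Q P x).Finite := fun x => Set.toFinite _
  -- nonzero values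
  have hnz : ∀ x ∈ P, x ≠ 0 →
      Fintype.card F ≤ 2 * Nat.card (valSet Q P x \ {0} : Set F) + (if ∃ e ∈ P, e ≠ 0 ∧ Q e = 0 then 2 else 0) := by
    intro x hx hx0
    have h1 := valSet_card hQ hP hd hx hx0
    rw [Nat.card_coe_set_eq] at h1
    rw [Nat.card_coe_set_eq]
    split_ifs with hiso
    · have h2 := Set.ncard_le_ncard_sdiff_add_ncard (valSet Q P x) ({0} : Set F) (Set.finite_singleton 0)
      rw [Set.ncard_singleton] at h2
      omega
    · push Not at hiso
      rw [Set.sdiff_singleton_eq_self (zero_notMem_valSet hQ hiso), add_zero]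
      exact h1
  obtain ⟨a, ha, hsa, hQa⟩ : ∃ a ∈ P, pol Q s₀ a ≠ 0 ∧ Q a ≠ 0 := by
    have h1 := hnz s₀ hs₀ hs₀0
    obtain ⟨v, ⟨u, hu, hsu, hQu⟩, hv0⟩ : ∃ v, v ∈ valSet Q P s₀ \ {0} := by
      by_contra hcon
      push Not at hcon
      rw [Set.eq_empty_iff_forall_notMem.2 hcon, Nat.card_coe_set_eq, Set.ncard_empty] at h1
      split_ifs at h1 with hiso
      · have := hok.2 hiso
        omega
      · omega
    refine ⟨u, hu, by rw [hsu]; exact one_ne_zero, fun h => hv0 ?_⟩
    rw [Set.mem_singleton_iff, ← hQu, h]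
  have ha0 : a ≠ 0 := fun h => hQa (by rw [h]; exact qzero hQ)
  let K : AddSubgroup F :=
    { carrier := {l | l • a ∈ S}
      zero_mem' := by simp [S.zero_mem]
      add_mem' := fun {l m} hl hm => by
        show (l + m) • a ∈ S
        rw [add_smul]; exact S.add_mem hl hm
      neg_mem' := fun {l} hl => by
        show (-l) • a ∈ S
        rw [neg_smul]; exact S.neg_mem hl }
  obtain ⟨l₀, hl₀, hl₀0⟩ : ∃ l, l ∈ K ∧ l ≠ 0 := by
    refine ⟨(Q a)⁻¹ * pol Q s₀ a, ?_, mul_ne_zero (inv_ne_zero hQa) hsa⟩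
    have h1 := S.sub_mem hs₀S (hinv a ha hQa s₀ hs₀ hs₀S)
    rwa [sub_sub_cancel] at h1
  have hback : ∀ b ∈ P, Q b ≠ 0 → pol Q a b = 1 → ∀ l ∈ K, ((Q b)⁻¹ * l) • b ∈ S := by
    intro b hb hQb hab l hl
    have h1 := S.sub_mem hl (hinv b hb hQb (l • a) (P.smul_mem _ ha) hl)
    rwa [sub_sub_cancel, psmul_left hQ, hab, mul_one] at h1
  let L : Subring F :=
    { carrier := {μ | ∀ l ∈ K, μ * l ∈ K}
      zero_mem' := fun l _ => by rw [zero_mul]; exact K.zero_mem
      one_mem' := fun l hl => by rw [one_mul]; exact hl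
      add_mem' := fun {μ ν} hμ hν l hl => by rw [add_mul]; exact K.add_mem (hμ l hl) (hν l hl)
      neg_mem' := fun {μ} hμ l hl => by rw [neg_mul]; exact K.neg_mem (hμ l hl)
      mul_mem' := fun {μ ν} hμ hν l hl => by rw [mul_assoc]; exact hμ _ (hν l hl) }
  let K' : Subfield F :=
    { L with
      inv_mem' := fun x hx => by
        rcases eq_or_ne x 0 with rfl | hx0
        · rw [_root_.inv_zero]; exact L.zero_mem
        · have h1 : x ^ (Fintype.card F - 2) * x = 1 := by
            rw [← pow_succ, show Fintype.card F - 2 + 1 = Fintype.card F - 1 by omega]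
            exact FiniteField.pow_card_sub_one_eq_one x hx0
          rw [← eq_inv_of_mul_eq_one_left h1]
          exact L.pow_mem hx _ }
  have hKcard : Nat.card (valSet Q P a \ {0} : Set F) + 1 ≤ Nat.card K' := by
    obtain ⟨f, hf⟩ : ∃ f : F → F, f = fun v => (Q a)⁻¹ * v⁻¹ := ⟨_, rfl⟩
    have hsub : insert (0 : F) (f '' (valSet Q P a \ {0})) ⊆ (K' : Set F) := by
      rintro μ (rfl | ⟨v, ⟨⟨b, hb, hab, hQb⟩, hv0⟩, rfl⟩)
      · exact K'.zero_mem
      intro l hl
      have hv0' : v ≠ 0 := fun h => hv0 (by rw [h]; rfl)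
      have hQb0 : Q b ≠ 0 := by rw [hQb]; exact hv0'
      have h1 := hback b hb hQb0 hab l hl
      have h2 := S.sub_mem h1 (hinv a ha hQa _ (P.smul_mem _ hb) h1)
      rw [sub_sub_cancel, psmul_left hQ, pcomm b a, hab, mul_one, hQb] at h2
      show (f v * l) • a ∈ S
      rw [hf, mul_assoc]
      exact h2
    have h0 : (0 : F) ∉ f '' (valSet Q P a \ {0}) := by
      rintro ⟨v, hv, hv'⟩
      rw [hf] at hv'
      rcases mul_eq_zero.1 hv' with h | h
      · exact hQa (inv_eq_zero.1 h)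
      · exact hv.2 (inv_eq_zero.1 h)
    have h1 := Set.ncard_le_ncard hsub (Set.toFinite _)
    rw [Set.ncard_insert_of_notMem h0, Set.ncard_image_of_injective _ (fun v w h => by
      rw [hf] at h
      exact inv_injective (mul_left_cancel₀ (inv_ne_zero hQa) h))] at h1
    exact h1
  have hKtop : ∀ μ, μ ∈ K' := by
    have h1 := hnz a ha ha0
    haveI : Fintype K' := Fintype.ofFinite K'
    have h2 := Module.card_eq_pow_finrank (K := K') (V := F)
    have h3 : Nat.card K' = Fintype.card K' := Nat.card_eq_fintype_card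
    have h5 : Fintype.card K' * Fintype.card K' > Fintype.card F := by
      have h6 : 2 ≤ Fintype.card K' := Fintype.one_lt_card
      split_ifs at h1 with hiso
      · have h7 := hok.2 hiso
        have h8 : Fintype.card F ≤ 2 * Fintype.card K' := by omega
        nlinarith [Nat.mul_le_mul_left (Fintype.card K') (show 4 ≤ Fintype.card K' by omega)]
      · have h8 : Fintype.card F + 2 ≤ 2 * Fintype.card K' := by omega
        nlinarith
    have h4 : Module.finrank K' F = 1 := by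
      by_contra hne
      have hpos : 0 < Module.finrank K' F := Module.finrank_pos
      have : Fintype.card K' * Fintype.card K' ≤ Fintype.card F := by
        rw [h2, ← sq]
        exact Nat.pow_le_pow_right Fintype.card_pos (by omega)
      omega
    intro μ
    rw [h4, pow_one] at h2
    have h9 : Set.ncard (K' : Set F) = Nat.card F := by
      rw [← Nat.card_coe_set_eq, Nat.card_eq_fintype_card (α := F), h2]
      exact h3
    have h10 : (K' : Set F) = Set.univ := Set.eq_of_subset_of_ncard_le (Set.subset_univ _) (by rw [Set.ncard_univ, h9])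
    exact (Set.eq_univ_iff_forall.1 h10) μ
  have haline : ∀ l : F, l • a ∈ S := fun l => by
    have h1 : (l / l₀) * l₀ ∈ K := hKtop (l / l₀) l₀ hl₀
    rwa [div_mul_cancel₀ _ hl₀0] at h1
  obtain ⟨b, hb, hab, hQb, hbsp⟩ := plane_partner hQ hP hd hok ha hQa
  have hbline : ∀ l : F, l • b ∈ S := fun l => by
    have h1 := hback b hb hQb hab (Q b * l) (haline _)
    rwa [inv_mul_cancel_left₀ hQb] at h1
  have hspan : Submodule.span F {a, b} = P := by
    refine Submodule.eq_of_le_of_finrank_le (Submodule.span_le.2 (by rintro z (rfl | rfl); exacts [ha, hb])) ?_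
    have hlt := Submodule.finrank_lt_finrank_of_lt (lt_of_le_of_ne
      (Submodule.span_mono (Set.singleton_subset_iff.2 (Or.inl rfl)) :
        Submodule.span F {a} ≤ Submodule.span F ({a, b} : Set (ι → F)))
      fun h => hbsp (h.symm ▸ Submodule.subset_span (Or.inr rfl)))
    rw [finrank_span_singleton ha0] at hlt
    omega
  intro y hy
  rw [← hspan] at hy
  obtain ⟨r, r', rfl⟩ := Submodule.mem_span_pair.1 hy
  exact S.add_mem (haline r) (hbline r')

/-- orthogonal vectors of one value in a plane have a common neighbour of that value -/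
theorem exists_connect_plane (hok : PlaneOK Q P) {c : F} (hc : c ≠ 0) {v w : ι → F} (hv : v ∈ P) (hw : w ∈ P)
    (hQv : Q v = c) (hQw : Q w = c) (hvw : pol Q v w = 0) (hd : Module.finrank F P = 2) (hP : NdOn Q P)
    (hsp : w ∉ Submodule.span F {v}) : ∃ y ∈ P, Q y = c ∧ pol Q y v ≠ 0 ∧ pol Q y w ≠ 0 := by
  classical
  by_cases h2 : (2 : F) = 0
  · exfalso
    obtain ⟨p, -, -, n, -, -, -, hall⟩ := plane_base hQ hP hd hv (fun h => hc (by rw [← hQv, h, qzero hQ]))
    obtain ⟨s, hs⟩ := hall v hv (by rw [pself hQ, h2, zero_mul])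
    obtain ⟨s', hs'⟩ := hall w hw hvw
    have hs0 : s ≠ 0 := fun h => hc (by rw [← hQv, hs, h, zero_smul, qzero hQ])
    exact hsp (Submodule.mem_span_singleton.2 ⟨s' / s, by rw [hs, smul_smul, div_mul_cancel₀ _ hs0, ← hs']⟩)
  have hq7 : 7 ≤ Fintype.card F := by
    by_contra hlt
    have h1 := Fintype.one_lt_card (α := F)
    obtain ⟨p, hp⟩ := CharP.exists F
    obtain ⟨e, hpp, hpe⟩ := FiniteField.card F p
    have hne : ∀ {m : ℕ}, Fintype.card F = m → m ≠ 0 → ((m : F) = 0) := fun hm _ => by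
      rw [← hm]; exact FiniteField.cast_card_eq_zero F
    have h7 : Fintype.card F ≠ 2 := fun h => h2 (by simpa using hne h two_ne_zero)
    have h8 : Fintype.card F ≠ 4 := fun h => h2 (by
      have := hne h (by norm_num)
      have h9 : (2 : F) * 2 = 0 := by linear_combination this
      exact mul_self_eq_zero.1 h9)
    have h10 : Fintype.card F ≠ 6 := fun h => by
      rw [h] at hpe
      have hdvd : p ∣ 6 := hpe ▸ dvd_pow_self p e.pos.ne'
      have hp6 := Nat.le_of_dvd (by norm_num) hdvd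
      have := hpp.two_le
      interval_cases p <;> try omega
      · have h3 := (Nat.prime_dvd_prime_iff_eq Nat.prime_three hpp).1
          ((Nat.prime_three).dvd_of_dvd_pow (hpe ▸ (by norm_num : 3 ∣ 6)))
        omega
      · have h3 := (Nat.prime_dvd_prime_iff_eq Nat.prime_two hpp).1
          ((Nat.prime_two).dvd_of_dvd_pow (hpe ▸ (by norm_num : 2 ∣ 6)))
        omega
      · norm_num at hpp
    have h5 : Fintype.card F = 5 := by
      have := hok.1
      omega
    have h50 : ((5 : ℕ) : F) = 0 := hne h5 (by norm_num)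
    have := hok.2 ⟨v + (2 : F) • w, P.add_mem hv (P.smul_mem _ hw), fun h => by
      have h3 := congrArg (fun z => pol Q z v) h
      simp only [padd_left hQ, psmul_left hQ, pself hQ, hQv, pcomm w v, hvw, mul_zero, add_zero, pzero_left hQ] at h3
      exact mul_ne_zero h2 hc h3, by
      rw [qadd hQ, qsmul hQ, hQv, hQw, psmul_right hQ, hvw]
      push_cast at h50
      linear_combination c * h50⟩
    omega
  obtain ⟨m, hm0, hm1, hm2⟩ : ∃ m : F, m ≠ 0 ∧ m ^ 2 - 1 ≠ 0 ∧ m ^ 2 + 1 ≠ 0 := by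
    by_contra hcon
    push Not at hcon
    by_cases hi : ∃ i : F, i ^ 2 + 1 = 0
    · obtain ⟨i, hi⟩ := hi
      have hsub : (Finset.univ : Finset F) ⊆ {0, 1, -1, i, -i} := fun m _ => by
        simp only [Finset.mem_insert, Finset.mem_singleton]
        by_cases h0 : m = 0
        · exact Or.inl h0
        by_cases h1 : m ^ 2 - 1 = 0
        · rcases mul_self_eq_one_iff.1 (show m * m = 1 by linear_combination h1) with h | h
          · exact Or.inr (Or.inl h)
          · exact Or.inr (Or.inr (Or.inl h))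
        have h3 := hcon m h0 h1
        rcases mul_self_eq_mul_self_iff.1 (show m * m = i * i by linear_combination h3 - hi) with h | h
        · exact Or.inr (Or.inr (Or.inr (Or.inl h)))
        · exact Or.inr (Or.inr (Or.inr (Or.inr h)))
      have h5 := (Finset.card_le_card hsub).trans Finset.card_le_five
      rw [Finset.card_univ] at h5
      omega
    · push Not at hi
      have hsub : (Finset.univ : Finset F) ⊆ {0, 1, -1} := fun m _ => by
        simp only [Finset.mem_insert, Finset.mem_singleton]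
        by_cases h0 : m = 0
        · exact Or.inl h0
        by_cases h1 : m ^ 2 - 1 = 0
        · exact Or.inr (mul_self_eq_one_iff.1 (by linear_combination h1))
        exact absurd (hcon m h0 h1) (hi m)
      have h5 := (Finset.card_le_card hsub).trans Finset.card_le_three
      rw [Finset.card_univ] at h5
      omega
  obtain ⟨s, hs⟩ : ∃ s, s = (1 - m ^ 2) / (m ^ 2 + 1) := ⟨_, rfl⟩
  obtain ⟨r, hr⟩ : ∃ r, r = 2 * m / (m ^ 2 + 1) := ⟨_, rfl⟩
  have h2c : 2 * c ≠ 0 := mul_ne_zero h2 hc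
  refine ⟨s • v + r • w, P.add_mem (P.smul_mem _ hv) (P.smul_mem _ hw), ?_, ?_, ?_⟩
  · rw [qadd hQ, qsmul hQ, qsmul hQ, hQv, hQw, psmul_left hQ, psmul_right hQ, hvw, hs, hr]
    field_simp
    ring
  · rw [padd_left hQ, psmul_left hQ, psmul_left hQ, pself hQ, hQv, pcomm w v, hvw, mul_zero, add_zero, hs]
    exact mul_ne_zero (div_ne_zero (fun h => hm1 (by linear_combination -h)) hm2) h2c
  · rw [padd_left hQ, psmul_left hQ, psmul_left hQ, pself hQ, hQw, hvw, mul_zero, zero_add, hr]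
    exact mul_ne_zero (div_ne_zero (mul_ne_zero h2 hm0) hm2) h2c

omit [Fintype F] in
/-- zero is a value exactly when the plane has singular vectors -/
theorem zero_mem_valSet (hP : NdOn Q P) (hd : Module.finrank F P = 2) {x : ι → F} (hx : x ∈ P) (hQx : Q x ≠ 0)
    (hiso : ∃ e ∈ P, e ≠ 0 ∧ Q e = 0) : (0 : F) ∈ valSet Q P x := by
  obtain ⟨e, he, he0, hQe⟩ := hiso
  obtain ⟨n, hn, hQn, hnx⟩ := plane_nonsingular_perp hQ hP hd hx hQx
  obtain ⟨-, -, -, n', -, -, -, hall⟩ := plane_base hQ hP hd hx (fun h => hQx (by rw [h]; exact qzero hQ))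
  have hxe : pol Q x e ≠ 0 := fun h => by
    obtain ⟨s, hs⟩ := hall e he h
    obtain ⟨s', hs'⟩ := hall n hn (by rw [pcomm]; exact hnx)
    have hs'0 : s' ≠ 0 := fun h0 => hQn (by rw [hs', h0, zero_smul]; exact qzero hQ)
    have hs0 : s ≠ 0 := fun h0 => he0 (by rw [hs, h0, zero_smul])
    rw [hs, qsmul hQ] at hQe
    rw [hs', qsmul hQ] at hQn
    exact hQn (by rw [(mul_eq_zero.1 hQe).resolve_left (pow_ne_zero 2 hs0), mul_zero])
  exact ⟨(pol Q x e)⁻¹ • e, P.smul_mem _ he, by rw [psmul_right hQ, inv_mul_cancel₀ hxe],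
    by rw [qsmul hQ, hQe, mul_zero]⟩

omit [Fintype F] in
/-- pairing with a singular vector leaves every value free -/
theorem valSet_singular (hP : NdOn Q P) {x : ι → F} (hx : x ∈ P) (hx0 : x ≠ 0) (hQx : Q x = 0) (v : F) :
    v ∈ valSet Q P x := by
  obtain ⟨f, hf, hQf, hxf⟩ := exists_qpartner hQ hP hx hx0 hQx
  exact ⟨f + v • x, P.add_mem hf (P.smul_mem _ hx), by
    rw [padd_right hQ, psmul_right hQ, pself hQ, hQx, hxf]; ring,
    by rw [qadd hQ, qsmul hQ, hQf, hQx, psmul_right hQ, pcomm f x, hxf]; ring⟩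

/-- opposite nonzero values in two planes of one type -/
theorem exists_valSet_pair (hP : NdOn Q P) (hd : Module.finrank F P = 2) (hok : PlaneOK Q P)
    {P' : Submodule F (ι → F)} (hP' : NdOn Q P') (hd' : Module.finrank F P' = 2) (hok' : PlaneOK Q P')
    (htype : (∃ e ∈ P, e ≠ 0 ∧ Q e = 0) ↔ ∃ e ∈ P', e ≠ 0 ∧ Q e = 0) {x x' : ι → F} (hx : x ∈ P) (hx0 : x ≠ 0)
    (hx' : x' ∈ P') (hx'0 : x' ≠ 0) : ∃ b, b ≠ 0 ∧ b ∈ valSet Q P x ∧ -b ∈ valSet Q P' x' := by
  classical
  by_cases hQx : Q x = 0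
  · obtain ⟨v, hv, hv0, -⟩ := exists_valSet_ne hQ hP' hd' hok' hx' hx'0 0 (fun _ => rfl)
    exact ⟨-v, neg_ne_zero.2 hv0, valSet_singular hQ hP hx hx0 hQx _, by rwa [neg_neg]⟩
  by_cases hQx' : Q x' = 0
  · obtain ⟨v, hv, hv0, -⟩ := exists_valSet_ne hQ hP hd hok hx hx0 0 (fun _ => rfl)
    exact ⟨v, hv0, hv, valSet_singular hQ hP' hx' hx'0 hQx' _⟩
  by_cases h2 : (2 : F) = 0
  · -- characteristic two
    have hneg : ∀ b : F, -b = b := fun b => by linear_combination -b * h2
    obtain ⟨p, hp, hxp⟩ : ∃ p ∈ P, pol Q x p = 1 := by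
      obtain ⟨p, hp, hxp, -⟩ := plane_base hQ hP hd hx hx0
      exact ⟨p, hp, hxp⟩
    obtain ⟨p', hp', hxp'⟩ : ∃ p ∈ P', pol Q x' p = 1 := by
      obtain ⟨p, hp, hxp, -⟩ := plane_base hQ hP' hd' hx' hx'0
      exact ⟨p, hp, hxp⟩
    have hform : ∀ (R : Submodule F (ι → F)) (y q : ι → F), NdOn Q R → Module.finrank F R = 2 → y ∈ R → Q y ≠ 0 →
        q ∈ R → pol Q y q = 1 → ∃ W : AddSubgroup F, W.index = 2 ∧ ∀ b, b ∈ valSet Q R y ↔ b + Q q ∈ W := by
      intro R y q hR hdR hy hQy hq hyq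
      let φ : F →+ F :=
        { toFun := fun s => s + s ^ 2 * Q y
          map_zero' := by simp
          map_add' := fun s s' => by linear_combination s * s' * Q y * h2 }
      have hker : (φ.ker : Set F) = {0, (Q y)⁻¹} := by
        ext s
        show s + s ^ 2 * Q y = 0 ↔ s = 0 ∨ s = (Q y)⁻¹
        constructor
        · intro h
          have h' : s * (1 + s * Q y) = 0 := by linear_combination h
          rcases mul_eq_zero.1 h' with h0 | h0
          · exact Or.inl h0
          · exact Or.inr (eq_inv_of_mul_eq_one_left (by linear_combination h0 - h2))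
        · rintro (rfl | rfl)
          · simp
          · field_simp
            linear_combination h2
      have hk2 : Nat.card φ.ker = 2 := by
        rw [← SetLike.coe_sort_coe, Nat.card_coe_set_eq, hker, Set.ncard_pair (inv_ne_zero hQy).symm]
      have h3 := AddSubgroup.index_mul_card φ.ker
      rw [AddSubgroup.index_ker, hk2] at h3
      have h4 := AddSubgroup.index_mul_card φ.range
      have hpos : 0 < Nat.card φ.range := Nat.card_pos
      refine ⟨φ.range, Nat.eq_of_mul_eq_mul_right hpos (by rw [h4, ← h3, mul_comm]), fun b => ?_⟩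
      obtain ⟨q₀, -, -, n, -, -, -, hall⟩ := plane_base hQ hR hdR hy (fun h => hQy (by rw [h]; exact qzero hQ))
      constructor
      · rintro ⟨u, hu, hyu, rfl⟩
        obtain ⟨m, hm⟩ := hall (u - q) (R.sub_mem hu hq) (by rw [psub_right hQ, hyu, hyq, sub_self])
        obtain ⟨m', hm'⟩ := hall y hy (by rw [pself hQ, h2, zero_mul])
        have hm'0 : m' ≠ 0 := fun h => hQy (by rw [hm', h, zero_smul]; exact qzero hQ)
        refine ⟨m / m', ?_⟩
        have hu' : u = q + (m / m') • y := by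
          rw [hm', smul_smul, div_mul_cancel₀ _ hm'0, ← hm, add_sub_cancel]
        show m / m' + (m / m') ^ 2 * Q y = Q u + Q q
        rw [hu', qadd hQ, qsmul hQ, psmul_right hQ, pcomm q y, hyq]
        linear_combination -Q q * h2
      · rintro ⟨s, hs⟩
        refine ⟨q + s • y, R.add_mem hq (R.smul_mem _ hy), by rw [padd_right hQ, psmul_right hQ, pself hQ, h2, hyq]; ring, ?_⟩
        have hs' : s + s ^ 2 * Q y = b + Q q := hs
        rw [qadd hQ, qsmul hQ, psmul_right hQ, pcomm q y, hyq]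
        linear_combination hs' + Q q * h2
    obtain ⟨W, hWi, hW⟩ := hform P x p hP hd hx hQx hp hxp
    obtain ⟨W', hWi', hW'⟩ := hform P' x' p' hP' hd' hx' hQx' hp' hxp'
    simp only [hneg, hW, hW', AddSubgroup.add_mem_iff_of_index_two hWi, AddSubgroup.add_mem_iff_of_index_two hWi']
    by_cases hiso : ∃ e ∈ P, e ≠ 0 ∧ Q e = 0
    · have hpW : Q p ∈ W := by simpa using (hW 0).1 (zero_mem_valSet hQ hP hd hx hQx hiso)
      have hpW' : Q p' ∈ W' := by simpa using (hW' 0).1 (zero_mem_valSet hQ hP' hd' hx' hQx' (htype.1 hiso))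
      simp only [hpW, hpW', iff_true]
      have hq7 := hok.2 hiso
      have hWc := AddSubgroup.index_mul_card W
      rw [hWi, Nat.card_eq_fintype_card (α := F)] at hWc
      obtain ⟨w, hwW, hw⟩ := Set.exists_mem_notMem_of_ncard_lt_ncard (s := ({0} : Set F)) (t := (W : Set F))
        (by rw [Set.ncard_singleton, ← Nat.card_coe_set_eq, SetLike.coe_sort_coe]; omega) (Set.toFinite _)
      obtain ⟨w', hw'W, hw'⟩ := Set.exists_mem_notMem_of_ncard_lt_ncard (s := ({0, w} : Set F)) (t := (W : Set F))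
        (by rw [Set.ncard_pair (fun h => hw (by rw [← h]; rfl)), ← Nat.card_coe_set_eq, SetLike.coe_sort_coe]; omega)
        (Set.toFinite _)
      simp only [Set.mem_singleton_iff, Set.mem_insert_iff, not_or] at hw hw'
      by_cases h1 : w ∈ W'
      · exact ⟨w, hw, hwW, h1⟩
      by_cases h3 : w' ∈ W'
      · exact ⟨w', hw'.1, hw'W, h3⟩
      exact ⟨w + w', fun h => hw'.2 (by linear_combination h - w * h2), W.add_mem hwW hw'W,
        (AddSubgroup.add_mem_iff_of_index_two hWi').2 (iff_of_false h1 h3)⟩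
    · have hpW : Q p ∉ W := fun h => by
        have h0 := (hW 0).2 (by rwa [zero_add])
        push Not at hiso
        exact zero_notMem_valSet hQ hiso h0
      have hpW' : Q p' ∉ W' := fun h => by
        have h0 := (hW' 0).2 (by rwa [zero_add])
        have hiso' : ¬ ∃ e ∈ P', e ≠ 0 ∧ Q e = 0 := fun h => hiso (htype.2 h)
        push Not at hiso'
        exact zero_notMem_valSet hQ hiso' h0
      simp only [hpW, hpW', iff_false]
      by_cases h1 : Q p ∈ W'
      · by_cases h3 : Q p' ∈ W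
        · refine ⟨Q p + Q p', ?_, fun h => hpW ?_, fun h => hpW' ?_⟩
          · intro h
            exact hpW' (by rwa [show Q p' = Q p by linear_combination h - Q p * h2])
          · exact ((AddSubgroup.add_mem_iff_of_index_two hWi).1 h).2 h3
          · exact ((AddSubgroup.add_mem_iff_of_index_two hWi').1 h).1 h1
        · exact ⟨Q p', fun h => h3 (by rw [h]; exact W.zero_mem), h3, hpW'⟩
      · exact ⟨Q p, fun h => hpW (by rw [h]; exact W.zero_mem), hpW, h1⟩
  -- odd characteristic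
  obtain ⟨n, hn, hQn, hnx⟩ := plane_nonsingular_perp hQ hP hd hx hQx
  obtain ⟨n', hn', hQn', hnx'⟩ := plane_nonsingular_perp hQ hP' hd' hx' hQx'
  obtain ⟨a, ha⟩ : ∃ a, a = (4 * Q x)⁻¹ := ⟨_, rfl⟩
  obtain ⟨a', ha'⟩ : ∃ a, a = (4 * Q x')⁻¹ := ⟨_, rfl⟩
  have hval : ∀ (R : Submodule F (ι → F)) (y m : ι → F), y ∈ R → Q y ≠ 0 → m ∈ R → pol Q m y = 0 → ∀ s : F,
      (4 * Q y)⁻¹ + s ^ 2 * Q m ∈ valSet Q R y := by
    intro R y m hy hQy hm hmy s
    have h := valSet_apply hQ (x := y) (P := R) (R.smul_mem (2 * Q y)⁻¹ hy)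
      (by rw [psmul_right hQ, pself hQ, inv_mul_cancel₀ (mul_ne_zero h2 hQy)]) hm (by rw [pcomm]; exact hmy) s
    convert h using 1
    rw [qsmul hQ, psmul_left hQ, pcomm y m, hmy, show (4 : F) = 2 * 2 by norm_num]
    field_simp
    ring
  obtain ⟨X, Y, hXY, hX⟩ : ∃ X Y : F, X ^ 2 * Q n + Y ^ 2 * Q n' = -(a + a') ∧ a + X ^ 2 * Q n ≠ 0 := by
    obtain ⟨X, Y, hXY⟩ : ∃ X Y : F, X ^ 2 * Q n + Y ^ 2 * Q n' = -(a + a') := by
      have hodd : ringChar F ≠ 2 := fun h => h2 (by
        have := ringChar.Nat.cast_ringChar (R := F)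
        rw [h] at this
        simpa using this)
      obtain ⟨X, Y, h⟩ := FiniteField.exists_root_sum_quadratic
        (f := Polynomial.C (Q n) * Polynomial.X ^ 2 + Polynomial.C (a + a'))
        (g := Polynomial.C (Q n') * Polynomial.X ^ 2)
        (by rw [Polynomial.degree_add_C (by rw [Polynomial.degree_C_mul_X_pow 2 hQn]; decide),
          Polynomial.degree_C_mul_X_pow 2 hQn]; rfl)
        (by rw [Polynomial.degree_C_mul_X_pow 2 hQn']; rfl) (FiniteField.odd_card_of_char_ne_two hodd)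
      simp only [Polynomial.eval_add, Polynomial.eval_mul, Polynomial.eval_C, Polynomial.eval_pow, Polynomial.eval_X] at h
      exact ⟨X, Y, by linear_combination h⟩
    by_cases hX : a + X ^ 2 * Q n = 0
    swap
    · exact ⟨X, Y, hXY, hX⟩
    have hiso : ∃ e ∈ P, e ≠ 0 ∧ Q e = 0 := by
      by_contra hiso
      push Not at hiso
      have h := hval P x n hx hQx hn hnx X
      rw [← ha, hX] at h
      exact zero_notMem_valSet hQ hiso h
    have hq7 := hok.2 hiso
    have ha0 : a ≠ 0 := ha ▸ inv_ne_zero (mul_ne_zero (by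
      rw [show (4 : F) = 2 * 2 by norm_num]; exact mul_ne_zero h2 h2) hQx)
    have hX0 : X ≠ 0 := fun h => ha0 (by rw [h] at hX; linear_combination hX)
    obtain ⟨m, hm0, hm1, hm2, hm3⟩ : ∃ m : F, m ≠ 0 ∧ X * m - Y ≠ 0 ∧ Q n * X + Q n' * m * Y ≠ 0 ∧
        Q n + Q n' * m ^ 2 ≠ 0 := by
      by_contra hcon
      push Not at hcon
      obtain ⟨r, hr⟩ : ∃ r : F, ∀ m, Q n + Q n' * m ^ 2 = 0 → m = r ∨ m = -r := by
        by_cases h : ∃ r : F, Q n + Q n' * r ^ 2 = 0
        · obtain ⟨r, hr⟩ := h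
          refine ⟨r, fun m hm => mul_self_eq_mul_self_iff.1 (mul_left_cancel₀ hQn' ?_)⟩
          linear_combination hm - hr
        · push Not at h
          exact ⟨0, fun m hm => absurd hm (h m)⟩
      have hsub : (Finset.univ : Finset F) ⊆ {0, Y / X, -(Q n * X) / (Q n' * Y), r, -r} := fun m _ => by
        simp only [Finset.mem_insert, Finset.mem_singleton]
        by_cases h0 : m = 0
        · exact Or.inl h0
        by_cases h1 : X * m - Y = 0
        · exact Or.inr (Or.inl (by rw [eq_div_iff hX0]; linear_combination h1))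
        by_cases h3 : Q n * X + Q n' * m * Y = 0
        · refine Or.inr (Or.inr (Or.inl ?_))
          have hY : Y ≠ 0 := fun h => mul_ne_zero hQn hX0 (by rw [h] at h3; linear_combination h3)
          rw [eq_div_iff (mul_ne_zero hQn' hY)]
          linear_combination h3
        rcases hr m (hcon m h0 h1 h3) with h | h
        · exact Or.inr (Or.inr (Or.inr (Or.inl h)))
        · exact Or.inr (Or.inr (Or.inr (Or.inr h)))
      have h5 := (Finset.card_le_card hsub).trans Finset.card_le_five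
      rw [Finset.card_univ] at h5
      omega
    obtain ⟨t, ht⟩ : ∃ t, t = (Q n * X + Q n' * m * Y) / (Q n + Q n' * m ^ 2) := ⟨_, rfl⟩
    have ht' : t * (Q n + Q n' * m ^ 2) = Q n * X + Q n' * m * Y := by rw [ht, div_mul_cancel₀ _ hm3]
    refine ⟨X - 2 * t, Y - 2 * t * m, by linear_combination hXY + 4 * t * ht', fun h => ?_⟩
    have ht0 : t ≠ 0 := ht ▸ div_ne_zero hm2 hm3
    have h1 : 4 * Q n * (t * (t - X)) = 0 := by linear_combination h - hX
    have h4 : (4 : F) ≠ 0 := by rw [show (4 : F) = 2 * 2 by norm_num]; exact mul_ne_zero h2 h2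
    have htX : t = X := sub_eq_zero.1 (((mul_eq_zero.1 ((mul_eq_zero.1 h1).resolve_left (mul_ne_zero h4 hQn))).resolve_left ht0))
    rw [htX] at ht'
    have h5 : Q n' * m * (X * m - Y) = 0 := by linear_combination ht'
    exact mul_ne_zero (mul_ne_zero hQn' hm0) hm1 h5
  refine ⟨a + X ^ 2 * Q n, hX, ha ▸ hval P x n hx hQx hn hnx X, ?_⟩
  rw [show -(a + X ^ 2 * Q n) = a' + Y ^ 2 * Q n' by linear_combination -hXY, ha']
  exact hval P' x' n' hx' hQx' hn' hnx' Y

end CfsgLib.Perm.Trans.Quad
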