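import Cfsg.Agent.Lib.Perm.Trans.QuadSubf
import Cfsg.Agent.Lib.Orth.Omega

/-!
# Orthogonal groups over a subfield: elements keeping a rational point, rational involutions
-/

set_option autoImplicit false
set_option linter.all false

namespace CfsgLib.Perm.Trans.Quad

open scoped Matrix
open Matrix Cfsg.Geo CfsgLib.Perm.Asch CfsgLib.Perm.Trans
open CfsgLib.Perm.Trans.Subf (em lift em_add em_neg em_sub em_smul em_sum em_zero em_injective em_ne_zero exists_coords lift_em lift_mem ext_em)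
open CfsgLib.Orth (disp disp_apply moved fixd wrk)

attribute [local instance] subfieldFin

variable {ι : Type} [Fintype ι] [DecidableEq ι] {F : Type*} [Field F] [Fintype F]
variable {Q : (ι → F) → F} {F₀ : Subfield F} {P : GL ι F}

local notation "pol" => QuadraticMap.polar

theorem EIn.trans_le {M N : Subgroup (GL ι F)} (h : N ≤ M) {u a : ι → F} (he : EIn Q N u a) : EIn Q M u a :=
  let ⟨g, hg, hgE⟩ := he
  ⟨g, h hg, hgE⟩

/-- the rational vectors of a subspace -/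
def ratPart (F₀ : Subfield F) (P : GL ι F) (W : Submodule F (ι → F)) : Submodule F₀ (ι → F₀) where
  carrier := {b | em F₀ P b ∈ W}
  zero_mem' := by show em F₀ P 0 ∈ W; rw [em_zero]; exact W.zero_mem
  add_mem' := fun {b b'} hb hb' => by show em F₀ P (b + b') ∈ W; rw [em_add]; exact W.add_mem hb hb'
  smul_mem' := fun c b hb => by show em F₀ P (c • b) ∈ W; rw [em_smul]; exact W.smul_mem _ hb

omit [Fintype F] in
/-- rational independence is preserved -/
theorem finrank_span_em (S : Submodule F₀ (ι → F₀)) :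
    Module.finrank F (Submodule.span F (em F₀ P '' ↑S)) = Module.finrank F₀ S := by
  let b := Module.finBasis F₀ S
  have hspan : Submodule.span F (em F₀ P '' ↑S) = Submodule.span F (Set.range fun k => em F₀ P (b k : ι → F₀)) := by
    refine le_antisymm (Submodule.span_le.2 ?_) (Submodule.span_mono ?_)
    · rintro _ ⟨v, hv, rfl⟩
      have h1 := congrArg Subtype.val (b.sum_repr ⟨v, hv⟩)
      rw [Submodule.coe_sum] at h1
      show em F₀ P ((⟨v, hv⟩ : S) : ι → F₀) ∈ _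
      rw [← h1, em_sum]
      exact Submodule.sum_mem _ fun k _ => by
        rw [Submodule.coe_smul, em_smul]
        exact Submodule.smul_mem _ _ (Submodule.subset_span ⟨k, rfl⟩)
    · rintro _ ⟨k, rfl⟩
      exact ⟨_, (b k).2, rfl⟩
  rw [hspan, finrank_span_eq_card, Fintype.card_fin]
  rw [Fintype.linearIndependent_iff]
  intro c hc j
  have hnot : (b j : ι → F₀) ∉ Submodule.span F₀ ((fun k => (b k : ι → F₀)) '' {j}ᶜ) := by
    have hli : LinearIndependent F₀ fun k => (b k : ι → F₀) :=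
      b.linearIndependent.map' S.subtype S.ker_subtype
    exact hli.notMem_span_image (by simp)
  obtain ⟨φ, hφj, hφ⟩ := exists_dual _ hnot
  have h1 := congrArg (Subf.extFun F₀ P φ) hc
  rw [map_sum, map_zero, Finset.sum_eq_single j] at h1
  · rw [map_smul, Subf.extFun_em, hφj, smul_eq_mul] at h1
    push_cast at h1
    rwa [mul_one] at h1
  · intro k _ hkj
    rw [map_smul, Subf.extFun_em, hφ _ (Submodule.subset_span ⟨k, hkj, rfl⟩)]
    push_cast
    exact mul_zero _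
  · exact fun h => absurd (Finset.mem_univ j) h

omit [Fintype F] in
theorem finrank_ratPart_le (W : Submodule F (ι → F)) :
    Module.finrank F₀ (ratPart F₀ P W) ≤ Module.finrank F W := by
  rw [← finrank_span_em (P := P)]
  exact Submodule.finrank_mono (Submodule.span_le.2 (by rintro _ ⟨b, hb, rfl⟩; exact hb))

omit [Fintype F] in
/-- a subfield element fixing a rational vector is rational -/
theorem rational_of_fix {g : GL ι F} (hg : g ∈ subfieldSubgroup F₀ P) {y : ι → F₀} (hy : y ≠ 0)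
    (hgy : (g : Matrix ι ι F) *ᵥ em F₀ P y = em F₀ P y) :
    ∀ a : ι → F₀, ∃ b : ι → F₀, (g : Matrix ι ι F) *ᵥ em F₀ P a = em F₀ P b := by
  obtain ⟨c, hc⟩ := Subf.subfield_image F₀ P hg
  obtain ⟨by', hby⟩ := hc y
  have hcF : c ∈ F₀ := by
    rw [hgy] at hby
    obtain ⟨φ, hφ, -⟩ := exists_dual (⊥ : Submodule F₀ (ι → F₀)) (fun hm => hy ((Submodule.mem_bot F₀).1 hm))
    have h1 := congrArg (Subf.extFun F₀ P φ) hby
    rw [map_smul, Subf.extFun_em, Subf.extFun_em, hφ, smul_eq_mul] at h1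
    push_cast at h1
    rw [eq_inv_of_mul_eq_one_left h1.symm]
    exact F₀.inv_mem (φ ⬝ᵥ by').2
  intro a
  obtain ⟨b, hb⟩ := hc a
  exact ⟨(⟨c, hcF⟩ : F₀) • b, by rw [hb, em_smul]⟩

variable (hQ : IsNondegenerateQuadraticForm Q) (hrat : ∀ a : ι → F₀, Q (em F₀ P a) ∈ F₀)
variable {M : Subgroup (GL ι F)} (hn : 7 ≤ Fintype.card ι) (hMΩ : M ≤ omegaGL Q)
  (hHM : subfieldSubgroup F₀ P ⊓ omegaGL Q ≤ M) (hT : QTight hrat M)
include hQ hrat hn hMΩ hHM hT

/-- an element keeping a rational singular point lies in the subfield subgroup -/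
theorem qpoint_mem {g : GL ι F} (hg : g ∈ M) {z z' : ι → F₀} (hz0 : z ≠ 0) (hz : qr hrat z = 0) (hz'0 : z' ≠ 0)
    {l : F} (hgz : (g : Matrix ι ι F) *ᵥ em F₀ P z = l • em F₀ P z') : g ∈ subfieldSubgroup F₀ P ⊓ omegaGL Q := by
  have hq := qr_nd hQ hrat
  have hgi := omegaGL_le_iso (hMΩ hg)
  have hl : l ≠ 0 := fun h => em_ne_zero F₀ P hz0 (gl_mulVec_eq_zero.1 (by rw [hgz, h, zero_smul]))
  have hz' : qr hrat z' = 0 := by
    have h1 := mem_iso.1 hgi (em F₀ P z)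
    rw [hgz, qsmul hQ, qr_zero hQ hrat hz, ← qr_coe hrat] at h1
    exact Subtype.ext ((mul_eq_zero.1 h1).resolve_left (pow_ne_zero 2 hl))
  obtain ⟨s, hs, hsz⟩ := rat_move hQ hrat (by omega) hz'0 hz0 hz' hz
  suffices key : ∀ g ∈ M, (g : Matrix ι ι F) *ᵥ em F₀ P z = l • em F₀ P z →
      g ∈ subfieldSubgroup F₀ P ⊓ omegaGL Q by
    have h1 := key (s * g) (mul_mem (hHM hs) hg) (by rw [gl_mul_mulVec, hgz, mulVec_smul, hsz])
    have h2 := mul_mem (inv_mem hs) h1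
    rwa [inv_mul_cancel_left] at h2
  clear hgz hgi hg g
  intro g hg hgz
  have hgi := omegaGL_le_iso (hMΩ hg)
  have hM : M ≤ Cfsg.isometryGroup F Q := hMΩ.trans omegaGL_le_iso
  have hzz := qr_zero hQ hrat hz
  -- rational images modulo the point
  have himg : ∀ a : ι → F₀, pol (qr hrat) z a = 0 → ∃ (α : ι → F₀) (t : F),
      l • ((g : Matrix ι ι F) *ᵥ em F₀ P a) = em F₀ P α + t • em F₀ P z := by
    intro a hza
    obtain ⟨k, hk, hkE⟩ := EIn.conj (k := g) (EIn.trans_le hHM (rat_E hQ hrat (by omega) hz hza)) hgi hg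
    rw [hgz] at hkE
    refine hT z hz0 hz _ ?_ ⟨k, hk, IsE.smul_left hQ hkE hl⟩
    rw [psmul_right hQ, ← psmul_left hQ, ← hgz, iso_pol hgi, qr_perp hQ hrat hza]
  obtain ⟨f, -, hQf, hzf⟩ := exists_qpartner hq (ndOn_top hq) Submodule.mem_top hz0 hz
  have hzf' := qr_one hQ hrat hzf
  have hl2 : l ^ 2 ∈ F₀ := by
    have hd := pair_finrank hq (P := ⊤) Submodule.mem_top Submodule.mem_top hz hQf hzf
    rw [finrank_top, Module.finrank_fintype_fun_eq_card] at hd
    obtain ⟨a, ha, hQa⟩ := exists_value_two hq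
      (pair_nd hq Submodule.mem_top Submodule.mem_top hz hQf hzf (ndOn_top hq)) (by omega) 1
    have hza : pol (qr hrat) z a = 0 := by rw [pcomm]; exact ((mem_pairPerp hq).1 ha).2.1
    obtain ⟨α, t, hα⟩ := himg a hza
    have hαz : pol Q (em F₀ P z) (em F₀ P α) = 0 := by
      have h1 : pol Q ((g : Matrix ι ι F) *ᵥ em F₀ P z) (l • ((g : Matrix ι ι F) *ᵥ em F₀ P a)) = 0 := by
        rw [psmul_right hQ, iso_pol hgi, qr_perp hQ hrat hza, mul_zero]
      rw [hgz, hα, psmul_left hQ, padd_right hQ, psmul_right hQ, pself hQ, hzz] at h1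
      simpa [hl] using h1
    have h2 := congrArg Q hα
    rw [qsmul hQ, mem_iso.1 hgi, qadd hQ, qsmul hQ, hzz, psmul_right hQ, pcomm (em F₀ P α), hαz, ← qr_coe hrat a,
      hQa] at h2
    rw [show l ^ 2 = Q (em F₀ P α) by simpa using h2]
    exact hrat α
  -- the image of the partner
  obtain ⟨y, hy⟩ : ∃ y, y = l • ((g : Matrix ι ι F) *ᵥ em F₀ P f) := ⟨_, rfl⟩
  have hQy : Q y = 0 := by rw [hy, qsmul hQ, mem_iso.1 hgi, qr_zero hQ hrat hQf, mul_zero]
  have hzy : pol Q (em F₀ P z) y = 1 := by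
    rw [hy, psmul_right hQ, ← psmul_left hQ, ← hgz, iso_pol hgi, hzf']
  obtain ⟨w, hw⟩ : ∃ w, w = y - em F₀ P f - pol Q y (em F₀ P f) • em F₀ P z := ⟨_, rfl⟩
  have hzw : pol Q (em F₀ P z) w = 0 := by
    rw [hw, psub_right hQ, psub_right hQ, psmul_right hQ, hzy, hzf', pself hQ, hzz]; ring
  have hfw : pol Q (em F₀ P f) w = 0 := by
    rw [hw, psub_right hQ, psub_right hQ, psmul_right hQ, pself hQ, qr_zero hQ hrat hQf, pcomm (em F₀ P f) y,
      pcomm (em F₀ P f) (em F₀ P z), hzf']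
    ring
  have hysum : y = em F₀ P f + w + pol Q y (em F₀ P f) • em F₀ P z := by rw [hw]; abel
  have hQw : pol Q y (em F₀ P f) = -Q w := by
    have h1 := hQy
    rw [hysum, qadd hQ, qadd hQ, qsmul hQ, hzz, qr_zero hQ hrat hQf, hfw, psmul_right hQ, padd_left hQ,
      pcomm (em F₀ P f) (em F₀ P z), hzf', pcomm w, hzw] at h1
    linear_combination h1
  obtain ⟨k, hkΩ, hkE⟩ := ein_omega hQ (by omega) hzz hzw
  have hki := omegaGL_le_iso hkΩ
  have hkz : (k : Matrix ι ι F) *ᵥ em F₀ P z = em F₀ P z := by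
    rw [hkE, pself hQ, hzz, hzw]; simp
  have hkf : (k : Matrix ι ι F) *ᵥ em F₀ P f = y := by
    rw [hkE, pcomm (em F₀ P f) (em F₀ P z), hzf', hfw, hysum, hQw]
    module
  obtain ⟨g₂, hg₂⟩ : ∃ g₂, g₂ = k⁻¹ * g := ⟨_, rfl⟩
  have hg₂i : g₂ ∈ Cfsg.isometryGroup F Q := hg₂ ▸ mul_mem (inv_mem hki) hgi
  have hg₂z : (g₂ : Matrix ι ι F) *ᵥ em F₀ P z = l • em F₀ P z := by
    rw [hg₂, gl_mul_mulVec, hgz, mulVec_smul]
    conv_lhs => arg 2; arg 2; rw [← hkz]
    rw [gl_inv_mulVec]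
  have hg₂f : l • ((g₂ : Matrix ι ι F) *ᵥ em F₀ P f) = em F₀ P f := by
    rw [hg₂, gl_mul_mulVec, ← mulVec_smul, ← hy, ← hkf, gl_inv_mulVec]
  have hg₂a : ∀ a : ι → F₀, ∃ b : ι → F₀, l • ((g₂ : Matrix ι ι F) *ᵥ em F₀ P a) = em F₀ P b := by
    intro a
    obtain ⟨p, hp⟩ : ∃ p, p = a - pol (qr hrat) z a • f := ⟨_, rfl⟩
    have hzp : pol (qr hrat) z p = 0 := by rw [hp, psub_right hq, psmul_right hq, hzf]; ring
    obtain ⟨α, t, hα⟩ := himg p hzp
    have hp' : l • ((g₂ : Matrix ι ι F) *ᵥ em F₀ P p) =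
        ((k⁻¹ : GL ι F) : Matrix ι ι F) *ᵥ em F₀ P α + t • em F₀ P z := by
      rw [hg₂, gl_mul_mulVec, ← mulVec_smul, hα, mulVec_add, mulVec_smul]
      conv_lhs => arg 2; arg 2; arg 2; rw [← hkz]
      rw [gl_inv_mulVec]
    obtain ⟨k', -, hk'E⟩ := exists_E hQ hzz (a := -w) (by rw [pneg_right hQ, hzw, neg_zero])
    have hkinv : k⁻¹ = k' := by
      have h1 := IsE.mul hQ hzz hzw (by rw [pneg_right hQ, hzw, neg_zero]) hkE hk'E
      rw [add_neg_cancel, ← zero_smul F (em F₀ P z)] at h1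
      exact inv_eq_of_mul_eq_one_right (h1.unique (IsE.one hQ hzz 0))
    have hαz : pol Q (em F₀ P α) (em F₀ P z) = 0 := by
      have h1 : pol Q (l • ((g : Matrix ι ι F) *ᵥ em F₀ P p)) ((g : Matrix ι ι F) *ᵥ em F₀ P z) = 0 := by
        rw [psmul_left hQ, iso_pol hgi, pcomm, qr_perp hQ hrat hzp, mul_zero]
      rw [hα, hgz, psmul_right hQ, padd_left hQ, psmul_left hQ, pself hQ, hzz] at h1
      simpa [hl] using h1
    obtain ⟨u, hu⟩ : ∃ u, l • ((g₂ : Matrix ι ι F) *ᵥ em F₀ P p) = em F₀ P α + u • em F₀ P z := by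
      rw [hp', hkinv, hk'E, hαz]
      exact ⟨t - pol Q (em F₀ P α) (-w), by module⟩
    have hu0 : u ∈ F₀ := by
      have h1 : pol Q (l • ((g₂ : Matrix ι ι F) *ᵥ em F₀ P p)) (em F₀ P f) = l ^ 2 * pol Q (em F₀ P p) (em F₀ P f) := by
        conv_lhs => rw [← hg₂f]
        rw [psmul_left hQ, psmul_right hQ, iso_pol hg₂i]
        ring
      rw [hu, padd_left hQ, psmul_left hQ, hzf', ← qr_pol hrat, ← qr_pol hrat, mul_one] at h1
      rw [show u = l ^ 2 * ((pol (qr hrat) p f : F₀) : F) - ((pol (qr hrat) α f : F₀) : F) by linear_combination h1]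
      exact F₀.sub_mem (F₀.mul_mem hl2 (pol (qr hrat) p f).2) (pol (qr hrat) α f).2
    refine ⟨α + (⟨u, hu0⟩ : F₀) • z + pol (qr hrat) z a • f, ?_⟩
    have ha : em F₀ P a = em F₀ P p + ((pol (qr hrat) z a : F₀) : F) • em F₀ P f := by
      rw [← em_smul, ← em_add, hp, sub_add_cancel]
    rw [ha, mulVec_add, mulVec_smul, smul_add, smul_comm l, hg₂f, hu, em_add, em_add, em_smul, em_smul]
  have hg₂H : g₂ ∈ subfieldSubgroup F₀ P ⊓ omegaGL Q := by
    refine Subgroup.mem_inf.2 ⟨Subf.mem_subfieldSubgroup_of_image F₀ P (inv_ne_zero hl) fun i => ?_,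
      hg₂ ▸ mul_mem (inv_mem hkΩ) (hMΩ hg)⟩
    obtain ⟨b, hb⟩ := hg₂a (Pi.single i 1)
    exact ⟨b, by rw [← hb, smul_smul, inv_mul_cancel₀ hl, one_smul]⟩
  have hgk : g = k * g₂ := by rw [hg₂, mul_inv_cancel_left]
  have hkM : k ∈ M := by
    have h1 : g * g₂⁻¹ = k := by rw [hgk, mul_inv_cancel_right]
    exact h1 ▸ mul_mem hg (inv_mem (hHM hg₂H))
  obtain ⟨α, t, hwα⟩ := hT z hz0 hz w hzw ⟨k, hkM, hkE⟩
  have hzα : pol (qr hrat) z α = 0 := by
    refine Subtype.ext ?_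
    rw [qr_pol hrat]
    have h1 := hzw
    rw [hwα, padd_right hQ, psmul_right hQ, pself hQ, hzz, mul_zero, mul_zero, add_zero] at h1
    rw [h1]; rfl
  obtain ⟨k', hk', hk'E⟩ := EIn.add hQ hzz (qr_perp hQ hrat hzα)
    (by rw [psmul_right hQ, pself hQ, hzz]; ring) (rat_E hQ hrat (by omega) hz hzα) (EIn.smul_self hQ _ hzz t)
  rw [← hwα] at hk'E
  rw [hgk, hkE.unique hk'E]
  exact mul_mem hk' hg₂H

/-- an element mapping a totally singular triple orthogonal to a rational singular point -/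
theorem qside_mem {g : GL ι F} (hg : g ∈ M) {y z a a' : ι → F₀} (hy0 : y ≠ 0) (hy : qr hrat y = 0) (hz0 : z ≠ 0)
    (hz : qr hrat z = 0) (ha : qr hrat a = 0) (ha' : qr hrat a' = 0) (hza : pol (qr hrat) z a = 0)
    (hza' : pol (qr hrat) z a' = 0) (hi1 : a ∉ Submodule.span F₀ ({z} : Set (ι → F₀)))
    (hi2 : a' ∉ Submodule.span F₀ ({z, a} : Set (ι → F₀)))
    (h1 : pol Q ((g : Matrix ι ι F) *ᵥ em F₀ P z) (em F₀ P y) = 0)
    (h2 : pol Q ((g : Matrix ι ι F) *ᵥ em F₀ P a) (em F₀ P y) = 0)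
    (h3 : pol Q ((g : Matrix ι ι F) *ᵥ em F₀ P a') (em F₀ P y) = 0) : g ∈ subfieldSubgroup F₀ P ⊓ omegaGL Q := by
  have hgi := omegaGL_le_iso (hMΩ hg)
  obtain ⟨u, hu⟩ : ∃ u, u = (g : Matrix ι ι F) *ᵥ em F₀ P z := ⟨_, rfl⟩
  rw [← hu] at h1
  have hu0 : u ≠ 0 := fun h => em_ne_zero F₀ P hz0 (gl_mulVec_eq_zero.1 (hu.symm.trans h))
  have hQu : Q u = 0 := by rw [hu, mem_iso.1 hgi, qr_zero hQ hrat hz]
  -- two rational vectors spanning a line through `u`
  have key : ∀ b : ι → F₀, qr hrat b = 0 → pol (qr hrat) z b = 0 → b ∉ Submodule.span F₀ ({z} : Set (ι → F₀)) →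
      pol Q ((g : Matrix ι ι F) *ᵥ em F₀ P b) (em F₀ P y) = 0 →
      ∃ (b₁ b₂ : ι → F₀) (p q : F), b₁ ≠ 0 ∧ u = p • em F₀ P b₁ + q • em F₀ P b₂ ∧
        ∀ d ∈ ({b₁, b₂} : Set (ι → F₀)), em F₀ P d ∈ Submodule.span F ({u, (g : Matrix ι ι F) *ᵥ em F₀ P b} : Set (ι → F)) := by
    intro b hb hzb hbz hby
    obtain ⟨v, hv⟩ : ∃ v, v = (g : Matrix ι ι F) *ᵥ em F₀ P b := ⟨_, rfl⟩
    rw [← hv] at hby ⊢
    obtain ⟨k, hk, hkE⟩ := EIn.conj (k := g) (EIn.trans_le hHM (rat_E hQ hrat (by omega) hz hzb)) hgi hg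
    rw [← hu, ← hv] at hkE
    have hQv : Q v = 0 := by rw [hv, mem_iso.1 hgi, qr_zero hQ hrat hb]
    have hky : (k : Matrix ι ι F) *ᵥ em F₀ P y = em F₀ P y := by
      rw [hkE, pcomm _ u, h1, pcomm _ v, hby]; simp
    have hkH := qpoint_mem hQ hrat hn hMΩ hHM hT hk hy0 hy hy0 (l := 1) (by rw [hky, one_smul])
    have hrat' := rational_of_fix hkH.1 hy0 hky
    have hD : ∀ x : ι → F₀, ∃ d : ι → F₀,
        pol Q (em F₀ P x) u • v - pol Q (em F₀ P x) v • u = em F₀ P d := fun x => by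
      obtain ⟨d, hd⟩ := hrat' x
      refine ⟨d - x, ?_⟩
      rw [em_sub, ← hd, hkE, hQv]
      simp only [zero_mul, zero_smul, sub_zero]
      module
    obtain ⟨x₁, hx₁⟩ : ∃ x, pol Q (em F₀ P x) u ≠ 0 := by
      by_contra hcon
      push Not at hcon
      exact hu0 (eq_zero_of_rat_perp hQ fun d => by rw [pcomm]; exact hcon d)
    obtain ⟨α₁, hα₁⟩ : ∃ α, α = pol Q (em F₀ P x₁) u := ⟨_, rfl⟩
    obtain ⟨β₁, hβ₁⟩ : ∃ β, β = pol Q (em F₀ P x₁) v := ⟨_, rfl⟩
    rw [← hα₁] at hx₁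
    have hw0 : β₁ • u - α₁ • v ≠ 0 := fun h => by
      have hvu : v = (α₁⁻¹ * β₁) • u := by
        rw [← smul_smul, sub_eq_zero.1 h, smul_smul, inv_mul_cancel₀ hx₁, one_smul]
      have h5 : em F₀ P b = (α₁⁻¹ * β₁) • em F₀ P z := by
        have := congrArg (fun y => ((g⁻¹ : GL ι F) : Matrix ι ι F) *ᵥ y) hvu
        simpa only [hv, hu, mulVec_smul, gl_inv_mulVec] using this
      obtain ⟨φ, hφb, hφ⟩ := exists_dual _ hbz
      have h6 := congrArg (Subf.extFun F₀ P φ) h5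
      rw [map_smul, Subf.extFun_em, Subf.extFun_em, hφb, hφ z (Submodule.mem_span_singleton_self z)] at h6
      simp at h6
    obtain ⟨x₂, hx₂⟩ : ∃ x, pol Q (em F₀ P x) (β₁ • u - α₁ • v) ≠ 0 := by
      by_contra hcon
      push Not at hcon
      exact hw0 (eq_zero_of_rat_perp hQ fun d => by rw [pcomm]; exact hcon d)
    obtain ⟨b₁, hb₁⟩ := hD x₁
    obtain ⟨b₂, hb₂⟩ := hD x₂
    rw [← hα₁, ← hβ₁] at hb₁
    obtain ⟨Δ, hΔ⟩ : ∃ Δ, Δ = β₁ * pol Q (em F₀ P x₂) u - α₁ * pol Q (em F₀ P x₂) v := ⟨_, rfl⟩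
    rw [psub_right hQ, psmul_right hQ, psmul_right hQ, ← hΔ] at hx₂
    refine ⟨b₁, b₂, -Δ⁻¹ * pol Q (em F₀ P x₂) u, Δ⁻¹ * α₁, fun h => hw0 ?_, ?_, ?_⟩
    · rw [h, em_zero] at hb₁
      linear_combination (norm := module) -hb₁
    · rw [← hb₁, ← hb₂]
      match_scalars
      · field_simp
        linear_combination hΔ
      · field_simp
        ring
    · rintro d (rfl | rfl)
      · rw [← hb₁]
        exact Submodule.mem_span_pair.2 ⟨-β₁, α₁, by module⟩
      · rw [← hb₂]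
        exact Submodule.mem_span_pair.2 ⟨-pol Q (em F₀ P x₂) v, pol Q (em F₀ P x₂) u, by module⟩
  obtain ⟨b₁, b₂, p, q, hb₁0, hub, hbmem⟩ := key a ha hza hi1 h2
  obtain ⟨c₁, c₂, p', q', hc₁0, huc, hcmem⟩ := key a' ha' hza'
    (fun h => hi2 (Submodule.span_mono (by simp) h)) h3
  by_cases hc : c₁ ∈ Submodule.span F₀ ({b₁, b₂} : Set (ι → F₀))
  swap
  · obtain ⟨φ, hφc, hφ⟩ := exists_dual _ hc
    obtain ⟨t, ht⟩ : ∃ t : F₀, t = φ ⬝ᵥ c₂ := ⟨_, rfl⟩
    have e1 := congrArg (Subf.extFun F₀ P φ) hub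
    have e2 := congrArg (Subf.extFun F₀ P φ) huc
    simp only [map_add, map_smul, Subf.extFun_em, hφc, hφ b₁ (Submodule.subset_span (by simp)),
      hφ b₂ (Submodule.subset_span (by simp)), smul_eq_mul, ← ht] at e1 e2
    rw [e1] at e2
    push_cast at e2
    have hline : u = q' • em F₀ P (c₂ - t • c₁) := by
      rw [huc, em_sub, em_smul, show p' = -(q' * (t : F)) by linear_combination -e2]
      module
    refine qpoint_mem hQ hrat hn hMΩ hHM hT hg hz0 hz (fun h => hu0 ?_) (hu ▸ hline)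
    rw [hline, h, em_zero, smul_zero]
  · obtain ⟨s₁, s₂, hs⟩ := Submodule.mem_span_pair.1 hc
    have hm1 : em F₀ P c₁ ∈ Submodule.span F ({u, (g : Matrix ι ι F) *ᵥ em F₀ P a} : Set (ι → F)) := by
      rw [← hs, em_add, em_smul, em_smul]
      exact Submodule.add_mem _ (Submodule.smul_mem _ _ (hbmem _ (by simp))) (Submodule.smul_mem _ _ (hbmem _ (by simp)))
    obtain ⟨μ, ν, hμ⟩ := Submodule.mem_span_pair.1 hm1
    obtain ⟨μ', ν', hμ'⟩ := Submodule.mem_span_pair.1 (hcmem c₁ (by simp))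
    have hrel : (μ - μ') • em F₀ P z + ν • em F₀ P a - ν' • em F₀ P a' = 0 := by
      refine (gl_mulVec_eq_zero (g := g)).1 ?_
      rw [mulVec_sub, mulVec_add, mulVec_smul, mulVec_smul, mulVec_smul, ← hu]
      linear_combination (norm := module) hμ - hμ'
    obtain ⟨φ, hφa, hφ⟩ := exists_dual _ hi2
    have e1 := congrArg (Subf.extFun F₀ P φ) hrel
    simp only [map_sub, map_add, map_smul, map_zero, Subf.extFun_em, hφa, hφ z (Submodule.subset_span (by simp)),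
      hφ a (Submodule.subset_span (by simp)), smul_eq_mul] at e1
    push_cast at e1
    obtain ⟨ψ, hψa, hψ⟩ := exists_dual _ hi1
    have e2 := congrArg (Subf.extFun F₀ P ψ) hrel
    simp only [map_sub, map_add, map_smul, map_zero, Subf.extFun_em, hψa, hψ z (Submodule.mem_span_singleton_self z),
      smul_eq_mul] at e2
    push_cast at e2
    have hν' : ν' = 0 := by linear_combination -e1
    rw [hν', zero_mul, mul_one, sub_zero] at e2
    have hν : ν = 0 := by linear_combination e2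
    rw [hν, zero_smul, add_zero] at hμ
    have hμ0 : μ ≠ 0 := fun h => em_ne_zero F₀ P hc₁0 (by rw [← hμ, h, zero_smul])
    exact qpoint_mem hQ hrat hn hMΩ hHM hT hg hz0 hz hc₁0 (l := μ⁻¹)
      (by rw [← hu, ← hμ, smul_smul, inv_mul_cancel₀ hμ0, one_smul])

/-- a subspace whose image is orthogonal to a rational singular point -/
theorem qsubspace_mem {g : GL ι F} (hg : g ∈ M) {K : Submodule F₀ (ι → F₀)} (hK : 5 ≤ Module.finrank F₀ K)
    {y : ι → F₀} (hy0 : y ≠ 0) (hy : qr hrat y = 0)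
    (hperp : ∀ v ∈ K, pol Q ((g : Matrix ι ι F) *ᵥ em F₀ P v) (em F₀ P y) = 0) :
    g ∈ subfieldSubgroup F₀ P ⊓ omegaGL Q := by
  have hq := qr_nd hQ hrat
  obtain ⟨z, hz, hz0, hQz, hzK⟩ : ∃ z ∈ K, z ≠ 0 ∧ qr hrat z = 0 ∧ ((∀ v ∈ K, pol (qr hrat) v z = 0) ∨
      ∀ c ∈ K, qr hrat c = 0 → (∀ v ∈ K, pol (qr hrat) v c = 0) → c = 0) := by
    by_cases h : ∃ c ∈ K, c ≠ 0 ∧ qr hrat c = 0 ∧ ∀ v ∈ K, pol (qr hrat) v c = 0
    · obtain ⟨c, hc, hc0, hQc, hcv⟩ := h
      exact ⟨c, hc, hc0, hQc, Or.inl hcv⟩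
    · push Not at h
      obtain ⟨z, hz, hz0, hQz⟩ := exists_singular_mem hq K (by omega)
      refine ⟨z, hz, hz0, hQz, Or.inr fun c hc hQc hcv => ?_⟩
      by_contra hc0
      obtain ⟨v, hv, hvc⟩ := h c hc hc0 hQc
      exact hvc (hcv v hv)
  obtain ⟨φ, hφz, -⟩ := exists_dual (⊥ : Submodule F₀ (ι → F₀)) (fun hm => hz0 ((Submodule.mem_bot F₀).1 hm))
  obtain ⟨p, hp⟩ := exists_prep hq φ
  obtain ⟨T₁, hT₁⟩ : ∃ T, T = K ⊓ LinearMap.ker (pfl hq z) ⊓ LinearMap.ker (pfl hq p) := ⟨_, rfl⟩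
  have hK1 := finrank_inf_pfl hq K z
  have hT₁d := finrank_inf_pfl hq (K ⊓ LinearMap.ker (pfl hq z)) p
  rw [← hT₁] at hT₁d
  have hmem : ∀ v ∈ T₁, v ∈ K ∧ pol (qr hrat) z v = 0 ∧ φ ⬝ᵥ v = 0 := fun v hv => by
    rw [hT₁] at hv
    exact ⟨hv.1.1, by rw [pcomm]; exact hv.1.2, by rw [← hp]; exact hv.2⟩
  obtain ⟨a, ha, ha0, hQa⟩ := exists_singular_mem hq T₁ (by omega)
  have haz : a ∉ Submodule.span F₀ ({z} : Set (ι → F₀)) := fun hm => by
    obtain ⟨c, rfl⟩ := Submodule.mem_span_singleton.1 hm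
    have h := (hmem _ ha).2.2
    rw [dotProduct_smul, hφz, smul_eq_mul, mul_one] at h
    exact ha0 (by rw [h, zero_smul])
  -- a second singular vector
  obtain ⟨a', ha', hQa', ha'a⟩ : ∃ a' ∈ T₁, qr hrat a' = 0 ∧ a' ∉ Submodule.span F₀ ({a} : Set (ι → F₀)) := by
    by_cases hrad : ∃ v ∈ T₁, pol (qr hrat) v a ≠ 0
    · obtain ⟨v, hv, hva⟩ := hrad
      refine ⟨v + (-qr hrat v / pol (qr hrat) v a) • a, T₁.add_mem hv (T₁.smul_mem _ ha), ?_, fun hm => hva ?_⟩
      · rw [qadd hq, qsmul hq, hQa, psmul_right hq]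
        field_simp
        ring
      · obtain ⟨c, hc⟩ := Submodule.mem_span_singleton.1 hm
        have h1 := congrArg (fun w => pol (qr hrat) w a) hc
        simpa [psmul_left hq, padd_left hq, pself hq, hQa] using h1.symm
    push Not at hrad
    obtain ⟨ψ, hψa, -⟩ := exists_dual (⊥ : Submodule F₀ (ι → F₀)) (fun hm => ha0 ((Submodule.mem_bot F₀).1 hm))
    obtain ⟨p', hp'⟩ := exists_prep hq ψ
    have hd := finrank_inf_pfl hq T₁ p'
    obtain ⟨a', ha', ha'0, hQa'⟩ := exists_singular_mem hq (T₁ ⊓ LinearMap.ker (pfl hq p')) (by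
      rcases hzK with h | h
      · have : LinearMap.ker (pfl hq z) ⊓ K = K := inf_eq_right.2 fun v hv => h v hv
        rw [inf_comm K, this] at hT₁d
        omega
      · exfalso
        -- otherwise `a` differs from a radical vector by a multiple of `z`
        by_cases hKa : ∃ w ∈ K, pol (qr hrat) w z ≠ 0
        · obtain ⟨w, hw, hwz⟩ := hKa
          obtain ⟨c, hc⟩ : ∃ c, c = a - (pol (qr hrat) w a / pol (qr hrat) w z) • z := ⟨_, rfl⟩
          have hc0 := h c (hc ▸ K.sub_mem (hmem a ha).1 (K.smul_mem _ hz))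
            (by rw [hc, qsub hq, qsmul hq, hQa, hQz, psmul_right hq, pcomm a z, (hmem a ha).2.1]; ring)
            fun v hv => by
              obtain ⟨u, hu⟩ : ∃ u, u = v - (pol (qr hrat) v z / pol (qr hrat) w z) • w := ⟨_, rfl⟩
              have huK : u ∈ K := hu ▸ K.sub_mem hv (K.smul_mem _ hw)
              have huz : pol (qr hrat) u z = 0 := by
                rw [hu, psub_left hq, psmul_left hq]
                field_simp
                ring
              obtain ⟨u', hu'⟩ : ∃ u', u' = u - (φ ⬝ᵥ u) • z := ⟨_, rfl⟩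
              have hu'T : u' ∈ T₁ := by
                rw [hT₁]
                refine ⟨⟨hu' ▸ K.sub_mem huK (K.smul_mem _ hz), ?_⟩, ?_⟩
                · show pol (qr hrat) u' z = 0
                  rw [hu', psub_left hq, psmul_left hq, huz, pself hq, hQz]; ring
                · show pol (qr hrat) u' p = 0
                  rw [hp, hu', dotProduct_sub, dotProduct_smul, hφz, smul_eq_mul, mul_one, sub_self]
              have hua := hrad u' hu'T
              rw [hu', psub_left hq, psmul_left hq, (hmem a ha).2.1, mul_zero, sub_zero, hu, psub_left hq,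
                psmul_left hq, sub_eq_zero] at hua
              rw [hc, psub_right hq, psmul_right hq, hua]
              field_simp
              ring
          exact haz (Submodule.mem_span_singleton.2 ⟨_, (sub_eq_zero.1 (hc.symm.trans hc0)).symm⟩)
        · push Not at hKa
          exact hz0 (h z hz hQz hKa))
    refine ⟨a', ha'.1, hQa', fun hm => ha'0 ?_⟩
    obtain ⟨c, rfl⟩ := Submodule.mem_span_singleton.1 hm
    have h1 : pol (qr hrat) (c • a) p' = 0 := ha'.2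
    rw [hp', dotProduct_smul, hψa, smul_eq_mul, mul_one] at h1
    rw [h1, zero_smul]
  refine qside_mem hQ hrat hn hMΩ hHM hT hg hy0 hy hz0 hQz hQa hQa' (hmem a ha).2.1 (hmem a' ha').2.1
    haz (fun hm => ?_) (hperp z hz) (hperp a (hmem a ha).1) (hperp a' (hmem a' ha').1)
  obtain ⟨c, c', hcc⟩ := Submodule.mem_span_pair.1 hm
  have h1 := (hmem a' ha').2.2
  rw [← hcc, dotProduct_add, dotProduct_smul, dotProduct_smul, hφz, (hmem a ha).2.2, smul_eq_mul, smul_eq_mul,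
    mul_one, mul_zero, add_zero] at h1
  rw [h1, zero_smul, zero_add] at hcc
  exact ha'a (Submodule.mem_span_singleton.2 ⟨c', hcc⟩)

/-- elements conjugating rational maps with a large fixed space -/
theorem qconj_fix_mem {g i i' : GL ι F} (hg : g ∈ M) (hconj : g * i * g⁻¹ = i')
    (hi' : i' ∈ Cfsg.isometryGroup F Q) (hfix : 5 ≤ Module.finrank F₀ (ratPart F₀ P (fixd i))) {y : ι → F₀}
    (hy0 : y ≠ 0) (hy : qr hrat y = 0) (hym : em F₀ P y ∈ moved i') : g ∈ subfieldSubgroup F₀ P ⊓ omegaGL Q := by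
  refine qsubspace_mem hQ hrat hn hMΩ hHM hT hg hfix hy0 hy fun v hv => ?_
  have hfixed : (g : Matrix ι ι F) *ᵥ em F₀ P v ∈ fixd i' := by
    have h1 : (i : Matrix ι ι F) *ᵥ em F₀ P v = em F₀ P v := (sub_eq_zero.1 (LinearMap.mem_ker.1 hv)).symm
    refine LinearMap.mem_ker.2 ?_
    rw [disp_apply, ← hconj, gl_mul_mulVec, gl_mul_mulVec, gl_inv_mulVec, h1, sub_self]
  obtain ⟨x, hx⟩ := hym
  rw [← hx]
  exact CfsgLib.Orth.pol_fix_disp hQ hi' hfixed x

/-- elements conjugating rational maps with a large moved space -/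
theorem qconj_moved_mem {g i i' : GL ι F} (hg : g ∈ M) (hconj : g * i * g⁻¹ = i')
    (hi' : i' ∈ Cfsg.isometryGroup F Q) (hmov : 5 ≤ Module.finrank F₀ (ratPart F₀ P (moved i))) {y : ι → F₀}
    (hy0 : y ≠ 0) (hy : qr hrat y = 0) (hyf : em F₀ P y ∈ fixd i') : g ∈ subfieldSubgroup F₀ P ⊓ omegaGL Q := by
  refine qsubspace_mem hQ hrat hn hMΩ hHM hT hg hmov hy0 hy fun v hv => ?_
  obtain ⟨x, hx⟩ := hv
  have hmoved : (g : Matrix ι ι F) *ᵥ em F₀ P v = disp i' ((g : Matrix ι ι F) *ᵥ x) := by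
    rw [← hx, disp_apply, disp_apply, ← hconj, gl_mul_mulVec, gl_mul_mulVec, gl_inv_mulVec, mulVec_sub]
  rw [hmoved, pcomm]
  exact CfsgLib.Orth.pol_fix_disp hQ hi' hyf _

end CfsgLib.Perm.Trans.Quad
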