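import Cfsg.Agent.Lib.Perm.Trans.QuadSubfMax

/-!
# Orthogonal subfield subgroups for forms rational up to a scalar
-/

set_option autoImplicit false
set_option linter.all false

namespace CfsgLib.Perm.Trans.Quad

open scoped Matrix
open Matrix Cfsg.Geo

variable {ι : Type} [Fintype ι] [DecidableEq ι] {F : Type*} [Field F] [Fintype F] {Q : (ι → F) → F}

theorem scaled_nd (hQ : IsNondegenerateQuadraticForm Q) {ζ : F} (hζ : ζ ≠ 0) :
    IsNondegenerateQuadraticForm (fun v : ι → F => ζ * Q v) := by
  have hpol : ∀ x y : ι → F,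
      QuadraticMap.polar (fun v : ι → F => ζ * Q v) x y = ζ * QuadraticMap.polar Q x y := fun x y => by
    simp only [QuadraticMap.polar]; ring
  exact
    { smul := fun c v => by simp only [hQ.smul]; ring
      polar_bilinear :=
        { add_left := fun u v w => by simp only [hpol, hQ.polar_bilinear.add_left]; ring
          smul_left := fun c u v => by simp only [hpol, hQ.polar_bilinear.smul_left]; ring
          add_right := fun u v w => by simp only [hpol, hQ.polar_bilinear.add_right]; ring
          smul_right := fun c u v => by simp only [hpol, hQ.polar_bilinear.smul_right]; ring }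
      nondegenerate := fun v hv => by
        obtain ⟨⟨u, hu⟩, w, hw⟩ := hQ.nondegenerate v hv
        exact ⟨⟨u, by rw [hpol]; exact mul_ne_zero hζ hu⟩, w, by rw [hpol]; exact mul_ne_zero hζ hw⟩ }

omit [Fintype F] in
theorem scaled_omega {ζ : F} (hζ : ζ ≠ 0) : omegaGL (fun v : ι → F => ζ * Q v) = omegaGL Q := by
  have hiso : Cfsg.isometryGroup F (fun v : ι → F => ζ * Q v) = Cfsg.isometryGroup F Q := by
    ext g
    rw [mem_iso, mem_iso]
    exact ⟨fun h x => mul_left_cancel₀ hζ (h x), fun h x => congrArg (ζ * ·) (h x)⟩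
  have key : ∀ K K' : Subgroup (Matrix.GeneralLinearGroup ι F), K = K' →
      (commutator K).map K.subtype = (commutator K').map K'.subtype := by
    rintro K K' rfl
    rfl
  exact key _ _ hiso

/-- the subfield subgroup of a form rational up to a scalar is maximal, dimension at least twelve -/
theorem scaled_subfield_maximal_twelve (hQ : IsNondegenerateQuadraticForm Q) (hn : 12 ≤ Fintype.card ι)
    {F₀ : Subfield F} {r : ℕ} (hr : r.Prime) (hr13 : r = 2 → 13 ≤ Fintype.card ι)
    (hcard : Fintype.card F = Nat.card F₀ ^ r) {P : Matrix.GeneralLinearGroup ι F} {ζ : F} (hζ : ζ ≠ 0)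
    (hP : IsQuadFormRationalStructure (fun v : ι → F => ζ * Q v) F₀ P) :
    IsMaximalIn (omegaGL Q) (subfieldSubgroup F₀ P ⊓ omegaGL Q) := by
  classical
  rw [← scaled_omega (Q := Q) hζ]
  exact quad_subfield_maximal_twelve (scaled_nd hQ hζ) (fun a => hP _ fun i => (a i).2) hn hr hr13 hcard

/-- the subfield subgroup of a form rational up to a scalar is maximal, dimension at least twelve, any prime -/
theorem scaled_subfield_maximal_of_twelve (hQ : IsNondegenerateQuadraticForm Q) (hn : 12 ≤ Fintype.card ι)
    {F₀ : Subfield F} {r : ℕ} (hr : r.Prime)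
    (hcard : Fintype.card F = Nat.card F₀ ^ r) {P : Matrix.GeneralLinearGroup ι F} {ζ : F} (hζ : ζ ≠ 0)
    (hP : IsQuadFormRationalStructure (fun v : ι → F => ζ * Q v) F₀ P) :
    IsMaximalIn (omegaGL Q) (subfieldSubgroup F₀ P ⊓ omegaGL Q) := by
  classical
  rw [← scaled_omega (Q := Q) hζ]
  exact quad_subfield_maximal_of_twelve (scaled_nd hQ hζ) (fun a => hP _ fun i => (a i).2) (by omega) hr
    (fun _ => Or.inl hn) hcard

/-- the subfield subgroup of a form rational up to a scalar is maximal, dimension at least ten, any prime -/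
theorem scaled_subfield_maximal_ten (hQ : IsNondegenerateQuadraticForm Q) (hn : 10 ≤ Fintype.card ι)
    {F₀ : Subfield F} {r : ℕ} (hr : r.Prime)
    (hcard : Fintype.card F = Nat.card F₀ ^ r) {P : Matrix.GeneralLinearGroup ι F} {ζ : F} (hζ : ζ ≠ 0)
    (hP : IsQuadFormRationalStructure (fun v : ι → F => ζ * Q v) F₀ P) :
    IsMaximalIn (omegaGL Q) (subfieldSubgroup F₀ P ⊓ omegaGL Q) := by
  classical
  rw [← scaled_omega (Q := Q) hζ]
  exact quad_subfield_maximal_ten (scaled_nd hQ hζ) (fun a => hP _ fun i => (a i).2) hn hr hcard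

end CfsgLib.Perm.Trans.Quad
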