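import Cfsg.Agent.Lib.Perm.Trans.QuadSubfMax
import Cfsg.Agent.Lib.Perm.Trans.QuadSubfScaled
import Cfsg.Agent.Lib.Perm.Dickson.SubfieldPair

/-!
# Orthogonal groups over a subfield in small dimension: tight overgroups

An element either sends a rational totally singular line to a line holding a rational vector, or gives, with a
rational line, two root groups generating a special linear group with an irrational parameter.
-/

set_option autoImplicit false
set_option linter.all false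

namespace CfsgLib.Perm.Trans.Quad

open scoped Matrix
open Matrix Cfsg.Geo CfsgLib.Perm.Asch CfsgLib.Perm.Trans
open CfsgLib.Perm.Trans.Subf (em lift em_add em_neg em_sub em_smul em_sum em_zero em_injective em_ne_zero exists_coords lift_em lift_mem ext_em)
open CfsgLib.Perm.Dickson (upS loS)
open CfsgLib.Orth (disp disp_apply moved fixd wrk)

attribute [local instance] subfieldFin

variable {ι : Type} [Fintype ι] [DecidableEq ι] {F : Type*} [Field F] [Fintype F]
variable {Q : (ι → F) → F}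

local notation "pol" => QuadraticMap.polar
local notation:75 g " ⋆ " x:75 => (Units.val g : Matrix ι ι F) *ᵥ x

omit [Fintype F] in
/-- `m` acts as `A` on the planes `(a, u)` and `(z, -v)` and fixes their orthogonal -/
def ActsSL (Q : (ι → F) → F) (z a u v : ι → F) (A : Matrix.SpecialLinearGroup (Fin 2) F) (m : GL ι F) : Prop :=
  m ⋆ a = A.1 0 0 • a + A.1 1 0 • u ∧ m ⋆ u = A.1 0 1 • a + A.1 1 1 • u ∧
  m ⋆ z = A.1 0 0 • z - A.1 1 0 • v ∧ m ⋆ v = -(A.1 0 1 • z) + A.1 1 1 • v ∧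
  ∀ x, pol Q x z = 0 → pol Q x a = 0 → pol Q x u = 0 → pol Q x v = 0 → m ⋆ x = x

theorem ActsSL.one {z a u v : ι → F} : ActsSL Q z a u v 1 1 := by
  refine ⟨?_, ?_, ?_, ?_, fun x _ _ _ _ => ?_⟩ <;> simp

theorem ActsSL.mul {z a u v : ι → F} {A B : Matrix.SpecialLinearGroup (Fin 2) F} {m k : GL ι F}
    (hm : ActsSL Q z a u v A m) (hk : ActsSL Q z a u v B k) : ActsSL Q z a u v (A * B) (m * k) := by
  obtain ⟨m1, m2, m3, m4, m5⟩ := hm
  obtain ⟨k1, k2, k3, k4, k5⟩ := hk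
  have e : ∀ i j, (A * B).1 i j = A.1 i 0 * B.1 0 j + A.1 i 1 * B.1 1 j := fun i j => by
    show (A.1 * B.1) i j = _
    simp [Matrix.mul_apply, Fin.sum_univ_two]
  refine ⟨?_, ?_, ?_, ?_, fun x h1 h2 h3 h4 => by rw [gl_mul_mulVec, k5 x h1 h2 h3 h4, m5 x h1 h2 h3 h4]⟩
  · rw [gl_mul_mulVec, k1, mulVec_add, mulVec_smul, mulVec_smul, m1, m2, e, e]; module
  · rw [gl_mul_mulVec, k2, mulVec_add, mulVec_smul, mulVec_smul, m1, m2, e, e]; module
  · rw [gl_mul_mulVec, k3, mulVec_sub, mulVec_smul, mulVec_smul, m3, m4, e, e]; module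
  · rw [gl_mul_mulVec, k4, mulVec_add, mulVec_neg, mulVec_smul, mulVec_smul, m3, m4, e, e]; module

variable (hQ : IsNondegenerateQuadraticForm Q)
include hQ

/-- root groups at opposite lines with an irrational ratio give irrational root elements -/
theorem ein_of_pair (h2 : (2 : F) ≠ 0) {F₀ : Subfield F} {r : ℕ} (hr : r.Prime)
    (hcard : Fintype.card F = Nat.card F₀ ^ r) {M : Subgroup (GL ι F)} {z a u v : ι → F} (hQz : Q z = 0) (hQa : Q a = 0) (hza : pol Q z a = 0)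
    (hQu : Q u = 0) (hQv : Q v = 0) (huv : pol Q u v = 0) (hE : ∀ t : F, t ∈ F₀ → EIn Q M z (t • a))
    (hE' : EIn Q M u v) (hD : pol Q z u * pol Q a v - pol Q z v * pol Q a u ∉ F₀)
    (hr2 : r = 2 → Nat.card F₀ = 3 → (pol Q z u * pol Q a v - pol Q z v * pol Q a u) *
      (pol Q z u * pol Q a v - pol Q z v * pol Q a u) ≠ -1) (t : F) : EIn Q M z (t • a) := by
  classical
  obtain ⟨D, hDdef⟩ : ∃ D, D = pol Q z u * pol Q a v - pol Q z v * pol Q a u := ⟨_, rfl⟩
  rw [← hDdef] at hD hr2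
  have hD0 : D ≠ 0 := fun h => hD (h ▸ F₀.zero_mem)
  obtain ⟨u', hu'⟩ : ∃ u', u' = D⁻¹ • (pol Q a v • u - pol Q a u • v) := ⟨_, rfl⟩
  obtain ⟨v', hv'⟩ : ∃ v', v' = D⁻¹ • (-(pol Q z v • u) + pol Q z u • v) := ⟨_, rfl⟩
  have euu : pol Q u u = 0 := by rw [pself hQ, hQu, mul_zero]
  have evv : pol Q v v = 0 := by rw [pself hQ, hQv, mul_zero]
  have ezz : pol Q z z = 0 := by rw [pself hQ, hQz, mul_zero]
  have eaa : pol Q a a = 0 := by rw [pself hQ, hQa, mul_zero]
  have evu : pol Q v u = 0 := by rw [pcomm, huv]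
  have eaz : pol Q a z = 0 := by rw [pcomm, hza]
  have hzu : pol Q z u' = 1 := by
    rw [hu', psmul_right hQ, psub_right hQ, psmul_right hQ, psmul_right hQ,
      show pol Q a v * pol Q z u - pol Q a u * pol Q z v = D by rw [hDdef]; ring, inv_mul_cancel₀ hD0]
  have hau : pol Q a u' = 0 := by
    rw [hu', psmul_right hQ, psub_right hQ, psmul_right hQ, psmul_right hQ]; ring
  have hzv : pol Q z v' = 0 := by
    rw [hv', psmul_right hQ, padd_right hQ, pneg_right hQ, psmul_right hQ, psmul_right hQ]; ring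
  have hav : pol Q a v' = 1 := by
    rw [hv', psmul_right hQ, padd_right hQ, pneg_right hQ, psmul_right hQ, psmul_right hQ,
      show -(pol Q z v * pol Q a u) + pol Q z u * pol Q a v = D by rw [hDdef]; ring, inv_mul_cancel₀ hD0]
  have hu'u' : pol Q u' u' = 0 := by
    simp only [hu', psmul_left hQ, psmul_right hQ, psub_left hQ, psub_right hQ, euu, evv, huv, evu]; ring
  have hv'v' : pol Q v' v' = 0 := by
    simp only [hv', psmul_left hQ, psmul_right hQ, padd_left hQ, padd_right hQ, pneg_left hQ, pneg_right hQ, euu, evv,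
      huv, evu]; ring
  have hu'v' : pol Q u' v' = 0 := by
    simp only [hu', hv', psmul_left hQ, psmul_right hQ, psub_left hQ, padd_right hQ, pneg_right hQ, euu, evv,
      huv, evu]; ring
  have hv'u' : pol Q v' u' = 0 := by rw [pcomm, hu'v']
  have hu'z : pol Q u' z = 1 := by rw [pcomm, hzu]
  have hu'a : pol Q u' a = 0 := by rw [pcomm, hau]
  have hv'z : pol Q v' z = 0 := by rw [pcomm, hzv]
  have hv'a : pol Q v' a = 1 := by rw [pcomm, hav]
  have hu_eq : u = pol Q z u • u' + pol Q a u • v' := by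
    rw [hu', hv']
    match_scalars <;> field_simp <;> rw [hDdef] <;> ring
  have hv_eq : v = pol Q z v • u' + pol Q a v • v' := by
    rw [hu', hv']
    match_scalars <;> field_simp <;> rw [hDdef] <;> ring
  let G : Subgroup (Matrix.SpecialLinearGroup (Fin 2) F) :=
    { carrier := {A | ∃ m ∈ M, ActsSL Q z a u' v' A m}
      one_mem' := ⟨1, M.one_mem, ActsSL.one⟩
      mul_mem' := fun ⟨m, hm, hA⟩ ⟨k, hk, hB⟩ => ⟨m * k, M.mul_mem hm hk, hA.mul hB⟩
      inv_mem' := fun {A} hA => by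
        have hpow : ∀ n : ℕ, ∃ m ∈ M, ActsSL Q z a u' v' (A ^ n) m := fun n => by
          induction n with
          | zero => exact ⟨1, M.one_mem, by rw [pow_zero]; exact ActsSL.one⟩
          | succ n ih =>
            obtain ⟨m, hm, hA'⟩ := hA
            obtain ⟨k, hk, hB⟩ := ih
            exact ⟨k * m, M.mul_mem hk hm, by rw [pow_succ]; exact hB.mul hA'⟩
        have hinv : A⁻¹ = A ^ (orderOf A - 1) := inv_eq_of_mul_eq_one_right (by
          rw [← pow_succ', Nat.sub_add_cancel (orderOf_pos A), pow_orderOf_eq_one])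
        rw [hinv]
        exact hpow _ }
  have hup : ∀ s ∈ F₀, upS s ∈ G := fun s hs => by
    obtain ⟨m, hm, hmE⟩ := hE s hs
    refine ⟨m, hm, ?_, ?_, ?_, ?_, fun x h1 h2' h3 h4 => ?_⟩ <;> rw [hmE] <;>
      simp only [psmul_right hQ, qsmul hQ, hQa, upS]
    · simp [eaa, eaz]
    · simp [hu'z, hu'a]; module
    · simp [ezz, hza]
    · simp [hv'z, hv'a]; module
    · simp [h1, h2']
  have hlo : loS (-D) ∈ G := by
    obtain ⟨m, hm, hmE⟩ := hE'
    obtain ⟨A, hA⟩ : ∃ A, A = pol Q z u := ⟨_, rfl⟩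
    obtain ⟨B, hB⟩ : ∃ B, B = pol Q a u := ⟨_, rfl⟩
    obtain ⟨C, hC⟩ : ∃ C, C = pol Q z v := ⟨_, rfl⟩
    obtain ⟨E, hEv⟩ : ∃ E, E = pol Q a v := ⟨_, rfl⟩
    have hu'' : u = A • u' + B • v' := by rw [hA, hB]; exact hu_eq
    have hv'' : v = C • u' + E • v' := by rw [hC, hEv]; exact hv_eq
    have hD' : D = A * E - C * B := by rw [hDdef, hA, hB, hC, hEv]
    have hform : ∀ x, m ⋆ x = x + (D * pol Q x u') • v' - (D * pol Q x v') • u' := fun x => by
      rw [hmE, hQv, zero_mul, zero_smul, sub_zero, hu'', hv'', hD', padd_right hQ, padd_right hQ, psmul_right hQ,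
        psmul_right hQ, psmul_right hQ, psmul_right hQ]
      module
    refine ⟨m, hm, ?_, ?_, ?_, ?_, fun x h1 h2' h3 h4 => ?_⟩ <;> rw [hform] <;> (try simp only [loS])
    · simp [hau, hav]; module
    · simp [hu'u', hu'v']
    · simp [hzu, hzv]
    · simp [hv'u', hv'v']
    · simp [h3, h4]
  obtain ⟨m, hm, m1, m2, m3, m4, m5⟩ :=
    CfsgLib.Perm.Dickson.all_upper_of_pair' h2 hr hcard hup (μ := -D) (fun h => hD (by simpa using F₀.neg_mem h))
      (fun h h' => by rw [neg_mul_neg]; exact hr2 h h') hlo t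
  refine ⟨m, hm, fun w => ?_⟩
  obtain ⟨y, hy⟩ : ∃ y, y = w - pol Q w v' • a - pol Q w z • u' - pol Q w u' • z - pol Q w a • v' := ⟨_, rfl⟩
  have hw : w = y + pol Q w v' • a + pol Q w z • u' + pol Q w u' • z + pol Q w a • v' := by rw [hy]; abel
  have hfix : m ⋆ y = y := by
    apply m5 <;>
      simp only [hy, psub_left hQ, psmul_left hQ, ezz, eaa, eaz, hza, hzu, hau, hzv, hav, hu'u', hv'v', hu'v', hv'u',
        hu'z, hu'a, hv'z, hv'a] <;> ring
  conv_lhs => rw [hw, mulVec_add, mulVec_add, mulVec_add, mulVec_add, mulVec_smul, mulVec_smul, mulVec_smul,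
    mulVec_smul, hfix, m1, m2, m3, m4]
  simp only [psmul_right hQ, qsmul hQ, hQa, upS]
  simp
  rw [hy]
  module

/-- the singular vectors of a space of dimension five do not lie in two proper subspaces -/
theorem singular_two_subspaces {R S₁ S₂ : Submodule F (ι → F)} (hR : NdOn Q R) (hd : 5 ≤ Module.finrank F R)
    (h : ∀ y ∈ R, Q y = 0 → y ∈ S₁ ∨ y ∈ S₂) : R ≤ S₁ ∨ R ≤ S₂ := by
  by_contra hcon
  push Not at hcon
  obtain ⟨hn1, hn2⟩ := hcon
  obtain ⟨s, hs, hQs, hs2⟩ : ∃ s ∈ R, Q s = 0 ∧ s ∉ S₂ := by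
    by_contra h'
    push Not at h'
    exact hn2 (le_of_singular_mem hQ hR (by omega) h')
  obtain ⟨t, ht, hQt, ht1⟩ : ∃ t ∈ R, Q t = 0 ∧ t ∉ S₁ := by
    by_contra h'
    push Not at h'
    exact hn1 (le_of_singular_mem hQ hR (by omega) h')
  have hboth : ∀ a b, a ∈ R → b ∈ R → Q a = 0 → Q b = 0 → pol Q a b = 0 → a ∉ S₂ → b ∈ S₁ := by
    intro a b ha hb hQa hQb hab ha2
    have ha1 := (h a ha hQa).resolve_right ha2
    rcases h b hb hQb with hb' | hb'
    · exact hb'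
    · rcases h (a + b) (R.add_mem ha hb) (by rw [qadd hQ, hQa, hQb, hab]; ring) with h' | h'
      · exact (S₁.add_mem_iff_right ha1).1 h'
      · exact absurd ((S₂.add_mem_iff_left hb').1 h') ha2
  have hst : pol Q s t ≠ 0 := fun h' => ht1 (hboth s t hs ht hQs hQt h' hs2)
  obtain ⟨t', ht'⟩ : ∃ t', t' = (pol Q s t)⁻¹ • t := ⟨_, rfl⟩
  have ht'R : t' ∈ R := ht' ▸ R.smul_mem _ ht
  have hQt' : Q t' = 0 := by rw [ht', qsmul hQ, hQt, mul_zero]
  have hst' : pol Q s t' = 1 := by rw [ht', psmul_right hQ, inv_mul_cancel₀ hst]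
  have hR3 := pair_nd hQ hs ht'R hQs hQt' hst' hR
  have hd3 := pair_finrank hQ hs ht'R hQs hQt' hst' (P := R)
  have hc : ∀ c ∈ pairPerp hQ R s t', Q c = 0 → c ∈ S₁ ⊓ S₂ := by
    intro c hc hQc
    obtain ⟨hcR, hcs, hct⟩ := (mem_pairPerp hQ).1 hc
    have h1 : c ∈ S₁ := hboth s c hs hcR hQs hQc (by rw [pcomm, hcs]) hs2
    refine ⟨h1, ?_⟩
    by_contra h2'
    refine ht1 ((S₁.smul_mem_iff (inv_ne_zero hst)).1 ?_)
    rw [← ht']
    exact hboth c t' hcR ht'R hQc hQt' hct h2'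
  have hle := le_of_singular_mem hQ hR3 (by omega) hc
  obtain ⟨r, hr, hQr⟩ := exists_nonsingular hQ hR3 (fun h0 => by rw [h0, finrank_bot] at hd3; omega)
  obtain ⟨hrR, hrs, hrt⟩ := (mem_pairPerp hQ).1 hr
  rcases h (r + s + (-Q r) • t') (R.add_mem (R.add_mem hrR hs) (R.smul_mem _ ht'R)) (by
    rw [qadd hQ, qadd hQ, qsmul hQ, hQs, hQt', padd_left hQ, psmul_right hQ, psmul_right hQ, hrs, hrt, hst']
    ring) with h' | h'
  · have hs1 := (h s hs hQs).resolve_right hs2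
    have h'' := (S₁.add_mem_iff_right (S₁.add_mem (hle hr).1 hs1)).1 h'
    rw [ht', smul_smul] at h''
    exact ht1 ((S₁.smul_mem_iff (mul_ne_zero (neg_ne_zero.2 hQr) (inv_ne_zero hst))).1 h'')
  · have ht2 : t ∈ S₂ := (h t ht hQt).resolve_left ht1
    have h'' := (S₂.add_mem_iff_left (ht' ▸ S₂.smul_mem _ (S₂.smul_mem _ ht2) : (-Q r) • t' ∈ S₂)).1 h'
    exact hs2 ((S₂.add_mem_iff_right (hle hr).2).1 h'')

omit [Fintype F] in
theorem perp_decomp {x f y : ι → F} (hx : Q x = 0) (hf : Q f = 0) (hxf : pol Q x f = 1) (hxy : pol Q x y = 0) :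
    y - pol Q y f • x ∈ pairPerp hQ ⊤ x f := by
  have h := pair_proj hQ (P := ⊤) Submodule.mem_top Submodule.mem_top hx hf hxf (x := y) Submodule.mem_top
  rwa [show pol Q y x = 0 by rw [pcomm, hxy], zero_smul, sub_zero] at h

variable {F₀ : Subfield F} {P : GL ι F} (hrat : ∀ a : ι → F₀, Q (em F₀ P a) ∈ F₀)
include hrat

/-- in characteristic two the moved space of an involution has a singular vector in every rational plane -/
theorem exists_singular_moved (h2 : (2 : F) = 0) {j : GL ι F} (hj : j ∈ Cfsg.isometryGroup F Q) (hj2 : j * j = 1)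
    {S : Submodule F₀ (ι → F₀)} (hS : S ≤ ratPart F₀ P (moved j)) (hd : 2 ≤ Module.finrank F₀ S) :
    ∃ y ∈ S, y ≠ 0 ∧ qr hrat y = 0 := by
  classical
  have hq := qr_nd hQ hrat
  have hperp : ∀ a ∈ S, ∀ b ∈ S, pol (qr hrat) a b = 0 := fun a ha b hb => by
    have hfix : em F₀ P a ∈ fixd j := by
      obtain ⟨v, hv⟩ := hS ha
      rw [mem_fixd_iff, ← hv, disp_apply, mulVec_sub, ← gl_mul_mulVec, hj2, Units.val_one, one_mulVec]
      linear_combination (norm := module) h2 • ((j : Matrix ι ι F) *ᵥ v - v)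
    obtain ⟨v, hv⟩ := hS hb
    refine Subtype.ext ?_
    rw [qr_pol hrat, ← hv, CfsgLib.Orth.pol_fix_disp hQ hj hfix]
    rfl
  obtain ⟨a, ha, ha0⟩ := Submodule.exists_mem_ne_zero_of_ne_bot (p := S)
    (fun h => by rw [h, finrank_bot] at hd; omega)
  by_cases hQa : qr hrat a = 0
  · exact ⟨a, ha, ha0, hQa⟩
  have hnotle : ¬ S ≤ Submodule.span F₀ {a} := fun h => by
    have := Submodule.finrank_mono h
    rw [finrank_span_singleton ha0] at this
    omega
  obtain ⟨b, hb, hba⟩ := SetLike.not_le_iff_exists.1 hnotle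
  have h20 : (2 : F₀) = 0 := Subtype.ext ((map_ofNat F₀.subtype 2).trans h2)
  haveI : CharP F₀ 2 := (CharTwo.of_one_ne_zero_of_two_eq_zero one_ne_zero h20)
  obtain ⟨s, hs⟩ := FiniteField.isSquare_of_char_two (CharP.ringChar_of_prime_eq_zero Nat.prime_two (by simpa using h20))
    (-qr hrat b / qr hrat a)
  refine ⟨b + s • a, S.add_mem hb (S.smul_mem _ ha), fun h => hba ?_, ?_⟩
  · rw [eq_neg_of_add_eq_zero_left h]
    exact Submodule.neg_mem _ (Submodule.smul_mem _ _ (Submodule.mem_span_singleton_self a))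
  · rw [qadd hq, qsmul hq, psmul_right hq, hperp b hb a ha, sq, ← hs]
    field_simp
    ring

variable {M : Subgroup (GL ι F)} (hn : 7 ≤ Fintype.card ι) (hMΩ : M ≤ omegaGL Q)
  (hHM : subfieldSubgroup F₀ P ⊓ omegaGL Q ≤ M) (hT : QTight hrat M)
include hn hMΩ hHM hT

omit hMΩ hHM hT in
/-- an alternating pairing with two kinds of values on orthogonal singular pairs has one kind -/
theorem one_kind (D : (ι → F₀) → (ι → F₀) → F) (c : F)
    (hadd : ∀ x y y', D x (y + y') = D x y + D x y') (hsm : ∀ (a : F₀) x y, D x (a • y) = (a : F) * D x y)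
    (halt : ∀ x y, D x y = -D y x) (hself : ∀ x, D x x = 0)
    (hcases : ∀ x y, qr hrat x = 0 → qr hrat y = 0 → pol (qr hrat) x y = 0 → D x y ∈ F₀ ∨ c * D x y ∈ F₀) :
    (∀ x y, qr hrat x = 0 → qr hrat y = 0 → pol (qr hrat) x y = 0 → D x y ∈ F₀) ∨
      ∀ x y, qr hrat x = 0 → qr hrat y = 0 → pol (qr hrat) x y = 0 → c * D x y ∈ F₀ := by
  classical
  have hq := qr_nd hQ hrat
  have htop : Module.finrank F₀ (⊤ : Submodule F₀ (ι → F₀)) = Fintype.card ι := by
    rw [finrank_top, Module.finrank_fintype_fun_eq_card]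
  let K : F → (ι → F₀) → Submodule F₀ (ι → F₀) := fun e x =>
    { carrier := {y | e * D x y ∈ F₀}
      zero_mem' := by
        show e * D x 0 ∈ F₀
        have := hsm 0 x 0
        rw [zero_smul, ZeroMemClass.coe_zero, zero_mul] at this
        rw [this, mul_zero]
        exact F₀.zero_mem
      add_mem' := fun {a b} ha hb => by
        show e * D x (a + b) ∈ F₀; rw [hadd, mul_add]; exact F₀.add_mem ha hb
      smul_mem' := fun a y hy => by
        show e * D x (a • y) ∈ F₀; rw [hsm, mul_left_comm]; exact F₀.mul_mem a.2 hy }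
  let A : F → (ι → F₀) → Prop := fun e x => ∀ y, qr hrat y = 0 → pol (qr hrat) x y = 0 → e * D x y ∈ F₀
  have hR : ∀ x f, qr hrat x = 0 → qr hrat f = 0 → pol (qr hrat) x f = 1 →
      5 ≤ Module.finrank F₀ (pairPerp hq ⊤ x f) := by
    intro x f hx hf hxf
    have := pair_finrank hq (P := ⊤) Submodule.mem_top Submodule.mem_top hx hf hxf
    omega
  have hfull : ∀ e x f, qr hrat x = 0 → qr hrat f = 0 → pol (qr hrat) x f = 1 → pairPerp hq ⊤ x f ≤ K e x → A e x := by
    intro e x f hx hf hxf hle y _ hxy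
    have h1 : e * D x (y - pol (qr hrat) y f • x) ∈ F₀ := hle (perp_decomp hq hx hf hxf hxy)
    have h2 : D x y = D x (y - pol (qr hrat) y f • x) := by
      have h := hadd x (y - pol (qr hrat) y f • x) (pol (qr hrat) y f • x)
      rw [sub_add_cancel, hsm, hself, mul_zero, add_zero] at h
      exact h
    rwa [h2]
  have hone : ∀ x, qr hrat x = 0 → A 1 x ∨ A c x := by
    intro x hx
    by_cases hx0 : x = 0
    · refine Or.inl fun y _ _ => ?_
      have := hsm 0 y x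
      rw [zero_smul, ZeroMemClass.coe_zero, zero_mul] at this
      rw [halt, hx0, this, neg_zero, mul_zero]
      exact F₀.zero_mem
    obtain ⟨f, -, hf, hxf⟩ := exists_qpartner hq (ndOn_top hq) Submodule.mem_top hx0 hx
    rcases singular_two_subspaces hq (S₁ := K 1 x) (S₂ := K c x)
        (pair_nd hq Submodule.mem_top Submodule.mem_top hx hf hxf (ndOn_top hq)) (hR x f hx hf hxf) (fun y hy hQy => by
      obtain ⟨-, hyx, -⟩ := (mem_pairPerp hq).1 hy
      rcases hcases x y hx hQy (by rw [pcomm, hyx]) with h | h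
      · exact Or.inl (show 1 * D x y ∈ F₀ by rwa [one_mul])
      · exact Or.inr h) with h | h
    · exact Or.inl (hfull 1 x f hx hf hxf h)
    · exact Or.inr (hfull c x f hx hf hxf h)
  have hflip : ∀ e x y, A e y → qr hrat x = 0 → pol (qr hrat) x y = 0 → e * D x y ∈ F₀ := by
    intro e x y h hx hxy
    rw [halt, mul_neg]
    exact F₀.neg_mem (h x hx (by rw [pcomm, hxy]))
  have hnb : ∀ x x', qr hrat x = 0 → qr hrat x' = 0 → ¬ A 1 x → ¬ A c x' → pol (qr hrat) x x' = 0 := by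
    intro x x' hx hx' hA hB
    by_contra hne
    obtain ⟨f, hfd⟩ : ∃ f, f = (pol (qr hrat) x x')⁻¹ • x' := ⟨_, rfl⟩
    have hf : qr hrat f = 0 := by rw [hfd, qsmul hq, hx', mul_zero]
    have hxf : pol (qr hrat) x f = 1 := by rw [hfd, psmul_right hq, inv_mul_cancel₀ hne]
    obtain ⟨g, hgd⟩ : ∃ g, g = (pol (qr hrat) x x')⁻¹ • x := ⟨_, rfl⟩
    have hg : qr hrat g = 0 := by rw [hgd, qsmul hq, hx, mul_zero]
    have hxg : pol (qr hrat) x' g = 1 := by rw [hgd, psmul_right hq, pcomm x' x, inv_mul_cancel₀ hne]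
    rcases singular_two_subspaces hq (S₁ := K 1 x) (S₂ := K c x')
        (pair_nd hq Submodule.mem_top Submodule.mem_top hx hf hxf (ndOn_top hq)) (hR x f hx hf hxf) (fun y hy hQy => by
      obtain ⟨-, hyx, hyf⟩ := (mem_pairPerp hq).1 hy
      have hxy : pol (qr hrat) x y = 0 := by rw [pcomm, hyx]
      rw [hfd, psmul_right hq] at hyf
      have hx'y : pol (qr hrat) x' y = 0 := by rw [pcomm]; exact (mul_eq_zero.1 hyf).resolve_left (inv_ne_zero hne)
      rcases hone y hQy with h | h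
      · exact Or.inl (hflip 1 x y h hx hxy)
      · exact Or.inr (hflip c x' y h hx' hx'y)) with h | h
    · exact hA (hfull 1 x f hx hf hxf h)
    · refine hB (hfull c x' g hx' hg hxg (fun y hy => h ?_))
      obtain ⟨-, hyx', hyg⟩ := (mem_pairPerp hq).1 hy
      rw [hgd, psmul_right hq] at hyg
      refine (mem_pairPerp hq).2 ⟨Submodule.mem_top, (mul_eq_zero.1 hyg).resolve_left (inv_ne_zero hne), ?_⟩
      rw [hfd, psmul_right hq, hyx', mul_zero]
  by_contra hcon
  push Not at hcon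
  obtain ⟨⟨x, y₀, hx, hy₀, hxy₀, hDx⟩, x', y', hx', hy', hxy', hDx'⟩ := hcon
  have hA : ¬ A 1 x := fun h => hDx (by simpa using h y₀ hy₀ hxy₀)
  have hB : ¬ A c x' := fun h => hDx' (h y' hy' hxy')
  have hx0 : x ≠ 0 := fun h => hDx (by
    have := hsm 0 y₀ x
    rw [zero_smul, ZeroMemClass.coe_zero, zero_mul] at this
    rw [halt, h, this, neg_zero]
    exact F₀.zero_mem)
  obtain ⟨f, -, hf, hxf⟩ := exists_qpartner hq (ndOn_top hq) Submodule.mem_top hx0 hx
  have hxx' : pol (qr hrat) x x' = 0 := hnb x x' hx hx' hA hB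
  rcases singular_two_subspaces hq (S₁ := K 1 x) (S₂ := LinearMap.ker (pfl hq x'))
      (pair_nd hq Submodule.mem_top Submodule.mem_top hx hf hxf (ndOn_top hq)) (hR x f hx hf hxf) (fun y hy hQy => by
    obtain ⟨-, hyx, -⟩ := (mem_pairPerp hq).1 hy
    by_cases hy1 : A 1 y
    · exact Or.inl (hflip 1 x y hy1 hx (by rw [pcomm, hyx]))
    · exact Or.inr (hnb y x' hQy hx' hy1 hB)) with h | h
  · exact hA (hfull 1 x f hx hf hxf h)
  -- `x'` is a multiple of `x`
  have hx'x : x' = pol (qr hrat) x' f • x := by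
    refine sub_eq_zero.1 (eq_zero_of_perp_top hq fun z => ?_)
    obtain ⟨w, hw⟩ : ∃ w, w = z - pol (qr hrat) z x • f := ⟨_, rfl⟩
    have hxw : pol (qr hrat) x w = 0 := by rw [hw, psub_right hq, psmul_right hq, hxf, pcomm x z, mul_one, sub_self]
    have h1 : pol (qr hrat) (w - pol (qr hrat) w f • x) x' = 0 := h (perp_decomp hq hx hf hxf hxw)
    rw [psub_left hq, psmul_left hq, hxx', mul_zero, sub_zero] at h1
    have hxx : pol (qr hrat) x x = 0 := by rw [pself hq, hx, mul_zero]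
    have hzw : z = w + pol (qr hrat) z x • f := by rw [hw, sub_add_cancel]
    rw [hzw, padd_right hq, psub_left hq, psub_left hq, psmul_left hq, psmul_left hq, psmul_right hq, psmul_right hq,
      pcomm x' w, h1, hxw, hxf]
    ring
  refine hDx' ?_
  have h2 := (hone x hx).resolve_left hA y' hy' (by
    rw [hx'x, psmul_left hq] at hxy'
    rcases mul_eq_zero.1 hxy' with h0 | h0
    · exact absurd (hx'x.trans (by rw [h0, zero_smul])) (fun h0' => hB fun y _ _ => by
        have := hsm 0 y x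
        rw [zero_smul, ZeroMemClass.coe_zero, zero_mul] at this
        rw [halt, h0', this, neg_zero, mul_zero]
        exact F₀.zero_mem)
    · exact h0)
  rw [hx'x, halt, hsm, halt, show c * -(((pol (qr hrat) x' f : F₀) : F) * -D x y') =
    ((pol (qr hrat) x' f : F₀) : F) * (c * D x y') by ring]
  exact F₀.mul_mem (pol (qr hrat) x' f).2 h2

/-- a tight overgroup is the subfield group: odd characteristic, odd degree -/
theorem qtight_small_odd (h2 : (2 : F) ≠ 0) {r : ℕ} (hr : r.Prime)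
    (hcard : Fintype.card F = Nat.card F₀ ^ r) : M ≤ subfieldSubgroup F₀ P ⊓ omegaGL Q := by
  classical
  intro g hg
  have hq := qr_nd hQ hrat
  have h20 : (2 : F₀) ≠ 0 := fun h =>
    h2 ((map_ofNat F₀.subtype 2).symm.trans ((congrArg F₀.subtype h).trans (map_zero F₀.subtype)))
  have hgi := omegaGL_le_iso (hMΩ hg)
  have htop : Module.finrank F₀ (⊤ : Submodule F₀ (ι → F₀)) = Fintype.card ι := by
    rw [finrank_top, Module.finrank_fintype_fun_eq_card]
  obtain ⟨z₁, -, hz₁0, hQz₁⟩ := exists_qsingular hq (ndOn_top hq) (by omega)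
  obtain ⟨f₁, -, hQf₁, hzf₁⟩ := exists_qpartner hq (ndOn_top hq) Submodule.mem_top hz₁0 hQz₁
  have hd := pair_finrank hq (P := ⊤) Submodule.mem_top Submodule.mem_top hQz₁ hQf₁ hzf₁
  obtain ⟨a₁, ha₁, ha₁0, hQa₁⟩ := exists_qsingular hq
    (pair_nd hq Submodule.mem_top Submodule.mem_top hQz₁ hQf₁ hzf₁ (ndOn_top hq)) (by omega)
  obtain ⟨-, ha₁z, ha₁f⟩ := (mem_pairPerp hq).1 ha₁
  have hz₁a₁ : pol (qr hrat) z₁ a₁ = 0 := by rw [pcomm, ha₁z]
  obtain ⟨u, hu⟩ : ∃ u, u = g ⋆ em F₀ P z₁ := ⟨_, rfl⟩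
  obtain ⟨v, hv⟩ : ∃ v, v = g ⋆ em F₀ P a₁ := ⟨_, rfl⟩
  have hQu : Q u = 0 := by rw [hu, mem_iso.1 hgi, qr_zero hQ hrat hQz₁]
  have hQv : Q v = 0 := by rw [hv, mem_iso.1 hgi, qr_zero hQ hrat hQa₁]
  have huv : pol Q u v = 0 := by rw [hu, hv, iso_pol hgi, qr_perp hQ hrat hz₁a₁]
  obtain ⟨D, hD⟩ : ∃ D : (ι → F₀) → (ι → F₀) → F, D = fun x y =>
      pol Q (em F₀ P x) u * pol Q (em F₀ P y) v - pol Q (em F₀ P x) v * pol Q (em F₀ P y) u := ⟨_, rfl⟩
  by_cases hbad : ∃ x y : ι → F₀, qr hrat x = 0 ∧ qr hrat y = 0 ∧ pol (qr hrat) x y = 0 ∧ D x y ∉ F₀ ∧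
      (r = 2 → Nat.card F₀ = 3 → D x y * D x y ≠ -1)
  · -- irrational root elements
    exfalso
    obtain ⟨x, y, hQx, hQy, hxy, hxyD, hxy9⟩ := hbad
    simp only [hD] at hxyD hxy9
    have hzx := qr_zero hQ hrat hQx
    have hE : ∀ t : F, t ∈ F₀ → EIn Q M (em F₀ P x) (t • em F₀ P y) := fun t ht => by
      have h := rat_E hQ hrat (by omega) hQx (show pol (qr hrat) x ((⟨t, ht⟩ : F₀) • y) = 0 by
        rw [psmul_right hq, hxy, mul_zero])
      rw [em_smul] at h
      exact EIn.trans_le hHM h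
    have hE' : EIn Q M u v := by
      rw [hu, hv]
      exact EIn.conj (EIn.trans_le hHM (rat_E hQ hrat (by omega) hQz₁ hz₁a₁)) hgi hg
    obtain ⟨μ, hμ⟩ : ∃ μ : F, μ ∉ F₀ := ⟨_, hxyD⟩
    have hall := ein_of_pair hQ h2 hr hcard hzx (qr_zero hQ hrat hQy) (qr_perp hQ hrat hxy) hQu hQv huv hE hE'
      hxyD hxy9 μ
    have hx0 : x ≠ 0 := fun h => hxyD (by
      rw [h, em_zero, pzero_left hQ, pzero_left hQ, zero_mul, zero_mul, sub_zero]; exact F₀.zero_mem)
    obtain ⟨α, s, hα⟩ := hT x hx0 hQx _ (by rw [psmul_right hQ, qr_perp hQ hrat hxy, mul_zero]) hall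
    have hyx : y ∉ Submodule.span F₀ ({x} : Set (ι → F₀)) := fun h => by
      obtain ⟨c, rfl⟩ := Submodule.mem_span_singleton.1 h
      refine hxyD ?_
      rw [em_smul, psmul_left hQ, psmul_left hQ]
      convert F₀.zero_mem using 1
      ring
    obtain ⟨φ, hφy, hφ⟩ := exists_dual _ hyx
    have h1 := congrArg (Subf.extFun F₀ P φ) hα
    simp only [map_add, map_smul, Subf.extFun_em, hφy, hφ x (Submodule.mem_span_singleton_self x), smul_eq_mul] at h1
    push_cast at h1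
    rw [mul_one, mul_zero, add_zero] at h1
    exact hμ (h1 ▸ (φ ⬝ᵥ α).2)
  push Not at hbad
  -- a scalar making the pairing rational on orthogonal pairs
  obtain ⟨κ, hκ, hgood'⟩ : ∃ κ : F, κ ≠ 0 ∧
      ∀ x y, qr hrat x = 0 → qr hrat y = 0 → pol (qr hrat) x y = 0 → κ * D x y ∈ F₀ := by
    by_cases hall1 : ∀ x y, qr hrat x = 0 → qr hrat y = 0 → pol (qr hrat) x y = 0 → D x y ∈ F₀
    · exact ⟨1, one_ne_zero, fun x y h1 h2' h3 => by rw [one_mul]; exact hall1 x y h1 h2' h3⟩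
    push Not at hall1
    obtain ⟨x₀, y₀, h01, h02, h03, hD0⟩ := hall1
    obtain ⟨hr22, hq03, hsq⟩ := hbad x₀ y₀ h01 h02 h03 hD0
    obtain ⟨κ, hκdef⟩ : ∃ κ, κ = D x₀ y₀ := ⟨_, rfl⟩
    rw [← hκdef] at hD0 hsq
    have hκ : κ ≠ 0 := fun h => hD0 (h ▸ F₀.zero_mem)
    have hcases : ∀ x y, qr hrat x = 0 → qr hrat y = 0 → pol (qr hrat) x y = 0 → D x y ∈ F₀ ∨ κ * D x y ∈ F₀ := by
      intro x y h1 h2' h3
      by_cases h : D x y ∈ F₀
      · exact Or.inl h
      refine Or.inr ?_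
      obtain ⟨-, -, hsq'⟩ := hbad x y h1 h2' h3 h
      rcases mul_self_eq_mul_self_iff.1 (hsq'.trans hsq.symm) with e | e <;> rw [e]
      · rw [hsq]; exact F₀.neg_mem F₀.one_mem
      · rw [mul_neg, hsq, neg_neg]; exact F₀.one_mem
    rcases one_kind hQ hrat hn D κ (fun x y y' => by simp only [hD, em_add, padd_left hQ]; ring)
        (fun a x y => by simp only [hD, em_smul, psmul_left hQ]; ring) (fun x y => by simp only [hD]; ring)
        (fun x => by simp only [hD]; ring) hcases with h | h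
    · exact absurd (hκdef ▸ h x₀ y₀ h01 h02 h03) hD0
    · exact ⟨κ, hκ, h⟩
  obtain ⟨D₁, hD₁⟩ : ∃ D₁ : (ι → F₀) → (ι → F₀) → F, D₁ = fun x y => κ * D x y := ⟨_, rfl⟩
  have hgood : ∀ x y, qr hrat x = 0 → qr hrat y = 0 → pol (qr hrat) x y = 0 → D₁ x y ∈ F₀ := by
    rw [hD₁]
    exact hgood'
  -- the pairing is rational on all pairs of singular vectors
  have hadd1 : ∀ x x' y, D₁ (x + x') y = D₁ x y + D₁ x' y := fun x x' y => by
    simp only [hD₁, hD, em_add, padd_left hQ]; ring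
  have hadd2 : ∀ x y y', D₁ x (y + y') = D₁ x y + D₁ x y' := fun x y y' => by
    simp only [hD₁, hD, em_add, padd_left hQ]; ring
  have hsm2 : ∀ (c : F₀) x y, D₁ x (c • y) = (c : F) * D₁ x y := fun c x y => by
    simp only [hD₁, hD, em_smul, psmul_left hQ]; ring
  have halt : ∀ x y, D₁ x y = -D₁ y x := fun x y => by simp only [hD₁, hD]; ring
  have hneg2 : ∀ x y, D₁ x (-y) = -D₁ x y := fun x y => by simp only [hD₁, hD, em_neg, pneg_left hQ]; ring
  have hpair : ∀ x f, qr hrat x = 0 → qr hrat f = 0 → pol (qr hrat) x f = 1 → D₁ x f ∈ F₀ := by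
    intro x f hQx hQf hxf
    have hR := pair_nd hq Submodule.mem_top Submodule.mem_top hQx hQf hxf (ndOn_top hq)
    have hRd := pair_finrank hq (P := ⊤) Submodule.mem_top Submodule.mem_top hQx hQf hxf
    obtain ⟨c, hc, hc0, hQc⟩ := exists_qsingular hq hR (by omega)
    obtain ⟨c', hc', hQc', hcc'⟩ := exists_qpartner hq hR hc hc0 hQc
    obtain ⟨-, hcx, hcf⟩ := (mem_pairPerp hq).1 hc
    obtain ⟨-, hc'x, hc'f⟩ := (mem_pairPerp hq).1 hc'
    have key : ∀ c c', qr hrat c = 0 → qr hrat c' = 0 → pol (qr hrat) c c' = 1 → pol (qr hrat) c x = 0 →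
        pol (qr hrat) c f = 0 → pol (qr hrat) c' x = 0 → pol (qr hrat) c' f = 0 → D₁ x f - D₁ c c' ∈ F₀ := by
      intro c c' hQc hQc' hcc' hcx hcf hc'x hc'f
      have h := hgood (x + c) (f + -c') (by rw [qadd hq, hQx, hQc, pcomm x c, hcx]; ring)
        (by rw [qadd hq, qneg hq, hQf, hQc', pneg_right hq, pcomm f c', hc'f]; ring)
        (by rw [padd_left hq, padd_right hq, padd_right hq, pneg_right hq, pneg_right hq, hxf, pcomm x c', hc'x, hcf,
          hcc']; ring)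
      rw [hadd1, hadd2, hadd2, hneg2, hneg2] at h
      have e1 := hgood x c' hQx hQc' (by rw [pcomm, hc'x])
      have e2 := hgood c f hQc hQf hcf
      have h' := F₀.sub_mem (F₀.add_mem h e1) e2
      convert h' using 1
      ring
    have h1 := key c c' hQc hQc' hcc' hcx hcf hc'x hc'f
    have h3 := key c' c hQc' hQc (by rw [pcomm, hcc']) hc'x hc'f hcx hcf
    have h4 := F₀.add_mem h1 h3
    rw [halt c' c, show D₁ x f - D₁ c c' + (D₁ x f - -D₁ c c') = 2 * D₁ x f by ring] at h4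
    have h5 := F₀.div_mem h4 (show (2 : F) ∈ F₀ by exact_mod_cast natCast_mem F₀ 2)
    rwa [mul_div_cancel_left₀ _ h2] at h5
  have hall : ∀ x y, qr hrat x = 0 → qr hrat y = 0 → D₁ x y ∈ F₀ := by
    intro x y hQx hQy
    by_cases h : pol (qr hrat) x y = 0
    · exact hgood x y hQx hQy h
    have h1 := hpair x ((pol (qr hrat) x y)⁻¹ • y) hQx (by rw [qsmul hq, hQy, mul_zero])
      (by rw [psmul_right hq, inv_mul_cancel₀ h])
    rw [hsm2] at h1
    have h0 : (((pol (qr hrat) x y)⁻¹ : F₀) : F) ≠ 0 := fun e => inv_ne_zero h (Subtype.ext e)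
    have h2' := F₀.div_mem h1 ((pol (qr hrat) x y)⁻¹).2
    rwa [mul_div_cancel_left₀ _ h0] at h2'
  -- a rational vector in the image line
  obtain ⟨x, hQx, hxu⟩ : ∃ x, qr hrat x = 0 ∧ pol Q (em F₀ P x) u ≠ 0 := by
    by_contra hcon
    push Not at hcon
    let S : Submodule F₀ (ι → F₀) :=
      { carrier := {b | pol Q (em F₀ P b) u = 0}
        zero_mem' := by show pol Q (em F₀ P 0) u = 0; rw [em_zero, pzero_left hQ]
        add_mem' := fun {b b'} hb hb' => by
          show pol Q (em F₀ P (b + b')) u = 0; rw [em_add, padd_left hQ, hb, hb', add_zero]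
        smul_mem' := fun c b hb => by
          show pol Q (em F₀ P (c • b)) u = 0; rw [em_smul, psmul_left hQ, hb, mul_zero] }
    have hle := le_of_singular_mem hq (ndOn_top hq) (S := S) (by omega) fun b _ hQb => hcon b hQb
    refine em_ne_zero F₀ P hz₁0 (gl_mulVec_eq_zero.1 (hu.symm.trans (eq_zero_of_rat_perp (F₀ := F₀) (P := P) hQ fun b => ?_)))
    rw [pcomm]
    exact hle Submodule.mem_top
  obtain ⟨w, hw⟩ : ∃ w, w = κ • (pol Q (em F₀ P x) u • v - pol Q (em F₀ P x) v • u) := ⟨_, rfl⟩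
  have hwD : ∀ y, pol Q (em F₀ P y) w = D₁ x y := fun y => by
    rw [hw, psmul_right hQ, psub_right hQ, psmul_right hQ, psmul_right hQ]
    simp only [hD₁, hD]
  let S : Submodule F₀ (ι → F₀) :=
    { carrier := {b | pol Q (em F₀ P b) w ∈ F₀}
      zero_mem' := by show pol Q (em F₀ P 0) w ∈ F₀; rw [em_zero, pzero_left hQ]; exact F₀.zero_mem
      add_mem' := fun {b b'} hb hb' => by
        show pol Q (em F₀ P (b + b')) w ∈ F₀; rw [em_add, padd_left hQ]; exact F₀.add_mem hb hb'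
      smul_mem' := fun c b hb => by
        show pol Q (em F₀ P (c • b)) w ∈ F₀; rw [em_smul, psmul_left hQ]; exact F₀.mul_mem c.2 hb }
  have hle := le_of_singular_mem hq (ndOn_top hq) (S := S) (by omega) fun b _ hQb => by
    show pol Q (em F₀ P b) w ∈ F₀
    rw [hwD]
    exact hall x b hQx hQb
  obtain ⟨α, hα⟩ := exists_prep hq (fun i => (⟨pol Q (em F₀ P (Pi.single i 1)) w, hle Submodule.mem_top⟩ : F₀))
  have hwα : w = em F₀ P α := by
    refine sub_eq_zero.1 (eq_zero_of_perp_top hQ fun y => ?_)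
    obtain ⟨c, rfl⟩ := exists_coords F₀ P y
    induction (Finset.univ : Finset ι) using Finset.induction_on with
    | empty => rw [Finset.sum_empty]; exact pzero_right hQ _
    | @insert i s hi ih =>
      rw [Finset.sum_insert hi, padd_right hQ, psmul_right hQ, ih, add_zero, psub_left hQ, pcomm w,
        pcomm (em F₀ P α), ← qr_pol hrat, hα, dotProduct_single, mul_one, sub_self, mul_zero]
  have hw0 : α ≠ 0 := fun h => by
    rw [h, em_zero, hw, smul_eq_zero] at hwα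
    replace hwα := hwα.resolve_left hκ
    obtain ⟨p, hp⟩ : ∃ p, p = pol Q (em F₀ P x) u := ⟨_, rfl⟩
    obtain ⟨q, hq'⟩ : ∃ q, q = pol Q (em F₀ P x) v := ⟨_, rfl⟩
    rw [← hp, ← hq', hu, hv, ← mulVec_smul, ← mulVec_smul, ← mulVec_sub] at hwα
    have h1 := gl_mulVec_eq_zero.1 hwα
    have h3 := congrArg (fun y => pol Q y (em F₀ P f₁)) h1
    simp only [psub_left hQ, psmul_left hQ, qr_perp hQ hrat ha₁f, qr_one hQ hrat hzf₁, pzero_left hQ, mul_zero,
      mul_one, zero_sub, neg_eq_zero] at h3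
    rw [h3, zero_smul, sub_zero, smul_eq_zero] at h1
    exact em_ne_zero F₀ P ha₁0 (h1.resolve_left (hp ▸ hxu))
  have hQw : qr hrat α = 0 := Subtype.ext (by
    rw [qr_coe hrat, ← hwα, hw, qsmul hQ, qsub hQ, qsmul hQ, qsmul hQ, hQu, hQv, psmul_left hQ, psmul_right hQ, pcomm v u, huv]
    simp)
  obtain ⟨K, hK⟩ : ∃ K, K = (⊤ : Submodule F₀ (ι → F₀)) ⊓ LinearMap.ker (pfl hq z₁) ⊓ LinearMap.ker (pfl hq a₁) :=
    ⟨_, rfl⟩
  have hK1 := finrank_inf_pfl hq (⊤ : Submodule F₀ (ι → F₀)) z₁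
  have hK2 := finrank_inf_pfl hq ((⊤ : Submodule F₀ (ι → F₀)) ⊓ LinearMap.ker (pfl hq z₁)) a₁
  rw [← hK] at hK2
  refine qsubspace_mem hQ hrat hn hMΩ hHM hT hg (K := K) (by omega) hw0 hQw fun b hb => ?_
  rw [hK] at hb
  rw [← hwα, hw, psmul_right hQ, psub_right hQ, psmul_right hQ, psmul_right hQ, hu, hv, iso_pol hgi, iso_pol hgi,
    qr_perp hQ hrat (show pol (qr hrat) b z₁ = 0 from hb.1.2), qr_perp hQ hrat (show pol (qr hrat) b a₁ = 0 from hb.2),
    mul_zero, mul_zero, sub_zero, mul_zero]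


/-- a tight overgroup is the subfield group: characteristic two, odd degree -/
theorem qtight_small_even (h2 : (2 : F) = 0) {r : ℕ} (hr : r.Prime) (hr2 : r ≠ 2)
    (hcard : Fintype.card F = Nat.card F₀ ^ r) : M ≤ subfieldSubgroup F₀ P ⊓ omegaGL Q := by
  classical
  intro g hg
  have hq := qr_nd hQ hrat
  have hgi := omegaGL_le_iso (hMΩ hg)
  have h20 : (2 : F₀) = 0 := Subtype.ext ((map_ofNat F₀.subtype 2).trans h2)
  have hsqF : ∀ p : F, p * p ∈ F₀ → p ∈ F₀ := fun p hp =>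
    Subf.mem_of_sq_mem hr (lt_of_le_of_ne hr.two_le (Ne.symm hr2)) hcard hp
  have htop : Module.finrank F₀ (⊤ : Submodule F₀ (ι → F₀)) = Fintype.card ι := by
    rw [finrank_top, Module.finrank_fintype_fun_eq_card]
  -- an involution moving a plane with a non-singular vector
  obtain ⟨i₁, A, hA, -, hi₁Ω, hAd, hwit⟩ := exists_refl_inv hQ hrat (by omega) (c := 1) (c' := 1) one_ne_zero one_ne_zero
    ⟨1, by push_cast; simp⟩ 1 ⊤ (ndOn_top hq) (by omega) (fun _ => by omega)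
  obtain ⟨a, ha, a', ha', hQa, hQa', haa', hne⟩ := hwit one_pos
  obtain ⟨hi₁i, hR₁, h₁₂, hmov₁⟩ := hA
  have hi₁H : i₁ ∈ subfieldSubgroup F₀ P ⊓ omegaGL Q := Subgroup.mem_inf.2 ⟨hR₁.mem, hi₁Ω⟩
  have hw₁ : wrk i₁ = 2 := by
    show Module.finrank F (moved i₁) = 2
    rw [hmov₁, finrank_span_em, hAd]
  obtain ⟨y₁, hy₁⟩ : ∃ y, y = a + a' := ⟨_, rfl⟩
  have hy₁0 : y₁ ≠ 0 := by simpa [hy₁] using hne 1
  have hQy₁ : qr hrat y₁ = 0 := by
    rw [hy₁, qadd hq, hQa, hQa', haa']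
    linear_combination h20
  have hy₁m : em F₀ P y₁ ∈ moved i₁ := hmov₁ ▸ Submodule.subset_span ⟨y₁, hy₁ ▸ A.add_mem ha ha', rfl⟩
  -- a long root element
  obtain ⟨z, -, hz0, hQz⟩ := exists_qsingular hq (ndOn_top hq) (by omega)
  obtain ⟨f, -, hQf, hzf⟩ := exists_qpartner hq (ndOn_top hq) Submodule.mem_top hz0 hQz
  have hd := pair_finrank hq (P := ⊤) Submodule.mem_top Submodule.mem_top hQz hQf hzf
  obtain ⟨b, hb, hb0, hQb⟩ := exists_qsingular hq
    (pair_nd hq Submodule.mem_top Submodule.mem_top hQz hQf hzf (ndOn_top hq)) (by omega)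
  obtain ⟨-, hbz, hbf⟩ := (mem_pairPerp hq).1 hb
  have hzb : pol (qr hrat) z b = 0 := by rw [pcomm, hbz]
  obtain ⟨e₀, -, he₀⟩ := exists_E hq hQz hzb
  obtain ⟨heE, heH⟩ := lift_isE hQ hrat (by omega) hQz hzb he₀
  obtain ⟨e, he⟩ : ∃ e, e = lift F₀ P e₀ := ⟨_, rfl⟩
  rw [← he] at heE heH
  have heR : RatMap F₀ P e := fun x => ⟨_, by rw [he, lift_em]⟩
  have ezz := qr_zero hQ hrat hQz
  have ebb := qr_zero hQ hrat hQb
  have ezb := qr_perp hQ hrat hzb
  have ebz : pol Q (em F₀ P b) (em F₀ P z) = 0 := by rw [pcomm, ezb]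
  have hev : ∀ x, e ⋆ x = x + pol Q x (em F₀ P z) • em F₀ P b - pol Q x (em F₀ P b) • em F₀ P z := fun x => by
    rw [heE, ebb, zero_mul, zero_smul, sub_zero]
  have hdisp : ∀ x, disp e x = pol Q x (em F₀ P b) • em F₀ P z - pol Q x (em F₀ P z) • em F₀ P b := fun x => by
    rw [disp_apply, hev]; abel
  have hQdisp : ∀ x, Q (disp e x) = 0 := fun x => by
    rw [hdisp, qsub hQ, qsmul hQ, qsmul hQ, ezz, ebb, psmul_left hQ, psmul_right hQ, ezb]; ring
  have hez : e ⋆ em F₀ P z = em F₀ P z := by rw [hev, pself hQ, ezz, ezb]; simp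
  have heb : e ⋆ em F₀ P b = em F₀ P b := by rw [hev, pself hQ, ebb, ebz]; simp
  have he2 : e * e = 1 := Subf.ext_em F₀ P fun x => by
    rw [gl_mul_mulVec, hev (em F₀ P x), mulVec_sub, mulVec_add, mulVec_smul, mulVec_smul, hez, heb, hev, Units.val_one,
      one_mulVec]
    linear_combination (norm := module)
      h2 • (pol Q (em F₀ P x) (em F₀ P z) • em F₀ P b - pol Q (em F₀ P x) (em F₀ P b) • em F₀ P z)
  have hbm : em F₀ P b ∈ moved e := ⟨-em F₀ P f, by
    rw [hdisp, pneg_left hQ, pneg_left hQ, pcomm (em F₀ P f), qr_perp hQ hrat hbf, pcomm (em F₀ P f),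
      qr_one hQ hrat hzf]
    simp⟩
  have hwe : wrk e = 2 := by
    have hle : moved e ≤ Submodule.span F {em F₀ P z, em F₀ P b} := by
      rintro _ ⟨x, rfl⟩
      rw [hdisp]
      exact Submodule.sub_mem _ (Submodule.smul_mem _ _ (Submodule.subset_span (by simp)))
        (Submodule.smul_mem _ _ (Submodule.subset_span (by simp)))
    have h1 := (Submodule.finrank_mono hle).trans (finrank_span_le_card _)
    have h3 : ({em F₀ P z, em F₀ P b} : Set (ι → F)).toFinset.card ≤ 2 := by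
      simp only [Set.toFinset_insert, Set.toFinset_singleton]
      exact (Finset.card_insert_le _ _).trans (by simp)
    have h4 : 1 ≤ Module.finrank F (moved e) := by
      rw [Submodule.one_le_finrank_iff]
      exact fun h => em_ne_zero F₀ P hb0 ((Submodule.mem_bot F).1 (h ▸ hbm))
    obtain ⟨k, hk⟩ := wrk_even hQ (by omega) heH.2
    have h5 : wrk e = Module.finrank F (moved e) := rfl
    omega
  -- the conjugate of the root element
  obtain ⟨z', hz'⟩ : ∃ z', z' = g * e * g⁻¹ := ⟨_, rfl⟩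
  have hz'2 : z' * z' = 1 := by
    rw [hz', show g * e * g⁻¹ * (g * e * g⁻¹) = g * (e * e) * g⁻¹ by group, he2]; group
  have hz'M : z' ∈ M := hz' ▸ mul_mem (mul_mem hg (hHM heH)) (inv_mem hg)
  have hwz' : wrk z' = 2 := by rw [hz', wrk_conj, hwe]
  rcases Unit.dihedral_cases h₁₂ hz'2 with ⟨k, hk⟩ | ⟨k, hk1, hk2, hkz, hkz'⟩
  · exfalso
    obtain ⟨p, hp⟩ : ∃ p, p = ((i₁ * z') ^ k)⁻¹ * g := ⟨_, rfl⟩
    have hpi : p ∈ Cfsg.isometryGroup F Q := hp ▸ mul_mem
      (inv_mem (pow_mem (mul_mem hi₁i (omegaGL_le_iso (hMΩ hz'M))) _)) hgi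
    have hconj : i₁ = p * e * p⁻¹ := by
      rw [hp, show ((i₁ * z') ^ k)⁻¹ * g * e * (((i₁ * z') ^ k)⁻¹ * g)⁻¹ =
        ((i₁ * z') ^ k)⁻¹ * (g * e * g⁻¹) * (i₁ * z') ^ k by group, ← hz']
      generalize (i₁ * z') ^ k = q at hk ⊢
      rw [← hk]; group
    obtain ⟨v, hv⟩ : em F₀ P a ∈ moved i₁ := hmov₁ ▸ Submodule.subset_span ⟨a, ha, rfl⟩
    have h1 : em F₀ P a = p ⋆ disp e ((p⁻¹ : GL ι F) ⋆ v) := by
      rw [← hv, hconj, disp_apply, disp_apply, gl_mul_mulVec, gl_mul_mulVec, mulVec_sub, gl_mulVec_inv]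
    have h3 : Q (em F₀ P a) = 0 := by rw [h1, mem_iso.1 hpi, hQdisp]
    rw [← qr_coe hrat, hQa] at h3
    simp at h3
  obtain ⟨j, hj⟩ : ∃ j, j = (i₁ * z') ^ k := ⟨_, rfl⟩
  rw [← hj] at hk1 hk2 hkz hkz'
  have hjM : j ∈ M := hj ▸ M.pow_mem (M.mul_mem (hHM hi₁H) hz'M) k
  have hjH : j ∈ subfieldSubgroup F₀ P ⊓ omegaGL Q :=
    qconj_fix_mem hQ hrat hn hMΩ hHM hT hjM (i := i₁) (i' := i₁) (by rw [← hkz, mul_inv_cancel_right])
      hi₁i (by have := (rat_dims hR₁).1; omega) hy₁0 hQy₁ hy₁m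
  have hjR := rational_of_invol hr hcard hjH.1 hk2 (Or.inl hsqF)
  have hji := omegaGL_le_iso hjH.2
  have hjw : wrk j ≤ 4 := by
    have hfix : fixd i₁ ⊓ fixd z' ≤ fixd j := by
      intro v hv
      have hv₁ := mem_fixd_iff.1 hv.1
      have hv₂ := mem_fixd_iff.1 hv.2
      rw [mem_fixd_iff, hj]
      clear hj
      induction k with
      | zero => rw [pow_zero, Units.val_one, one_mulVec]
      | succ k ih => rw [pow_succ, gl_mul_mulVec, gl_mul_mulVec, hv₂, hv₁, ih]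
    have h1 := Submodule.finrank_sup_add_finrank_inf_eq (fixd i₁) (fixd z')
    have h3 : Module.finrank F ↥(fixd i₁ ⊔ fixd z') ≤ Fintype.card ι :=
      (Submodule.finrank_le _).trans (Module.finrank_fintype_fun_eq_card F).le
    have h4 := Submodule.finrank_mono hfix
    have h5 := fixd_add_wrk i₁
    have h6 := fixd_add_wrk z'
    have h7 := fixd_add_wrk j
    omega
  obtain ⟨hfd, hmd⟩ := rat_dims hjR
  obtain ⟨w, hw⟩ := wrk_even hQ (by omega) hjH.2
  have hpos : wrk j ≠ 0 := fun h => hk1 (CfsgLib.Orth.eq_one_of_wrk_zero hQ hji h)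
  obtain ⟨T, hTdef⟩ : ∃ T, T = ratPart F₀ P (moved j) := ⟨_, rfl⟩
  rw [← hTdef] at hmd
  have hz'H : z' ∈ subfieldSubgroup F₀ P ⊓ omegaGL Q := by
    by_cases hw2 : wrk j = 2
    · obtain ⟨y, hy, hy0, hQy⟩ := exists_singular_moved hQ hrat h2 hji hk2 (S := T) hTdef.le (by omega)
      exact qconj_fix_mem hQ hrat hn hMΩ hHM hT hz'M (i := j) (i' := j) (by rw [hkz', mul_inv_cancel_right]) hji
        (by omega) hy0 hQy (by rw [hTdef] at hy; exact hy)
    -- three independent singular vectors in the moved space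
    obtain ⟨c₁, hc₁, hc₁0, hQc₁⟩ := exists_singular_moved hQ hrat h2 hji hk2 (S := T) hTdef.le (by omega)
    obtain ⟨φ, hφ1, -⟩ := exists_dual (⊥ : Submodule F₀ (ι → F₀)) (fun hm => hc₁0 ((Submodule.mem_bot F₀).1 hm))
    obtain ⟨p₁, hp₁⟩ := exists_prep hq φ
    have hd1 := finrank_inf_pfl hq T p₁
    obtain ⟨c₂, hc₂, hc₂0, hQc₂⟩ := exists_singular_moved hQ hrat h2 hji hk2 (S := T ⊓ LinearMap.ker (pfl hq p₁))
      (inf_le_left.trans hTdef.le) (by omega)
    obtain ⟨ψ, hψ2, -⟩ := exists_dual (⊥ : Submodule F₀ (ι → F₀)) (fun hm => hc₂0 ((Submodule.mem_bot F₀).1 hm))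
    obtain ⟨p₂, hp₂⟩ := exists_prep hq ψ
    have hd2 := finrank_inf_pfl hq (T ⊓ LinearMap.ker (pfl hq p₁)) p₂
    obtain ⟨c₃, hc₃, hc₃0, hQc₃⟩ := exists_singular_moved hQ hrat h2 hji hk2
      (S := T ⊓ LinearMap.ker (pfl hq p₁) ⊓ LinearMap.ker (pfl hq p₂))
      ((inf_le_left.trans inf_le_left).trans hTdef.le) (by omega)
    have hφ : ∀ v ∈ T ⊓ LinearMap.ker (pfl hq p₁), φ ⬝ᵥ v = 0 := fun v hv => by rw [← hp₁]; exact hv.2
    have hψ3 : ψ ⬝ᵥ c₃ = 0 := by rw [← hp₂]; exact hc₃.2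
    have hTf : ∀ x ∈ T, em F₀ P x ∈ fixd j := fun x hx => by
      rw [hTdef] at hx
      obtain ⟨v, hv⟩ := hx
      rw [mem_fixd_iff, ← hv, disp_apply, mulVec_sub, ← gl_mul_mulVec, hk2, Units.val_one, one_mulVec]
      linear_combination (norm := module) h2 • (j ⋆ v - v)
    have hTp : ∀ x ∈ T, ∀ y ∈ T, pol Q (z' ⋆ em F₀ P x) (em F₀ P y) = 0 := fun x hx y hy => by
      rw [hTdef] at hx
      obtain ⟨v, hv⟩ := moved_commute hkz' hx
      rw [pcomm, ← hv, CfsgLib.Orth.pol_fix_disp hQ hji (hTf y hy)]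
    have hTpq : ∀ x ∈ T, ∀ y ∈ T, pol (qr hrat) x y = 0 := fun x hx y hy => by
      have hfx := hTf x hx
      rw [hTdef] at hy
      obtain ⟨v, hv⟩ := hy
      refine Subtype.ext ?_
      rw [qr_pol hrat, ← hv, CfsgLib.Orth.pol_fix_disp hQ hji hfx]
      rfl
    refine qside_mem hQ hrat hn hMΩ hHM hT hz'M hc₁0 hQc₁ hc₁0 hQc₁ hQc₂ hQc₃ (hTpq _ hc₁ _ hc₂.1)
      (hTpq _ hc₁ _ hc₃.1.1) (fun hm => ?_) (fun hm => ?_) (hTp _ hc₁ _ hc₁) (hTp _ hc₂.1 _ hc₁) (hTp _ hc₃.1.1 _ hc₁)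
    · obtain ⟨c, hc⟩ := Submodule.mem_span_singleton.1 hm
      have h1 := hφ _ hc₂
      rw [← hc, dotProduct_smul, hφ1, smul_eq_mul, mul_one] at h1
      exact hc₂0 (by rw [← hc, h1, zero_smul])
    · obtain ⟨c, c', hc⟩ := Submodule.mem_span_pair.1 hm
      have h1 := hφ _ hc₃.1
      rw [← hc, dotProduct_add, dotProduct_smul, dotProduct_smul, hφ1, hφ _ hc₂, smul_eq_mul, smul_eq_mul, mul_one,
        mul_zero, add_zero] at h1
      rw [h1, zero_smul, zero_add] at hc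
      rw [← hc, dotProduct_smul, hψ2, smul_eq_mul, mul_one] at hψ3
      exact hc₃0 (by rw [← hc, hψ3, zero_smul])
  have hz'R := rational_of_invol hr hcard hz'H.1 hz'2 (Or.inl hsqF)
  obtain ⟨y, hy, hy0, hQy⟩ := exists_singular_moved hQ hrat h2 (omegaGL_le_iso hz'H.2) hz'2
    (S := ratPart F₀ P (moved z')) le_rfl (by rw [(rat_dims hz'R).2, hwz'])
  exact qconj_fix_mem hQ hrat hn hMΩ hHM hT hg (i := e) (i' := z') hz'.symm (omegaGL_le_iso hz'H.2)
    (by have := (rat_dims heR).1; omega) hy0 hQy hy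

omit hMΩ hHM hT in
/-- the subfield subgroup is maximal in dimension at least seven: prime degree, for degree two odd `q` -/
theorem quad_subfield_maximal_small_two {r : ℕ} (hr : r.Prime) (hr2 : r = 2 → (2 : F) ≠ 0)
    (hcard : Fintype.card F = Nat.card F₀ ^ r) :
    IsMaximalIn (omegaGL Q) (subfieldSubgroup F₀ P ⊓ omegaGL Q) := by
  classical
  refine ⟨subfield_lt_omega hQ hrat hn hr hcard, fun M hHM hMΩ => ?_⟩
  by_cases hT : QTight hrat M
  · refine Or.inl (le_antisymm ?_ hHM)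
    by_cases h2 : (2 : F) = 0
    · exact qtight_small_even hQ hrat hn hMΩ hHM hT h2 hr (fun h => hr2 h h2) hcard
    · exact qtight_small_odd hQ hrat hn hMΩ hHM hT h2 hr hcard
  · exact Or.inr (le_antisymm hMΩ
      (omega_le_of_not_tight hQ hrat hn (hMΩ.trans omegaGL_le_iso) hHM hr hcard hT))

omit hMΩ hHM hT in
/-- the same with the older hypothesis -/
theorem quad_subfield_maximal_small {r : ℕ} (hr : r.Prime) (hr2 : r = 2 → (2 : F) ≠ 0 ∧ Nat.card F₀ ≠ 3)
    (hcard : Fintype.card F = Nat.card F₀ ^ r) :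
    IsMaximalIn (omegaGL Q) (subfieldSubgroup F₀ P ⊓ omegaGL Q) :=
  quad_subfield_maximal_small_two hQ hrat hn hr (fun h => (hr2 h).1) hcard

end CfsgLib.Perm.Trans.Quad

namespace CfsgLib.Perm.Trans.Quad

open Cfsg.Geo

/-- the subfield subgroup of a scaled rational structure is maximal, dimension at least seven -/
theorem scaled_subfield_maximal_small {ι : Type} [Fintype ι] [DecidableEq ι] {F : Type*} [Field F] [Fintype F]
    {Q : (ι → F) → F} (hQ : IsNondegenerateQuadraticForm Q) (hn : 7 ≤ Fintype.card ι)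
    {F₀ : Subfield F} {r : ℕ} (hr : r.Prime) (hr2 : r = 2 → (2 : F) ≠ 0 ∧ Nat.card F₀ ≠ 3)
    (hcard : Fintype.card F = Nat.card F₀ ^ r) {P : Matrix.GeneralLinearGroup ι F} {ζ : F} (hζ : ζ ≠ 0)
    (hP : IsQuadFormRationalStructure (fun v : ι → F => ζ * Q v) F₀ P) :
    IsMaximalIn (omegaGL Q) (subfieldSubgroup F₀ P ⊓ omegaGL Q) := by
  classical
  rw [← scaled_omega (Q := Q) hζ]
  exact quad_subfield_maximal_small (scaled_nd hQ hζ) (fun a => hP _ fun i => (a i).2) hn hr hr2 hcard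

end CfsgLib.Perm.Trans.Quad
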