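import Cfsg.Agent.Lib.Perm.Trans.OrthSim

/-!
# Orthogonal similarity groups are maximal in the special linear groups of dimension at least three

Without transvections the stabiliser of a singular point stabilises its orthogonal hyperplane, so that the singular
points and their tangent hyperplanes are permuted and the group consists of similarities. With a transvection one
reaches a root group at a singular point and from it a full centre.
-/

set_option autoImplicit false
set_option linter.all false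

namespace CfsgLib.Perm.Trans.SmallOrth

open scoped Matrix
open Matrix Cfsg.Geo CfsgLib.Perm.Asch CfsgLib.Perm.Trans CfsgLib.Perm.Trans.Orth

variable {ι : Type} [Fintype ι] [DecidableEq ι] {F : Type*} [Field F] [Fintype F]
variable {f : (ι → F) → (ι → F) → F} (hf : IsSymmetricForm f) (h2 : (2 : F) ≠ 0)

section Basic

omit [Fintype F] in
/-- an element trivial modulo a fixed vector is a transvection -/
theorem eq_one_of_kernel {M : Subgroup (GL ι F)} (hno : ∀ x φ : ι → F, Has M x φ → x = 0 ∨ φ = 0) {u : ι → F}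
    (hu : u ≠ 0) {k : GL ι F} (hk : k ∈ M) (hku : (k : Matrix ι ι F) *ᵥ u = u)
    (hmod : ∀ x, ∃ c : F, (k : Matrix ι ι F) *ᵥ x = x + c • u) : k = 1 := by
  obtain ⟨χ, hχ, -⟩ := exists_dual (⊥ : Submodule F (ι → F)) (x := u) (fun h => hu ((Submodule.mem_bot F).1 h))
  choose c hc using hmod
  obtain ⟨φ, hφ⟩ : ∃ φ, φ = χ ᵥ* ((k : Matrix ι ι F) - 1) := ⟨_, rfl⟩
  have hdot : ∀ x, φ ⬝ᵥ x = c x := fun x => by
    rw [hφ, ← dotProduct_mulVec, sub_mulVec, one_mulVec, hc, add_sub_cancel_left, dotProduct_smul, hχ, smul_eq_mul,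
      mul_one]
  have h0 : φ ⬝ᵥ u = 0 := by
    rw [hφ, ← dotProduct_mulVec, sub_mulVec, one_mulVec, hku, sub_self, dotProduct_zero]
  have heq : k = tv u φ h0 := gl_ext_vec fun x => by rw [tv_mulVec, hdot, hc]
  have hφ0 := (hno u φ ⟨h0, heq ▸ hk⟩).resolve_left hu
  exact gl_ext_vec fun x => by rw [hc, ← hdot, hφ0, zero_dotProduct, zero_smul, add_zero, Units.val_one, one_mulVec]

include hf h2

omit [Fintype F] in
/-- the reflection of an anisotropic vector -/
theorem exists_refl {z : ι → F} (hz : f z z ≠ 0) :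
    ∃ r : GL ι F, (r : Matrix ι ι F).det = -1 ∧
      (∀ x, (r : Matrix ι ι F) *ᵥ x = x - (2 * f x z / f z z) • z) ∧
      ∀ x y, f ((r : Matrix ι ι F) *ᵥ x) ((r : Matrix ι ι F) *ᵥ y) = f x y := by
  obtain ⟨A, hA⟩ : ∃ A : Matrix ι ι F, A = 1 + vecMulVec z ((-(2 / f z z)) • ov hf z) := ⟨_, rfl⟩
  have happ : ∀ x, A *ᵥ x = x - (2 * f x z / f z z) • z := fun x => by
    rw [hA, add_mulVec, one_mulVec, vecMulVec_mulVec, op_smul_eq_smul, smul_dotProduct, ov_dot, smul_eq_mul,
      neg_mul, neg_smul, div_mul_eq_mul_div, sub_eq_add_neg]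
  have hdet : A.det = -1 := by
    rw [hA, vecMulVec_eq Unit, det_one_add_replicateCol_mul_replicateRow, smul_dotProduct, ov_dot, smul_eq_mul]
    field_simp
    ring
  refine ⟨Matrix.GeneralLinearGroup.mkOfDetNeZero A (by rw [hdet]; exact neg_ne_zero.2 one_ne_zero), hdet, happ,
    fun x y => ?_⟩
  show f (A *ᵥ x) (A *ᵥ y) = f x y
  rw [happ, happ, sym_sub_left hf, sym_sub_right hf, sym_sub_right hf, hf.bilinear.smul_left, hf.bilinear.smul_left,
    hf.bilinear.smul_right, hf.bilinear.smul_right, hf.symm z y]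
  field_simp
  ring

omit [Fintype F] in
/-- products of two reflections -/
theorem exists_refl_pair {z w : ι → F} (hz : f z z ≠ 0) (hw : f w w ≠ 0) :
    ∃ k ∈ similarityGroup f ⊓ specialLinear ι F,
      (∀ x y, f ((k : Matrix ι ι F) *ᵥ x) ((k : Matrix ι ι F) *ᵥ y) = f x y) ∧
      ∀ x, (k : Matrix ι ι F) *ᵥ x = x - (2 * f x w / f w w) • w -
        (2 * f (x - (2 * f x w / f w w) • w) z / f z z) • z := by
  obtain ⟨r, hr, hrE, hri⟩ := exists_refl hf h2 hz
  obtain ⟨s, hs, hsE, hsi⟩ := exists_refl hf h2 hw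
  have hiso : ∀ x y, f (((r * s : GL ι F) : Matrix ι ι F) *ᵥ x) (((r * s : GL ι F) : Matrix ι ι F) *ᵥ y) = f x y :=
    fun x y => by rw [gl_mul_mulVec, gl_mul_mulVec, hri, hsi]
  refine ⟨r * s, ⟨⟨1, fun x y => by rw [hiso, Units.val_one, one_mul]⟩, Units.ext ?_⟩, hiso,
    fun x => by rw [gl_mul_mulVec, hsE, hrE]⟩
  show ((r * s : GL ι F) : Matrix ι ι F).det = 1
  rw [Units.val_mul, det_mul, hr, hs, neg_one_mul, neg_neg]

omit [Fintype F] h2 in
theorem conj_functional {g : GL ι F} (hg : ∀ y z, f ((g : Matrix ι ι F) *ᵥ y) ((g : Matrix ι ι F) *ᵥ z) = f y z)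
    (w : ι → F) : ov hf w ᵥ* ((g⁻¹ : GL ι F) : Matrix ι ι F) = ov hf ((g : Matrix ι ι F) *ᵥ w) :=
  funext fun i => by
    have h : ∀ x, (ov hf w ᵥ* ((g⁻¹ : GL ι F) : Matrix ι ι F)) ⬝ᵥ x = ov hf ((g : Matrix ι ι F) *ᵥ w) ⬝ᵥ x := fun x => by
      rw [← dotProduct_mulVec, ov_dot, ov_dot]
      conv_rhs => rw [← gl_mulVec_inv g x, hg]
    simpa [dotProduct_single] using h (Pi.single i 1)

omit [Fintype F] h2 in
theorem eich_isometry {u a : ι → F} {g : GL ι F} (hg : IsEich f u a g) (h2 : (2 : F) ≠ 0) (huu : f u u = 0)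
    (hua : f u a = 0) (x y : ι → F) : f ((g : Matrix ι ι F) *ᵥ x) ((g : Matrix ι ι F) *ᵥ y) = f x y := by
  have hau : f a u = 0 := by rw [hf.symm, hua]
  simp only [hg x, hg y, sym_sub_left hf, sym_sub_right hf, hf.bilinear.add_left, hf.bilinear.add_right,
    hf.bilinear.smul_left, hf.bilinear.smul_right, huu, hua, hau, hf.symm u y, hf.symm a y]
  field_simp
  ring

omit [Fintype F] h2 in
theorem eich_fix {u a : ι → F} {g : GL ι F} (hg : IsEich f u a g) (huu : f u u = 0) (hua : f u a = 0) :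
    (g : Matrix ι ι F) *ᵥ u = u := by
  rw [hg u, huu, hua, mul_zero, zero_smul, zero_smul, add_zero, sub_zero, sub_zero]

omit [Fintype F] h2 in
/-- a vector orthogonal to `u` with product one with `w` -/
theorem exists_perp_ne {u w : ι → F} (h : w ∉ Submodule.span F {u}) : ∃ x, f u x = 0 ∧ f w x = 1 := by
  obtain ⟨p, hp, hp0⟩ := exists_pairing hf h
  exact ⟨p, hp0 u (Submodule.mem_span_singleton_self u), hp⟩

omit [Fintype F] in
/-- a singular partner -/
theorem exists_partner {X : Submodule F (ι → F)} {e : ι → F} (he : e ∈ X) (hee : f e e = 0) {y : ι → F} (hy : y ∈ X)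
    (hey : f e y ≠ 0) : ∃ h ∈ X, f h h = 0 ∧ f e h = 1 ∧ f h e = 1 := by
  obtain ⟨y', hy'⟩ : ∃ y', y' = (f e y)⁻¹ • y := ⟨_, rfl⟩
  have h1 : f e y' = 1 := by rw [hy', hf.bilinear.smul_right, inv_mul_cancel₀ hey]
  have h1' : f y' e = 1 := by rw [hf.symm, h1]
  refine ⟨y' - (f y' y' / 2) • e, X.sub_mem (hy' ▸ X.smul_mem _ hy) (X.smul_mem _ he), ?_, ?_, ?_⟩
  · rw [sym_sub_left hf, sym_sub_right hf, sym_sub_right hf, hf.bilinear.smul_left, hf.bilinear.smul_left,
      hf.bilinear.smul_right, hf.bilinear.smul_right, h1, h1', hee]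
    field_simp
    ring
  · rw [sym_sub_right hf, hf.bilinear.smul_right, h1, hee, mul_zero, sub_zero]
  · rw [sym_sub_left hf, hf.bilinear.smul_left, h1', hee, mul_zero, sub_zero]

/-- a subspace of dimension at least three contains a singular vector -/
theorem exists_singular {X : Submodule F (ι → F)} (hX : 3 ≤ Module.finrank F X) :
    ∃ z ∈ X, z ≠ 0 ∧ f z z = 0 := by
  by_contra hcon
  push Not at hcon
  obtain ⟨a, ha, ha0⟩ := Submodule.exists_mem_ne_zero_of_ne_bot (p := X) (fun h => by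
    rw [h, finrank_bot] at hX; omega)
  have hb1 := finrank_le_inf_ker X (sfl hf a)
  obtain ⟨b, hb, hb0⟩ := Submodule.exists_mem_ne_zero_of_ne_bot (p := X ⊓ LinearMap.ker (sfl hf a)) (fun h => by
    rw [h, finrank_bot] at hb1; omega)
  have hc1 := finrank_le_inf_ker (X ⊓ LinearMap.ker (sfl hf a)) (sfl hf b)
  obtain ⟨c, hc, hc0⟩ := Submodule.exists_mem_ne_zero_of_ne_bot
    (p := X ⊓ LinearMap.ker (sfl hf a) ⊓ LinearMap.ker (sfl hf b)) (fun h => by rw [h, finrank_bot] at hc1; omega)
  have hba : f b a = 0 := hb.2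
  obtain ⟨e, he, hee⟩ := exists_translate_zero hf h2 (E := Submodule.span F ({a, b} : Set (ι → F)))
    (Submodule.subset_span (by simp)) (Submodule.subset_span (by simp)) (by rw [hf.symm]; exact hba)
    (hcon a ha ha0) (hcon b hb.1 hb0) c
  have heX : e ∈ X := Submodule.span_le.2 (by rintro z (rfl | rfl); exacts [ha, hb.1]) he
  have hca : f c a = 0 := hc.1.2
  have hcb : f c b = 0 := hc.2
  have hce : f c e = 0 := by
    obtain ⟨x, y, rfl⟩ := Submodule.mem_span_pair.1 he
    rw [hf.bilinear.add_right, hf.bilinear.smul_right, hf.bilinear.smul_right, hca, hcb]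
    ring
  refine hcon (c + e) (X.add_mem hc.1.1 heX) (fun h0 => ?_) hee
  refine hcon c hc.1.1 hc0 ?_
  nth_rewrite 2 [eq_neg_of_add_eq_zero_left h0]
  rw [sym_neg_right hf, hce, neg_zero]

omit [Fintype F] in
theorem finrank_perp (u : ι → F) : Fintype.card ι ≤ Module.finrank F ↥(LinearMap.ker (sfl hf u)) + 1 := by
  have := finrank_le_inf_ker (⊤ : Submodule F (ι → F)) (sfl hf u)
  rwa [finrank_top, Module.finrank_fintype_fun_eq_card, top_inf_eq] at this

omit [Fintype F] in
theorem exists_partner_perp {x : ι → F} (hx : f x x ≠ 0) {u : ι → F} (hu : f u x = 0) (hu0 : u ≠ 0)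
    (huu : f u u = 0) : ∃ h, f h x = 0 ∧ f h h = 0 ∧ f u h = 1 ∧ f h u = 1 := by
  obtain ⟨y, hy⟩ := (hf.nondegenerate u hu0).2
  obtain ⟨h, hX, hhh, h1, h1'⟩ := exists_partner hf h2 (X := LinearMap.ker (sfl hf x)) hu huu
    (y := y - (f y x / f x x) • x)
    (by show f _ x = 0; rw [sym_sub_left hf, hf.bilinear.smul_left, div_mul_cancel₀ _ hx, sub_self])
    (by rw [sym_sub_right hf, hf.bilinear.smul_right, hu, mul_zero, sub_zero]; exact hy)
  exact ⟨h, hX, hhh, h1, h1'⟩

omit [Fintype F] in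
/-- a singular vector orthogonal to `x` and not to `w` -/
theorem exists_singular_ne {x w : ι → F} (hx : f x x ≠ 0) (hwx : f w x = 0) (hw : w ≠ 0) {u₀ : ι → F}
    (hu₀ : f u₀ x = 0) (hu₀0 : u₀ ≠ 0) (hu₀u : f u₀ u₀ = 0) : ∃ u, f u u = 0 ∧ f u x = 0 ∧ f w u ≠ 0 := by
  by_cases hww : f w w = 0
  · obtain ⟨h, hhx, hhh, h1, -⟩ := exists_partner_perp hf h2 hx hwx hw hww
    exact ⟨h, hhh, hhx, by rw [h1]; exact one_ne_zero⟩
  obtain ⟨h₀, hhx, hhh, h1, h1'⟩ := exists_partner_perp hf h2 hx hu₀ hu₀0 hu₀u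
  by_contra hcon
  push Not at hcon
  have hwu := hcon u₀ hu₀u hu₀
  have hwh := hcon h₀ hhh hhx
  have huw : f u₀ w = 0 := by rw [hf.symm, hwu]
  have hhw : f h₀ w = 0 := by rw [hf.symm, hwh]
  refine hww ?_
  have := hcon (h₀ + (-(f w w) / 2) • u₀ + w) ?_ ?_
  · rwa [hf.bilinear.add_right, hf.bilinear.add_right, hf.bilinear.smul_right, hwu, hwh, mul_zero, zero_add,
      zero_add] at this
  · simp only [hf.bilinear.add_left, hf.bilinear.add_right, hf.bilinear.smul_left, hf.bilinear.smul_right, hhh, h1,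
      h1', hu₀u, huw, hhw, hwu, hwh]
    field_simp
    ring
  · rw [hf.bilinear.add_left, hf.bilinear.add_left, hf.bilinear.smul_left, hhx, hu₀, hwx]
    ring

end Basic

variable {M : Subgroup (GL ι F)} (hM : similarityGroup f ⊓ specialLinear ι F ≤ M)
include hf h2 hM

section NoTransvection

variable (hno : ∀ x φ : ι → F, Has M x φ → x = 0 ∨ φ = 0) (hn : 3 ≤ Fintype.card ι)
include hno hn

/-- the stabiliser of a singular point preserves the tangent hyperplane -/
theorem preserve {u : ι → F} (hu0 : u ≠ 0) (huu : f u u = 0) {s : GL ι F} (hs : s ∈ M) {l : F}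
    (hsu : (s : Matrix ι ι F) *ᵥ u = l • u) {x : ι → F} (hx : f x u = 0) :
    f ((s : Matrix ι ι F) *ᵥ x) u = 0 := by
  by_contra hne
  set W := LinearMap.ker (sfl hf u) with hW
  have hl : l ≠ 0 := fun h => hu0 (gl_mulVec_eq_zero.1 (by rw [hsu, h, zero_smul]))
  have hsiu : ((s⁻¹ : GL ι F) : Matrix ι ι F) *ᵥ u = l⁻¹ • u := by
    have h := congrArg (fun v => ((s⁻¹ : GL ι F) : Matrix ι ι F) *ᵥ v) hsu
    simp only [gl_inv_mulVec, mulVec_smul] at h
    exact (eq_inv_smul_iff₀ hl).2 h.symm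
  obtain ⟨z₀, hz₀, hz₀'⟩ : ∃ z ∈ W, ((s⁻¹ : GL ι F) : Matrix ι ι F) *ᵥ z ∉ W := by
    refine exists_moved_of_not_stab fun hst => hne ?_
    have h := (mem_subspaceStabilizer_iff.1 hst ((s : Matrix ι ι F) *ᵥ x)).2 (by rw [gl_inv_mulVec]; exact hx)
    exact h
  -- the conjugated Eichler elements
  have hconj : ∀ a, f u a = 0 → ∀ E : GL ι F, IsEich f u a E → ∀ y, ∃ c : F,
      ((s * E * s⁻¹ : GL ι F) : Matrix ι ι F) *ᵥ y =
        y + f (((s⁻¹ : GL ι F) : Matrix ι ι F) *ᵥ y) u • ((s : Matrix ι ι F) *ᵥ a) + c • u := by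
    intro a ha E hE y
    obtain ⟨z, hz⟩ : ∃ z, z = ((s⁻¹ : GL ι F) : Matrix ι ι F) *ᵥ y := ⟨_, rfl⟩
    refine ⟨-((f z a + f a a / 2 * f z u) * l), ?_⟩
    rw [gl_mul_mulVec, gl_mul_mulVec, hE, ← hz, mulVec_sub, mulVec_sub, mulVec_add, mulVec_smul, mulVec_smul,
      mulVec_smul, hsu, hz, gl_mulVec_inv]
    module
  by_cases hn4 : 4 ≤ Fintype.card ι
  · -- a common vector of the two hyperplanes
    obtain ⟨L, hL⟩ : ∃ L, L = (sfl hf u).comp (Matrix.mulVecLin ((s⁻¹ : GL ι F) : Matrix ι ι F)) := ⟨_, rfl⟩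
    obtain ⟨c, hc, hcu⟩ : ∃ c ∈ W ⊓ LinearMap.ker L, c ∉ Submodule.span F {u} := by
      by_contra hcon
      push Not at hcon
      have h3 := Submodule.finrank_mono (show W ⊓ LinearMap.ker L ≤ Submodule.span F {u} from hcon)
      rw [finrank_span_singleton hu0] at h3
      have h4 := finrank_le_inf_ker W L
      have h5 : Fintype.card ι ≤ Module.finrank F W + 1 := finrank_perp hf h2 u
      omega
    have hcW : f c u = 0 := hc.1
    obtain ⟨a, ha⟩ : ∃ a, a = ((s⁻¹ : GL ι F) : Matrix ι ι F) *ᵥ c := ⟨_, rfl⟩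
    have hau : f a u = 0 := by
      have := hc.2
      rw [hL] at this
      rw [ha]; exact this
    have hua : f u a = 0 := by rw [hf.symm, hau]
    obtain ⟨E, hEM, hE⟩ := eichs_of_le hf h2 hM huu a hua
    obtain ⟨y, hy⟩ : ∃ y, y = s * E * s⁻¹ := ⟨_, rfl⟩
    have hyM : y ∈ M := hy ▸ M.mul_mem (M.mul_mem hs hEM) (M.inv_mem hs)
    have hyE : ∀ z, ∃ d : F, (y : Matrix ι ι F) *ᵥ z =
        z + f (((s⁻¹ : GL ι F) : Matrix ι ι F) *ᵥ z) u • c + d • u := fun z => by
      obtain ⟨d, hd⟩ := hconj a hua E hE z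
      exact ⟨d, by rw [hy, hd, ha, gl_mulVec_inv]⟩
    have hyu : (y : Matrix ι ι F) *ᵥ u = u := by
      rw [hy, gl_mul_mulVec, gl_mul_mulVec, hsiu, mulVec_smul, eich_fix hf hE huu hua, mulVec_smul, hsu, smul_smul,
        inv_mul_cancel₀ hl, one_smul]
    have hyf : ∀ z, f ((y : Matrix ι ι F) *ᵥ z) u = f z u := fun z => by
      obtain ⟨d, hd⟩ := hyE z
      rw [hd, hf.bilinear.add_left, hf.bilinear.add_left, hf.bilinear.smul_left, hf.bilinear.smul_left, hcW, huu]
      ring
    have hiso : ∀ z b, f z u = 0 → f b u = 0 →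
        f ((y : Matrix ι ι F) *ᵥ z) ((y : Matrix ι ι F) *ᵥ b) = f z b := by
      intro z b hz hb
      obtain ⟨E₁, hE₁M, hE₁⟩ := eichs_of_le hf h2 hM huu b (by rw [hf.symm, hb])
      obtain ⟨E₂, hE₂M, hE₂⟩ := eichs_of_le hf h2 hM huu ((y : Matrix ι ι F) *ᵥ b) (by rw [hf.symm, hyf, hb])
      have hub : f u ((y : Matrix ι ι F) *ᵥ b) = 0 := by rw [hf.symm, hyf, hb]
      have hub1 : f u b = 0 := by rw [hf.symm, hb]
      have hk : E₂⁻¹ * (y * E₁ * y⁻¹) = 1 := by
        refine eq_one_of_kernel hno hu0 (M.mul_mem (M.inv_mem hE₂M) (M.mul_mem (M.mul_mem hyM hE₁M) (M.inv_mem hyM)))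
          ?_ fun w => ?_
        · have h1 : ((y⁻¹ : GL ι F) : Matrix ι ι F) *ᵥ u = u := by
            conv_lhs => rw [← hyu, gl_inv_mulVec]
          have h3 : ((E₂⁻¹ : GL ι F) : Matrix ι ι F) *ᵥ u = u := by
            conv_lhs => rw [← eich_fix hf hE₂ huu hub, gl_inv_mulVec]
          rw [gl_mul_mulVec, gl_mul_mulVec, gl_mul_mulVec, h1, eich_fix hf hE₁ huu hub1, hyu, h3]
        · obtain ⟨v, hv⟩ : ∃ v, v = ((y⁻¹ : GL ι F) : Matrix ι ι F) *ᵥ w := ⟨_, rfl⟩
          have hvw : (y : Matrix ι ι F) *ᵥ v = w := by rw [hv, gl_mulVec_inv]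
          have hvu : f v u = f w u := by rw [← hvw, hyf]
          obtain ⟨q, hq⟩ : ∃ q : F, ((y * E₁ * y⁻¹ : GL ι F) : Matrix ι ι F) *ᵥ w =
              (E₂ : Matrix ι ι F) *ᵥ w + q • u := by
            refine ⟨f w ((y : Matrix ι ι F) *ᵥ b) + f ((y : Matrix ι ι F) *ᵥ b) ((y : Matrix ι ι F) *ᵥ b) / 2 * f w u
              - f v b - f b b / 2 * f v u, ?_⟩
            rw [gl_mul_mulVec, gl_mul_mulVec, ← hv, hE₁, hE₂, mulVec_sub, mulVec_sub, mulVec_add, mulVec_smul,
              mulVec_smul, mulVec_smul, hyu, hvw, hvu]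
            module
          refine ⟨q, ?_⟩
          have h3 : ((E₂⁻¹ : GL ι F) : Matrix ι ι F) *ᵥ u = u := by
            conv_lhs => rw [← eich_fix hf hE₂ huu hub, gl_inv_mulVec]
          rw [gl_mul_mulVec, hq, mulVec_add, gl_inv_mulVec, mulVec_smul, h3]
      rw [inv_mul_eq_one] at hk
      have h1 := congrArg (fun g : GL ι F => (g : Matrix ι ι F) *ᵥ ((y : Matrix ι ι F) *ᵥ z)) hk
      simp only [gl_mul_mulVec, gl_inv_mulVec] at h1
      rw [hE₂ ((y : Matrix ι ι F) *ᵥ z), hE₁ z, hyf, hz] at h1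
      simp only [zero_smul, mul_zero, add_zero, sub_zero, mulVec_sub, mulVec_smul, hyu, sub_right_inj] at h1
      exact smul_left_injective F hu0 h1
    obtain ⟨χ, hχ⟩ : ∃ χ : (ι → F) → F, χ = fun z => f (((s⁻¹ : GL ι F) : Matrix ι ι F) *ᵥ z) u := ⟨_, rfl⟩
    have hrel : ∀ z b, f z u = 0 → f b u = 0 → χ z * f c b + χ b * f z c + χ z * χ b * f c c = 0 := by
      intro z b hz hb
      have h1 := hiso z b hz hb
      obtain ⟨d, hd⟩ := hyE z
      obtain ⟨d', hd'⟩ := hyE b
      rw [hd, hd'] at h1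
      simp only [hf.bilinear.add_left, hf.bilinear.add_right, hf.bilinear.smul_left, hf.bilinear.smul_right, hz, hcW,
        huu, hf.symm u b, hb, hf.symm u c, mul_zero, add_zero] at h1
      rw [hχ]
      linear_combination h1
    have hχc : χ c = 0 := by rw [hχ]; show f _ u = 0; rw [← ha, hau]
    have hχ0 : χ z₀ ≠ 0 := by rw [hχ]; exact hz₀'
    have hcc : f c c = 0 := by
      have h1 := hrel c z₀ hcW hz₀
      rw [hχc] at h1
      simpa [hχ0] using h1
    have hz₀c : f z₀ c = 0 := by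
      have h1 := hrel z₀ z₀ hz₀ hz₀
      rw [hcc, hf.symm c z₀] at h1
      have h3 : (2 : F) * (χ z₀ * f z₀ c) = 0 := by linear_combination h1
      simpa [h2, hχ0] using h3
    obtain ⟨p, hp, hcp⟩ := exists_perp_ne hf hcu
    have h1 := hrel z₀ p hz₀ (by rw [hf.symm, hp])
    rw [hcp, hz₀c, hcc, mul_one, mul_zero, mul_zero, add_zero, add_zero] at h1
    exact hχ0 h1
  · -- dimension three
    have h3 : Fintype.card ι = 3 := by omega
    obtain ⟨a, haW, hau⟩ : ∃ a ∈ W, a ∉ Submodule.span F {u} := by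
      by_contra hcon
      push Not at hcon
      have h4 := Submodule.finrank_mono (show W ≤ Submodule.span F {u} from hcon)
      rw [finrank_span_singleton hu0] at h4
      have h5 : Fintype.card ι ≤ Module.finrank F W + 1 := finrank_perp hf h2 u
      omega
    have hau0 : f a u = 0 := haW
    have hua : f u a = 0 := by rw [hf.symm, hau0]
    have hWle : W ≤ Submodule.span F ({a, u} : Set (ι → F)) := by
      refine le_of_eq (Submodule.eq_of_le_of_finrank_le ?_ ?_).symm
      · exact Submodule.span_le.2 (by rintro z (rfl | rfl); exacts [haW, huu])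
      · have hlt := Submodule.finrank_lt_finrank_of_lt (lt_of_le_of_ne
          (Submodule.span_mono (by simp : ({u} : Set (ι → F)) ⊆ {a, u})) fun e => hau (e ▸ Submodule.subset_span (by simp)))
        rw [finrank_span_singleton hu0] at hlt
        have hWlt : W < ⊤ := lt_top_iff_ne_top.2 fun e => by
          obtain ⟨y, hy⟩ := (hf.nondegenerate u hu0).1
          exact hy ((e ▸ Submodule.mem_top : y ∈ W))
        have h6 := Submodule.finrank_lt_finrank_of_lt hWlt
        rw [finrank_top, Module.finrank_fintype_fun_eq_card] at h6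
        omega
    have haa : f a a ≠ 0 := by
      intro haa
      obtain ⟨p, hp, hap⟩ := exists_perp_ne hf hau
      obtain ⟨r, r', hr⟩ := Submodule.mem_span_pair.1 (hWle (show p ∈ W from (show f p u = 0 by rw [hf.symm, hp])))
      rw [← hr, hf.bilinear.add_right, hf.bilinear.smul_right, hf.bilinear.smul_right, haa, hf.symm a u, hua] at hap
      simp at hap
    obtain ⟨b, hb⟩ : ∃ b, b = (s : Matrix ι ι F) *ᵥ a := ⟨_, rfl⟩
    obtain ⟨β, hβ⟩ : ∃ β, β = f b u := ⟨_, rfl⟩
    have hβ0 : β ≠ 0 := by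
      intro h0
      refine hne ?_
      obtain ⟨r, r', rfl⟩ := Submodule.mem_span_pair.1 (hWle (show x ∈ W from hx))
      rw [mulVec_add, mulVec_smul, mulVec_smul, hsu, ← hb, hf.bilinear.add_left, hf.bilinear.smul_left,
        hf.bilinear.smul_left, hf.bilinear.smul_left, huu, ← hβ, h0]
      ring
    obtain ⟨γ, hγ⟩ : ∃ γ, γ = f (((s⁻¹ : GL ι F) : Matrix ι ι F) *ᵥ a) u := ⟨_, rfl⟩
    have hγ0 : γ ≠ 0 := by
      intro h0
      obtain ⟨r, r', hr⟩ := Submodule.mem_span_pair.1 (hWle hz₀)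
      refine hz₀' ?_
      show f _ u = 0
      rw [← hr, mulVec_add, mulVec_smul, mulVec_smul, hsiu, hf.bilinear.add_left, hf.bilinear.smul_left,
        hf.bilinear.smul_left, hf.bilinear.smul_left, huu, ← hγ, h0]
      ring
    have huT : f u (β⁻¹ • a) = 0 := by rw [hf.bilinear.smul_right, hua, mul_zero]
    have huY : f u ((-γ⁻¹) • a) = 0 := by rw [hf.bilinear.smul_right, hua, mul_zero]
    obtain ⟨T, hTM, hT⟩ := eichs_of_le hf h2 hM huu _ huT
    obtain ⟨E', hE'M, hE'⟩ := eichs_of_le hf h2 hM huu _ huY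
    obtain ⟨Y, hY⟩ : ∃ Y, Y = s * E' * s⁻¹ := ⟨_, rfl⟩
    have hYM : Y ∈ M := hY ▸ M.mul_mem (M.mul_mem hs hE'M) (M.inv_mem hs)
    have hsb : ((s⁻¹ : GL ι F) : Matrix ι ι F) *ᵥ b = a := by rw [hb, gl_inv_mulVec]
    have hTu := eich_fix hf hT huu huT
    have hYu : (Y : Matrix ι ι F) *ᵥ u = u := by
      rw [hY, gl_mul_mulVec, gl_mul_mulVec, hsiu, mulVec_smul, eich_fix hf hE' huu huY, mulVec_smul, hsu, smul_smul,
        inv_mul_cancel₀ hl, one_smul]
    have hTa : ∃ c : F, (T : Matrix ι ι F) *ᵥ a = a + c • u :=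
      ⟨-(f a (β⁻¹ • a)), by rw [hT a, hau0, zero_smul, mul_zero, zero_smul, add_zero, sub_zero, neg_smul, sub_eq_add_neg]⟩
    have hTb : ∃ c : F, (T : Matrix ι ι F) *ᵥ b = b + a + c • u :=
      ⟨-(f b (β⁻¹ • a)) - f (β⁻¹ • a) (β⁻¹ • a) / 2 * β, by
        rw [hT b, ← hβ, smul_smul, mul_inv_cancel₀ hβ0, one_smul]; module⟩
    have hYa : ∃ c : F, (Y : Matrix ι ι F) *ᵥ a = a - b + c • u := by
      obtain ⟨c, hc⟩ := hconj _ huY E' hE' a
      refine ⟨c, ?_⟩
      rw [hY, hc, ← hγ, mulVec_smul, ← hb, smul_smul, mul_neg, mul_inv_cancel₀ hγ0, neg_one_smul, ← sub_eq_add_neg]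
    have hYb : ∃ c : F, (Y : Matrix ι ι F) *ᵥ b = b + c • u := by
      obtain ⟨c, hc⟩ := hconj _ huY E' hE' b
      refine ⟨c, ?_⟩
      rw [hY, hc, hsb, hau0, zero_smul, add_zero]
    obtain ⟨w, hw⟩ : ∃ w, w = T * Y * T := ⟨_, rfl⟩
    have hwu : (w : Matrix ι ι F) *ᵥ u = u := by rw [hw, gl_mul_mulVec, gl_mul_mulVec, hTu, hYu, hTu]
    obtain ⟨c₁, hc₁⟩ := hTa
    obtain ⟨c₂, hc₂⟩ := hTb
    obtain ⟨c₃, hc₃⟩ := hYa
    obtain ⟨c₄, hc₄⟩ := hYb
    have hwa : ∃ c : F, (w : Matrix ι ι F) *ᵥ a = -b + c • u := by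
      refine ⟨c₁ - c₂ + c₃ + c₁, ?_⟩
      rw [hw, gl_mul_mulVec, gl_mul_mulVec, hc₁, mulVec_add, mulVec_smul, hYu, hc₃, mulVec_add, mulVec_smul, hTu,
        mulVec_add, mulVec_smul, mulVec_sub, hTu, hc₁, hc₂]
      module
    have hwb : ∃ c : F, (w : Matrix ι ι F) *ᵥ b = a + c • u := by
      refine ⟨c₁ + c₃ + c₄ + c₂, ?_⟩
      simp only [hw, gl_mul_mulVec, hc₁, hc₂, hc₃, hc₄, mulVec_add, mulVec_sub, mulVec_smul, hYu, hTu]
      module
    obtain ⟨d₁, hd₁⟩ := hwa
    obtain ⟨d₂, hd₂⟩ := hwb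
    obtain ⟨h, hh⟩ : ∃ h, h = w * w := ⟨_, rfl⟩
    have hhM : h ∈ M := hh ▸ M.mul_mem (hw ▸ M.mul_mem (M.mul_mem hTM hYM) hTM)
      (hw ▸ M.mul_mem (M.mul_mem hTM hYM) hTM)
    have hhu : (h : Matrix ι ι F) *ᵥ u = u := by rw [hh, gl_mul_mulVec, hwu, hwu]
    have hspan : ∀ z : ι → F, ∃ p q r : F, z = p • a + q • b + r • u := fun z => by
      have hmem : z - (f z u / β) • b ∈ W := by
        show f _ u = 0
        rw [sym_sub_left hf, hf.bilinear.smul_left, ← hβ, div_mul_cancel₀ _ hβ0, sub_self]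
      obtain ⟨p, r, hpr⟩ := Submodule.mem_span_pair.1 (hWle hmem)
      exact ⟨p, f z u / β, r, by linear_combination (norm := module) -hpr⟩
    have hhneg : ∀ z, ∃ c : F, (h : Matrix ι ι F) *ᵥ z = -z + c • u := fun z => by
      obtain ⟨p, q, r, rfl⟩ := hspan z
      refine ⟨p * (d₁ - d₂) + q * (d₁ + d₂) + 2 * r, ?_⟩
      rw [hh, gl_mul_mulVec]
      simp only [mulVec_add, mulVec_smul, mulVec_neg, hd₁, hd₂, hwu, smul_add, smul_neg, smul_smul]
      module
    obtain ⟨E, hEM, hE⟩ := eichs_of_le hf h2 hM huu a hua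
    have hEu := eich_fix hf hE huu hua
    have hcomm : h * E = E * h := by
      have hk : (E * h)⁻¹ * (h * E) = 1 := by
        refine eq_one_of_kernel hno hu0 (M.mul_mem (M.inv_mem (M.mul_mem hEM hhM)) (M.mul_mem hhM hEM)) ?_ fun z => ?_
        · have : ((E * h : GL ι F) : Matrix ι ι F) *ᵥ u = u := by rw [gl_mul_mulVec, hhu, hEu]
          rw [gl_mul_mulVec, gl_mul_mulVec, hEu, hhu]
          conv_lhs => rw [← this, gl_inv_mulVec]
        · obtain ⟨c, hc⟩ := hhneg ((E : Matrix ι ι F) *ᵥ z)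
          obtain ⟨c', hc'⟩ := hhneg z
          obtain ⟨q, hq⟩ : ∃ q : F, ((h * E : GL ι F) : Matrix ι ι F) *ᵥ z =
              ((E * h : GL ι F) : Matrix ι ι F) *ᵥ z + q • u := by
            refine ⟨c - c', ?_⟩
            rw [gl_mul_mulVec, gl_mul_mulVec, hc, hc', mulVec_add, mulVec_neg, mulVec_smul, hEu]
            module
          refine ⟨q, ?_⟩
          have : ((E * h : GL ι F) : Matrix ι ι F) *ᵥ u = u := by rw [gl_mul_mulVec, hhu, hEu]
          have h4 : (((E * h)⁻¹ : GL ι F) : Matrix ι ι F) *ᵥ u = u := by conv_lhs => rw [← this, gl_inv_mulVec]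
          rw [gl_mul_mulVec, hq, mulVec_add, gl_inv_mulVec, mulVec_smul, h4]
      exact (inv_mul_eq_one.1 hk).symm
    obtain ⟨κ, hκ⟩ := hhneg a
    obtain ⟨v, hv⟩ : ∃ v, v = a + (-(κ / 2)) • u := ⟨_, rfl⟩
    have hhv : (h : Matrix ι ι F) *ᵥ v = -v := by
      rw [hv, mulVec_add, mulVec_smul, hhu, hκ, neg_add, ← neg_smul, neg_neg, add_assoc, ← add_smul]
      congr 2
      field_simp
      ring
    have hEv : (E : Matrix ι ι F) *ᵥ v = v - f a a • u := by
      rw [hv, mulVec_add, mulVec_smul, hEu, hE a, hau0, zero_smul, mul_zero, zero_smul, add_zero, sub_zero]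
      abel
    have h4 := congrArg (fun g : GL ι F => (g : Matrix ι ι F) *ᵥ v) hcomm
    simp only [gl_mul_mulVec, hhv, hEv, mulVec_sub, mulVec_smul, mulVec_neg, hhu] at h4
    have h6 : ((2 : F) * f a a) • u = 0 := by
      have h7 := sub_eq_zero.2 h4
      rw [← neg_eq_zero]
      rw [← h7]
      module
    rcases smul_eq_zero.1 h6 with h8 | h8
    · exact haa ((mul_eq_zero.1 h8).resolve_left h2)
    · exact hu0 h8

/-- images of singular points are singular and the tangent hyperplanes follow -/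
theorem sim_of_no_transvection {g : GL ι F} (hg : g ∈ M) : g ∈ similarityGroup f := by
  have hrep : ∀ (g : GL ι F), g ∈ M → ∀ u : ι → F, u ≠ 0 → f u u = 0 → ∃ y, y ≠ 0 ∧
      (∀ x, f x y = f (((g⁻¹ : GL ι F) : Matrix ι ι F) *ᵥ x) u) ∧ f ((g : Matrix ι ι F) *ᵥ u) y = 0 ∧
      ∀ h ∈ M, (∀ p q, f ((h : Matrix ι ι F) *ᵥ p) ((h : Matrix ι ι F) *ᵥ q) = f p q) → ∀ l : F,
        (h : Matrix ι ι F) *ᵥ ((g : Matrix ι ι F) *ᵥ u) = l • ((g : Matrix ι ι F) *ᵥ u) →
        ∃ m : F, (h : Matrix ι ι F) *ᵥ y = m • y := by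
    intro g hg u hu huu
    obtain ⟨y, hy⟩ := exists_rep hf (ov hf u ᵥ* ((g⁻¹ : GL ι F) : Matrix ι ι F))
    have hy' : ∀ x, f x y = f (((g⁻¹ : GL ι F) : Matrix ι ι F) *ᵥ x) u := fun x => by
      rw [hy, ← dotProduct_mulVec, ov_dot]
    have hy0 : y ≠ 0 := fun h0 => by
      obtain ⟨x, hx⟩ := (hf.nondegenerate u hu).1
      have h1 := hy' ((g : Matrix ι ι F) *ᵥ x)
      rw [h0, sym_zero_right hf, gl_inv_mulVec] at h1
      exact hx h1.symm
    refine ⟨y, hy0, hy', by rw [hy', gl_inv_mulVec, huu], fun h hh hiso l hl => ?_⟩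
    by_contra hno'
    push Not at hno'
    obtain ⟨p, hp, hp1⟩ := exists_perp_ne hf (show (h : Matrix ι ι F) *ᵥ y ∉ Submodule.span F {y} from fun hm => by
      obtain ⟨m, hm⟩ := Submodule.mem_span_singleton.1 hm
      exact hno' m hm.symm)
    obtain ⟨s, hs⟩ : ∃ s, s = g⁻¹ * h⁻¹ * g := ⟨_, rfl⟩
    have hl0 : l ≠ 0 := fun e => hu (gl_mulVec_eq_zero.1 (gl_mulVec_eq_zero.1 (by rw [hl, e, zero_smul])))
    have hlinv : ((h⁻¹ : GL ι F) : Matrix ι ι F) *ᵥ ((g : Matrix ι ι F) *ᵥ u) = l⁻¹ • ((g : Matrix ι ι F) *ᵥ u) := by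
      have e := congrArg (fun v => ((h⁻¹ : GL ι F) : Matrix ι ι F) *ᵥ v) hl
      simp only [gl_inv_mulVec, mulVec_smul] at e
      conv_rhs => rw [e, smul_smul, inv_mul_cancel₀ hl0, one_smul]
    have h1 := preserve hf h2 hM hno hn hu huu (s := s)
      (hs ▸ M.mul_mem (M.mul_mem (M.inv_mem hg) (M.inv_mem hh)) hg) (l := l⁻¹)
      (by rw [hs, gl_mul_mulVec, gl_mul_mulVec, hlinv, mulVec_smul, gl_inv_mulVec])
      (x := ((g⁻¹ : GL ι F) : Matrix ι ι F) *ᵥ p) (by rw [← hy', hf.symm, hp])
    rw [hs, gl_mul_mulVec, gl_mul_mulVec, gl_mulVec_inv, ← hy', ← hiso, gl_mulVec_inv, hf.symm, hp1] at h1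
    exact one_ne_zero h1
  -- singular vectors map to singular vectors
  have hsing : ∀ u, f u u = 0 → f ((g : Matrix ι ι F) *ᵥ u) ((g : Matrix ι ι F) *ᵥ u) = 0 := by
    intro u huu
    rcases eq_or_ne u 0 with rfl | hu
    · rw [mulVec_zero, sym_zero_left hf]
    by_contra hP
    obtain ⟨P, hPdef⟩ : ∃ P, P = (g : Matrix ι ι F) *ᵥ u := ⟨_, rfl⟩
    rw [← hPdef] at hP
    obtain ⟨y, hy0, hyE, hPy, hfix⟩ := hrep g hg u hu huu
    rw [← hPdef] at hPy hfix
    have hyP : f y P = 0 := by rw [hf.symm, hPy]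
    by_cases hn4 : 4 ≤ Fintype.card ι
    · obtain ⟨z, hzP, hzz, hyz, hzy⟩ : ∃ z, f z P = 0 ∧ f z z ≠ 0 ∧ f y z ≠ 0 ∧ z ∉ Submodule.span F {y} := by
        by_cases hyy : f y y = 0
        · obtain ⟨k, hkP, hkk, hyk, hky⟩ := exists_partner_perp hf h2 hP hyP hy0 hyy
          refine ⟨y + k, by rw [hf.bilinear.add_left, hyP, hkP, add_zero], ?_, ?_, fun hm => ?_⟩
          · rw [hf.bilinear.add_left, hf.bilinear.add_right, hf.bilinear.add_right, hyy, hkk, hyk, hky]
            intro h; exact h2 (by linear_combination h)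
          · rw [hf.bilinear.add_right, hyy, hyk, zero_add]; exact one_ne_zero
          · obtain ⟨m, hm⟩ := Submodule.mem_span_singleton.1 hm
            have e := congrArg (fun v => f v y) hm
            simp only [hf.bilinear.smul_left, hf.bilinear.add_left, hyy, hky, mul_zero, zero_add] at e
            exact zero_ne_one e
        · obtain ⟨X, hXdef⟩ : ∃ X, X = LinearMap.ker (sfl hf P) ⊓ LinearMap.ker (sfl hf y) := ⟨_, rfl⟩
          have hX2 : 2 ≤ Module.finrank F X := by
            have := finrank_perp hf h2 P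
            have := finrank_le_inf_ker (LinearMap.ker (sfl hf P)) (sfl hf y)
            rw [hXdef]
            omega
          by_contra hcon
          push Not at hcon
          have hX : ∀ x ∈ X, x ≠ 0 → f x x = -f y y := by
            intro x hx hx0
            by_contra hne
            rw [hXdef] at hx
            have hxP : f x P = 0 := hx.1
            have hxy : f x y = 0 := hx.2
            have hyx : f y x = 0 := by rw [hf.symm, hxy]
            refine hx0 ?_
            obtain ⟨m, hm⟩ := Submodule.mem_span_singleton.1 (hcon (y + x)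
              (by rw [hf.bilinear.add_left, hyP, hxP, add_zero])
              (by rw [hf.bilinear.add_left, hf.bilinear.add_right, hf.bilinear.add_right, hxy, hyx]
                  intro h; exact hne (by linear_combination h))
              (by rw [hf.bilinear.add_right, hyx, add_zero]; exact hyy))
            have e : f x x = f x ((m - 1) • y) := by
              congr 1
              rw [sub_smul, one_smul, hm, add_sub_cancel_left]
            rw [hf.bilinear.smul_right, hxy, mul_zero] at e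
            exfalso
            have e2 : x = (m - 1) • y := by rw [sub_smul, one_smul, hm, add_sub_cancel_left]
            have e3 : f y x = (m - 1) * f y y := by rw [e2, hf.bilinear.smul_right]
            rw [hyx, eq_comm, mul_eq_zero] at e3
            exact hx0 (by rw [e2, e3.resolve_right hyy, zero_smul])
          obtain ⟨x₁, hx₁, hx₁0⟩ := Submodule.exists_mem_ne_zero_of_ne_bot (p := X) (fun h => by
            rw [h, finrank_bot] at hX2; omega)
          have hb1 := finrank_le_inf_ker X (sfl hf x₁)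
          obtain ⟨x₂, hx₂, hx₂0⟩ := Submodule.exists_mem_ne_zero_of_ne_bot (p := X ⊓ LinearMap.ker (sfl hf x₁))
            (fun h => by rw [h, finrank_bot] at hb1; omega)
          have h21 : f x₂ x₁ = 0 := hx₂.2
          have e1 := hX x₁ hx₁ hx₁0
          have e2 := hX x₂ hx₂.1 hx₂0
          by_cases h0 : x₁ + x₂ = 0
          · rw [eq_neg_of_add_eq_zero_left h0, sym_neg_right hf] at h21
            exact hyy (by linear_combination h21 + e2)
          · have e3 := hX _ (X.add_mem hx₁ hx₂.1) h0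
            rw [hf.bilinear.add_left, hf.bilinear.add_right, hf.bilinear.add_right, h21, hf.symm x₁ x₂, h21, e1,
              e2] at e3
            exact hyy (by linear_combination -e3)
      obtain ⟨k, hk, hkiso, hkE⟩ := exists_refl_pair hf h2 hzz hP
      have hkP : (k : Matrix ι ι F) *ᵥ P = (-1 : F) • P := by
        have e : P - (2 * f P P / f P P) • P = (-1 : F) • P := by
          rw [mul_div_assoc, div_self hP, mul_one]; module
        rw [hkE, e, hf.bilinear.smul_left, hf.symm P z, hzP, mul_zero, mul_zero, zero_div, zero_smul, sub_zero]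
      obtain ⟨m, hm⟩ := hfix k (hM hk) hkiso (-1) hkP
      rw [hkE, hyP, mul_zero, zero_div, zero_smul, sub_zero] at hm
      refine hzy (Submodule.mem_span_singleton.2 ⟨(1 - m) / (2 * f y z / f z z), ?_⟩)
      have hne : 2 * f y z / f z z ≠ 0 := div_ne_zero (mul_ne_zero h2 hyz) hzz
      rw [div_eq_inv_mul, mul_smul, sub_smul, one_smul, ← hm, sub_sub_cancel, smul_smul, inv_mul_cancel₀ hne, one_smul]
    · have h3 : Fintype.card ι = 3 := by omega
      obtain ⟨r, hr, hrE, hri⟩ := exists_refl hf h2 hP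
      obtain ⟨h, hh⟩ : ∃ h : GL ι F, h = -r := ⟨_, rfl⟩
      have hhv : ∀ x, (h : Matrix ι ι F) *ᵥ x = (2 * f x P / f P P) • P - x := fun x => by
        rw [hh, Units.val_neg, neg_mulVec, hrE, neg_sub]
      have hhM : h ∈ M := hM ⟨⟨1, fun x y => by
          rw [hh, Units.val_neg, neg_mulVec, neg_mulVec, sym_neg_left hf, sym_neg_right hf, neg_neg, hri,
            Units.val_one, one_mul]⟩,
        Units.ext (by
          show (h : Matrix ι ι F).det = 1
          rw [hh, Units.val_neg, det_neg, hr, h3]; norm_num)⟩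
      have hhP : (h : Matrix ι ι F) *ᵥ P = P := by rw [hhv, mul_div_assoc, div_self hP, mul_one]; module
      obtain ⟨W, hW⟩ : ∃ W, W = LinearMap.ker (sfl hf u) := ⟨_, rfl⟩
      obtain ⟨a, haW, hau⟩ : ∃ a ∈ W, a ∉ Submodule.span F {u} := by
        by_contra hcon
        push Not at hcon
        have h4 := Submodule.finrank_mono (show W ≤ Submodule.span F {u} from hcon)
        rw [finrank_span_singleton hu] at h4
        have h5 := finrank_perp hf h2 u
        rw [hW] at h4
        omega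
      rw [hW] at haW
      have hau0 : f a u = 0 := haW
      have hua : f u a = 0 := by rw [hf.symm, hau0]
      obtain ⟨E, hEM, hE⟩ := eichs_of_le hf h2 hM huu a hua
      obtain ⟨t, ht⟩ : ∃ t, t = g * E * g⁻¹ := ⟨_, rfl⟩
      have htP : (t : Matrix ι ι F) *ᵥ P = P := by
        rw [ht, hPdef, gl_mul_mulVec, gl_mul_mulVec, gl_inv_mulVec, eich_fix hf hE huu hua]
      have hhi : ∀ x, ∃ c : F, (h : Matrix ι ι F) *ᵥ x = -x + c • P := fun x =>
        ⟨_, by rw [hhv, neg_add_eq_sub]⟩
      have hcomm : t * h = h * t := by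
        have hk : (h * t)⁻¹ * (t * h) = 1 := by
          have hfixP : ((h * t : GL ι F) : Matrix ι ι F) *ᵥ P = P := by rw [gl_mul_mulVec, htP, hhP]
          have h4 : (((h * t)⁻¹ : GL ι F) : Matrix ι ι F) *ᵥ P = P := by conv_lhs => rw [← hfixP, gl_inv_mulVec]
          have hP0 : P ≠ 0 := fun e => hP (by rw [e, sym_zero_left hf])
          have htM : t ∈ M := ht ▸ M.mul_mem (M.mul_mem hg hEM) (M.inv_mem hg)
          refine eq_one_of_kernel hno hP0 (M.mul_mem (M.inv_mem (M.mul_mem hhM htM)) (M.mul_mem htM hhM)) ?_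
            fun x => ?_
          · rw [gl_mul_mulVec, gl_mul_mulVec, hhP, htP, h4]
          · obtain ⟨c, hc⟩ := hhi x
            obtain ⟨c', hc'⟩ := hhi ((t : Matrix ι ι F) *ᵥ x)
            obtain ⟨q, hq⟩ : ∃ q : F, ((t * h : GL ι F) : Matrix ι ι F) *ᵥ x =
                ((h * t : GL ι F) : Matrix ι ι F) *ᵥ x + q • P := by
              refine ⟨c - c', ?_⟩
              rw [gl_mul_mulVec, gl_mul_mulVec, hc, hc', mulVec_add, mulVec_neg, mulVec_smul, htP]
              module
            exact ⟨q, by rw [gl_mul_mulVec, hq, mulVec_add, gl_inv_mulVec, mulVec_smul, h4]⟩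
        exact (inv_mul_eq_one.1 hk).symm
      -- a vector orthogonal to `P` over `a`
      obtain ⟨v, hv⟩ : ∃ v, v = a + (-(f ((g : Matrix ι ι F) *ᵥ a) P / f P P)) • u := ⟨_, rfl⟩
      have hgv : f ((g : Matrix ι ι F) *ᵥ v) P = 0 := by
        rw [hv, mulVec_add, mulVec_smul, ← hPdef, hf.bilinear.add_left, hf.bilinear.smul_left, neg_mul,
          div_mul_cancel₀ _ hP, add_neg_cancel]
      have h5 := congrArg (fun k : GL ι F => (k : Matrix ι ι F) *ᵥ ((g : Matrix ι ι F) *ᵥ v)) hcomm
      simp only [gl_mul_mulVec] at h5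
      have hEv : (E : Matrix ι ι F) *ᵥ v = v - f a a • u := by
        rw [hv, mulVec_add, mulVec_smul, eich_fix hf hE huu hua, hE a, hau0, zero_smul, mul_zero, zero_smul,
          add_zero, sub_zero]
        abel
      have htv : (t : Matrix ι ι F) *ᵥ ((g : Matrix ι ι F) *ᵥ v) = (g : Matrix ι ι F) *ᵥ v - f a a • P := by
        rw [ht, gl_mul_mulVec, gl_mul_mulVec, gl_inv_mulVec, hEv, mulVec_sub, mulVec_smul, hPdef]
      rw [hhv ((g : Matrix ι ι F) *ᵥ v), hgv, mul_zero, zero_div, zero_smul, zero_sub, mulVec_neg, htv, mulVec_sub,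
        mulVec_smul, hhP, hhv, hgv, mul_zero, zero_div, zero_smul, zero_sub] at h5
      have h6 : ((2 : F) * f a a) • P = 0 := by
        rw [← sub_eq_zero] at h5
        rw [← h5]; module
      rcases smul_eq_zero.1 h6 with h8 | h8
      · refine hau ?_
        have haa := (mul_eq_zero.1 h8).resolve_left h2
        by_contra hau'
        obtain ⟨p, hp, hap⟩ := exists_perp_ne hf hau'
        have hlt : W < ⊤ := lt_top_iff_ne_top.2 fun e => by
          obtain ⟨z, hz⟩ := (hf.nondegenerate u hu).1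
          exact hz (by have : z ∈ W := e ▸ Submodule.mem_top; rwa [hW] at this)
        have h6' := Submodule.finrank_lt_finrank_of_lt hlt
        rw [finrank_top, Module.finrank_fintype_fun_eq_card] at h6'
        have hsp : Submodule.span F ({a, u} : Set (ι → F)) = W := by
          refine Submodule.eq_of_le_of_finrank_le ?_ ?_
          · rw [hW]; exact Submodule.span_le.2 (by rintro z (rfl | rfl); exacts [hau0, huu])
          · have hlt2 := Submodule.finrank_lt_finrank_of_lt (lt_of_le_of_ne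
              (Submodule.span_mono (by simp : ({u} : Set (ι → F)) ⊆ {a, u}))
              fun e => hau' (e ▸ Submodule.subset_span (by simp)))
            rw [finrank_span_singleton hu] at hlt2
            omega
        obtain ⟨r, r', hr'⟩ := Submodule.mem_span_pair.1 (show p ∈ Submodule.span F ({a, u} : Set (ι → F)) by
          rw [hsp, hW]; show f p u = 0; rw [hf.symm, hp])
        rw [← hr', hf.bilinear.add_right, hf.bilinear.smul_right, hf.bilinear.smul_right, haa, hau0] at hap
        simp at hap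
      · exact hP (by rw [h8, sym_zero_left hf])
  -- the tangent hyperplanes
  have hd : ∀ u, u ≠ 0 → f u u = 0 →
      ∃ d, ∀ x, f x u = d * f ((g : Matrix ι ι F) *ᵥ x) ((g : Matrix ι ι F) *ᵥ u) := by
    intro u hu huu
    obtain ⟨y, hy0, hyE, hvy, hfix⟩ := hrep g hg u hu huu
    obtain ⟨v, hv⟩ : ∃ v, v = (g : Matrix ι ι F) *ᵥ u := ⟨_, rfl⟩
    rw [← hv] at hvy hfix
    have hvv : f v v = 0 := hv ▸ hsing u huu
    have hv0 : v ≠ 0 := fun e => hu (gl_mulVec_eq_zero.1 (hv.symm.trans e))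
    obtain ⟨d, hd⟩ := Submodule.mem_span_singleton.1 (show y ∈ Submodule.span F {v} from by
      by_contra hyv
      obtain ⟨p, hp, hyp⟩ := exists_perp_ne hf hyv
      obtain ⟨E, hEM, hE⟩ := eichs_of_le hf h2 hM hvv p hp
      obtain ⟨m, hm⟩ := hfix E hEM (fun x z => eich_isometry hf hE h2 hvv hp x z) 1
        (by rw [eich_fix hf hE hvv hp, one_smul])
      rw [hE, hf.symm y v, hvy, zero_smul, add_zero, mul_zero, zero_smul, sub_zero, hyp, one_smul] at hm
      refine hyv ?_
      by_cases hm1 : 1 - m = 0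
      · exfalso
        rw [← (sub_eq_zero.1 hm1), one_smul, sub_eq_self] at hm
        exact hv0 hm
      · refine Submodule.mem_span_singleton.2 ⟨(1 - m)⁻¹, ?_⟩
        rw [show v = (1 - m) • y by rw [sub_smul, one_smul, ← hm, sub_sub_cancel], smul_smul,
          inv_mul_cancel₀ hm1, one_smul])
    refine ⟨d, fun x => ?_⟩
    have := hyE ((g : Matrix ι ι F) *ᵥ x)
    rw [gl_inv_mulVec, ← hd, hf.bilinear.smul_right, hv] at this
    exact this.symm
  choose d hdE using hd
  obtain ⟨e, -, he0, hee⟩ := exists_singular hf h2 (X := (⊤ : Submodule F (ι → F))) (by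
    rw [finrank_top, Module.finrank_fintype_fun_eq_card]; exact hn)
  obtain ⟨y, hy⟩ := (hf.nondegenerate e he0).2
  obtain ⟨h, -, hhh, heh, hhe⟩ := exists_partner hf h2 (X := ⊤) Submodule.mem_top hee (y := y) Submodule.mem_top hy
  have key : ∀ (u v : ι → F) (hu : u ≠ 0) (hu' : f u u = 0) (hv : v ≠ 0) (hv' : f v v = 0),
      f u v ≠ 0 → d v hv hv' = d u hu hu' := by
    intro u v hu hu' hv hv' huv
    have h1 := hdE v hv hv' u
    have h3 := hdE u hu hu' v
    rw [hf.symm v u, hf.symm ((g : Matrix ι ι F) *ᵥ v)] at h3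
    exact mul_right_cancel₀ (fun h0 => huv (by rw [h1, h0, mul_zero])) (h1.symm.trans h3)
  let U : Submodule F (ι → F) :=
    { carrier := {u | ∀ x, f x u = d e he0 hee * f ((g : Matrix ι ι F) *ᵥ x) ((g : Matrix ι ι F) *ᵥ u)}
      add_mem' := fun {a b} ha hb x => by
        rw [hf.bilinear.add_right, ha, hb, mulVec_add, hf.bilinear.add_right, mul_add]
      zero_mem' := fun x => by rw [sym_zero_right hf, mulVec_zero, sym_zero_right hf, mul_zero]
      smul_mem' := fun r a ha x => by rw [hf.bilinear.smul_right, ha, mulVec_smul, hf.bilinear.smul_right]; ring }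
  have hU : ∀ z, f z z = 0 → f e z ≠ 0 → z ∈ U := fun z hz hne x => by
    have hz0 : z ≠ 0 := fun h0 => hne (by rw [h0, sym_zero_right hf])
    rw [hdE z hz0 hz x, key e z he0 hee hz0 hz hne]
  have heU : e ∈ U := fun x => hdE e he0 hee x
  have hhU : h ∈ U := hU h hhh (by rw [heh]; exact one_ne_zero)
  have htop : ∀ x, x ∈ U := by
    intro x
    obtain ⟨p, hp⟩ : ∃ p, p = x - f x h • e - f x e • h := ⟨_, rfl⟩
    have hpe : f p e = 0 := by
      rw [hp, sym_sub_left hf, sym_sub_left hf, hf.bilinear.smul_left, hf.bilinear.smul_left, hee, hhe]; ring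
    have hph : f p h = 0 := by
      rw [hp, sym_sub_left hf, sym_sub_left hf, hf.bilinear.smul_left, hf.bilinear.smul_left, hhh, heh]; ring
    have hep : f e p = 0 := by rw [hf.symm, hpe]
    have hhp : f h p = 0 := by rw [hf.symm, hph]
    have hz : h + (-(f p p) / 2) • e + p ∈ U := by
      refine hU _ ?_ ?_
      · simp only [hf.bilinear.add_left, hf.bilinear.add_right, hf.bilinear.smul_left, hf.bilinear.smul_right, hee,
          hhh, heh, hhe, hpe, hph, hep, hhp]
        field_simp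
        ring
      · rw [hf.bilinear.add_right, hf.bilinear.add_right, hf.bilinear.smul_right, hee, heh, hep]
        simp
    have hpU : p ∈ U := by
      have := U.sub_mem (U.sub_mem hz hhU) (U.smul_mem (-(f p p) / 2) heU)
      rwa [show h + (-(f p p) / 2) • e + p - h - (-(f p p) / 2) • e = p by abel] at this
    have h3 := U.add_mem (U.add_mem hpU (U.smul_mem (f x h) heU)) (U.smul_mem (f x e) hhU)
    rwa [show p + f x h • e + f x e • h = x by rw [hp]; abel] at h3
  have hd0 : d e he0 hee ≠ 0 := fun h0 => one_ne_zero (α := F) (by rw [← hhe, heU h, h0, zero_mul])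
  refine ⟨(Units.mk0 _ hd0)⁻¹, fun x y' => ?_⟩
  rw [htop y' x, Units.val_inv_eq_inv_val, Units.val_mk0, ← mul_assoc, inv_mul_cancel₀ hd0, one_mul]

end NoTransvection

section Growth

variable (hn : 3 ≤ Fintype.card ι)

theorem root_of_centre {x w : ι → F} (hxx : f x x = 0) (hwx : w ∉ Submodule.span F {x}) (hw : Has M x (ov hf w))
    (c : F) : Has M x (c • ov hf x) := by
  have hxw : f x w = 0 := by have := hw.1; rwa [ov_dot] at this
  obtain ⟨a, ha, hwa⟩ := exists_perp_ne hf hwx
  have ha' : f x ((-c) • a) = 0 := by rw [hf.bilinear.smul_right, ha, mul_zero]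
  obtain ⟨E, hEM, hE⟩ := eichs_of_le hf h2 hM hxx _ ha'
  have h1 := hw.conj hEM
  have hEw : (E : Matrix ι ι F) *ᵥ w = w + c • x := by
    rw [hE w, hf.symm w x, hxw, zero_smul, mul_zero, zero_smul, add_zero, sub_zero, hf.bilinear.smul_right, hwa,
      mul_one, neg_smul, sub_neg_eq_add]
  rw [eich_fix hf hE hxx ha', conj_functional hf (fun y z => eich_isometry hf hE h2 hxx ha' y z), hEw, map_add,
    map_smul] at h1
  have h3 := h1.add_right hw.neg
  rwa [add_neg_cancel_comm] at h3

theorem root_of_axis {x w : ι → F} (hww : f w w = 0) (hxw' : x ∉ Submodule.span F {w}) (hw : Has M x (ov hf w))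
    (c : F) : Has M w (c • ov hf w) := by
  have hxw : f x w = 0 := by have := hw.1; rwa [ov_dot] at this
  obtain ⟨a, ha, hxa⟩ := exists_perp_ne hf hxw'
  have ha' : f w ((-c) • a) = 0 := by rw [hf.bilinear.smul_right, ha, mul_zero]
  obtain ⟨E, hEM, hE⟩ := eichs_of_le hf h2 hM hww _ ha'
  have h1 := hw.conj hEM
  have hEx : (E : Matrix ι ι F) *ᵥ x = x + c • w := by
    rw [hE x, hxw, zero_smul, mul_zero, zero_smul, add_zero, sub_zero, hf.bilinear.smul_right, hxa, mul_one,
      neg_smul, sub_neg_eq_add]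
  rw [hEx, conj_functional hf (fun y z => eich_isometry hf hE h2 hww ha' y z), eich_fix hf hE hww ha'] at h1
  have h4 : Has M (-x) (ov hf w) := by
    rw [← neg_one_smul F x, has_smul_iff, neg_one_smul]
    exact hw.neg
  have h3 := h1.add_left h4
  rw [add_neg_cancel_comm] at h3
  exact (has_smul_iff w _).1 h3

/-- a unitary-free root: one transvection at a singular centre with singular axis gives all multiples -/
theorem root_scale {u : ι → F} (hu0 : u ≠ 0) (huu : f u u = 0) {c₀ : F} (hc₀ : c₀ ≠ 0)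
    (h : Has M u (c₀ • ov hf u)) (c : F) : Has M u (c • ov hf u) := by
  obtain ⟨y, hy⟩ := (hf.nondegenerate u hu0).2
  obtain ⟨k, -, hkk, huk, hku⟩ := exists_partner hf h2 (X := ⊤) Submodule.mem_top huu (y := y) Submodule.mem_top hy
  have hsq : ∀ μ : F, μ ≠ 0 → Has M u ((μ ^ 2 * c₀) • ov hf u) := by
    intro μ hμ
    have hz : f (μ • u - k) (μ • u - k) ≠ 0 := by
      simp only [sym_sub_left hf, sym_sub_right hf, hf.bilinear.smul_left, hf.bilinear.smul_right, huu, hkk, huk, hku]
      intro e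
      exact mul_ne_zero h2 hμ (by linear_combination -e)
    have hw : f (u - k) (u - k) ≠ 0 := by
      simp only [sym_sub_left hf, sym_sub_right hf, huu, hkk, huk, hku]
      intro e
      exact h2 (by linear_combination -e)
    obtain ⟨g, hg, hgi, hgE⟩ := exists_refl_pair hf h2 hz hw
    have hgu : (g : Matrix ι ι F) *ᵥ u = μ • u := by
      have e1 : u - (2 * f u (u - k) / f (u - k) (u - k)) • (u - k) = k := by
        rw [show 2 * f u (u - k) / f (u - k) (u - k) = 1 by
          rw [div_eq_one_iff_eq hw]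
          simp only [sym_sub_left hf, sym_sub_right hf, huu, hkk, huk, hku]
          ring]
        rw [one_smul, sub_sub_cancel]
      rw [hgE, e1]
      rw [show 2 * f k (μ • u - k) / f (μ • u - k) (μ • u - k) = -1 by
        rw [div_eq_iff hz]
        simp only [sym_sub_left hf, sym_sub_right hf, hf.bilinear.smul_left, hf.bilinear.smul_right, huu, hkk, huk, hku]
        ring]
      module
    have h1 := h.conj (hM hg)
    rw [smul_vecMul, conj_functional hf hgi, hgu, map_smul, smul_smul, has_smul_iff, smul_smul] at h1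
    rwa [show μ * (c₀ * μ) = μ ^ 2 * c₀ by ring] at h1
  let A : AddSubgroup F :=
    { carrier := {r | Has M u ((r * c₀) • ov hf u)}
      add_mem' := fun {a b} ha hb => show Has M u (((a + b) * c₀) • ov hf u) by
        rw [add_mul, add_smul]; exact Has.add_right ha hb
      zero_mem' := show Has M u (((0 : F) * c₀) • ov hf u) by rw [zero_mul, zero_smul]; exact has_zero_right u
      neg_mem' := fun {a} ha => show Has M u ((-a * c₀) • ov hf u) by rw [neg_mul, neg_smul]; exact Has.neg ha }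
  obtain ⟨r, hr⟩ : ∃ r, r = c / c₀ := ⟨_, rfl⟩
  obtain ⟨p, hp⟩ := CharP.exists F
  haveI : Fact p.Prime := ⟨CharP.char_is_prime F p⟩
  have hsqA : ∀ μ : F, μ ^ 2 ∈ A := fun μ => by
    rcases eq_or_ne μ 0 with rfl | hμ
    · rw [zero_pow two_ne_zero]; exact A.zero_mem
    · exact hsq μ hμ
  have hrA : r ∈ A := by
    have h4 : r = ((r + 1) / 2) ^ 2 - ((r - 1) / 2) ^ 2 := by field_simp; ring
    rw [h4]
    exact A.sub_mem (hsqA _) (hsqA _)
  have h5 : Has M u ((r * c₀) • ov hf u) := hrA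
  rwa [hr, div_mul_cancel₀ _ hc₀] at h5

/-- the spanning trick -/
theorem span_trick {X S : Submodule F (ι → F)} {k : F} (h : ∀ v ∈ X, f v v ≠ k → v ∈ S) {q₀ : ι → F} (hq₀ : q₀ ∈ X)
    (hq0 : f q₀ q₀ ≠ 0) (hqk : f q₀ q₀ ≠ k) : X ≤ S := by
  intro v hv
  have hq₀S := h q₀ hq₀ hqk
  by_cases hvk : f v v = k
  swap
  · exact h v hv hvk
  by_cases h1 : f (v + q₀) (v + q₀) = k
  · by_cases h3 : f (v - q₀) (v - q₀) = k
    · exfalso
      rw [hf.bilinear.add_left, hf.bilinear.add_right, hf.bilinear.add_right, hf.symm q₀ v] at h1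
      rw [sym_sub_left hf, sym_sub_right hf, sym_sub_right hf, hf.symm q₀ v] at h3
      have : (2 : F) * f q₀ q₀ = 0 := by linear_combination h1 + h3 - 2 * hvk
      exact hq0 ((mul_eq_zero.1 this).resolve_left h2)
    · have := S.add_mem (h _ (X.sub_mem hv hq₀) h3) hq₀S
      rwa [sub_add_cancel] at this
  · have := S.sub_mem (h _ (X.add_mem hv hq₀) h1) hq₀S
    rwa [add_sub_cancel_right] at this

include hn in
/-- a full anisotropic centre gives all centres -/
theorem fullSub_top_of_full {x : ι → F} (hxx : f x x ≠ 0) (hx : FullC M x) : fullSub M = ⊤ := by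
  obtain ⟨a, ha, haa⟩ := exists_aniso hf h2 (W := LinearMap.ker (sfl hf x)) (by
    have := finrank_perp hf h2 x; omega)
  have hax : f a x = 0 := ha
  have hxa : f x a = 0 := by rw [hf.symm, hax]
  obtain ⟨b, hb, hbb⟩ : ∃ b ∈ LinearMap.ker (sfl hf x) ⊓ LinearMap.ker (sfl hf a), f b b ≠ 0 := by
    set X := LinearMap.ker (sfl hf x) ⊓ LinearMap.ker (sfl hf a) with hX
    by_contra hcon
    push Not at hcon
    obtain ⟨p, hp, hp0⟩ := Submodule.exists_mem_ne_zero_of_ne_bot (p := X) (fun hb => by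
      have h1 := finrank_perp hf h2 x
      have h3 := finrank_le_inf_ker (LinearMap.ker (sfl hf x)) (sfl hf a)
      rw [← hX, hb, finrank_bot] at h3
      omega)
    obtain ⟨q, hq⟩ := (hf.nondegenerate p hp0).2
    obtain ⟨q', hq'⟩ : ∃ q', q' = q - (f q x / f x x) • x - (f q a / f a a) • a := ⟨_, rfl⟩
    have hq'X : q' ∈ X := by
      refine ⟨?_, ?_⟩
      · show f q' x = 0
        rw [hq', sym_sub_left hf, sym_sub_left hf, hf.bilinear.smul_left, hf.bilinear.smul_left, hax,
          div_mul_cancel₀ _ hxx]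
        ring
      · show f q' a = 0
        rw [hq', sym_sub_left hf, sym_sub_left hf, hf.bilinear.smul_left, hf.bilinear.smul_left, hxa,
          div_mul_cancel₀ _ haa]
        ring
    have h4 := hcon _ (X.add_mem hp hq'X)
    rw [hf.bilinear.add_left, hf.bilinear.add_right, hf.bilinear.add_right, hcon p hp, hcon q' hq'X, hf.symm q' p] at h4
    have h5 : f p q' = 0 := (mul_eq_zero.1 (show (2 : F) * f p q' = 0 by linear_combination h4)).resolve_left h2
    have hpx : f p x = 0 := hp.1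
    have hpa : f p a = 0 := hp.2
    rw [hq', sym_sub_right hf, sym_sub_right hf, hf.bilinear.smul_right, hf.bilinear.smul_right, hpx, hpa] at h5
    exact hq (by linear_combination h5)
  have hbx : f b x = 0 := hb.1
  have hba : f b a = 0 := hb.2
  have hab : f a b = 0 := by rw [hf.symm, hba]
  obtain ⟨i, j, hij⟩ := CfsgLib.Classical.exists_binary_one (F := F) h2 (div_ne_zero haa hxx) (div_ne_zero hbb hxx)
  obtain ⟨q₀, hq₀⟩ : ∃ q₀, q₀ = i • a + j • b := ⟨_, rfl⟩
  have hq₀x : f q₀ x = 0 := by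
    rw [hq₀, hf.bilinear.add_left, hf.bilinear.smul_left, hf.bilinear.smul_left, hax, hbx, mul_zero, mul_zero, add_zero]
  have hxq₀ : f x q₀ = 0 := by rw [hf.symm, hq₀x]
  have hqq : f q₀ q₀ = f x x := by
    simp only [hq₀, hf.bilinear.add_left, hf.bilinear.add_right, hf.bilinear.smul_left, hf.bilinear.smul_right, hab, hba]
    field_simp at hij
    linear_combination hij
  have hxS : x ∈ fullSub M := hx
  have hall : ∀ z, f z z ≠ 0 → f x z ≠ 0 → z ∈ fullSub M := by
    intro z hzz hxz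
    obtain ⟨k, hk, hki, hkE⟩ := exists_refl_pair hf h2 hzz (w := q₀) (by rw [hqq]; exact hxx)
    have h1 := fullSub_inv (hM hk) hxS
    rw [hkE, hxq₀, mul_zero, zero_div, zero_smul, sub_zero] at h1
    have h3 := (fullSub M).sub_mem hxS h1
    rw [sub_sub_cancel] at h3
    exact ((fullSub M).smul_mem_iff (div_ne_zero (mul_ne_zero h2 hxz) hzz)).1 h3
  have hperp : LinearMap.ker (sfl hf x) ≤ fullSub M := by
    refine span_trick hf h2 hM (k := -(f x x)) (fun p hp hpk => ?_) (q₀ := q₀) hq₀x (by rw [hqq]; exact hxx) ?_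
    · have hpx : f p x = 0 := hp
      have hxp : f x p = 0 := by rw [hf.symm, hpx]
      have h1 : x + p ∈ fullSub M := hall _
        (by
          rw [hf.bilinear.add_left, hf.bilinear.add_right, hf.bilinear.add_right, hxp, hpx]
          intro z; exact hpk (by linear_combination z))
        (by rw [hf.bilinear.add_right, hxp, add_zero]; exact hxx)
      have := (fullSub M).sub_mem h1 hxS
      rwa [add_sub_cancel_left] at this
    · rw [hqq]
      intro z
      exact hxx ((mul_eq_zero.1 (show (2 : F) * f x x = 0 by linear_combination z)).resolve_left h2)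
  refine Submodule.eq_top_iff'.2 fun v => ?_
  have h1 : v - (f v x / f x x) • x ∈ fullSub M := hperp (by
    show f _ x = 0
    rw [sym_sub_left hf, hf.bilinear.smul_left, div_mul_cancel₀ _ hxx, sub_self])
  have := (fullSub M).add_mem h1 ((fullSub M).smul_mem (f v x / f x x) hxS)
  rwa [sub_add_cancel] at this

include hn in
/-- a root group gives a full centre, and then all centres are full -/
theorem fullSub_top_of_root {e : ι → F} (he0 : e ≠ 0) (hee : f e e = 0) (hroot : ∀ c : F, Has M e (c • ov hf e)) :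
    fullSub M = ⊤ := by
  obtain ⟨y₀, hy₀⟩ := (hf.nondegenerate e he0).2
  obtain ⟨h, -, hhh, heh, hhe⟩ := exists_partner hf h2 (X := ⊤) Submodule.mem_top hee (y := y₀) Submodule.mem_top hy₀
  obtain ⟨P, hPdef⟩ : ∃ P, P = LinearMap.ker (sfl hf e) ⊓ LinearMap.ker (sfl hf h) := ⟨_, rfl⟩
  have hmemP : ∀ {p}, p ∈ P ↔ f p e = 0 ∧ f p h = 0 := fun {p} => by rw [hPdef]; exact Iff.rfl
  obtain ⟨p₁, hp₁, hpp⟩ : ∃ p ∈ P, f p p ≠ 0 := by
    by_contra hcon
    push Not at hcon
    obtain ⟨p, hp, hp0⟩ := Submodule.exists_mem_ne_zero_of_ne_bot (p := P) (fun hb => by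
      have h1 := finrank_perp hf h2 e
      have h3 := finrank_le_inf_ker (LinearMap.ker (sfl hf e)) (sfl hf h)
      rw [← hPdef, hb, finrank_bot] at h3
      omega)
    obtain ⟨q, hq⟩ := (hf.nondegenerate p hp0).2
    obtain ⟨q', hq'⟩ : ∃ q', q' = q - f q h • e - f q e • h := ⟨_, rfl⟩
    have hq'P : q' ∈ P := hmemP.2 ⟨by
      rw [hq', sym_sub_left hf, sym_sub_left hf, hf.bilinear.smul_left, hf.bilinear.smul_left, hee, hhe]; ring, by
      rw [hq', sym_sub_left hf, sym_sub_left hf, hf.bilinear.smul_left, hf.bilinear.smul_left, hhh, heh]; ring⟩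
    have h4 := hcon _ (P.add_mem hp hq'P)
    rw [hf.bilinear.add_left, hf.bilinear.add_right, hf.bilinear.add_right, hcon p hp, hcon q' hq'P, hf.symm q' p] at h4
    have h5 : f p q' = 0 := (mul_eq_zero.1 (show (2 : F) * f p q' = 0 by linear_combination h4)).resolve_left h2
    obtain ⟨hpe, hph⟩ := hmemP.1 hp
    rw [hq', sym_sub_right hf, sym_sub_right hf, hf.bilinear.smul_right, hf.bilinear.smul_right, hpe, hph] at h5
    exact hq (by linear_combination h5)
  obtain ⟨hp₁e, hp₁h⟩ := hmemP.1 hp₁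
  have hep₁ : f e p₁ = 0 := by rw [hf.symm, hp₁e]
  -- the root group at the partner
  obtain ⟨g, hg, hgi, hgE⟩ := exists_refl_pair hf h2 (z := e - h) (w := p₁)
    (by
      simp only [sym_sub_left hf, sym_sub_right hf, hee, hhh, heh, hhe]
      intro z; exact h2 (by linear_combination -z)) hpp
  have hge : (g : Matrix ι ι F) *ᵥ e = h := by
    rw [hgE, hep₁, mul_zero, zero_div, zero_smul, sub_zero,
      show 2 * f e (e - h) / f (e - h) (e - h) = 1 by
        rw [div_eq_one_iff_eq (by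
          simp only [sym_sub_left hf, sym_sub_right hf, hee, hhh, heh, hhe]
          intro z; exact h2 (by linear_combination -z))]
        simp only [sym_sub_left hf, sym_sub_right hf, hee, hhh, heh, hhe]
        ring, one_smul, sub_sub_cancel]
  have hrooth : ∀ c : F, Has M h (c • ov hf h) := fun c => by
    have h1 := (hroot c).conj (hM hg)
    rwa [smul_vecMul, conj_functional hf hgi, hge] at h1
  obtain ⟨c, hc⟩ : ∃ c, c = -(f p₁ p₁) / 2 := ⟨_, rfl⟩
  have hc0 : c ≠ 0 := hc ▸ div_ne_zero (neg_ne_zero.2 hpp) h2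
  obtain ⟨x, hx⟩ : ∃ x, x = h + c • e := ⟨_, rfl⟩
  obtain ⟨y, hy⟩ : ∃ y, y = h - c • e := ⟨_, rfl⟩
  have hxx : f x x = 2 * c := by
    simp only [hx, hf.bilinear.add_left, hf.bilinear.add_right, hf.bilinear.smul_left, hf.bilinear.smul_right, hee,
      hhh, heh, hhe]
    ring
  have hyy : f y y = -(2 * c) := by
    simp only [hy, sym_sub_left hf, sym_sub_right hf, hf.bilinear.smul_left, hf.bilinear.smul_right, hee, hhh, heh,
      hhe]
    ring
  have hyx : f y x = 0 := by
    simp only [hx, hy, sym_sub_left hf, hf.bilinear.add_right, hf.bilinear.smul_left, hf.bilinear.smul_right, hee,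
      hhh, heh, hhe]
    ring
  have hxx0 : f x x ≠ 0 := hxx ▸ mul_ne_zero h2 hc0
  let S : Submodule F (ι → F) := (axes M x).comap (ov hf)
  have hyS : y ∈ S := by
    show ov hf y ∈ axes M x
    intro r
    obtain ⟨h0, hmem⟩ := hroot c
    have h1 := (hrooth r).conj hmem
    have hgh : (tv e (c • ov hf e) h0 : Matrix ι ι F) *ᵥ h = x := by
      rw [tv_mulVec, smul_dotProduct, ov_dot, hhe, smul_eq_mul, mul_one, hx]
    rw [hgh, smul_vecMul] at h1
    convert h1 using 2
    funext i
    have key : ∀ z, ov hf y ⬝ᵥ z = (ov hf h ᵥ* (((tv e (c • ov hf e) h0)⁻¹ : GL ι F) : Matrix ι ι F)) ⬝ᵥ z := fun z => by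
      rw [← dotProduct_mulVec, tv_inv_mulVec, ov_dot, ov_dot, smul_dotProduct, ov_dot, hy, sym_sub_right hf,
        hf.bilinear.smul_right, sym_sub_left hf, hf.bilinear.smul_left, heh, smul_eq_mul, mul_one]
    simpa [dotProduct_single] using key (Pi.single i 1)
  have hstep : ∀ z, f z x = 0 → f z z ≠ 0 → f y z ≠ 0 → z ∈ S := by
    intro z hzx hzz hyz
    obtain ⟨k, hk, hki, hkE⟩ := exists_refl_pair hf h2 hzz hxx0
    have hkx : (k : Matrix ι ι F) *ᵥ x = (-1 : F) • x := by
      have e : x - (2 * f x x / f x x) • x = (-1 : F) • x := by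
        rw [mul_div_assoc, div_self hxx0, mul_one]; module
      rw [hkE, e, hf.bilinear.smul_left, hf.symm x z, hzx, mul_zero, mul_zero, zero_div, zero_smul, sub_zero]
    have h1 : (ov hf ((k : Matrix ι ι F) *ᵥ y)) ∈ axes M x := by
      have h3 := axes_conj hyS (hM hk)
      rw [conj_functional hf hki, hkx] at h3
      have h4 := axes_smul h3 (-1)
      rwa [smul_smul, neg_one_mul, neg_neg, one_smul] at h4
    rw [hkE, hyx, mul_zero, zero_div, zero_smul, sub_zero] at h1
    have h5 : y - (2 * f y z / f z z) • z ∈ S := h1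
    have h6 := S.sub_mem hyS h5
    rw [sub_sub_cancel] at h6
    exact (S.smul_mem_iff (div_ne_zero (mul_ne_zero h2 hyz) hzz)).1 h6
  have hPS : P ≤ S := by
    refine span_trick hf h2 hM (k := 2 * c) (fun p hp hpk => ?_) hp₁ hpp (fun e' => ?_)
    · obtain ⟨hpe, hph⟩ := hmemP.1 hp
      have hep : f e p = 0 := by rw [hf.symm, hpe]
      have hhp : f h p = 0 := by rw [hf.symm, hph]
      have hyp : f y p = 0 := by rw [hy, sym_sub_left hf, hf.bilinear.smul_left, hep, hhp, mul_zero, sub_zero]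
      have hpx : f p x = 0 := by rw [hx, hf.bilinear.add_right, hf.bilinear.smul_right, hpe, hph, mul_zero, add_zero]
      have h1 : y + p ∈ S := hstep _ (by rw [hf.bilinear.add_left, hyx, hpx, add_zero])
        (by
          rw [hf.bilinear.add_left, hf.bilinear.add_right, hf.bilinear.add_right, hyy, hyp, hf.symm p y, hyp]
          intro z; exact hpk (by linear_combination z))
        (by rw [hf.bilinear.add_right, hyy, hyp, add_zero]; exact neg_ne_zero.2 (mul_ne_zero h2 hc0))
      have := S.sub_mem h1 hyS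
      rwa [add_sub_cancel_left] at this
    · have e2 : (2 : F) * f p₁ p₁ = 0 := by
        rw [hc, mul_div_cancel₀ _ h2] at e'
        linear_combination e'
      exact hpp ((mul_eq_zero.1 e2).resolve_left h2)
  have hxfull : FullC M x := by
    intro φ hφ
    obtain ⟨v, rfl⟩ := ov_surjective hf φ
    rw [ov_dot] at hφ
    obtain ⟨p, hp⟩ : ∃ p, p = v - f v h • e - f v e • h := ⟨_, rfl⟩
    have hpP : p ∈ P := hmemP.2 ⟨by
      rw [hp, sym_sub_left hf, sym_sub_left hf, hf.bilinear.smul_left, hf.bilinear.smul_left, hee, hhe]; ring, by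
      rw [hp, sym_sub_left hf, sym_sub_left hf, hf.bilinear.smul_left, hf.bilinear.smul_left, hhh, heh]; ring⟩
    have hvx : f v h + c * f v e = 0 := by
      rw [hf.symm x v, hx, hf.bilinear.add_right, hf.bilinear.smul_right] at hφ
      exact hφ
    have hv : v = p + f v e • y := by
      rw [hp, hy, eq_neg_of_add_eq_zero_left hvx]
      module
    have hvS : v ∈ S := hv ▸ S.add_mem (hPS hpP) (S.smul_mem _ hyS)
    exact has_of_axes hvS
  exact fullSub_top_of_full hf h2 hM hn hxx0 hxfull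

include hn in
/-- a transvection gives everything -/
theorem fullSub_top_of_transvection {x φ : ι → F} (hx0 : x ≠ 0) (hφ : φ ≠ 0) (hh : Has M x φ) : fullSub M = ⊤ := by
  obtain ⟨w, rfl⟩ := ov_surjective hf φ
  have hw0 : w ≠ 0 := fun e => hφ (by rw [e, map_zero])
  have base : ∀ {x w : ι → F}, x ≠ 0 → w ≠ 0 → Has M x (ov hf w) → (f x x = 0 ∨ f w w = 0) → fullSub M = ⊤ := by
    intro x w hx0 hw0 hh hs
    by_cases hd : w ∈ Submodule.span F {x}
    · obtain ⟨d, rfl⟩ := Submodule.mem_span_singleton.1 hd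
      have hd0 : d ≠ 0 := fun e => hw0 (by rw [e, zero_smul])
      have hxx : f x x = 0 := by
        have h1 := hh.1
        rw [ov_dot, hf.bilinear.smul_right] at h1
        exact (mul_eq_zero.1 h1).resolve_left hd0
      rw [map_smul] at hh
      exact fullSub_top_of_root hf h2 hM hn hx0 hxx (root_scale hf h2 hM hx0 hxx hd0 hh)
    rcases hs with hs | hs
    · exact fullSub_top_of_root hf h2 hM hn hx0 hs (root_of_centre hf h2 hM hs hd hh)
    · refine fullSub_top_of_root hf h2 hM hn hw0 hs (root_of_axis hf h2 hM hs (fun hm => hd ?_) hh)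
      obtain ⟨d, hd'⟩ := Submodule.mem_span_singleton.1 hm
      have hd0 : d ≠ 0 := fun e => hx0 (by rw [← hd', e, zero_smul])
      exact Submodule.mem_span_singleton.2 ⟨d⁻¹, by rw [← hd', smul_smul, inv_mul_cancel₀ hd0, one_smul]⟩
  by_cases hxx : f x x = 0
  · exact base hx0 hw0 hh (Or.inl hxx)
  by_cases hww : f w w = 0
  · exact base hx0 hw0 hh (Or.inr hww)
  have hxw : f x w = 0 := by have := hh.1; rwa [ov_dot] at this
  have hwx : f w x = 0 := by rw [hf.symm, hxw]
  by_cases hA : ∃ u₀, f u₀ x = 0 ∧ u₀ ≠ 0 ∧ f u₀ u₀ = 0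
  · -- a singular centre
    obtain ⟨u₀, hu₀, hu₀0, hu₀u⟩ := hA
    obtain ⟨u, huu, hux, hwu⟩ := exists_singular_ne hf h2 hxx hwx hw0 hu₀ hu₀0 hu₀u
    have hxu : f x u = 0 := by rw [hf.symm, hux]
    obtain ⟨r, hr⟩ : ∃ r, r = -1 / (f x x * f w u) := ⟨_, rfl⟩
    have hr0 : r ≠ 0 := hr ▸ div_ne_zero (neg_ne_zero.2 one_ne_zero) (mul_ne_zero hxx hwu)
    have ha : f u (r • x) = 0 := by rw [hf.bilinear.smul_right, hux, mul_zero]
    obtain ⟨E, hEM, hE⟩ := eichs_of_le hf h2 hM huu _ ha
    have h1 := hh.conj hEM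
    rw [conj_functional hf (fun y z => eich_isometry hf hE h2 huu ha y z)] at h1
    obtain ⟨h0, hmem⟩ := h1
    have h3 := hh.conj hmem
    have hEx : (E : Matrix ι ι F) *ᵥ x = x + (-(r * f x x)) • u := by
      rw [hE x, hxu, zero_smul, mul_zero, zero_smul, add_zero, sub_zero, hf.bilinear.smul_right, neg_smul,
        sub_eq_add_neg]
    have hxEw : f x ((E : Matrix ι ι F) *ᵥ w) = -1 := by
      simp only [hE w, sym_sub_right hf, hf.bilinear.add_right, hf.bilinear.smul_right, hxw, hxu, mul_zero, add_zero,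
        sub_zero, zero_sub, zero_add]
      rw [hr]
      field_simp
    have hnew : (tv ((E : Matrix ι ι F) *ᵥ x) (ov hf ((E : Matrix ι ι F) *ᵥ w)) h0 : Matrix ι ι F) *ᵥ x =
        (r * f x x) • u := by
      rw [tv_mulVec, ov_dot, hxEw, hEx]
      module
    rw [hnew] at h3
    obtain ⟨w', hw'⟩ := ov_surjective hf
      (ov hf w ᵥ* (((tv ((E : Matrix ι ι F) *ᵥ x) (ov hf ((E : Matrix ι ι F) *ᵥ w)) h0)⁻¹ : GL ι F) : Matrix ι ι F))
    rw [← hw'] at h3
    have hu0 : u ≠ 0 := fun e => hwu (by rw [e, sym_zero_right hf])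
    have hw'0 : w' ≠ 0 := fun e => hw0 (ov_injective hf (by
      have e1 := congrArg (· ᵥ* ((tv ((E : Matrix ι ι F) *ᵥ x) (ov hf ((E : Matrix ι ι F) *ᵥ w)) h0 : GL ι F) :
        Matrix ι ι F)) hw'
      simp only [vecMul_vecMul, Units.inv_mul, vecMul_one, e, map_zero, zero_vecMul] at e1
      rw [← e1, map_zero]))
    exact base (smul_ne_zero (mul_ne_zero hr0 hxx) hu0) hw'0 h3
      (Or.inl (by rw [hf.bilinear.smul_left, hf.bilinear.smul_right, huu, mul_zero, mul_zero]))
  push Not at hA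
  by_cases hB : ∃ u₀, f u₀ w = 0 ∧ u₀ ≠ 0 ∧ f u₀ u₀ = 0
  · -- a singular axis
    obtain ⟨u₀, hu₀, hu₀0, hu₀u⟩ := hB
    obtain ⟨u, huu, huw, hxu⟩ := exists_singular_ne hf h2 hww hxw hx0 hu₀ hu₀0 hu₀u
    have hwu : f w u = 0 := by rw [hf.symm, huw]
    obtain ⟨r, hr⟩ : ∃ r, r = -1 / (f w w * f x u) := ⟨_, rfl⟩
    have hr0 : r ≠ 0 := hr ▸ div_ne_zero (neg_ne_zero.2 one_ne_zero) (mul_ne_zero hww hxu)
    have ha : f u (r • w) = 0 := by rw [hf.bilinear.smul_right, huw, mul_zero]
    obtain ⟨E, hEM, hE⟩ := eichs_of_le hf h2 hM huu _ ha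
    have h1 := hh.conj hEM
    rw [conj_functional hf (fun y z => eich_isometry hf hE h2 huu ha y z)] at h1
    obtain ⟨h0, hmem⟩ := hh
    have h3 := h1.conj hmem
    have hEw : (E : Matrix ι ι F) *ᵥ w = w + (-(r * f w w)) • u := by
      rw [hE w, hwu, zero_smul, mul_zero, zero_smul, add_zero, sub_zero, hf.bilinear.smul_right, neg_smul,
        sub_eq_add_neg]
    have hfun : ov hf ((E : Matrix ι ι F) *ᵥ w) ᵥ* (((tv x (ov hf w) h0)⁻¹ : GL ι F) : Matrix ι ι F) =
        ov hf ((-(r * f w w)) • u) := funext fun i => by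
      have key : ∀ z, (ov hf ((E : Matrix ι ι F) *ᵥ w) ᵥ* (((tv x (ov hf w) h0)⁻¹ : GL ι F) : Matrix ι ι F)) ⬝ᵥ z =
          ov hf ((-(r * f w w)) • u) ⬝ᵥ z := fun z => by
        rw [← dotProduct_mulVec, tv_inv_mulVec, ov_dot, ov_dot, ov_dot, hEw, sym_sub_left hf, hf.bilinear.smul_left,
          hf.bilinear.add_right, hf.bilinear.add_right, hf.bilinear.smul_right, hf.bilinear.smul_right, hxw, hr]
        field_simp
        ring
      simpa [dotProduct_single] using key (Pi.single i 1)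
    rw [hfun] at h3
    have hu0 : u ≠ 0 := fun e => hxu (by rw [e, sym_zero_right hf])
    exact base (fun e => hx0 (gl_mulVec_eq_zero.1 (gl_mulVec_eq_zero.1 e)))
      (smul_ne_zero (neg_ne_zero.2 (mul_ne_zero hr0 hww)) hu0) h3
      (Or.inr (by rw [hf.bilinear.smul_left, hf.bilinear.smul_right, huu, mul_zero, mul_zero]))
  push Not at hB
  -- no singular vectors orthogonal to the centre or to the axis: dimension three
  have h3 : Fintype.card ι = 3 := by
    by_contra hne
    obtain ⟨z, hz, hz0, hzz⟩ := exists_singular hf h2 (X := LinearMap.ker (sfl hf x)) (by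
      have := finrank_perp hf h2 x; omega)
    exact hA z hz hz0 hzz
  obtain ⟨z, hz, hz0⟩ := Submodule.exists_mem_ne_zero_of_ne_bot
    (p := LinearMap.ker (sfl hf x) ⊓ LinearMap.ker (sfl hf w)) (fun hb => by
      have h1 := finrank_perp hf h2 x
      have h4 := finrank_le_inf_ker (LinearMap.ker (sfl hf x)) (sfl hf w)
      rw [hb, finrank_bot] at h4
      omega)
  have hzx : f z x = 0 := hz.1
  have hzw : f z w = 0 := hz.2
  have hzz : f z z ≠ 0 := hA z hzx hz0
  have hwz : f w z = 0 := by rw [hf.symm, hzw]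
  have hxz : f x z = 0 := by rw [hf.symm, hzx]
  have hden : f w w + f z z ≠ 0 := by
    intro h
    refine hA (w + z) (by rw [hf.bilinear.add_left, hwx, hzx, add_zero]) (fun e => hww ?_) ?_
    · nth_rewrite 1 [eq_neg_of_add_eq_zero_left e]
      rw [sym_neg_left hf, hzw, neg_zero]
    · rw [hf.bilinear.add_left, hf.bilinear.add_right, hf.bilinear.add_right, hwz, hzw]
      linear_combination h
  obtain ⟨σ, hσ⟩ : ∃ σ, σ = 2 * f w w / (f w w + f z z) := ⟨_, rfl⟩
  have hσ0 : σ ≠ 0 := hσ ▸ div_ne_zero (mul_ne_zero h2 hww) hden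
  obtain ⟨w', hw'⟩ : ∃ w', w' = (σ - 1) • w + σ • z := ⟨_, rfl⟩
  have hw'x : f w' x = 0 := by
    rw [hw', hf.bilinear.add_left, hf.bilinear.smul_left, hf.bilinear.smul_left, hwx, hzx, mul_zero, mul_zero, add_zero]
  have hw'w' : f w' w' = f w w := by
    simp only [hw', hf.bilinear.add_left, hf.bilinear.add_right, hf.bilinear.smul_left, hf.bilinear.smul_right, hwz,
      hzw, hσ]
    field_simp
    ring
  have hww' : f w w' = (σ - 1) * f w w := by
    rw [hw', hf.bilinear.add_right, hf.bilinear.smul_right, hf.bilinear.smul_right, hwz, mul_zero, add_zero]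
  have hw'ne : w' ∉ Submodule.span F {w} := fun hm => by
    obtain ⟨d, hd⟩ := Submodule.mem_span_singleton.1 hm
    have e := congrArg (fun v => f v z) hd
    simp only [hw', hf.bilinear.add_left, hf.bilinear.smul_left, hwz, mul_zero, zero_add] at e
    exact mul_ne_zero hσ0 hzz e.symm
  have hd1 : f (w - w') (w - w') ≠ 0 := hA _ (by rw [sym_sub_left hf, hwx, hw'x, sub_self]) (fun e => hw'ne (by
    rw [← sub_eq_zero.1 e]; exact Submodule.mem_span_singleton_self w))
  -- the multiples of the rotated axis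
  let A : AddSubgroup F :=
    { carrier := {r | Has M x (r • ov hf w')}
      add_mem' := fun {a b} ha hb => show Has M x ((a + b) • ov hf w') by rw [add_smul]; exact Has.add_right ha hb
      zero_mem' := show Has M x ((0 : F) • ov hf w') by rw [zero_smul]; exact has_zero_right x
      neg_mem' := fun {a} ha => show Has M x ((-a) • ov hf w') by rw [neg_smul]; exact Has.neg ha }
  obtain ⟨v, hv⟩ : ∃ v, v = (σ * f z z) • w - ((σ - 1) * f w w) • z := ⟨_, rfl⟩
  have hvx : f v x = 0 := by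
    rw [hv, sym_sub_left hf, hf.bilinear.smul_left, hf.bilinear.smul_left, hwx, hzx, mul_zero, mul_zero, sub_zero]
  have hvw' : f v w' = 0 := by
    simp only [hv, hw', sym_sub_left hf, hf.bilinear.add_right, hf.bilinear.smul_left, hf.bilinear.smul_right, hwz, hzw]
    ring
  have hvw : f v w = σ * f z z * f w w := by
    rw [hv, sym_sub_left hf, hf.bilinear.smul_left, hf.bilinear.smul_left, hzw, mul_zero, sub_zero]
  have hvw0 : f v w ≠ 0 := hvw ▸ mul_ne_zero (mul_ne_zero hσ0 hzz) hww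
  -- the rotated axis has no singular orthogonal vector
  obtain ⟨r₁, hr₁, hr₁E, hr₁i⟩ := exists_refl hf h2 hd1
  have hr₁w : (r₁ : Matrix ι ι F) *ᵥ w = w' := by
    rw [hr₁E, show 2 * f w (w - w') / f (w - w') (w - w') = 1 by
      rw [div_eq_one_iff_eq hd1, sym_sub_left hf, sym_sub_right hf, sym_sub_right hf, hf.symm w' w, hw'w']
      ring, one_smul, sub_sub_cancel]
  have hB' : ∀ y, f y w' = 0 → y ≠ 0 → f y y ≠ 0 := fun y hy hy0 hyy => by
    refine hB (((r₁⁻¹ : GL ι F) : Matrix ι ι F) *ᵥ y) ?_ (fun e => hy0 ?_) ?_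
    · rw [← hr₁i, gl_mulVec_inv, hr₁w, hy]
    · rw [← gl_mulVec_inv r₁ y, e, mulVec_zero]
    · rw [← hr₁i, gl_mulVec_inv, hyy]
  have hκ : ∀ m : F, f x x + m ^ 2 * f v v ≠ 0 := by
    intro m h
    refine hB' (x + m • v) ?_ (fun e => hxx ?_) ?_
    · rw [hf.bilinear.add_left, hf.bilinear.smul_left, hf.symm x w', hw'x, hvw', mul_zero, add_zero]
    · nth_rewrite 1 [eq_neg_of_add_eq_zero_left e]
      rw [sym_neg_left hf, hf.bilinear.smul_left, hvx, mul_zero, neg_zero]
    · simp only [hf.bilinear.add_left, hf.bilinear.add_right, hf.bilinear.smul_left, hf.bilinear.smul_right, hvx,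
        hf.symm x v]
      linear_combination h
  obtain ⟨b, hb⟩ : ∃ b : F → F, b = fun m => 2 * m * f x x / (f x x + m ^ 2 * f v v) * f v w := ⟨_, rfl⟩
  have hbA : ∀ m : F, m ≠ 0 → b m ∈ A := by
    intro m hm
    obtain ⟨s, hs⟩ : ∃ s, s = 2 * f x x / (f x x + m ^ 2 * f v v) := ⟨_, rfl⟩
    have hs0 : s ≠ 0 := hs ▸ div_ne_zero (mul_ne_zero h2 hxx) (hκ m)
    obtain ⟨x', hx'⟩ : ∃ x', x' = (s - 1) • x + (m * s) • v := ⟨_, rfl⟩
    have hx'x' : f x' x' = f x x := by
      have hs' : s * (f x x + m ^ 2 * f v v) = 2 * f x x := by rw [hs, div_mul_cancel₀ _ (hκ m)]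
      simp only [hx', hf.bilinear.add_left, hf.bilinear.add_right, hf.bilinear.smul_left, hf.bilinear.smul_right, hvx,
        hf.symm x v]
      linear_combination s * hs'
    have hx'w' : f x' w' = 0 := by
      rw [hx', hf.bilinear.add_left, hf.bilinear.smul_left, hf.bilinear.smul_left, hf.symm x w', hw'x, hvw',
        mul_zero, mul_zero, add_zero]
    have hd2 : f (x - x') (x - x') ≠ 0 := by
      refine hB' _ (by rw [sym_sub_left hf, hf.symm x w', hw'x, hx'w', sub_zero]) fun e => ?_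
      have e2 := congrArg (fun t => f t v) (sub_eq_zero.1 e)
      simp only [hx', hf.bilinear.add_left, hf.bilinear.smul_left, hf.symm x v, hvx, mul_zero, zero_add] at e2
      exact mul_ne_zero (mul_ne_zero hm hs0) (fun hvv => hvw0 (by
        exfalso
        exact hA v hvx (fun e => hvw0 (by rw [e, sym_zero_left hf])) hvv)) e2.symm
    obtain ⟨k, hk, hki, hkE⟩ := exists_refl_pair hf h2 hd2 hd1
    have hkx : (k : Matrix ι ι F) *ᵥ x = x' := by
      rw [hkE, sym_sub_right hf, hxw, hf.symm x w', hw'x, sub_self, mul_zero, zero_div, zero_smul, sub_zero,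
        show 2 * f x (x - x') / f (x - x') (x - x') = 1 by
          rw [div_eq_one_iff_eq hd2, sym_sub_left hf, sym_sub_right hf, sym_sub_right hf, hf.symm x' x, hx'x']
          ring, one_smul, sub_sub_cancel]
    have hkw : (k : Matrix ι ι F) *ᵥ w = w' := by
      rw [hkE, show 2 * f w (w - w') / f (w - w') (w - w') = 1 by
          rw [div_eq_one_iff_eq hd1, sym_sub_left hf, sym_sub_right hf, sym_sub_right hf, hf.symm w' w, hw'w']
          ring, one_smul, sub_sub_cancel, sym_sub_right hf, hf.symm w' x', hx'w', hw'x, sub_zero, mul_zero, zero_div,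
        zero_smul, sub_zero]
    have h1 := hh.conj (hM hk)
    rw [conj_functional hf hki, hkx, hkw] at h1
    have h5 := Has.comm hh h1 (by rw [ov_dot, hf.symm, hw'x])
    rw [ov_dot] at h5
    show Has M x (b m • ov hf w')
    convert h5 using 2
    rw [hb, hx', hf.bilinear.add_left, hf.bilinear.smul_left, hf.bilinear.smul_left, hxw, mul_zero, zero_add, hs]
    ring
  have hAtop : A = ⊤ := by
    classical
    by_contra hne
    obtain ⟨S, hS⟩ : ∃ S : Finset F, S = Finset.univ.filter fun r => r ∈ A := ⟨_, rfl⟩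
    have hb0 : ∀ m : F, m ≠ 0 → b m ≠ 0 := fun m hm => by
      rw [hb]; exact mul_ne_zero (div_ne_zero (mul_ne_zero (mul_ne_zero h2 hm) hxx) (hκ m)) hvw0
    have hfib : ∀ r ∈ (Finset.univ.erase (0 : F)).image b, ((Finset.univ.erase (0 : F)).filter fun m => b m = r).card ≤ 2 := by
      intro r hr
      obtain ⟨m₁, hm₁, rfl⟩ := Finset.mem_image.1 hr
      refine (Finset.card_le_card (t := {m₁, f x x / (f v v * m₁)}) fun m hm => ?_).trans Finset.card_le_two
      rw [Finset.mem_insert, Finset.mem_singleton]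
      have hm1 := Finset.ne_of_mem_erase hm₁
      have hm0 := Finset.ne_of_mem_erase (Finset.mem_filter.1 hm).1
      have e := (Finset.mem_filter.1 hm).2
      simp only [hb] at e
      have e1 := mul_right_cancel₀ hvw0 e
      rw [div_eq_div_iff (hκ m) (hκ m₁)] at e1
      have e2 : (m - m₁) * (f x x - f v v * m₁ * m) = 0 := by
        have e3 : (2 * f x x) * ((m - m₁) * (f x x - f v v * m₁ * m)) = 0 := by linear_combination e1
        exact (mul_eq_zero.1 e3).resolve_left (mul_ne_zero h2 hxx)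
      rcases mul_eq_zero.1 e2 with h | h
      · exact Or.inl (sub_eq_zero.1 h)
      · refine Or.inr ?_
        have hvv : f v v ≠ 0 := hA v hvx (fun e => hvw0 (by rw [e, sym_zero_left hf]))
        rw [eq_div_iff (mul_ne_zero hvv hm1)]
        linear_combination -h
    have h1 := Finset.card_le_mul_card_image (s := Finset.univ.erase (0 : F)) (f := b) 2 hfib
    have h5 : ((Finset.univ.erase (0 : F)).image b).card + 1 ≤ S.card := by
      rw [← Finset.card_insert_of_notMem (a := (0 : F)) (fun hm => by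
        obtain ⟨m, hm, e⟩ := Finset.mem_image.1 hm
        exact hb0 m (Finset.ne_of_mem_erase hm) e)]
      refine Finset.card_le_card fun r hr => ?_
      rw [hS, Finset.mem_filter]
      refine ⟨Finset.mem_univ _, ?_⟩
      rcases Finset.mem_insert.1 hr with rfl | hr
      · exact A.zero_mem
      · obtain ⟨m, hm, rfl⟩ := Finset.mem_image.1 hr
        exact hbA m (Finset.ne_of_mem_erase hm)
    have hScard : S.card = Nat.card A := by
      rw [Nat.card_eq_fintype_card, hS, ← Fintype.card_subtype]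
    have h6 := AddSubgroup.card_mul_index A
    have hi1 : A.index ≠ 1 := fun e => hne (AddSubgroup.index_eq_one.1 e)
    have hodd : Odd (Fintype.card F) := by
      rcases Nat.even_or_odd (Fintype.card F) with he | ho
      · exfalso
        have h8 : ringChar F = 2 := FiniteField.even_card_iff_char_two.2 (Nat.even_iff.1 he)
        haveI : CharP F 2 := h8 ▸ ringChar.charP F
        exact h2 (CharTwo.two_eq_zero)
      · exact ho
    have hi3 : 3 ≤ A.index := by
      have h9 : A.index ≠ 0 := AddSubgroup.FiniteIndex.index_ne_zero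
      have h10 : A.index ≠ 2 := fun e => by
        rw [e, Nat.card_eq_fintype_card (α := F)] at h6
        rw [Nat.odd_iff] at hodd
        omega
      omega
    rw [Nat.card_eq_fintype_card (α := F)] at h6
    rw [Finset.card_erase_of_mem (Finset.mem_univ _), Finset.card_univ] at h1
    have h11 : 3 * Nat.card A ≤ Fintype.card F := by
      rw [← h6, mul_comm]
      exact Nat.mul_le_mul_left _ hi3
    have := Fintype.one_lt_card (α := F)
    omega
  -- two independent axes at the centre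
  have hw'A : ∀ r : F, Has M x (r • ov hf w') := fun r => by
    have : r ∈ A := hAtop ▸ AddSubgroup.mem_top r
    exact this
  let S : Submodule F (ι → F) := (axes M x).comap (ov hf)
  have hw'S : w' ∈ S := hw'A
  obtain ⟨k₁, hk₁, hk₁i, hk₁E⟩ := exists_refl_pair hf h2 hd1 hxx
  have hk₁x : (k₁ : Matrix ι ι F) *ᵥ x = (-1 : F) • x := by
    have e : x - (2 * f x x / f x x) • x = (-1 : F) • x := by rw [mul_div_assoc, div_self hxx, mul_one]; module
    rw [hk₁E, e, hf.bilinear.smul_left, sym_sub_right hf, hxw, hf.symm x w', hw'x]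
    simp
  have hwS : w ∈ S := by
    show ov hf w ∈ axes M x
    have h3' := axes_conj hw'S (hM hk₁)
    rw [conj_functional hf hk₁i, hk₁x] at h3'
    have h4 := axes_smul h3' (-1)
    rw [smul_smul, neg_one_mul, neg_neg, one_smul] at h4
    convert h4 using 2
    rw [hk₁E, hw'x, mul_zero, zero_div, zero_smul, sub_zero,
      show 2 * f w' (w - w') / f (w - w') (w - w') = -1 by
        rw [div_eq_iff hd1, sym_sub_left hf, sym_sub_right hf, sym_sub_right hf, hf.symm w' w, hw'w']
        ring, neg_one_smul, sub_neg_eq_add, add_sub_cancel]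
  have hzS : z ∈ S := by
    have h4 := S.sub_mem hw'S (S.smul_mem (σ - 1) hwS)
    rw [hw', add_sub_cancel_left] at h4
    exact (S.smul_mem_iff hσ0).1 h4
  have hfull : FullC M x := by
    intro φ hφ
    obtain ⟨t, rfl⟩ := ov_surjective hf φ
    rw [ov_dot] at hφ
    obtain ⟨t', ht'⟩ : ∃ t', t' = t - (f t w / f w w) • w - (f t z / f z z) • z := ⟨_, rfl⟩
    have ht'0 : t' = 0 := by
      by_contra hne
      have h1 : f t' x = 0 := by
        rw [ht', sym_sub_left hf, sym_sub_left hf, hf.bilinear.smul_left, hf.bilinear.smul_left, hwx, hzx,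
          hf.symm t x, hφ]
        ring
      have h4 : f t' w = 0 := by
        rw [ht', sym_sub_left hf, sym_sub_left hf, hf.bilinear.smul_left, hf.bilinear.smul_left, hzw,
          div_mul_cancel₀ _ hww]
        ring
      have h5 : f t' z = 0 := by
        rw [ht', sym_sub_left hf, sym_sub_left hf, hf.bilinear.smul_left, hf.bilinear.smul_left, hwz,
          div_mul_cancel₀ _ hzz]
        ring
      have hindep : LinearIndependent F ![x, w, z, t'] := by
        rw [Fintype.linearIndependent_iff]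
        intro g hg
        simp only [Fin.sum_univ_four, Matrix.cons_val_zero, Matrix.cons_val_one, Matrix.cons_val_two,
          Matrix.cons_val_three, Matrix.head_cons, Matrix.tail_cons] at hg
        have e1 := congrArg (fun v => f v x) hg
        have e2 := congrArg (fun v => f v w) hg
        have e3 := congrArg (fun v => f v z) hg
        simp only [hf.bilinear.add_left, hf.bilinear.smul_left, sym_zero_left hf, hxw, hwx, hxz, hzx, hwz, hzw, h1, h4,
          h5, mul_zero, add_zero, zero_add, mul_eq_zero, hxx, hww, hzz, or_false] at e1 e2 e3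
        rw [e1, e2, e3] at hg
        have e4 : g 3 = 0 := by simpa [hne] using hg
        intro i
        fin_cases i <;> assumption
      have := hindep.fintype_card_le_finrank
      rw [Fintype.card_fin, Module.finrank_fintype_fun_eq_card] at this
      omega
    have htS : t ∈ S := by
      have : t = (f t w / f w w) • w + (f t z / f z z) • z := by
        rw [ht', sub_sub, sub_eq_zero] at ht'0
        exact ht'0
      rw [this]
      exact S.add_mem (S.smul_mem _ hwS) (S.smul_mem _ hzS)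
    exact has_of_axes htS
  exact fullSub_top_of_full hf h2 hM hn hxx hfull

end Growth

omit hf h2 hM in
/-- orthogonal similarity groups are maximal in dimension at least three -/
theorem quad_similarity_maximal_small {n : ℕ} (hn : 3 ≤ n) (hodd : Odd (Fintype.card F)) {Q : (Fin n → F) → F}
    (hQ : IsNondegenerateQuadraticForm Q) :
    IsMaximalIn (specialLinear (Fin n) F) (quadSimilarityGroup Q ⊓ specialLinear (Fin n) F) := by
  have h2 : (2 : F) ≠ 0 := Ring.two_ne_zero fun h => by
    have := FiniteField.even_card_iff_char_two.1 h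
    rw [Nat.odd_iff] at hodd
    omega
  have hself : ∀ v, QuadraticMap.polar Q v v = 2 * Q v := fun v => by
    rw [QuadraticMap.polar, ← two_smul F v, hQ.smul]
    ring
  have hf : IsSymmetricForm (QuadraticMap.polar Q) :=
    ⟨hQ.polar_bilinear, QuadraticMap.polar_comm Q, hQ.nondegenerate⟩
  have heq : quadSimilarityGroup Q = similarityGroup (QuadraticMap.polar Q) := by
    refine le_antisymm quadSimilarity_le_polar ?_
    rintro g ⟨c, hc⟩
    refine ⟨c, fun v => mul_left_cancel₀ h2 ?_⟩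
    rw [← hself, hc, hself, mul_left_comm]
  rw [heq]
  refine ⟨lt_SL_of_not_le (not_le_similarityGroup hn
    hf.bilinear.add_left hf.bilinear.smul_left hf.nondegenerate), fun M hHM hMSL => ?_⟩
  have hn' : 3 ≤ Fintype.card (Fin n) := by rw [Fintype.card_fin]; exact hn
  by_cases hT : ∀ x φ : Fin n → F, Has M x φ → x = 0 ∨ φ = 0
  · exact Or.inl (le_antisymm (le_inf (fun g hg => sim_of_no_transvection hf h2 hHM hT hn' hg) hMSL) hHM)
  · push Not at hT
    obtain ⟨x, φ, hh, hx, hφ⟩ := hT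
    exact Or.inr (eq_SL_of_fullSub hMSL (fullSub_top_of_transvection hf h2 hHM hn' hx hφ hh))

end CfsgLib.Perm.Trans.SmallOrth
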