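import Cfsg.Agent.Lib.Perm.Trans.SubfSL

/-!
# Subfield subgroups of special linear groups are maximal in dimension at least three

If the rational root groups are tight, the conjugates of a rational transvection with irrational centre lie in distinct
cosets of the rational special linear group; there are too many of them.
-/

set_option autoImplicit false
set_option linter.all false

namespace CfsgLib.Perm.Trans.SmallSubf

open scoped Matrix
open Matrix Cfsg.Geo CfsgLib.Perm.Asch CfsgLib.Perm.Trans CfsgLib.Perm.Trans.Subf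

variable {ι : Type} [Fintype ι] [DecidableEq ι] {F : Type*} [Field F] [Fintype F]
variable {F₀ : Subfield F} {P : GL ι F}

/-- the rational special linear group -/
def ratSL (F₀ : Subfield F) (P : GL ι F) : Subgroup (GL ι F) where
  carrier := {g | g ∈ specialLinear ι F ∧ ∀ a, ∃ b, (g : Matrix ι ι F) *ᵥ em F₀ P a = em F₀ P b}
  one_mem' := ⟨one_mem _, fun a => ⟨a, by rw [Units.val_one, one_mulVec]⟩⟩
  mul_mem' := fun {g h} hg hh => ⟨mul_mem hg.1 hh.1, fun a => by
    obtain ⟨b, hb⟩ := hh.2 a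
    obtain ⟨c, hc⟩ := hg.2 b
    exact ⟨c, by rw [gl_mul_mulVec, hb, hc]⟩⟩
  inv_mem' := fun {g} hg => ⟨inv_mem hg.1, fun a => by
    haveI : Finite (ι → F₀) := inferInstance
    choose p hp using hg.2
    have hinj : Function.Injective p := fun x y h => by
      have h1 : (g : Matrix ι ι F) *ᵥ em F₀ P x = (g : Matrix ι ι F) *ᵥ em F₀ P y := by rw [hp, hp, h]
      have h2 := congrArg (fun v => ((g⁻¹ : GL ι F) : Matrix ι ι F) *ᵥ v) h1
      simp only [gl_inv_mulVec] at h2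
      exact em_injective F₀ P h2
    obtain ⟨b, hb⟩ := (Finite.injective_iff_surjective.1 hinj) a
    exact ⟨b, by rw [← hb, ← hp, gl_inv_mulVec]⟩⟩

theorem ratSL_le : ratSL F₀ P ≤ subfieldSubgroup F₀ P ⊓ specialLinear ι F := fun g hg =>
  ⟨mem_subfieldSubgroup_of_image F₀ P one_ne_zero fun i => by
    obtain ⟨b, hb⟩ := hg.2 (Pi.single i 1)
    exact ⟨b, by rw [one_smul, hb]⟩, hg.1⟩

/-- the scalar of an element of the subfield group of determinant one is a root of a power in the subfield -/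
theorem scalar_pow_mem {g : GL ι F} (hg : g ∈ specialLinear ι F) {c : F}
    (h : ∀ a, ∃ b, (g : Matrix ι ι F) *ᵥ em F₀ P a = c • em F₀ P b) : c ^ Fintype.card ι ∈ F₀ := by
  choose b hb using h
  obtain ⟨B, hB⟩ : ∃ B : Matrix ι ι F₀, B = Matrix.of fun i k => b (Pi.single k 1) i := ⟨_, rfl⟩
  have hmat : (g : Matrix ι ι F) * (P : Matrix ι ι F) = c • ((P : Matrix ι ι F) * B.map (F₀.subtype : F₀ →+* F)) := by
    refine Matrix.ext_of_mulVec_single fun k => ?_
    rw [← mulVec_mulVec, Matrix.smul_mulVec, ← mulVec_mulVec, ← em_single_eq', hb, Subf.em]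
    congr 2
    funext i
    simp [hB]
  have hdet := congrArg Matrix.det hmat
  rw [det_mul, det_smul, det_mul, show (g : Matrix ι ι F).det = 1 from congrArg Units.val hg, one_mul,
    ← RingHom.mapMatrix_apply, ← RingHom.map_det] at hdet
  have hP : (P : Matrix ι ι F).det ≠ 0 := (Matrix.GeneralLinearGroup.det P).ne_zero
  have h1 : c ^ Fintype.card ι * ((B.det : F₀) : F) = 1 := mul_right_cancel₀ hP (by
    rw [one_mul]; exact (mul_assoc _ _ _).trans (by rw [mul_comm ((B.det : F₀) : F)]; exact hdet.symm))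
  rw [eq_inv_of_mul_eq_one_left h1]
  exact F₀.inv_mem B.det.2
where
  em_single_eq' {i : ι} : em F₀ P (Pi.single i 1) = (P : Matrix ι ι F) *ᵥ Pi.single i 1 := by
    rw [Subf.em]
    congr 1
    funext j
    rcases eq_or_ne j i with rfl | hji
    · simp
    · simp [hji]

variable {M : Subgroup (GL ι F)} (hHM : subfieldSubgroup F₀ P ⊓ specialLinear ι F ≤ M)
variable (hn : 3 ≤ Fintype.card ι) (hT : SlTight F₀ P M)
include hHM hn hT

/-- a transvection with irrational centre is nonzero at the rational vectors -/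
theorem axis_ne_zero {v ψ : ι → F} (hψ : ψ ≠ 0) (hv : Has M v ψ) (hirr : ∀ (t : F) d, v ≠ t • em F₀ P d)
    {a : ι → F₀} (ha : a ≠ 0) : ψ ⬝ᵥ em F₀ P a ≠ 0 := by
  intro h0
  obtain ⟨χ, hχ, -⟩ := exists_dual (⊥ : Submodule F₀ (ι → F₀)) (x := a) (fun hm => ha ((Submodule.mem_bot F₀).1 hm))
  by_cases hex : ∃ φ : ι → F₀, φ ⬝ᵥ a = 0 ∧ emD F₀ P φ ⬝ᵥ v ≠ 0
  · obtain ⟨φ, hφ, hne⟩ := hex
    have h1 := Has.comm (sl_rat_one hHM hφ) hv h0
    obtain ⟨ξ, hξ⟩ := fun_rational hHM hn hT ha h1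
    have hξ0 : ξ ≠ 0 := fun e => smul_ne_zero hne hψ (by rw [hξ, e]; simp [emD, ← Pi.zero_def])
    have h2 : Has M ((emD F₀ P φ ⬝ᵥ v)⁻¹ • v) (emD F₀ P ξ) := by
      rw [has_smul_iff, ← hξ, smul_smul, inv_mul_cancel₀ hne, one_smul]
      exact hv
    obtain ⟨b, hb⟩ := centre_rational_of_fun hHM hn hT hξ0 h2
    exact hirr (emD F₀ P φ ⬝ᵥ v) b (by rw [← hb, smul_smul, mul_inv_cancel₀ hne, one_smul])
  push Not at hex
  refine hirr (emD F₀ P χ ⬝ᵥ v) a ?_
  obtain ⟨b, hb⟩ := eq_em F₀ P (v := v - (emD F₀ P χ ⬝ᵥ v) • em F₀ P a) fun η => by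
    have h1 := hex (η - (η ⬝ᵥ a) • χ) (by rw [sub_dotProduct, smul_dotProduct, hχ, smul_eq_mul, mul_one, sub_self])
    have h3 := emD_add F₀ P (η - (η ⬝ᵥ a) • χ) ((η ⬝ᵥ a) • χ)
    rw [sub_add_cancel, emD_smul] at h3
    have : emD F₀ P η ⬝ᵥ v = ((η ⬝ᵥ a : F₀) : F) * (emD F₀ P χ ⬝ᵥ v) := by
      rw [h3, add_dotProduct, h1, zero_add, smul_dotProduct, smul_eq_mul]
    rw [dotProduct_sub, dotProduct_smul, emD_em, this, smul_eq_mul, mul_comm, sub_self]
    exact F₀.zero_mem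
  have hzero : ∀ η : ι → F₀, η ⬝ᵥ b = 0 := fun η => Subtype.ext (by
    have h1 := hex (η - (η ⬝ᵥ a) • χ) (by rw [sub_dotProduct, smul_dotProduct, hχ, smul_eq_mul, mul_one, sub_self])
    have h3 := emD_add F₀ P (η - (η ⬝ᵥ a) • χ) ((η ⬝ᵥ a) • χ)
    rw [sub_add_cancel, emD_smul] at h3
    rw [← emD_em F₀ P, ← hb, dotProduct_sub, dotProduct_smul, emD_em, h3, add_dotProduct, h1, zero_add,
      smul_dotProduct, smul_eq_mul, smul_eq_mul, mul_comm, sub_self]
    rfl)
  have hb0 : b = 0 := funext fun i => by simpa using hzero (Pi.single i 1)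
  rwa [hb0, em_zero, sub_eq_zero] at hb

/-- transvections with irrational centres differ modulo the rational special linear group -/
theorem coset_inj {v ψ v' ψ' : ι → F} (hψ : ψ ≠ 0) (hψ' : ψ' ≠ 0) (hv : Has M v ψ) (hv' : Has M v' ψ')
    (hirr : ∀ (t : F) d, v ≠ t • em F₀ P d) (hirr' : ∀ (t : F) d, v' ≠ t • em F₀ P d) {x : GL ι F}
    (hx : x ∈ ratSL F₀ P)
    (he : ∀ w, (x : Matrix ι ι F) *ᵥ w + (ψ ⬝ᵥ ((x : Matrix ι ι F) *ᵥ w)) • v = w + (ψ' ⬝ᵥ w) • v') : x = 1 := by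
  have hxw : ∀ w, (x : Matrix ι ι F) *ᵥ w - w = (ψ' ⬝ᵥ w) • v' - (ψ ⬝ᵥ ((x : Matrix ι ι F) *ᵥ w)) • v := fun w => by
    rw [sub_eq_sub_iff_add_eq_add, he, add_comm]
  choose p hp using hx.2
  obtain ⟨a, ha, hfix⟩ : ∃ a, a ≠ 0 ∧ p a = a := by
    by_contra hcon
    push Not at hcon
    have hp_sub : ∀ a b, p (a - b) = p a - p b := fun a b => em_injective F₀ P (by
      rw [← hp, em_sub, mulVec_sub, hp, hp, em_sub])
    have hinj : Function.Injective fun a => p a - a := fun a b hab => by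
      by_contra hne
      refine hcon (a - b) (sub_ne_zero.2 hne) ?_
      have h2 : p a - a = p b - b := hab
      rw [hp_sub]
      exact sub_eq_sub_iff_sub_eq_sub.1 h2
    have hall : (⊤ : Submodule F (ι → F)) ≤ Submodule.span F ({v, v'} : Set (ι → F)) := by
      intro w _
      obtain ⟨co, rfl⟩ := exists_coords F₀ P w
      refine Submodule.sum_mem _ fun i _ => Submodule.smul_mem _ _ ?_
      obtain ⟨b, hb⟩ := (Finite.injective_iff_surjective.1 hinj) (Pi.single i 1)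
      rw [← hb, em_sub, ← hp, hxw]
      exact Submodule.sub_mem _ (Submodule.smul_mem _ _ (Submodule.subset_span (by simp)))
        (Submodule.smul_mem _ _ (Submodule.subset_span (by simp)))
    have h2 := Submodule.finrank_mono hall
    rw [finrank_top, Module.finrank_fintype_fun_eq_card] at h2
    have h3 : Module.finrank F (Submodule.span F ({v, v'} : Set (ι → F))) ≤ 2 := by
      classical
      refine (finrank_span_le_card _).trans ?_
      rw [Set.toFinset_insert, Set.toFinset_singleton]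
      exact Finset.card_le_two
    omega
  have h1 := he (em F₀ P a)
  rw [hp, hfix, add_right_inj] at h1
  have hA := axis_ne_zero hHM hn hT hψ' hv' hirr' ha
  obtain ⟨k, hk⟩ : ∃ k, v' = k • v := ⟨(ψ ⬝ᵥ em F₀ P a) / (ψ' ⬝ᵥ em F₀ P a), by
    rw [div_eq_inv_mul, mul_smul, h1, smul_smul, inv_mul_cancel₀ hA, one_smul]⟩
  by_contra hne
  obtain ⟨i, hi⟩ : ∃ i, p (Pi.single i 1) ≠ Pi.single i 1 := by
    by_contra hcon
    push Not at hcon
    refine hne (gl_ext_vec fun w => ?_)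
    obtain ⟨co, rfl⟩ := exists_coords F₀ P w
    rw [Units.val_one, one_mulVec, mulVec_sum]
    exact Finset.sum_congr rfl fun i _ => by rw [mulVec_smul, hp, hcon]
  obtain ⟨μ, hμ⟩ : ∃ μ, em F₀ P (p (Pi.single i 1) - Pi.single i 1) = μ • v :=
    ⟨(ψ' ⬝ᵥ em F₀ P (Pi.single i 1)) * k - ψ ⬝ᵥ ((x : Matrix ι ι F) *ᵥ em F₀ P (Pi.single i 1)), by
      rw [em_sub, ← hp, hxw, hk, sub_smul, smul_smul]⟩
  have hμ0 : μ ≠ 0 := fun h0 => em_ne_zero F₀ P (sub_ne_zero.2 hi) (by rw [hμ, h0, zero_smul])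
  exact hirr μ⁻¹ (p (Pi.single i 1) - Pi.single i 1) (by rw [hμ, smul_smul, inv_mul_cancel₀ hμ0, one_smul])

theorem sl_tight_le_small : M ⊓ specialLinear ι F ≤ subfieldSubgroup F₀ P := by
  classical
  intro g₀ hg₀
  by_contra hg₀H
  obtain ⟨j, k, hjk⟩ := Fintype.exists_pair_of_one_lt_card (α := ι) (by omega)
  obtain ⟨a, ha⟩ : ∃ a : ι → F₀, a = Pi.single j 1 := ⟨_, rfl⟩
  obtain ⟨φ, hφ⟩ : ∃ φ : ι → F₀, φ = Pi.single k 1 := ⟨_, rfl⟩
  have hφa : φ ⬝ᵥ a = 0 := by rw [ha, hφ, single_dotProduct, one_mul, Pi.single_eq_of_ne (Ne.symm hjk)]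
  have hφk : φ ⬝ᵥ Pi.single k 1 = 1 := by rw [hφ, single_dotProduct, one_mul, Pi.single_eq_same]
  have ha0 : a ≠ 0 := by rw [ha]; simp
  obtain ⟨horth, hsM⟩ := sl_rat_one hHM hφa
  obtain ⟨s, hs⟩ : ∃ s, s = tv (em F₀ P a) (emD F₀ P φ) horth := ⟨_, rfl⟩
  -- centraliser elements fix the rational point
  have hfix : ∀ y : GL ι F, y * s = s * y → ∃ l : F, (y : Matrix ι ι F) *ᵥ em F₀ P a = l • em F₀ P a := by
    intro y hy
    refine ⟨emD F₀ P φ ⬝ᵥ ((y : Matrix ι ι F) *ᵥ em F₀ P (Pi.single k 1)), ?_⟩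
    have h1 := congrArg (fun z : GL ι F => (z : Matrix ι ι F) *ᵥ em F₀ P (Pi.single k 1)) hy
    simp only [gl_mul_mulVec, hs, tv_mulVec, emD_em, hφk, mulVec_add] at h1
    push_cast at h1
    rw [one_smul, add_right_inj] at h1
    exact h1
  have hMH : ∀ g ∈ M, ∀ (t : F) (d : ι → F₀), (g : Matrix ι ι F) *ᵥ em F₀ P a = t • em F₀ P d →
      g ∈ subfieldSubgroup F₀ P := fun g hg t d h => mem_of_point hHM hn hT hg ha0 h
  -- the data of a conjugate
  have hconj : ∀ g ∈ M, ∀ w, ((g * s * g⁻¹ : GL ι F) : Matrix ι ι F) *ᵥ w =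
      w + ((emD F₀ P φ ᵥ* ((g⁻¹ : GL ι F) : Matrix ι ι F)) ⬝ᵥ w) • ((g : Matrix ι ι F) *ᵥ em F₀ P a) := fun g hg w => by
    rw [gl_mul_mulVec, gl_mul_mulVec, hs, tv_mulVec, mulVec_add, gl_mulVec_inv, mulVec_smul, ← dotProduct_mulVec]
  have hne : ∀ g : GL ι F, emD F₀ P φ ᵥ* ((g⁻¹ : GL ι F) : Matrix ι ι F) ≠ 0 := fun g h0 =>
    emD_ne_zero F₀ P (show φ ≠ 0 by rw [hφ]; simp) (by
      have := congrArg (fun v => v ᵥ* (g : Matrix ι ι F)) h0
      simpa [vecMul_vecMul] using this)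
  have hhas : ∀ g ∈ M, Has M ((g : Matrix ι ι F) *ᵥ em F₀ P a) (emD F₀ P φ ᵥ* ((g⁻¹ : GL ι F) : Matrix ι ι F)) :=
    fun g hg => (sl_rat_one hHM hφa).conj hg
  let S := M ⊓ specialLinear ι F
  let H₀ := ratSL F₀ P
  have hH₀S : H₀ ≤ S := fun x hx => ⟨hHM (ratSL_le hx), hx.1⟩
  let Cs : Set (GL ι F) := {y | y ∈ S ∧ y * s = s * y}
  let D : Set (GL ι F) := {g | g ∈ S ∧ g ∉ subfieldSubgroup F₀ P}
  let C₀ : Set (GL ι F) := {y | y ∈ H₀ ∧ y * s = s * y}
  have hsS : s ∈ S := hs ▸ ⟨hsM, tv_mem_SL _ _ _⟩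
  -- the conjugates lie in distinct cosets
  have h1 : Nat.card D * Nat.card H₀ ≤ Nat.card S * Nat.card Cs := by
    have hex : ∀ t : GL ι F, ∃ g, (∃ g', g' ∈ D ∧ g' * s * g'⁻¹ = t) → g ∈ D ∧ g * s * g⁻¹ = t := fun t => by
      by_cases h : ∃ g', g' ∈ D ∧ g' * s * g'⁻¹ = t
      · exact ⟨h.choose, fun _ => h.choose_spec⟩
      · exact ⟨1, fun h' => absurd h' h⟩
    choose rep hrep using hex
    rw [← Nat.card_prod, ← Nat.card_prod]
    have hrepD : ∀ g : D, rep (g.1 * s * g.1⁻¹) ∈ D ∧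
        rep (g.1 * s * g.1⁻¹) * s * (rep (g.1 * s * g.1⁻¹))⁻¹ = g.1 * s * g.1⁻¹ :=
      fun g => hrep _ ⟨g.1, g.2, rfl⟩
    refine Nat.card_le_card_of_injective
      (fun gx : D × H₀ => ((⟨gx.1.1 * s * gx.1.1⁻¹ * gx.2.1,
          S.mul_mem (S.mul_mem (S.mul_mem gx.1.2.1 hsS) (S.inv_mem gx.1.2.1)) (hH₀S gx.2.2)⟩ : S),
        (⟨(rep (gx.1.1 * s * gx.1.1⁻¹))⁻¹ * gx.1.1,
          S.mul_mem (S.inv_mem (hrepD gx.1).1.1) gx.1.2.1, by
          have h := (hrepD gx.1).2
          rw [mul_inv_eq_iff_eq_mul] at h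
          rw [mul_assoc, inv_mul_eq_iff_eq_mul, ← mul_assoc, ← mul_assoc, h]
          group⟩ : Cs))) ?_
    rintro ⟨⟨g, hg⟩, x, hx⟩ ⟨⟨g', hg'⟩, x', hx'⟩ he
    simp only [Prod.mk.injEq, Subtype.mk.injEq] at he
    obtain ⟨he1, he2⟩ := he
    have hxx : x * x'⁻¹ ∈ H₀ := H₀.mul_mem hx (H₀.inv_mem hx')
    have hone : x * x'⁻¹ = 1 := by
      refine coset_inj hHM hn hT (hne g) (hne g') (hhas g hg.1.1) (hhas g' hg'.1.1)
        (fun t d h => hg.2 (hMH g hg.1.1 t d h)) (fun t d h => hg'.2 (hMH g' hg'.1.1 t d h)) hxx fun w => ?_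
      rw [← hconj g hg.1.1, ← hconj g' hg'.1.1, ← gl_mul_mulVec]
      congr 2
      rw [← mul_assoc, he1, mul_inv_cancel_right]
    have hxeq : x = x' := mul_inv_eq_one.1 hone
    subst hxeq
    have ht := mul_right_cancel he1
    rw [ht] at he2
    exact Prod.ext (Subtype.ext (mul_left_cancel he2)) rfl
  have h2 : Nat.card S ≤ 2 * Nat.card D := by
    have hinj : Function.Injective (fun y : S => if h : y.1 ∈ subfieldSubgroup F₀ P
        then ((⟨g₀ * y.1, S.mul_mem hg₀ y.2, fun hm => hg₀H (by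
          simpa using Subgroup.mul_mem _ hm (Subgroup.inv_mem _ h))⟩ : D), true)
        else ((⟨y.1, y.2, h⟩ : D), false)) := by
      intro y y' he
      dsimp only at he
      split_ifs at he with h h'
      · simp only [Prod.mk.injEq, Subtype.mk.injEq, and_true] at he
        exact Subtype.ext (mul_left_cancel he)
      · simp at he
      · simp at he
      · simp only [Prod.mk.injEq, Subtype.mk.injEq, and_true] at he
        exact Subtype.ext he
    have := Nat.card_le_card_of_injective _ hinj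
    rwa [Nat.card_prod, Nat.card_eq_fintype_card (α := Bool), Fintype.card_bool, mul_comm] at this
  have h3 : Nat.card Cs ≤ Fintype.card ι * Nat.card C₀ := by
    haveI : Fintype F₀ := Fintype.ofFinite _
    have hsc : ∀ y : Cs, ∃ c : F, c ≠ 0 ∧ ∀ b, ∃ b', (y.1 : Matrix ι ι F) *ᵥ em F₀ P b = c • em F₀ P b' := fun y => by
      obtain ⟨l, hl⟩ := hfix y.1 y.2.2
      obtain ⟨c, hc⟩ := subfield_image F₀ P (hMH y.1 y.2.1.1 l a hl)
      refine ⟨c, fun h0 => ?_, hc⟩
      obtain ⟨b, hb⟩ := hc a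
      exact em_ne_zero F₀ P ha0 (gl_mulVec_eq_zero.1 (by rw [hb, h0, zero_smul]))
    choose c hc0 hc using hsc
    obtain ⟨R, hR⟩ : ∃ R : Finset F, R = (Polynomial.nthRoots (Fintype.card ι) (1 : F)).toFinset := ⟨_, rfl⟩
    have hRcard : R.card ≤ Fintype.card ι := by
      rw [hR]; exact (Multiset.toFinset_card_le _).trans (Polynomial.card_nthRoots _ _)
    have hκ : ∀ y : Cs, c y ^ (Fintype.card F₀ - 1) ∈ R := fun y => by
      rw [hR, Multiset.mem_toFinset, Polynomial.mem_nthRoots (by omega), ← pow_mul, mul_comm, pow_mul]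
      obtain ⟨z, hz⟩ : ∃ z : F₀, (z : F) = c y ^ Fintype.card ι := ⟨⟨_, scalar_pow_mem y.2.1.2 (hc y)⟩, rfl⟩
      have hz0 : z ≠ 0 := fun h => pow_ne_zero _ (hc0 y) (by rw [← hz, h]; rfl)
      rw [← hz, ← SubmonoidClass.coe_pow, FiniteField.pow_card_sub_one_eq_one z hz0]
      rfl
    have hex : ∀ r : R, ∃ y₀ : GL ι F, ∀ y : Cs, c y ^ (Fintype.card F₀ - 1) = r.1 → y₀⁻¹ * y.1 ∈ C₀ := fun r => by
      by_cases h : ∃ y : Cs, c y ^ (Fintype.card F₀ - 1) = r.1
      swap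
      · exact ⟨1, fun y hy => absurd ⟨y, hy⟩ h⟩
      obtain ⟨y₁, hy₁⟩ := h
      refine ⟨y₁.1, fun y hy => ⟨⟨(specialLinear ι F).mul_mem ((specialLinear ι F).inv_mem y₁.2.1.2) y.2.1.2,
        fun b => ?_⟩, ?_⟩⟩
      · choose p hp using hc y₁
        have hinj : Function.Injective p := fun u u' h => by
          have e : (y₁.1 : Matrix ι ι F) *ᵥ em F₀ P u = (y₁.1 : Matrix ι ι F) *ᵥ em F₀ P u' := by rw [hp, hp, h]
          have e2 := congrArg (fun v => ((y₁.1⁻¹ : GL ι F) : Matrix ι ι F) *ᵥ v) e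
          simp only [gl_inv_mulVec] at e2
          exact em_injective F₀ P e2
        obtain ⟨b₁, hb₁⟩ := hc y b
        obtain ⟨d, hd⟩ : ∃ d : F₀, (d : F) = c y / c y₁ := by
          refine ⟨⟨_, ?_⟩, rfl⟩
          refine mem_of_pow_eq ?_
          rw [div_pow, hy, hy₁, div_self]
          rw [← hy₁]
          exact pow_ne_zero _ (hc0 y₁)
        obtain ⟨b₂, hb₂⟩ := (Finite.injective_iff_surjective.1 hinj) b₁
        refine ⟨d • b₂, ?_⟩
        rw [gl_mul_mulVec, hb₁, mulVec_smul, ← hb₂, em_smul, hd]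
        have e := congrArg (fun v => ((y₁.1⁻¹ : GL ι F) : Matrix ι ι F) *ᵥ v) (hp b₂)
        simp only [gl_inv_mulVec, mulVec_smul] at e
        rw [div_eq_mul_inv, mul_smul]
        congr 1
        conv_rhs => rw [e, smul_smul, inv_mul_cancel₀ (hc0 y₁), one_smul]
      · show y₁.1⁻¹ * y.1 * s = s * (y₁.1⁻¹ * y.1)
        rw [mul_assoc, y.2.2, ← mul_assoc, ← mul_assoc, inv_mul_eq_iff_eq_mul.2
          (show s = y₁.1 * (s * y₁.1⁻¹) by rw [← mul_assoc, y₁.2.2, mul_inv_cancel_right])]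
    choose y₀ hy₀ using hex
    have := Nat.card_le_card_of_injective
      (fun y : Cs => ((⟨_, hκ y⟩ : R), (⟨(y₀ ⟨_, hκ y⟩)⁻¹ * y.1, hy₀ ⟨_, hκ y⟩ y rfl⟩ : C₀)))
      (fun y y' he => by
        simp only [Prod.mk.injEq, Subtype.mk.injEq] at he
        obtain ⟨e1, e2⟩ := he
        have e3 : (⟨_, hκ y⟩ : R) = ⟨_, hκ y'⟩ := Subtype.ext e1
        rw [e3] at e2
        exact Subtype.ext (mul_left_cancel e2))
    rw [Nat.card_prod, Nat.card_eq_fintype_card (α := R), Fintype.card_coe] at this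
    exact this.trans (Nat.mul_le_mul_right _ hRcard)
  have h4 : (2 ^ Fintype.card ι - 1) * Nat.card C₀ ≤ Nat.card H₀ := by
    let V : Set (ι → Bool) := {b | b ≠ fun _ => false}
    obtain ⟨vec, hvec⟩ : ∃ vec : (ι → Bool) → ι → F₀, vec = fun b i => if b i then 1 else 0 := ⟨_, rfl⟩
    have hvec0 : ∀ b : V, vec b.1 ≠ 0 := fun b h => b.2 (funext fun i => by
      have := congrFun h i
      rw [hvec] at this
      by_contra hb
      simp only [Bool.not_eq_false] at hb
      simp [hb] at this)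
    have hmove : ∀ b : V, ∃ g ∈ H₀, (g : Matrix ι ι F) *ᵥ em F₀ P a = em F₀ P (vec b.1) := by
      intro b
      by_cases hm : vec b.1 ∈ Submodule.span F₀ ({a} : Set (ι → F₀))
      · refine ⟨1, one_mem _, ?_⟩
        obtain ⟨t, ht⟩ := Submodule.mem_span_singleton.1 hm
        obtain ⟨i, hi⟩ := Function.ne_iff.1 (hvec0 b)
        have hi1 : vec b.1 i = 1 := by
          rw [hvec] at hi ⊢
          by_cases hb : b.1 i <;> simp_all
        have hij : i = j := by
          by_contra hij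
          rw [← ht, ha] at hi
          simp [Pi.single_eq_of_ne hij] at hi
        rw [← ht, ha, hij] at hi1
        simp at hi1
        rw [Units.val_one, one_mulVec, ← ht, hi1, one_smul]
      · obtain ⟨ξ, hξa, hξ⟩ := exists_dual _ (show a ∉ Submodule.span F₀ ({vec b.1 - a} : Set (ι → F₀)) from
          fun h => by
            obtain ⟨t, ht⟩ := Submodule.mem_span_singleton.1 h
            rcases eq_or_ne t 0 with rfl | ht0
            · exact ha0 (by rw [← ht, zero_smul])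
            · refine hm (Submodule.mem_span_singleton.2 ⟨1 + t⁻¹, ?_⟩)
              conv_lhs => rw [add_smul, one_smul]
              nth_rewrite 2 [← ht]
              rw [smul_smul, inv_mul_cancel₀ ht0, one_smul, add_sub_cancel])
        have h0 : ξ ⬝ᵥ (vec b.1 - a) = 0 := hξ _ (Submodule.mem_span_singleton_self _)
        have h0' : emD F₀ P ξ ⬝ᵥ em F₀ P (vec b.1 - a) = 0 := emD_orth F₀ P h0
        refine ⟨tv _ _ h0', ⟨tv_mem_SL _ _ _, fun x => ⟨x + (ξ ⬝ᵥ x) • (vec b.1 - a), ?_⟩⟩, ?_⟩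
        · rw [tv_mulVec, emD_em, em_add, em_smul]
        · rw [tv_mulVec, emD_em, hξa]
          push_cast
          rw [one_smul, ← em_add, add_sub_cancel]
    choose gp hgp hgpa using hmove
    have hVcard : Nat.card V = 2 ^ Fintype.card ι - 1 := by
      rw [Nat.card_eq_fintype_card]
      have : Fintype.card V = Fintype.card {b : ι → Bool // ¬ b = fun _ => false} :=
        Fintype.card_congr (Equiv.refl _)
      rw [this, Fintype.card_subtype_compl, Fintype.card_fun, Fintype.card_bool, Fintype.card_subtype_eq]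
    rw [← hVcard, ← Nat.card_prod]
    refine Nat.card_le_card_of_injective
      (fun by' : V × C₀ => (⟨gp by'.1 * by'.2.1, H₀.mul_mem (hgp by'.1) by'.2.2.1⟩ : H₀)) ?_
    rintro ⟨b, y, hy⟩ ⟨b', y', hy'⟩ he
    have he' : gp b * y = gp b' * y' := congrArg Subtype.val he
    have hlam : ∀ z ∈ C₀, ∃ l : F, l ≠ 0 ∧ (z : Matrix ι ι F) *ᵥ em F₀ P a = l • em F₀ P a := fun z hz => by
      obtain ⟨l, hl⟩ := hfix z hz.2
      exact ⟨l, fun h => em_ne_zero F₀ P ha0 (gl_mulVec_eq_zero.1 (by rw [hl, h, zero_smul])), hl⟩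
    obtain ⟨l, hl0, hl⟩ := hlam y hy
    obtain ⟨l', hl0', hl'⟩ := hlam y' hy'
    have h5 := congrArg (fun z : GL ι F => (z : Matrix ι ι F) *ᵥ em F₀ P a) he'
    simp only [gl_mul_mulVec, hl, hl', mulVec_smul, hgpa] at h5
    have hbb : b = b' := by
      refine Subtype.ext (funext fun i => ?_)
      have h6 := congrArg (fun v => emD F₀ P (Pi.single i 1) ⬝ᵥ v) h5
      simp only [dotProduct_smul, emD_em, single_dotProduct, one_mul, hvec, smul_eq_mul] at h6
      cases hb : b.1 i <;> cases hb' : b'.1 i <;> simp [hb, hb', hl0, hl0', Ne.symm hl0'] at h6 ⊢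
    subst hbb
    exact Prod.ext rfl (Subtype.ext (mul_left_cancel he'))
  have hDpos : 0 < Nat.card D := Nat.card_pos_iff.2 ⟨⟨⟨g₀, hg₀, hg₀H⟩⟩, inferInstance⟩
  have hCpos : 0 < Nat.card C₀ := Nat.card_pos_iff.2 ⟨⟨⟨1, one_mem H₀, by simp⟩⟩, inferInstance⟩
  have h5 : Nat.card H₀ ≤ 2 * (Fintype.card ι * Nat.card C₀) := by
    refine Nat.le_of_mul_le_mul_left (h1.trans ((Nat.mul_le_mul h2 h3).trans ?_)) hDpos
    exact le_of_eq (by ring)
  have h6 : 2 ^ Fintype.card ι - 1 ≤ 2 * Fintype.card ι :=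
    Nat.le_of_mul_le_mul_right ((h4.trans h5).trans (le_of_eq (by ring))) hCpos
  have h7 : ∀ m, 3 ≤ m → 2 * m + 2 ≤ 2 ^ m := by
    intro m hm
    induction m, hm using Nat.le_induction with
    | base => norm_num
    | succ m hm ih => rw [pow_succ]; omega
  have := h7 _ hn
  omega
where
  mem_of_pow_eq {z : F} [Fintype F₀] (h : z ^ (Fintype.card F₀ - 1) = 1) : z ∈ F₀ := by
    classical
    have h1 : ∀ w : F, w ^ Fintype.card F₀ = w → w ∈ F₀ := by
      intro w hw
      by_contra hwF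
      have hq := Fintype.one_lt_card (α := F₀)
      let p : Polynomial F := Polynomial.X ^ Fintype.card F₀ - Polynomial.X
      have hp0 : p ≠ 0 := FiniteField.X_pow_card_sub_X_ne_zero F hq
      have hsub : insert w (Finset.univ.image fun x : F₀ => (x : F)) ⊆ p.roots.toFinset := by
        intro x hx
        rw [Multiset.mem_toFinset, Polynomial.mem_roots hp0]
        simp only [p, Polynomial.IsRoot, Polynomial.eval_sub, Polynomial.eval_pow, Polynomial.eval_X, sub_eq_zero]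
        rcases Finset.mem_insert.1 hx with rfl | hx
        · exact hw
        · obtain ⟨y, -, rfl⟩ := Finset.mem_image.1 hx
          rw [← SubmonoidClass.coe_pow, FiniteField.pow_card]
      have h2 := (Finset.card_le_card hsub).trans ((Multiset.toFinset_card_le _).trans (Polynomial.card_roots' p))
      rw [Finset.card_insert_of_notMem (fun hm => by
          obtain ⟨y, -, hy⟩ := Finset.mem_image.1 hm
          exact hwF (hy ▸ y.2)), Finset.card_image_of_injective _ Subtype.val_injective, Finset.card_univ,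
        FiniteField.X_pow_card_sub_X_natDegree_eq F hq] at h2
      omega
    refine h1 z ?_
    conv_lhs => rw [show Fintype.card F₀ = Fintype.card F₀ - 1 + 1 by have := Fintype.one_lt_card (α := F₀); omega]
    rw [pow_succ, h, one_mul]

omit hHM hn hT in
/-- subfield subgroups of special linear groups are maximal in dimension at least three -/
theorem sl_subfield_maximal_small {n r : ℕ} (hn : 3 ≤ n) {F₀ : Subfield F} {P : GL (Fin n) F} (hr : r.Prime)
    (hcard : Fintype.card F = Nat.card F₀ ^ r) :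
    IsMaximalIn (specialLinear (Fin n) F) (subfieldSubgroup F₀ P ⊓ specialLinear (Fin n) F) := by
  obtain ⟨e⟩ : Nonempty (Fin 2 ↪ Fin n) := Function.Embedding.nonempty_of_card_le (by
    rw [Fintype.card_fin, Fintype.card_fin]; omega)
  have hne : (Pi.single (e 1) (1 : F₀) : Fin n → F₀) ⬝ᵥ Pi.single (e 0) 1 = 0 := by
    rw [single_dotProduct, one_mul, Pi.single_eq_of_ne (fun h => absurd (e.injective h) (by decide))]
  refine ⟨lt_SL_of_not_le fun hle => ?_, fun M hHM hM => ?_⟩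
  · obtain ⟨γ, hγ⟩ : ∃ γ : F, γ ∉ F₀ := by
      by_contra hcon
      push Not at hcon
      have h1 : Nat.card F ≤ Nat.card F₀ := Nat.card_le_card_of_injective (fun x => (⟨x, hcon x⟩ : F₀))
        fun p q h => congrArg Subtype.val h
      rw [Nat.card_eq_fintype_card, hcard] at h1
      exact absurd h1 (not_le.2 (lt_self_pow₀ Finite.one_lt_card hr.one_lt))
    obtain ⟨u, hu⟩ : ∃ u, u = em F₀ P (Pi.single (e 0) 1) := ⟨_, rfl⟩
    obtain ⟨Φ, hΦ⟩ : ∃ Φ, Φ = γ • emD F₀ P (Pi.single (e 1) 1) := ⟨_, rfl⟩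
    have h0 : Φ ⬝ᵥ u = 0 := by rw [hΦ, hu, smul_dotProduct, emD_orth F₀ P hne, smul_zero]
    obtain ⟨c, hc⟩ := subfield_image F₀ P (hle (tv_mem_SL u Φ h0))
    obtain ⟨b, hb⟩ := hc (Pi.single (e 1) 1)
    rw [tv_mulVec, hΦ, hu, smul_dotProduct, emD_one F₀ P (by rw [single_dotProduct, one_mul, Pi.single_eq_same]),
      smul_eq_mul, mul_one] at hb
    have h1 := congrArg (fun v => emD F₀ P (Pi.single (e 1) 1) ⬝ᵥ v) hb
    have h2 := congrArg (fun v => emD F₀ P (Pi.single (e 0) 1) ⬝ᵥ v) hb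
    simp only [dotProduct_add, dotProduct_smul, emD_em, single_dotProduct, one_mul, Pi.single_eq_same, smul_eq_mul,
      Pi.single_eq_of_ne (show e 1 ≠ e 0 from fun h => absurd (e.injective h) (by decide)),
      Pi.single_eq_of_ne (show e 0 ≠ e 1 from fun h => absurd (e.injective h) (by decide))] at h1 h2
    push_cast at h1 h2
    simp only [mul_zero, add_zero, zero_add, mul_one] at h1 h2
    have hcF : c ∈ F₀ := by
      rw [eq_inv_of_mul_eq_one_left h1.symm]
      exact F₀.inv_mem (Subtype.coe_prop _)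
    exact hγ (h2 ▸ F₀.mul_mem hcF (Subtype.coe_prop _))
  by_cases hMH : M ≤ subfieldSubgroup F₀ P
  · exact Or.inl (le_antisymm (le_inf hMH hM) hHM)
  refine Or.inr (eq_SL_of_fullSub hM ?_)
  have hn3 : 3 ≤ Fintype.card (Fin n) := by rw [Fintype.card_fin]; omega
  obtain ⟨a, φ, ha, hφ0, hφ, c, hc, hcF⟩ : ∃ a φ : Fin n → F₀, a ≠ 0 ∧ φ ≠ 0 ∧ φ ⬝ᵥ a = 0 ∧
      ∃ c, Has M (em F₀ P a) (c • emD F₀ P φ) ∧ c ∉ F₀ := by
    by_contra hcon
    push Not at hcon
    exact hMH fun g hg => sl_tight_le_small hHM hn3 (fun a φ ha hφ h c hc => hcon a φ ha hφ h c hc) ⟨hg, hM hg⟩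
  have hall := sl_all_of_large hHM hn3 hr hcard ha hφ0 hφ hc hcF
  refine eq_top_iff.2 fun x _ => ?_
  obtain ⟨co, rfl⟩ := exists_coords F₀ P x
  refine Submodule.sum_mem _ fun i _ => Submodule.smul_mem _ _ ?_
  refine fullC_of_axes fun Φ hΦ => ?_
  -- split the functional along the rational ones
  have hdec : Φ = ∑ k, (Φ ⬝ᵥ em F₀ P (Pi.single k 1)) • emD F₀ P (Pi.single k 1) := by
    have key : ∀ x : Fin n → F,
        Φ ⬝ᵥ x = (∑ k, (Φ ⬝ᵥ em F₀ P (Pi.single k 1)) • emD F₀ P (Pi.single k 1)) ⬝ᵥ x := by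
      intro x
      obtain ⟨a, rfl⟩ := exists_coords F₀ P x
      simp only [dotProduct_sum, sum_dotProduct, dotProduct_smul, smul_dotProduct, emD_em, single_dotProduct,
        one_mul, smul_eq_mul]
      refine Finset.sum_congr rfl fun k _ => ?_
      rw [Finset.sum_eq_single k]
      · rw [Pi.single_eq_same]; push_cast; ring
      · intro l _ hl
        rw [Pi.single_eq_of_ne hl]
        push_cast
        ring
      · simp
    funext k
    have := key (Pi.single k 1)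
    rwa [dotProduct_single, dotProduct_single, mul_one, mul_one] at this
  rw [hdec]
  refine Submodule.sum_mem _ fun k _ => ?_
  rcases eq_or_ne k i with rfl | hki
  · rw [hΦ, zero_smul]
    exact zero_mem _
  · refine Submodule.smul_mem _ _ fun c => hall _ _ ?_ c
    rw [single_dotProduct, one_mul, Pi.single_eq_of_ne hki]


end CfsgLib.Perm.Trans.SmallSubf
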