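import Cfsg.Agent.Lib.Perm.Trans.Herm

/-!
# Unitary similarity groups are maximal in the special linear groups of dimension at least three

A transvection outside the unitary group gives, after at most two conjugations by Eichler elements, a transvection group
at an isotropic vector with all multiples of the unitary functional, and then a full centre.
-/

set_option autoImplicit false
set_option linter.all false

namespace CfsgLib.Perm.Trans.SmallUnit

open scoped Matrix
open Matrix Cfsg.Geo CfsgLib.Perm.Asch CfsgLib.Perm.Trans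

variable {ι : Type} [Fintype ι] [DecidableEq ι] {F : Type*} [Field F] [Fintype F]
variable {σ : F ≃+* F} {f : (ι → F) → (ι → F) → F} (hf : IsUnitaryForm σ f)
include hf

theorem hv_neg (a : ι → F) : hv hf (-a) = -hv hf a := funext fun i => herm_neg_right hf _ a

theorem hv_injective : Function.Injective (hv hf) := fun a b hab => eq_of_herm hf fun x => by
  rw [← hv_dot hf, ← hv_dot hf, hab]

theorem hv_not_mem_span {u w : ι → F} (h : w ∉ Submodule.span F {u}) :
    hv hf w ∉ Submodule.span F ({hv hf u} : Set (ι → F)) := fun hm => by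
  obtain ⟨c, hc⟩ := Submodule.mem_span_singleton.1 hm
  refine h (Submodule.mem_span_singleton.2 ⟨σ c, hv_injective hf ?_⟩)
  rw [hv_smul, hf.involutive, hc]

/-- a vector orthogonal to `u` and not to `w` -/
theorem exists_perp_ne {u w : ι → F} (h : w ∉ Submodule.span F {u}) : ∃ x, f x u = 0 ∧ f x w = 1 := by
  obtain ⟨x, hx, hx0⟩ := exists_dual _ (hv_not_mem_span hf h)
  refine ⟨x, ?_, ?_⟩
  · rw [← hv_dot hf u x, dotProduct_comm]
    exact hx0 _ (Submodule.mem_span_singleton_self _)
  · rw [← hv_dot hf w x, dotProduct_comm, hx]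

/-- an Eichler element -/
theorem exists_eichler {u x : ι → F} (hu : f u u = 0) (hxu : f x u = 0) :
    ∃ (κ : F), ∃ g : GL ι F, g ∈ similarityGroup f ⊓ specialLinear ι F ∧
      (∀ y, (g : Matrix ι ι F) *ᵥ y = y + (f y x + κ * f y u) • u - f y u • x) ∧
      ∀ y z, f ((g : Matrix ι ι F) *ᵥ y) ((g : Matrix ι ι F) *ᵥ z) = f y z := by
  obtain ⟨κ, hκ⟩ := exists_trace hf (d := -f x x) (by rw [map_neg, ← hf.herm])
  have hux : f u x = 0 := herm_swap_zero hf hxu
  have h1 : (hv hf x + (κ + f x x) • hv hf u) ⬝ᵥ u = 0 := by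
    rw [add_dotProduct, smul_dotProduct, hv_dot, hv_dot, hux, hu, smul_zero, add_zero]
  have h2 : (-hv hf u) ⬝ᵥ x = 0 := by rw [neg_dotProduct, hv_dot, hxu, neg_zero]
  have hg : ∀ y, ((tv u _ h1 * tv x _ h2 : GL ι F) : Matrix ι ι F) *ᵥ y =
      y + (f y x + κ * f y u) • u - f y u • x := fun y => by
    rw [gl_mul_mulVec, tv_mulVec, tv_mulVec]
    simp only [add_dotProduct, smul_dotProduct, neg_dotProduct, dotProduct_add, dotProduct_smul, hv_dot, hxu,
      smul_eq_mul]
    module
  have hiso : ∀ y z, f (((tv u _ h1 * tv x _ h2 : GL ι F) : Matrix ι ι F) *ᵥ y)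
      (((tv u _ h1 * tv x _ h2 : GL ι F) : Matrix ι ι F) *ᵥ z) = f y z := fun y z => by
    rw [hg, hg]
    simp only [herm_sub_left hf, herm_sub_right hf, hf.add_left, herm_add_right hf, hf.smul_left, herm_smul_right hf,
      hu, hux, hxu, map_add, map_mul, ← hf.herm]
    linear_combination (f y u * f u z) * hκ
  refine ⟨κ, _, ⟨⟨1, fun y z => by rw [hiso, Units.val_one, one_mul]⟩, ?_⟩, hg, hiso⟩
  exact (specialLinear ι F).mul_mem (tv_mem_SL _ _ _) (tv_mem_SL _ _ _)

theorem conj_functional {g : GL ι F} (hg : ∀ y z, f ((g : Matrix ι ι F) *ᵥ y) ((g : Matrix ι ι F) *ᵥ z) = f y z)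
    (w : ι → F) : hv hf w ᵥ* ((g⁻¹ : GL ι F) : Matrix ι ι F) = hv hf ((g : Matrix ι ι F) *ᵥ w) :=
  dot_ext hf fun y => by
    rw [← dotProduct_mulVec, hv_dot, hv_dot]
    conv_rhs => rw [← gl_mulVec_inv g y, hg]

variable {M : Subgroup (GL ι F)} (hS : similarityGroup f ⊓ specialLinear ι F ≤ M)
include hS

omit hS in
theorem exists_smul_eq {a : F} (ha : a ≠ 0) (c : F) : ∃ d, σ d * a = c :=
  ⟨σ (c / a), by rw [hf.involutive, div_mul_cancel₀ _ ha]⟩

/-- an isotropic centre with a non-unitary axis -/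
theorem root_of_centre {u w : ι → F} (hu : f u u = 0) (hwu : w ∉ Submodule.span F {u}) (hw : Has M u (hv hf w))
    (c : F) : Has M u (c • hv hf u) := by
  obtain ⟨x, hxu, hxw⟩ := exists_perp_ne hf hwu
  have hwu0 : f w u = 0 := herm_swap_zero hf (by have := hw.1; rwa [hv_dot] at this)
  have hx' : f (c • x) u = 0 := by rw [hf.smul_left, hxu, mul_zero]
  obtain ⟨κ, g, hg, hgy, hiso⟩ := exists_eichler hf hu hx'
  have h1 := hw.conj (hS hg)
  have hgu : (g : Matrix ι ι F) *ᵥ u = u := by
    rw [hgy, hu, herm_swap_zero hf hx', mul_zero, add_zero, zero_smul, zero_smul, add_zero, sub_zero]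
  have hgw : (g : Matrix ι ι F) *ᵥ w = w + σ c • u := by
    rw [hgy, hwu0, mul_zero, add_zero, zero_smul, sub_zero, herm_smul_right hf, hf.herm w x, hxw, map_one, mul_one]
  rw [hgu, conj_functional hf hiso, hgw, hv_add] at h1
  have h2 := h1.add_right hw.neg
  rwa [add_neg_cancel_comm, hv_smul, hf.involutive] at h2

/-- an isotropic axis with a non-unitary centre -/
theorem root_of_axis {u w : ι → F} (hw0 : f w w = 0) (huw : u ∉ Submodule.span F {w}) (hw : Has M u (hv hf w))
    (c : F) : Has M w (c • hv hf w) := by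
  obtain ⟨x, hxw, hxu⟩ := exists_perp_ne hf huw
  have huw0 : f u w = 0 := by have := hw.1; rwa [hv_dot] at this
  have hx' : f (σ c • x) w = 0 := by rw [hf.smul_left, hxw, mul_zero]
  obtain ⟨κ, g, hg, hgy, hiso⟩ := exists_eichler hf hw0 hx'
  have h1 := hw.conj (hS hg)
  have hgu : (g : Matrix ι ι F) *ᵥ u = u + c • w := by
    rw [hgy, huw0, mul_zero, add_zero, zero_smul, sub_zero, herm_smul_right hf, hf.involutive, hf.herm u x, hxu,
      map_one, mul_one]
  have hgw : (g : Matrix ι ι F) *ᵥ w = w := by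
    rw [hgy, hw0, herm_swap_zero hf hx', mul_zero, add_zero, zero_smul, zero_smul, add_zero, sub_zero]
  rw [hgu, conj_functional hf hiso, hgw] at h1
  have h2 : Has M (-u) (hv hf w) := by
    rw [← neg_one_smul F u, has_smul_iff, neg_one_smul]
    exact hw.neg
  have h3 := h1.add_left h2
  rw [add_neg_cancel_comm] at h3
  exact (has_smul_iff w _).1 h3

omit hS in
/-- an isotropic vector orthogonal to an anisotropic one with a given nonzero product -/
theorem exists_iso_perp (hn : 3 ≤ Fintype.card ι) {u x : ι → F} (hu : f u u ≠ 0) (hx : f x u = 0) (hx0 : x ≠ 0) :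
    ∃ e, f e e = 0 ∧ f e u = 0 ∧ f x e ≠ 0 := by
  have hproj : ∀ e, f e u = 0 → e ≠ 0 → ∃ y ∈ perpOf hf u, f e y ≠ 0 := by
    intro e he he0
    obtain ⟨y, hy⟩ := (hf.nondegenerate e he0).2
    refine ⟨y - (f y u / f u u) • u, ?_, ?_⟩
    · show f _ u = 0
      rw [herm_sub_left hf, hf.smul_left, div_mul_cancel₀ _ hu, sub_self]
    · rw [herm_sub_right hf, herm_smul_right hf, he, mul_zero, sub_zero]
      exact hy
  obtain ⟨e, he, he0, hee⟩ := exists_isotropic hf (W := perpOf hf u) (by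
    have := finrank_perp hf u; omega)
  by_contra hcon
  push Not at hcon
  obtain ⟨y, hy, hey⟩ := hproj e he he0
  obtain ⟨h, hhX, hhh, heh, -⟩ := exists_partner hf he hee hy hey
  have hle := subspace_le_of_pair hf (X := perpOf hf u) (S := perpOf hf x) he hee hhX hhh heh
    (herm_swap_zero hf (hcon e hee he)) (fun z hz hzz _ => herm_swap_zero hf (hcon z hzz hz))
  obtain ⟨y', hy', hxy'⟩ := hproj x hx hx0
  exact hxy' (herm_swap_zero hf (hle hy'))

/-- unitary transvections are present -/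
theorem utv_has (z : ι → F) (hz : f z z = 0) (c : F) (hc : σ c = -c) : Has M z (c • hv hf z) :=
  ⟨utv_orth hf hz c, hS ⟨utv_mem_similarity hf z hz hc _, tv_mem_SL _ _ _⟩⟩

/-- a transvection outside the unitary ones gives a full root group at an isotropic vector -/
theorem exists_root (hn : 3 ≤ Fintype.card ι) {u w : ι → F} (hu0 : u ≠ 0) (hwu : w ∉ Submodule.span F {u})
    (hw : Has M u (hv hf w)) : ∃ z, z ≠ 0 ∧ f z z = 0 ∧ ∀ c : F, Has M z (c • hv hf z) := by
  by_cases hu : f u u = 0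
  · exact ⟨u, hu0, hu, root_of_centre hf hS hu hwu hw⟩
  have huw : f u w = 0 := by have := hw.1; rwa [hv_dot] at this
  have hw0 : w ≠ 0 := fun h => hwu (h ▸ zero_mem _)
  obtain ⟨e, hee, heu, hwe⟩ := exists_iso_perp hf hn hu (herm_swap_zero hf huw) hw0
  obtain ⟨c, hc0, hc⟩ := exists_trace_zero hf
  obtain ⟨h0, hmem⟩ := utv_has hf hS e hee c hc
  have h1 := hw.conj hmem
  have hgu : (tv e (c • hv hf e) h0 : Matrix ι ι F) *ᵥ u = u := by
    rw [tv_mulVec, smul_dotProduct, hv_dot, herm_swap_zero hf heu, smul_zero, zero_smul, add_zero]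
  rw [hgu, conj_functional hf (fun y z => utv_isometry hf e hee hc h0 y z), tv_mulVec, smul_dotProduct, hv_dot,
    smul_eq_mul, hv_add] at h1
  have h2 := h1.add_right hw.neg
  rw [add_neg_cancel_comm] at h2
  have hne : c * f w e ≠ 0 := mul_ne_zero hc0 hwe
  have he0 : e ≠ 0 := fun h => hwe (by rw [h, herm_zero_right hf])
  refine ⟨(c * f w e) • e, smul_ne_zero hne he0, by rw [hf.smul_left, herm_smul_right hf, hee, mul_zero, mul_zero],
    root_of_axis hf hS (by rw [hf.smul_left, herm_smul_right hf, hee, mul_zero, mul_zero]) (fun hm => ?_) h2⟩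
  obtain ⟨a, ha⟩ := Submodule.mem_span_singleton.1 hm
  refine hu ?_
  nth_rewrite 1 [← ha]
  rw [hf.smul_left, hf.smul_left, heu, mul_zero, mul_zero]

/-- a full root group moves to every isotropic vector not orthogonal to it -/
theorem root_move {z h : ι → F} (hz : f z z = 0) (hh : f h h = 0) (hzh : f z h ≠ 0)
    (hroot : ∀ c : F, Has M z (c • hv hf z)) (c : F) : Has M h (c • hv hf h) := by
  obtain ⟨c₀, hc₀, hc₀σ⟩ := exists_trace_zero hf
  have hhz : f h z ≠ 0 := fun e => hzh (herm_swap_zero hf e)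
  obtain ⟨s, hs⟩ : ∃ s, s = c₀ * f z h := ⟨_, rfl⟩
  have hs0 : s ≠ 0 := hs ▸ mul_ne_zero hc₀ hzh
  obtain ⟨c₁, hc₁⟩ : ∃ c₁, c₁ = -1 / (s * f h z) := ⟨_, rfl⟩
  have hc₁σ : σ c₁ = -c₁ := by
    rw [hc₁, hs, map_div₀, map_mul, map_mul, map_neg, map_one, hc₀σ, ← hf.herm, ← hf.herm]
    field_simp
  obtain ⟨h0, hmem⟩ := utv_has hf hS h hh c₀ hc₀σ
  obtain ⟨h0', hmem'⟩ := utv_has hf hS z hz c₁ hc₁σ
  obtain ⟨g, hgdef⟩ : ∃ g, g = tv z (c₁ • hv hf z) h0' * tv h (c₀ • hv hf h) h0 := ⟨_, rfl⟩
  have hgM : g ∈ M := hgdef ▸ M.mul_mem hmem' hmem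
  have hiso : ∀ y x, f ((g : Matrix ι ι F) *ᵥ y) ((g : Matrix ι ι F) *ᵥ x) = f y x := fun y x => by
    rw [hgdef, gl_mul_mulVec, gl_mul_mulVec, utv_isometry hf z hz hc₁σ, utv_isometry hf h hh hc₀σ]
  have hgz : (g : Matrix ι ι F) *ᵥ z = s • h := by
    rw [hgdef, gl_mul_mulVec, tv_mulVec, tv_mulVec]
    simp only [smul_dotProduct, hv_dot, dotProduct_add, dotProduct_smul, hz, smul_eq_mul]
    rw [← hs, hc₁, mul_zero, zero_add, show s * (-1 / (s * f h z) * f h z) = -1 by field_simp]
    module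
  have hd0 : s * σ s ≠ 0 := mul_ne_zero hs0 (by simpa using hs0)
  have h1 := (hroot (c / (s * σ s))).conj hgM
  rw [hgz, smul_vecMul, conj_functional hf hiso, hgz, hv_smul, smul_smul, has_smul_iff, smul_smul] at h1
  have hσs : σ s ≠ 0 := by simpa using hs0
  rwa [show s * (c / (s * σ s) * σ s) = c by field_simp] at h1

/-- a full root group at an isotropic vector gives a full centre -/
theorem exists_full (hn : 3 ≤ Fintype.card ι) {z : ι → F} (hz0 : z ≠ 0) (hz : f z z = 0)
    (hroot : ∀ c : F, Has M z (c • hv hf z)) : ∃ u, u ≠ 0 ∧ FullC M u := by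
  obtain ⟨y, hy⟩ := (hf.nondegenerate z hz0).2
  obtain ⟨h, -, hhh, hzh, hhz⟩ := exists_partner hf (X := ⊤) Submodule.mem_top hz (y := y) Submodule.mem_top hy
  have hrh := root_move hf hS hz hhh (by rw [hzh]; exact one_ne_zero) hroot
  have hall : ∀ e, f e e = 0 → e ≠ 0 → ∀ c : F, Has M e (c • hv hf e) := by
    intro e he he0
    by_cases h1 : f z e = 0
    · by_cases h2 : f h e = 0
      · -- a third vector not orthogonal to `z` and `e`
        obtain ⟨y', hy'⟩ := (hf.nondegenerate e he0).2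
        obtain ⟨k, -, hkk, hek, hke⟩ :=
          exists_partner hf (X := ⊤) Submodule.mem_top he (y := y') Submodule.mem_top hy'
        by_cases hk : f z k = 0
        · by_cases hk' : f h k = 0
          · obtain ⟨c₀, hc₀, hc₀σ⟩ := exists_trace_zero hf
            have hh' : f (e + z) (e + z) = 0 := by
              rw [hf.add_left, herm_add_right hf, herm_add_right hf, he, hz, h1, herm_swap_zero hf h1]; ring
            have hez : f h (e + z) ≠ 0 := by rw [herm_add_right hf, h2, hhz, zero_add]; exact one_ne_zero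
            have hk1 := root_move hf hS hhh hh' hez hrh
            have hk2 := root_move hf hS hh' hkk (by
              rw [hf.add_left, hek, hk, add_zero]; exact one_ne_zero) hk1
            exact root_move hf hS hkk he (by rw [hke]; exact one_ne_zero) hk2
          · exact root_move hf hS hkk he (by rw [hke]; exact one_ne_zero) (root_move hf hS hhh hkk hk' hrh)
        · exact root_move hf hS hkk he (by rw [hke]; exact one_ne_zero) (root_move hf hS hz hkk hk hroot)
      · exact root_move hf hS hhh he h2 hrh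
    · exact root_move hf hS hz he h1 hroot
  obtain ⟨c, hc⟩ := exists_trace_ne_zero hf
  obtain ⟨c₀, hc₀, hc₀σ⟩ := exists_trace_zero hf
  obtain ⟨u, hu⟩ : ∃ u, u = h + c • z := ⟨_, rfl⟩
  have huu : f u u ≠ 0 := by
    rw [hu, hf.add_left, herm_add_right hf, herm_add_right hf, hf.smul_left, hf.smul_left, herm_smul_right hf,
      herm_smul_right hf, hhh, hz, hzh, hhz]
    rw [show 0 + σ c * 1 + (c * 1 + c * (σ c * 0)) = c + σ c by ring]
    exact hc
  let S : Submodule F (ι → F) :=
    { carrier := {x | ∀ r : F, Has M u (r • hv hf x)}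
      add_mem' := fun {a b} ha hb r => by rw [hv_add, smul_add]; exact (ha r).add_right (hb r)
      zero_mem' := fun r => by
        rw [show hv hf (0 : ι → F) = 0 from funext fun i => herm_zero_right hf _, smul_zero]
        exact has_zero_right u
      smul_mem' := fun s a ha r => by rw [hv_smul, smul_smul]; exact ha (r * σ s) }
  -- the conjugated root group at `u`
  obtain ⟨x₀, hx₀⟩ : ∃ x₀, x₀ = h - σ c • z := ⟨_, rfl⟩
  have hx₀S : x₀ ∈ S := by
    intro r
    obtain ⟨h0, hmem⟩ := hroot c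
    have h1 := (hrh r).conj hmem
    have hgh : (tv z (c • hv hf z) h0 : Matrix ι ι F) *ᵥ h = u := by
      rw [tv_mulVec, smul_dotProduct, hv_dot, hhz, smul_eq_mul, mul_one, hu]
    rw [hgh, smul_vecMul] at h1
    convert h1 using 2
    refine dot_ext hf fun y => ?_
    rw [← dotProduct_mulVec, tv_inv_mulVec, smul_dotProduct, hv_dot, hv_dot, hv_dot, hx₀, herm_sub_right hf,
      herm_smul_right hf, hf.involutive, herm_sub_left hf, hf.smul_left, hzh, smul_eq_mul, mul_one]
  have hx₀u : f x₀ u = 0 := by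
    have := (hx₀S 1).1
    rw [one_smul, hv_dot] at this
    exact herm_swap_zero hf this
  have hx₀0 : x₀ ≠ 0 := fun h0 => by
    have h1 : f z x₀ = 0 := by rw [h0, herm_zero_right hf]
    rw [hx₀, herm_sub_right hf, herm_smul_right hf, hzh, hz, mul_zero, sub_zero] at h1
    exact one_ne_zero h1
  have hlink : ∀ x ∈ S, ∀ e, f e e = 0 → f e u = 0 → f x e ≠ 0 → e ∈ S := by
    intro x hx e he heu hxe r
    have he0 : e ≠ 0 := fun h => hxe (by rw [h, herm_zero_right hf])
    have hex : f e x ≠ 0 := fun h => hxe (herm_swap_zero hf h)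
    obtain ⟨h0, hmem⟩ := hall e he he0 (-(r / f e x))
    have h1 := (hx 1).conj hmem
    have hgu : (tv e ((-(r / f e x)) • hv hf e) h0 : Matrix ι ι F) *ᵥ u = u := by
      rw [tv_mulVec, smul_dotProduct, hv_dot, herm_swap_zero hf heu, smul_zero, zero_smul, add_zero]
    have hfun : ((1 : F) • hv hf x) ᵥ* (((tv e ((-(r / f e x)) • hv hf e) h0)⁻¹ : GL ι F) : Matrix ι ι F) =
        (1 : F) • hv hf x + r • hv hf e := dot_ext hf fun y => by
      rw [← dotProduct_mulVec, tv_inv_mulVec, add_dotProduct, smul_dotProduct, smul_dotProduct, smul_dotProduct,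
        smul_dotProduct, hv_dot, hv_dot, hv_dot, herm_sub_left hf, hf.smul_left]
      simp only [smul_eq_mul, one_mul]
      field_simp
      ring
    rw [hgu, hfun] at h1
    have h2 := h1.add_right (hx 1).neg
    rwa [add_neg_cancel_comm] at h2
  refine ⟨u, fun h0 => huu (by rw [h0, herm_zero_left hf]), fun φ hφ => ?_⟩
  obtain ⟨e, hee, heu, hx₀e⟩ := exists_iso_perp hf hn huu hx₀u hx₀0
  have heS := hlink x₀ hx₀S e hee heu hx₀e
  have he0 : e ≠ 0 := fun h => hx₀e (by rw [h, herm_zero_right hf])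
  obtain ⟨k, hkX, hkk, hek, -⟩ := exists_partner hf (X := perpOf hf u) heu hee (y := x₀) hx₀u
    (fun h => hx₀e (herm_swap_zero hf h))
  have hle := subspace_le_of_pair hf (X := perpOf hf u) (S := S) heu hee hkX hkk hek heS
    (fun z' hz' hzz hne => hlink e heS z' hzz hz' hne)
  obtain ⟨x, rfl⟩ := hv_surjective hf φ
  rw [hv_dot] at hφ
  have h1 := hle (show x ∈ perpOf hf u from herm_swap_zero hf hφ) (1 : F)
  rwa [one_smul] at h1

omit hS in
/-- a group moving no transvection group off the form consists of similarities -/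
theorem similarity_of_roots {g : GL ι F} (hn : 2 ≤ Fintype.card ι)
    (h : ∀ u, u ≠ 0 → f u u = 0 → ∃ d, ∀ x,
      f x u = d * f ((g : Matrix ι ι F) *ᵥ x) ((g : Matrix ι ι F) *ᵥ u)) :
    g ∈ similarityGroup f := by
  choose d hd using h
  obtain ⟨e, -, he0, hee⟩ := exists_isotropic hf (W := (⊤ : Submodule F (ι → F))) (by
    rw [finrank_top, Module.finrank_fintype_fun_eq_card]; exact hn)
  obtain ⟨y, hy⟩ := (hf.nondegenerate e he0).2
  obtain ⟨h, -, hhh, heh, hhe⟩ := exists_partner hf (X := ⊤) Submodule.mem_top hee (y := y) Submodule.mem_top hy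
  have hh0 : h ≠ 0 := fun h0 => one_ne_zero (α := F) (by rw [← heh, h0, herm_zero_right hf])
  have key : ∀ (u v : ι → F) (hu : u ≠ 0) (hu' : f u u = 0) (hv : v ≠ 0) (hv' : f v v = 0),
      f u v ≠ 0 → d v hv hv' = σ (d u hu hu') := by
    intro u v hu hu' hv hv' huv
    have h1 := hd v hv hv' u
    have h2 := congrArg σ (hd u hu hu' v)
    rw [map_mul, ← hf.herm, ← hf.herm] at h2
    have hne : f ((g : Matrix ι ι F) *ᵥ u) ((g : Matrix ι ι F) *ᵥ v) ≠ 0 := fun h0 => huv (by rw [h1, h0, mul_zero])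
    exact mul_right_cancel₀ hne (h1.symm.trans h2)
  obtain ⟨c₀, hc₀, hc₀σ⟩ := exists_trace_zero hf
  have hk : f (e + c₀ • h) (e + c₀ • h) = 0 := by
    rw [hf.add_left, herm_add_right hf, herm_add_right hf, hf.smul_left, hf.smul_left, herm_smul_right hf,
      herm_smul_right hf, hee, hhh, heh, hhe, hc₀σ]; ring
  have hek : f e (e + c₀ • h) ≠ 0 := by
    rw [herm_add_right hf, herm_smul_right hf, hee, heh, mul_one, zero_add]; simpa using hc₀
  have hhk : f h (e + c₀ • h) ≠ 0 := by
    rw [herm_add_right hf, herm_smul_right hf, hhh, hhe, mul_zero, add_zero]; exact one_ne_zero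
  have hk0 : e + c₀ • h ≠ 0 := fun h0 => hek (by rw [h0, herm_zero_right hf])
  have heq : d e he0 hee = d h hh0 hhh := by
    have e1 := key e _ he0 hee hk0 hk hek
    have e2 := key h _ hh0 hhh hk0 hk hhk
    rw [e1] at e2
    exact σ.injective e2
  let U : Submodule F (ι → F) :=
    { carrier := {u | ∀ x, f x u = d h hh0 hhh * f ((g : Matrix ι ι F) *ᵥ x) ((g : Matrix ι ι F) *ᵥ u)}
      add_mem' := fun {a b} ha hb x => by
        rw [herm_add_right hf, ha, hb, mulVec_add, herm_add_right hf, mul_add]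
      zero_mem' := fun x => by rw [herm_zero_right hf, mulVec_zero, herm_zero_right hf, mul_zero]
      smul_mem' := fun r a ha x => by rw [herm_smul_right hf, ha, mulVec_smul, herm_smul_right hf]; ring }
  have htop := subspace_le_of_pair hf (X := ⊤) (S := U) Submodule.mem_top hee Submodule.mem_top hhh heh
    (fun x => by rw [hd e he0 hee x, heq])
    (fun z _ hz hne x => by
      have hz0 : z ≠ 0 := fun h0 => hne (by rw [h0, herm_zero_right hf])
      rw [hd z hz0 hz x, key e z he0 hee hz0 hz hne, key e h he0 hee hh0 hhh (by rw [heh]; exact one_ne_zero)])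
  have hd0 : d h hh0 hhh ≠ 0 := fun h0 => one_ne_zero (α := F) (by rw [← heh, hd h hh0 hhh e, h0, zero_mul])
  refine ⟨(Units.mk0 _ hd0)⁻¹, fun x y' => ?_⟩
  rw [htop (Submodule.mem_top : y' ∈ ⊤) x, Units.val_inv_eq_inv_val, Units.val_mk0, ← mul_assoc,
    inv_mul_cancel₀ hd0, one_mul]

omit hf hS in
/-- unitary similarity groups are maximal in dimension at least three -/
theorem unitary_similarity_maximal_small {n : ℕ} {σ : F ≃+* F} {f : (Fin n → F) → (Fin n → F) → F}
    (hf : IsUnitaryForm σ f) (hn : 3 ≤ n) :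
    IsMaximalIn (specialLinear (Fin n) F) (similarityGroup f ⊓ specialLinear (Fin n) F) := by
  classical
  refine ⟨lt_SL_of_not_le (not_le_similarityGroup (by omega) hf.add_left hf.smul_left hf.nondegenerate),
    fun M hHM hMSL => ?_⟩
  by_cases hMf : M ≤ similarityGroup f
  · exact Or.inl (le_antisymm (le_inf hMf hMSL) hHM)
  refine Or.inr (eq_SL_of_fullSub hMSL ?_)
  have hn' : 3 ≤ Fintype.card (Fin n) := by rw [Fintype.card_fin]; exact hn
  obtain ⟨c₀, hc₀, hc₀σ⟩ := exists_trace_zero hf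
  obtain ⟨g, hgM, hg⟩ := SetLike.not_le_iff_exists.1 hMf
  obtain ⟨u, w, hu0, hwu, hw⟩ : ∃ u w, u ≠ 0 ∧ w ∉ Submodule.span F {u} ∧ Has M u (hv hf w) := by
    by_contra hcon
    push Not at hcon
    refine hg (similarity_of_roots hf (by omega) fun u hu0 hu => ?_)
    have h1 := (utv_has hf hHM u hu c₀ hc₀σ).conj hgM
    obtain ⟨w, hw⟩ := hv_surjective hf ((c₀ • hv hf u) ᵥ* ((g⁻¹ : GL (Fin n) F) : Matrix (Fin n) (Fin n) F))
    rw [← hw] at h1
    by_cases hl : w ∈ Submodule.span F {(g : Matrix (Fin n) (Fin n) F) *ᵥ u}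
    · obtain ⟨d, rfl⟩ := Submodule.mem_span_singleton.1 hl
      refine ⟨σ d / c₀, fun x => ?_⟩
      have h2 := congrArg (· ⬝ᵥ ((g : Matrix (Fin n) (Fin n) F) *ᵥ x)) hw
      simp only [hv_dot, herm_smul_right hf, ← dotProduct_mulVec, gl_inv_mulVec, smul_dotProduct, smul_eq_mul] at h2
      rw [div_mul_eq_mul_div, eq_div_iff hc₀, mul_comm, ← h2]
    · exact absurd h1 (hcon _ w (fun h0 => hu0 (gl_mulVec_eq_zero.1 h0)) hl)
  obtain ⟨z, hz0, hz, hroot⟩ := exists_root hf hHM hn' hu0 hwu hw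
  obtain ⟨v, hv0, hv⟩ := exists_full hf hHM hn' hz0 hz hroot
  exact fullSub_eq_top_of_utv hf hn' (utv_has hf hHM) hv0 hv

end CfsgLib.Perm.Trans.SmallUnit
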