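import Cfsg.Agent.Lib.Perm.Trans.SubfLines
import Cfsg.Agent.Lib.Perm.Trans.SL

/-!
# Overgroups of subfield subgroups of special linear groups
-/

set_option autoImplicit false
set_option linter.all false

namespace CfsgLib.Perm.Trans.Subf

open scoped Matrix
open Matrix Cfsg.Geo CfsgLib.Perm.Asch CfsgLib.Perm.Trans

variable {ι : Type} [Fintype ι] [DecidableEq ι] {F : Type*} [Field F]
variable (F₀ : Subfield F) (P : GL ι F)

/-- the rational functionals -/
def emD (φ : ι → F₀) : ι → F := (fun i => (φ i : F)) ᵥ* ((P⁻¹ : GL ι F) : Matrix ι ι F)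

theorem emD_em (φ a : ι → F₀) : emD F₀ P φ ⬝ᵥ em F₀ P a = ((φ ⬝ᵥ a : F₀) : F) := by
  rw [emD, em, ← dotProduct_mulVec, gl_inv_mulVec]
  simp only [dotProduct]
  push_cast
  rfl

theorem emD_add (φ ψ : ι → F₀) : emD F₀ P (φ + ψ) = emD F₀ P φ + emD F₀ P ψ := by
  rw [emD, emD, emD, ← add_vecMul]
  rfl

theorem emD_smul (c : F₀) (φ : ι → F₀) : emD F₀ P (c • φ) = (c : F) • emD F₀ P φ := by
  rw [emD, emD, ← smul_vecMul]
  rfl

theorem emD_orth {φ a : ι → F₀} (h : φ ⬝ᵥ a = 0) : emD F₀ P φ ⬝ᵥ em F₀ P a = 0 := by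
  rw [emD_em, h]; rfl

theorem emD_one {φ a : ι → F₀} (h : φ ⬝ᵥ a = 1) : emD F₀ P φ ⬝ᵥ em F₀ P a = 1 := by
  rw [emD_em, h]; rfl

theorem emD_ne_zero {φ : ι → F₀} (h : φ ≠ 0) : emD F₀ P φ ≠ 0 := fun h0 => h (funext fun i => Subtype.ext (by
  have h1 := congrArg (fun v => v ⬝ᵥ em F₀ P (Pi.single i 1)) h0
  simp only [emD_em, zero_dotProduct, dotProduct_single, mul_one] at h1
  exact h1))

/-- a functional rational on the rational vectors is rational -/
theorem eq_emD {Φ : ι → F} (h : ∀ b : ι → F₀, Φ ⬝ᵥ em F₀ P b ∈ F₀) : ∃ φ : ι → F₀, Φ = emD F₀ P φ := by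
  refine ⟨fun i => ⟨_, h (Pi.single i 1)⟩, ?_⟩
  have key : ∀ x : ι → F, Φ ⬝ᵥ x = emD F₀ P (fun i => ⟨_, h (Pi.single i 1)⟩) ⬝ᵥ x := by
    intro x
    obtain ⟨a, rfl⟩ := exists_coords F₀ P x
    simp only [dotProduct_sum, dotProduct_smul, emD_em, dotProduct_single, mul_one]
  funext i
  have := key (Pi.single i 1)
  rwa [dotProduct_single, dotProduct_single, mul_one, mul_one] at this

/-- a vector rational under the rational functionals is rational -/
theorem eq_em {v : ι → F} (h : ∀ φ : ι → F₀, emD F₀ P φ ⬝ᵥ v ∈ F₀) : ∃ b : ι → F₀, v = em F₀ P b := by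
  refine ⟨fun i => ⟨_, h (Pi.single i 1)⟩, ?_⟩
  conv_lhs => rw [← gl_mulVec_inv P v]
  rw [em]
  congr 1
  funext i
  show _ = emD F₀ P (Pi.single i 1) ⬝ᵥ v
  rw [emD, ← dotProduct_mulVec, show (fun k => (((Pi.single i (1 : F₀) : ι → F₀) k : F₀) : F)) = Pi.single i 1 from
    funext fun k => by rcases eq_or_ne k i with rfl | hk <;> simp [*], single_dotProduct, one_mul]

theorem emD_vecMul_lift (φ : ι → F₀) (g : GL ι F₀) (x : ι → F₀) :
    emD F₀ P φ ⬝ᵥ ((lift F₀ P g : Matrix ι ι F) *ᵥ em F₀ P x) = (((φ ᵥ* (g : Matrix ι ι F₀)) ⬝ᵥ x : F₀) : F) := by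
  rw [lift_em, emD_em, dotProduct_mulVec]

omit F₀ P in
/-- nonzero vectors annihilated by one or two functionals -/
theorem exists_ann {K : Type*} [Field K] (hn : 3 ≤ Fintype.card ι) (a b : ι → K) :
    ∃ φ : ι → K, φ ≠ 0 ∧ φ ⬝ᵥ a = 0 ∧ φ ⬝ᵥ b = 0 := by
  classical
  obtain ⟨x, hx⟩ : ∃ x, x ∉ Submodule.span K ({a, b} : Set (ι → K)) := by
    by_contra hcon
    push Not at hcon
    have h1 : (⊤ : Submodule K (ι → K)) ≤ Submodule.span K ({a, b} : Set (ι → K)) := fun x _ => hcon x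
    have h2 := Submodule.finrank_mono h1
    rw [finrank_top, Module.finrank_fintype_fun_eq_card] at h2
    have h3 : Module.finrank K (Submodule.span K ({a, b} : Set (ι → K))) ≤ 2 := by
      refine (finrank_span_le_card _).trans ?_
      rw [Set.toFinset_insert, Set.toFinset_singleton]
      exact Finset.card_le_two
    omega
  obtain ⟨φ, hφx, hφ⟩ := exists_dual _ hx
  exact ⟨φ, fun h => zero_ne_one ((by rw [h, zero_dotProduct] : φ ⬝ᵥ x = 0).symm.trans hφx),
    hφ a (Submodule.subset_span (by simp)), hφ b (Submodule.subset_span (by simp))⟩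

omit F₀ P in
/-- a vector with value one at one functional and zero at an independent one -/
theorem exists_sep {K : Type*} [Field K] {φ ψ : ι → K} (h : φ ∉ Submodule.span K ({ψ} : Set (ι → K))) :
    ∃ b : ι → K, φ ⬝ᵥ b = 1 ∧ ψ ⬝ᵥ b = 0 := by
  obtain ⟨b, hb, hb0⟩ := exists_dual _ h
  exact ⟨b, by rw [dotProduct_comm]; exact hb,
    by rw [dotProduct_comm]; exact hb0 ψ (Submodule.mem_span_singleton_self ψ)⟩

variable {F₀ P} [Fintype F]
variable {M : Subgroup (GL ι F)} (hHM : subfieldSubgroup F₀ P ⊓ specialLinear ι F ≤ M)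

theorem det_lift' (g : GL ι F₀) :
    (lift F₀ P g : Matrix ι ι F).det = (((g : Matrix ι ι F₀).det : F₀) : F) := by
  show ((P * Matrix.GeneralLinearGroup.map (F₀.subtype : F₀ →+* F) g * P⁻¹ : GL ι F) : Matrix ι ι F).det = _
  rw [Units.val_mul, Units.val_mul, det_units_conj]
  exact ((F₀.subtype : F₀ →+* F).map_det _).symm

include hHM

theorem lift_sl_mem {g : GL ι F₀} (h : (g : Matrix ι ι F₀).det = 1) : lift F₀ P g ∈ M :=
  hHM ⟨lift_mem F₀ P g, Units.ext (by
    show (lift F₀ P g : Matrix ι ι F).det = 1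
    rw [det_lift', h]; rfl)⟩

/-- rational transvections -/
theorem sl_rat {a φ : ι → F₀} (h : φ ⬝ᵥ a = 0) (c : F₀) : Has M (em F₀ P a) ((c : F) • emD F₀ P φ) := by
  have h1 : ((c : F) • emD F₀ P φ) ⬝ᵥ em F₀ P a = 0 := by rw [smul_dotProduct, emD_orth F₀ P h, smul_zero]
  have h2 : (c • φ) ⬝ᵥ a = 0 := by rw [smul_dotProduct, h, smul_zero]
  refine ⟨h1, ?_⟩
  have heq : tv _ _ h1 = lift F₀ P (tv a (c • φ) h2) := ext_em F₀ P fun b => by
    rw [lift_em, tv_mulVec, tv_mulVec, em_add, em_smul, smul_dotProduct, emD_em, smul_dotProduct]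
    push_cast [smul_eq_mul]
    rfl
  rw [heq]
  exact lift_sl_mem hHM (congrArg Units.val (tv_mem_SL a _ h2))

theorem sl_rat_one {a φ : ι → F₀} (h : φ ⬝ᵥ a = 0) : Has M (em F₀ P a) (emD F₀ P φ) := by
  have h1 := sl_rat hHM h 1
  push_cast at h1
  rwa [one_smul] at h1

variable (hn : 3 ≤ Fintype.card ι)
include hn

theorem sl_change_fun {a φ ψ : ι → F₀} (hφ0 : φ ≠ 0) {c : F} (hc : Has M (em F₀ P a) (c • emD F₀ P φ))
    (hφ : φ ⬝ᵥ a = 0) (hψ : ψ ⬝ᵥ a = 0) : Has M (em F₀ P a) (c • emD F₀ P ψ) := by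
  have step : ∀ {φ ψ : ι → F₀}, Has M (em F₀ P a) (c • emD F₀ P φ) → φ ∉ Submodule.span F₀ ({ψ} : Set (ι → F₀)) →
      ψ ⬝ᵥ a = 0 → Has M (em F₀ P a) (c • emD F₀ P ψ) := by
    intro φ ψ hc hind hψ
    obtain ⟨b, hφb, hψb⟩ := exists_sep hind
    have h1 := Has.comm hc (sl_rat_one hHM (a := b) hψb) (emD_orth F₀ P hψ)
    rwa [smul_dotProduct, emD_one F₀ P hφb, smul_eq_mul, mul_one] at h1
  rcases eq_or_ne ψ 0 with rfl | hψ0
  · rw [show emD F₀ P (0 : ι → F₀) = 0 from by simp [emD, ← Pi.zero_def], smul_zero]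
    exact has_zero_right _
  by_cases hind : φ ∈ Submodule.span F₀ ({ψ} : Set (ι → F₀))
  swap
  · exact step hc hind hψ
  -- a third functional
  obtain ⟨z, hφz⟩ : ∃ z, φ ⬝ᵥ z ≠ 0 := by
    by_contra hcon
    push Not at hcon
    exact hφ0 (funext fun i => by simpa using hcon (Pi.single i 1))
  obtain ⟨χ, hχ0, hχa, hχz⟩ := exists_ann hn a z
  obtain ⟨s, rfl⟩ := Submodule.mem_span_singleton.1 hind
  have hne : χ ∉ Submodule.span F₀ ({ψ} : Set (ι → F₀)) := fun hm => by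
    obtain ⟨t, rfl⟩ := Submodule.mem_span_singleton.1 hm
    rw [smul_dotProduct, smul_eq_mul, mul_eq_zero] at hχz
    rcases hχz with h | h
    · exact hχ0 (by rw [h, zero_smul])
    · exact hφz (by rw [smul_dotProduct, h, smul_zero])
  refine step (step hc (fun hm => ?_) hχa) hne hψ
  obtain ⟨t, ht⟩ := Submodule.mem_span_singleton.1 hm
  exact hφz (by rw [← ht, smul_dotProduct, hχz, smul_zero])

theorem sl_change_centre {a b φ : ι → F₀} (ha0 : a ≠ 0) {c : F} (hc : Has M (em F₀ P a) (c • emD F₀ P φ))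
    (hφ : φ ⬝ᵥ a = 0) (hb : φ ⬝ᵥ b = 0) (hind : a ∉ Submodule.span F₀ ({b} : Set (ι → F₀))) :
    Has M (em F₀ P b) (c • emD F₀ P φ) := by
  obtain ⟨ψ, hψa, hψ⟩ := exists_dual _ hind
  have h1 := Has.comm (sl_rat_one hHM (a := b) (hψ b (Submodule.mem_span_singleton_self b))) hc
    (show (c • emD F₀ P φ) ⬝ᵥ em F₀ P b = 0 by rw [smul_dotProduct, emD_orth F₀ P hb, smul_zero])
  rwa [emD_one F₀ P hψa, one_smul] at h1

/-- one large root group gives all of them -/
theorem sl_all_of_large {r : ℕ} (hr : r.Prime) (hcard : Fintype.card F = Nat.card F₀ ^ r) {a φ : ι → F₀} (ha : a ≠ 0)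
    (hφ0 : φ ≠ 0) (hφ : φ ⬝ᵥ a = 0) {c₀ : F} (hc₀ : Has M (em F₀ P a) (c₀ • emD F₀ P φ)) (hc₀F : c₀ ∉ F₀)
    (b ψ : ι → F₀) (hψ : ψ ⬝ᵥ b = 0) (c : F) : Has M (em F₀ P b) (c • emD F₀ P ψ) := by
  let C : Set F := {c | ∀ a φ : ι → F₀, φ ⬝ᵥ a = 0 → Has M (em F₀ P a) (c • emD F₀ P φ)}
  suffices h : ∀ c, c ∈ C from h c b ψ hψ
  refine eq_univ_of_closed hr hcard (fun x hx y hy a φ h => ?_) (fun x hx y hy a φ h => ?_)
    (fun s a φ h => sl_rat hHM h s) (s := c₀) (fun b ψ hψ => ?_) hc₀F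
  · rw [add_smul]
    exact (hx a φ h).add_right (hy a φ h)
  · rcases eq_or_ne φ 0 with rfl | hφ0
    · rw [show emD F₀ P (0 : ι → F₀) = 0 from by simp [emD, ← Pi.zero_def], smul_zero]
      exact has_zero_right _
    rcases eq_or_ne a 0 with rfl | ha0
    · rw [em_zero]
      exact has_zero_left _
    obtain ⟨χ, hχ0, hχa, -⟩ := exists_ann hn a a
    obtain ⟨z, hφz⟩ : ∃ z, φ ⬝ᵥ z ≠ 0 := by
      by_contra hcon
      push Not at hcon
      exact hφ0 (funext fun i => by simpa using hcon (Pi.single i 1))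
    obtain ⟨χ, hχ0, hχa, hχz⟩ := exists_ann hn a z
    have hind : χ ∉ Submodule.span F₀ ({φ} : Set (ι → F₀)) := fun hm => by
      obtain ⟨t, rfl⟩ := Submodule.mem_span_singleton.1 hm
      rw [smul_dotProduct, smul_eq_mul, mul_eq_zero] at hχz
      exact hχz.elim (fun h => hχ0 (by rw [h, zero_smul])) hφz
    obtain ⟨w, hχw, hφw⟩ := exists_sep hind
    have h1 := Has.comm (hx a χ hχa) (hy w φ hφw)
      (show (y • emD F₀ P φ) ⬝ᵥ em F₀ P a = 0 by rw [smul_dotProduct, emD_orth F₀ P h, smul_zero])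
    rwa [smul_dotProduct, emD_one F₀ P hχw, smul_eq_mul, mul_one, smul_smul] at h1
  · rcases eq_or_ne b 0 with rfl | hb0
    · rw [em_zero]
      exact has_zero_left _
    by_cases hind : a ∈ Submodule.span F₀ ({b} : Set (ι → F₀))
    · -- a third centre
      obtain ⟨χ, hχ0, hχa, -⟩ := exists_ann hn a a
      obtain ⟨z, hz⟩ : ∃ z, z ∉ Submodule.span F₀ ({a} : Set (ι → F₀)) ∧ χ ⬝ᵥ z = 0 := by
        by_contra hcon
        push Not at hcon
        obtain ⟨ξ, hξ0, hξa, -⟩ := exists_ann hn a a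
        obtain ⟨u, hu⟩ : ∃ u, χ ⬝ᵥ u = 1 := by
          obtain ⟨u, hu, -⟩ := exists_dual (⊥ : Submodule F₀ (ι → F₀)) (fun hm => hχ0 ((Submodule.mem_bot F₀).1 hm))
          exact ⟨u, by rw [dotProduct_comm]; exact hu⟩
        have hle : (⊤ : Submodule F₀ (ι → F₀)) ≤ Submodule.span F₀ ({a, u} : Set (ι → F₀)) := fun v _ => by
          have h2 : v - (χ ⬝ᵥ v) • u ∈ Submodule.span F₀ ({a} : Set (ι → F₀)) := by
            by_contra hv
            exact hcon _ hv (by rw [dotProduct_sub, dotProduct_smul, hu, smul_eq_mul, mul_one, sub_self])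
          obtain ⟨s, hs⟩ := Submodule.mem_span_singleton.1 h2
          exact Submodule.mem_span_pair.2 ⟨s, χ ⬝ᵥ v, by rw [hs, sub_add_cancel]⟩
        classical
        have h3 := Submodule.finrank_mono hle
        rw [finrank_top, Module.finrank_fintype_fun_eq_card] at h3
        have h4 : Module.finrank F₀ (Submodule.span F₀ ({a, u} : Set (ι → F₀))) ≤ 2 := by
          refine (finrank_span_le_card _).trans ?_
          rw [Set.toFinset_insert, Set.toFinset_singleton]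
          exact Finset.card_le_two
        omega
      have h1 := sl_change_centre hHM hn ha (sl_change_fun hHM hn hφ0 hc₀ hφ hχa) hχa hz.2 (fun hm => hz.1 (by
        obtain ⟨s, hs⟩ := Submodule.mem_span_singleton.1 hm
        have hs0 : s ≠ 0 := fun h => ha (by rw [← hs, h, zero_smul])
        exact Submodule.mem_span_singleton.2 ⟨s⁻¹, by rw [← hs, smul_smul, inv_mul_cancel₀ hs0, one_smul]⟩))
      obtain ⟨ξ, hξ0, hξz, hξb⟩ := exists_ann hn z b
      have h2 := sl_change_centre hHM hn (fun h => hz.1 (by rw [h]; exact zero_mem _))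
        (sl_change_fun hHM hn hχ0 h1 hz.2 hξz) hξz hξb (fun hm => hz.1 (by
        obtain ⟨s, hs⟩ := Submodule.mem_span_singleton.1 hm
        obtain ⟨t, ht⟩ := Submodule.mem_span_singleton.1 hind
        have ht0 : t ≠ 0 := fun h => ha (by rw [← ht, h, zero_smul])
        exact Submodule.mem_span_singleton.2 ⟨s / t, by rw [← ht, smul_smul, div_mul_cancel₀ _ ht0, hs]⟩))
      exact sl_change_fun hHM hn hξ0 h2 hξb hψ
    · obtain ⟨ξ, hξ0, hξa, hξb⟩ := exists_ann hn a b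
      exact sl_change_fun hHM hn hξ0
        (sl_change_centre hHM hn ha (sl_change_fun hHM hn hφ0 hc₀ hφ hξa) hξa hξb hind) hξb hψ

omit hHM hn in
/-- the root groups at rational points are rational -/
def SlTight (F₀ : Subfield F) (P : GL ι F) (M : Subgroup (GL ι F)) : Prop :=
  ∀ a φ : ι → F₀, a ≠ 0 → φ ≠ 0 → φ ⬝ᵥ a = 0 → ∀ c : F, Has M (em F₀ P a) (c • emD F₀ P φ) → c ∈ F₀

variable (hT : SlTight F₀ P M)
include hT

theorem fun_rational {x : ι → F₀} (hx : x ≠ 0) {Φ : ι → F} (h : Has M (em F₀ P x) Φ) :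
    ∃ φ : ι → F₀, Φ = emD F₀ P φ := by
  refine eq_emD F₀ P fun b => ?_
  obtain ⟨χ, hχ0, hχx, hχb⟩ := exists_ann hn x b
  exact hT x χ hx hχ0 hχx _ (Has.comm h (sl_rat_one hHM (a := b) hχb) (emD_orth F₀ P hχx))

theorem centre_rational_of_fun {χ : ι → F₀} (hχ : χ ≠ 0) {v : ι → F} (h : Has M v (emD F₀ P χ)) :
    ∃ b : ι → F₀, v = em F₀ P b := by
  refine eq_em F₀ P fun ψ => ?_
  obtain ⟨b, hb0, hbψ, hbχ⟩ := exists_ann hn ψ χ
  exact hT b χ hb0 hχ (by rw [dotProduct_comm]; exact hbχ) _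
    (Has.comm (sl_rat_one hHM (a := b) (by rw [dotProduct_comm]; exact hbψ)) h
      (emD_orth F₀ P (by rw [dotProduct_comm]; exact hbχ)))

/-- a centre annihilated by a rational functional is rational -/
theorem centre_rational {v Φ : ι → F} (hΦ : Φ ≠ 0) (h : Has M v Φ) {χ : ι → F₀} (hχ : χ ≠ 0)
    (hχv : emD F₀ P χ ⬝ᵥ v = 0) : ∃ (t : F) (d : ι → F₀), v = t • em F₀ P d := by
  by_cases hex : ∃ b, χ ⬝ᵥ b = 0 ∧ Φ ⬝ᵥ em F₀ P b ≠ 0
  · obtain ⟨b, hb, hΦb⟩ := hex
    have h1 := Has.comm h (sl_rat_one hHM (a := b) hb) hχv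
    rw [← has_smul_iff] at h1
    obtain ⟨d, hd⟩ := centre_rational_of_fun hHM hn hT hχ h1
    exact ⟨(Φ ⬝ᵥ em F₀ P b)⁻¹, d, by rw [← hd, smul_smul, inv_mul_cancel₀ hΦb, one_smul]⟩
  push Not at hex
  obtain ⟨u, hu, -⟩ := exists_dual (⊥ : Submodule F₀ (ι → F₀)) (fun hm => hχ ((Submodule.mem_bot F₀).1 hm))
  rw [dotProduct_comm] at hu
  obtain ⟨k, hk⟩ : ∃ k, k = Φ ⬝ᵥ em F₀ P u := ⟨_, rfl⟩
  have hΦeq : Φ = k • emD F₀ P χ := by
    have key : ∀ x : ι → F, Φ ⬝ᵥ x = (k • emD F₀ P χ) ⬝ᵥ x := by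
      intro x
      obtain ⟨a, rfl⟩ := exists_coords F₀ P x
      simp only [dotProduct_sum, dotProduct_smul, smul_dotProduct, emD_em, smul_eq_mul]
      refine Finset.sum_congr rfl fun i _ => ?_
      congr 1
      have h2 := hex (Pi.single i 1 - (χ ⬝ᵥ Pi.single i 1) • u) (by
        rw [dotProduct_sub, dotProduct_smul, hu, smul_eq_mul, mul_one, sub_self])
      rw [em_sub, em_smul, dotProduct_sub, dotProduct_smul, ← hk, sub_eq_zero, smul_eq_mul] at h2
      rw [h2, mul_comm]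
    funext i
    have := key (Pi.single i 1)
    rwa [dotProduct_single, dotProduct_single, mul_one, mul_one] at this
  have hk0 : k ≠ 0 := fun h0 => hΦ (by rw [hΦeq, h0, zero_smul])
  rw [hΦeq, ← has_smul_iff] at h
  obtain ⟨d, hd⟩ := centre_rational_of_fun hHM hn hT hχ h
  exact ⟨k⁻¹, d, by rw [← hd, smul_smul, inv_mul_cancel₀ hk0, one_smul]⟩

/-- an element fixing a rational point is in the subfield group -/
theorem mem_of_point {g : GL ι F} (hg : g ∈ M) {x : ι → F₀} (hx : x ≠ 0) {t : F} {x' : ι → F₀}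
    (hgx : (g : Matrix ι ι F) *ᵥ em F₀ P x = t • em F₀ P x') : g ∈ subfieldSubgroup F₀ P := by
  have ht : t ≠ 0 := fun h0 => em_ne_zero F₀ P hx (gl_mulVec_eq_zero.1 (by rw [hgx, h0, zero_smul]))
  have hx' : x' ≠ 0 := fun h0 => em_ne_zero F₀ P hx (gl_mulVec_eq_zero.1 (by rw [hgx, h0, em_zero, smul_zero]))
  refine mem_subfieldSubgroup_of_lines F₀ P fun a => ?_
  obtain ⟨χ, hχ0, hχx, hχa⟩ := exists_ann hn x a
  have h1 := (sl_rat_one hHM (a := x) hχx).conj hg
  rw [hgx, has_smul_iff] at h1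
  obtain ⟨φ, hφ⟩ := fun_rational hHM hn hT hx' h1
  have hne : emD F₀ P χ ᵥ* ((g⁻¹ : GL ι F) : Matrix ι ι F) ≠ 0 := fun h0 => emD_ne_zero F₀ P hχ0 (by
    have := congrArg (fun v => v ᵥ* (g : Matrix ι ι F)) h0
    simpa [vecMul_vecMul] using this)
  have hφ0 : φ ≠ 0 := fun h0 => hne (by
    rw [h0, show emD F₀ P (0 : ι → F₀) = 0 from by simp [emD, ← Pi.zero_def], smul_eq_zero] at hφ
    exact hφ.resolve_left ht)
  have h2 := (sl_rat_one hHM (a := a) hχa).conj hg
  have heq : emD F₀ P χ ᵥ* ((g⁻¹ : GL ι F) : Matrix ι ι F) = t⁻¹ • emD F₀ P φ := by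
    rw [← hφ, smul_smul, inv_mul_cancel₀ ht, one_smul]
  rw [heq, ← has_smul_iff] at h2
  obtain ⟨d, hd⟩ := centre_rational_of_fun hHM hn hT hφ0 h2
  exact ⟨t, d, by rw [← hd, smul_smul, mul_inv_cancel₀ ht, one_smul]⟩

omit hT hn hHM in
/-- an element with a rational fixed vector and a rational functional killing its fixed space -/
def SlAnchored (F₀ : Subfield F) (P : GL ι F) (z : GL ι F) : Prop :=
  ∃ x χ : ι → F₀, x ≠ 0 ∧ χ ≠ 0 ∧ (z : Matrix ι ι F) *ᵥ em F₀ P x = em F₀ P x ∧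
    ∀ w, (z : Matrix ι ι F) *ᵥ w = w → emD F₀ P χ ⬝ᵥ w = 0

theorem mem_of_conj {g z z' : GL ι F} (hg : g ∈ M) (hz : SlAnchored F₀ P z) (hz' : SlAnchored F₀ P z')
    (hconj : g * z * g⁻¹ = z') : g ∈ subfieldSubgroup F₀ P := by
  obtain ⟨x, -, hx, -, hzx, -⟩ := hz
  obtain ⟨-, χ', -, hχ', -, hfix⟩ := hz'
  have h1 : (z' : Matrix ι ι F) *ᵥ ((g : Matrix ι ι F) *ᵥ em F₀ P x) = (g : Matrix ι ι F) *ᵥ em F₀ P x := by
    rw [← hconj, gl_mul_mulVec, gl_mul_mulVec, gl_inv_mulVec, hzx]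
  obtain ⟨ξ, hξ0, hξx, -⟩ := exists_ann hn x x
  have h2 := (sl_rat_one hHM (a := x) hξx).conj hg
  obtain ⟨t, d, hd⟩ := centre_rational hHM hn hT (fun h0 => emD_ne_zero F₀ P hξ0 (by
    have := congrArg (fun v => v ᵥ* (g : Matrix ι ι F)) h0
    simpa [vecMul_vecMul] using this)) h2 hχ' (hfix _ h1)
  exact mem_of_point hHM hn hT hg hx hd

omit hT hn hHM in
/-- involutions of the subfield group with a large fixed space, or with a rational negated vector, are anchored -/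
theorem sl_anchored' {r : ℕ} (hr : r.Prime) (hcard : Fintype.card F = Nat.card F₀ ^ r) {i : GL ι F}
    (hi : i ∈ subfieldSubgroup F₀ P) (hi2 : i * i = 1) (hi1 : i ≠ 1) {K : Submodule F (ι → F)}
    (hK0 : 0 < Module.finrank F K)
    (hcrit : (2 : F) = 0 ∨ Fintype.card ι < 2 * Module.finrank F K ∨
      ∃ x : ι → F₀, x ≠ 0 ∧ (i : Matrix ι ι F) *ᵥ em F₀ P x = -em F₀ P x)
    (hKi : ∀ w ∈ K, (i : Matrix ι ι F) *ᵥ w = w) :
    SlAnchored F₀ P i := by
  obtain ⟨c, hc⟩ := subfield_image F₀ P hi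
  choose b hb using hc
  have hii : ∀ w, (i : Matrix ι ι F) *ᵥ ((i : Matrix ι ι F) *ᵥ w) = w := fun w => by
    rw [← gl_mul_mulVec, hi2, Units.val_one, one_mulVec]
  obtain ⟨j⟩ : Nonempty ι := by
    by_contra h
    rw [not_nonempty_iff] at h
    exact hi1 (gl_ext_vec fun w => funext fun j => (IsEmpty.false j).elim)
  have hc2 : c * c ∈ F₀ := by
    have h1 := hii (em F₀ P (Pi.single j 1))
    rw [hb, mulVec_smul, hb, smul_smul] at h1
    have h2 := congrArg (fun v => emD F₀ P (Pi.single j 1) ⬝ᵥ v) h1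
    simp only [dotProduct_smul, emD_em, dotProduct_single, Pi.single_eq_same, mul_one, smul_eq_mul] at h2
    push_cast at h2
    rw [eq_inv_of_mul_eq_one_left h2]
    exact F₀.inv_mem (Subtype.coe_prop _)
  have hcF : c ∈ F₀ := by
    by_contra hcF
    have hK : Fintype.card ι < 2 * Module.finrank F K := by
      rcases hcrit with h2 | h | ⟨x, hx, hix⟩
      · exfalso
        haveI : CharP F 2 := CharTwo.of_one_ne_zero_of_two_eq_zero one_ne_zero h2
        haveI : CharP F₀ 2 := CharTwo.of_one_ne_zero_of_two_eq_zero one_ne_zero (Subtype.ext (by push_cast; exact h2))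
        haveI : Fintype F₀ := Fintype.ofFinite _
        obtain ⟨d, hd⟩ := FiniteField.isSquare_of_char_two (F := F₀) (ringChar.eq F₀ 2) ⟨_, hc2⟩
        have hd' : c * c = (d : F) * d := congrArg Subtype.val hd
        exact hcF (by rw [CharTwo.add_eq_zero.1 (show c + (d : F) = 0 from mul_self_eq_zero.1 (by
          linear_combination hd' + ((d : F) * c + (d : F) * d) * h2))]; exact d.2)
      · exact h
      · exfalso
        obtain ⟨k, hk⟩ := Function.ne_iff.1 hx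
        have h4 := congrArg (fun v => emD F₀ P (Pi.single k 1) ⬝ᵥ v) hix
        simp only [hb, dotProduct_smul, dotProduct_neg, emD_em, single_dotProduct, one_mul, smul_eq_mul] at h4
        have hbk : ((b x k : F₀) : F) ≠ 0 := fun e => by
          rw [e, mul_zero, eq_comm, neg_eq_zero] at h4
          exact hk (Subtype.ext h4)
        exact hcF (by
          rw [show c = -((x k : F₀) : F) / ((b x k : F₀) : F) by rw [eq_div_iff hbk, h4]]
          exact F₀.div_mem (F₀.neg_mem (x k).2) (b x k).2)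
    have hall : ∀ y : F, y ∈ {y : F | ∃ a b : F₀, y = (a : F) + (b : F) * c} := eq_univ_of_closed hr hcard
      (fun x ⟨a, b, hx⟩ y ⟨a', b', hy⟩ => ⟨a + a', b + b', by rw [hx, hy]; push_cast; ring⟩)
      (fun x ⟨a, b, hx⟩ y ⟨a', b', hy⟩ => ⟨a * a' + b * b' * ⟨_, hc2⟩, a * b' + b * a', by
        rw [hx, hy]; push_cast; ring⟩)
      (fun a => ⟨a, 0, by push_cast; ring⟩) (s := c) ⟨0, 1, by push_cast; ring⟩ hcF
    have hsplit : ∀ w : ι → F, ∃ u u' : ι → F₀, w = em F₀ P u + c • em F₀ P u' := fun w => by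
      have h := fun k => hall ((((P⁻¹ : GL ι F) : Matrix ι ι F) *ᵥ w) k)
      choose u u' huu using h
      refine ⟨u, u', ?_⟩
      rw [Subf.em, Subf.em, ← mulVec_smul, ← mulVec_add]
      conv_lhs => rw [← gl_mulVec_inv P w]
      exact congrArg _ (funext fun k => by rw [huu k, Pi.add_apply, Pi.smul_apply, smul_eq_mul, mul_comm c])
    choose u u' huu using hsplit
    have hinj : Function.Injective fun w : K => u (w : ι → F) := by
      intro w₁ w₂ h
      have h' : u (w₁ : ι → F) = u (w₂ : ι → F) := h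
      obtain ⟨d, hd⟩ : ∃ d : ι → F₀, (w₁ : ι → F) - w₂ = c • em F₀ P d :=
        ⟨u' w₁ - u' w₂, by
          conv_lhs => rw [huu w₁, huu w₂, h', add_sub_add_left_eq_sub, ← smul_sub, ← em_sub]⟩
      have h2 := hKi _ (K.sub_mem w₁.2 w₂.2)
      rw [hd, mulVec_smul, hb, smul_smul] at h2
      refine Subtype.ext (sub_eq_zero.1 ?_)
      rw [hd]
      have h3 : ∀ φ : ι → F₀, emD F₀ P φ ⬝ᵥ em F₀ P d = 0 := fun φ => by
        have h4 := congrArg (fun v => emD F₀ P φ ⬝ᵥ v) h2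
        simp only [dotProduct_smul, emD_em, smul_eq_mul] at h4
        rw [emD_em]
        by_contra hne
        exact hcF (by
          rw [show c = c * c * ((φ ⬝ᵥ b d : F₀) : F) / ((φ ⬝ᵥ d : F₀) : F) by rw [eq_div_iff hne, h4]]
          exact F₀.div_mem (F₀.mul_mem hc2 (Subtype.coe_prop _)) (Subtype.coe_prop _))
      have hd0 : d = 0 := funext fun k => Subtype.ext (by
        have h5 := h3 (Pi.single k 1)
        rw [emD_em, single_dotProduct, one_mul] at h5
        exact h5)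
      rw [hd0, em_zero, smul_zero]
    have h6 := Nat.card_le_card_of_injective _ hinj
    rw [Module.natCard_eq_pow_finrank (K := F), Nat.card_fun, Nat.card_eq_fintype_card (α := F), hcard,
      Nat.card_eq_fintype_card (α := ι), ← pow_mul] at h6
    have h7 := (Nat.pow_le_pow_iff_right (Finite.one_lt_card : 1 < Nat.card F₀)).1 h6
    have := hr.two_le
    nlinarith
  obtain ⟨p, hp⟩ : ∃ p : (ι → F₀) → (ι → F₀), ∀ a, (i : Matrix ι ι F) *ᵥ em F₀ P a = em F₀ P (p a) :=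
    ⟨fun a => (⟨c, hcF⟩ : F₀) • b a, fun a => by rw [hb, em_smul]⟩
  have hpp : ∀ a, p (p a) = a := fun a => em_injective F₀ P (by rw [← hp, ← hp, hii])
  obtain ⟨k, ψ, hψ⟩ : ∃ (k : ι) (ψ : ι → F₀), ψ ⬝ᵥ (p (Pi.single k 1) - Pi.single k 1) ≠ 0 := by
    by_contra hcon
    push Not at hcon
    refine hi1 (gl_ext_vec fun w => ?_)
    obtain ⟨a, rfl⟩ := exists_coords F₀ P w
    rw [Units.val_one, one_mulVec, mulVec_sum]
    refine Finset.sum_congr rfl fun k _ => ?_
    rw [mulVec_smul, hp, show p (Pi.single k 1) = Pi.single k 1 from sub_eq_zero.1 (funext fun l => by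
      have h := hcon k (Pi.single l 1)
      rwa [single_dotProduct, one_mul] at h)]
  obtain ⟨χ, hχ⟩ : ∃ χ : ι → F₀, χ = fun l => ψ ⬝ᵥ (p (Pi.single l 1) - Pi.single l 1) := ⟨_, rfl⟩
  have hχ0 : χ ≠ 0 := fun h => hψ (by have := congrFun h k; rw [hχ] at this; exact this)
  have hkill : ∀ w, emD F₀ P χ ⬝ᵥ w = emD F₀ P ψ ⬝ᵥ ((i : Matrix ι ι F) *ᵥ w - w) := by
    intro w
    obtain ⟨a, rfl⟩ := exists_coords F₀ P w
    rw [mulVec_sum, ← Finset.sum_sub_distrib, dotProduct_sum, dotProduct_sum]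
    refine Finset.sum_congr rfl fun l _ => ?_
    rw [mulVec_smul, hp, ← smul_sub, ← em_sub, dotProduct_smul, dotProduct_smul, emD_em, emD_em, dotProduct_single,
      mul_one, hχ]
  obtain ⟨a, ha⟩ : ∃ a, p a + a ≠ 0 := by
    by_contra hcon
    push Not at hcon
    have hneg : ∀ w, (i : Matrix ι ι F) *ᵥ w = -w := fun w => by
      obtain ⟨a, rfl⟩ := exists_coords F₀ P w
      rw [mulVec_sum, ← Finset.sum_neg_distrib]
      refine Finset.sum_congr rfl fun l _ => ?_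
      rw [mulVec_smul, hp, eq_neg_of_add_eq_zero_left (hcon _), em_neg, smul_neg]
    obtain ⟨w, hw, hw0⟩ := Submodule.exists_mem_ne_zero_of_ne_bot (p := K) (fun h => by
      rw [h, finrank_bot] at hK0; omega)
    have h1 : w + w = 0 := by
      nth_rewrite 1 [← hKi w hw]
      rw [hneg, neg_add_cancel]
    rw [← two_smul F w, smul_eq_zero] at h1
    have h2 : (2 : F) = 0 := h1.resolve_right hw0
    exact hi1 (gl_ext_vec fun w => by
      rw [hneg, Units.val_one, one_mulVec]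
      funext l
      rw [Pi.neg_apply]
      linear_combination (-w l) * h2)
  exact ⟨p a + a, χ, ha, hχ0, by rw [em_add, mulVec_add, hp, hp, hpp, add_comm],
    fun w hw => by rw [hkill, hw, sub_self, dotProduct_zero]⟩

omit hT hn hHM in
/-- involutions of the subfield group with a large fixed space are anchored -/
theorem sl_anchored {r : ℕ} (hr : r.Prime) (hcard : Fintype.card F = Nat.card F₀ ^ r) {i : GL ι F}
    (hi : i ∈ subfieldSubgroup F₀ P) (hi2 : i * i = 1) (hi1 : i ≠ 1) {K : Submodule F (ι → F)}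
    (hK : Fintype.card ι < 2 * Module.finrank F K) (hKi : ∀ w ∈ K, (i : Matrix ι ι F) *ᵥ w = w) :
    SlAnchored F₀ P i :=
  sl_anchored' hr hcard hi hi2 hi1 (by omega) (Or.inr (Or.inl hK)) hKi

end CfsgLib.Perm.Trans.Subf
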