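import Cfsg.Agent.Lib.Perm.Trans.SympMax

/-!
# Stabilisers of orthogonal decompositions in symplectic groups
-/

set_option autoImplicit false
set_option linter.all false

namespace CfsgLib.Perm.Trans.Symp

open scoped Matrix
open Matrix Cfsg.Geo CfsgLib.Perm.Asch CfsgLib.Perm.Trans

variable {ι : Type} [Fintype ι] [DecidableEq ι] {F : Type*} [Field F]
variable {f : (ι → F) → (ι → F) → F} (hf : IsSymplecticForm f)
include hf

/-! ### Swapping two orthogonal subspaces -/

theorem isNondegenerateOn_pair {e h : ι → F} (heh : f e h = 1) :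
    IsNondegenerateOn f (Submodule.span F {e, h}) := by
  intro w hw hw0
  obtain ⟨a, b, rfl⟩ := Submodule.mem_span_pair.1 hw
  have hhe : f h e = -1 := by rw [hf.skew, heh]
  have h1 : f (a • e + b • h) e = -b := by
    rw [hf.bilinear.add_left, hf.bilinear.smul_left, hf.bilinear.smul_left, hf.alternating, hhe]
    ring
  have h2 : f (a • e + b • h) h = a := by
    rw [hf.bilinear.add_left, hf.bilinear.smul_left, hf.bilinear.smul_left, hf.alternating, heh]
    ring
  have he : e ∈ Submodule.span F ({e, h} : Set (ι → F)) := Submodule.subset_span (by simp)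
  have hh : h ∈ Submodule.span F ({e, h} : Set (ι → F)) := Submodule.subset_span (by simp)
  by_cases hb : b = 0
  · have ha : a ≠ 0 := fun ha => hw0 (by rw [ha, hb, zero_smul, zero_smul, add_zero])
    exact ⟨⟨h, hh, swap_ne hf (by rwa [h2])⟩, ⟨h, hh, by rwa [h2]⟩⟩
  · exact ⟨⟨e, he, swap_ne hf (by rw [h1]; exact neg_ne_zero.2 hb)⟩, ⟨e, he, by rw [h1]; exact neg_ne_zero.2 hb⟩⟩

theorem isNondegenerateOn_sup {A B : Submodule F (ι → F)} (hA : IsNondegenerateOn f A) (hB : IsNondegenerateOn f B)
    (hAB : ∀ a ∈ A, ∀ b ∈ B, f a b = 0) : IsNondegenerateOn f (A ⊔ B) := by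
  intro w hw hw0
  obtain ⟨a, ha, b, hb, rfl⟩ := Submodule.mem_sup.1 hw
  by_cases ha0 : a = 0
  · subst ha0
    rw [zero_add] at hw0 ⊢
    obtain ⟨⟨x, hx, h1⟩, ⟨y, hy, h2⟩⟩ := hB b hb hw0
    exact ⟨⟨x, Submodule.mem_sup_right hx, h1⟩, ⟨y, Submodule.mem_sup_right hy, h2⟩⟩
  · obtain ⟨y, hy, h2⟩ := (hA a ha ha0).2
    have h3 : f (a + b) y ≠ 0 := by
      rw [hf.bilinear.add_left, swap_zero hf (hAB y hy b hb), add_zero]
      exact h2
    exact ⟨⟨y, Submodule.mem_sup_left hy, swap_ne hf h3⟩, ⟨y, Submodule.mem_sup_left hy, h3⟩⟩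

theorem finrank_sub_pair {U : Submodule F (ι → F)} {e h : ι → F} (he : e ∈ U) (hh : h ∈ U) (heh : f e h = 1) :
    Module.finrank F ↥(U ⊓ perp hf (Submodule.span F {e, h})) + 2 = Module.finrank F U := by
  let L : U →ₗ[F] F × F := ((sfun hf e).comp U.subtype).prod ((sfun hf h).comp U.subtype)
  have hhe : f h e = -1 := by rw [hf.skew, heh]
  have hsurj : Function.Surjective L := by
    rintro ⟨a, b⟩
    refine ⟨⟨b • e - a • h, U.sub_mem (U.smul_mem b he) (U.smul_mem a hh)⟩, Prod.ext ?_ ?_⟩
    · show f (b • e - a • h) e = a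
      rw [sub_left hf, hf.bilinear.smul_left, hf.bilinear.smul_left, hf.alternating, hhe]
      ring
    · show f (b • e - a • h) h = b
      rw [sub_left hf, hf.bilinear.smul_left, hf.bilinear.smul_left, hf.alternating, heh]
      ring
  have h1 := LinearMap.finrank_range_add_finrank_ker L
  rw [LinearMap.range_eq_top.2 hsurj, finrank_top, Module.finrank_prod, Module.finrank_self] at h1
  have h2 : (LinearMap.ker L).map U.subtype = U ⊓ perp hf (Submodule.span F {e, h}) := by
    ext x
    constructor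
    · rintro ⟨⟨y, hy⟩, hyL, rfl⟩
      have h3 : f y e = 0 := congrArg Prod.fst (LinearMap.mem_ker.1 hyL)
      have h4 : f y h = 0 := congrArg Prod.snd (LinearMap.mem_ker.1 hyL)
      refine ⟨hy, fun w hw => ?_⟩
      obtain ⟨a, b, rfl⟩ := Submodule.mem_span_pair.1 hw
      show f y (a • e + b • h) = 0
      rw [hf.bilinear.add_right, hf.bilinear.smul_right, hf.bilinear.smul_right, h3, h4, mul_zero, mul_zero, add_zero]
    · rintro ⟨hx, hx'⟩
      exact ⟨⟨x, hx⟩, LinearMap.mem_ker.2 (Prod.ext (hx' e (Submodule.subset_span (by simp)))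
        (hx' h (Submodule.subset_span (by simp)))), rfl⟩
  have h3 := (Submodule.equivMapOfInjective U.subtype U.injective_subtype (LinearMap.ker L)).finrank_eq
  rw [h2] at h3
  omega

theorem isNondegenerateOn_sub_pair {U : Submodule F (ι → F)} (hU : IsNondegenerateOn f U) {e h : ι → F}
    (he : e ∈ U) (hh : h ∈ U) (heh : f e h = 1) :
    IsNondegenerateOn f (U ⊓ perp hf (Submodule.span F {e, h})) := by
  intro w hw hw0
  obtain ⟨x, hx, hxw⟩ := (hU w hw.1 hw0).1
  obtain ⟨p, hp, hxp⟩ := exists_decomp hf (isNondegenerateOn_pair hf heh) x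
  have hpU : p ∈ U := (Submodule.span_le.2 (by simp [Set.insert_subset_iff, he, hh])) hp
  have h1 : f (x - p) w = f x w := by rw [sub_left hf, swap_zero hf (hw.2 p hp), sub_zero]
  exact ⟨⟨_, ⟨U.sub_mem hx hpU, hxp⟩, by rwa [h1]⟩, ⟨_, ⟨U.sub_mem hx hpU, hxp⟩, swap_ne hf (by rwa [h1])⟩⟩

/-- orthogonal nondegenerate subspaces of equal dimension are interchanged by an isometry fixing what is orthogonal
to both -/
theorem exists_swap {U U' : Submodule F (ι → F)} (hU : IsNondegenerateOn f U) (hU' : IsNondegenerateOn f U')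
    (horth : ∀ a ∈ U, ∀ b ∈ U', f a b = 0) (hdim : Module.finrank F U = Module.finrank F U') :
    ∃ g ∈ fixSub hf (U ⊔ U'), ∀ x ∈ U, (g : Matrix ι ι F) *ᵥ x ∈ U' := by
  induction hn : Module.finrank F U using Nat.strong_induction_on generalizing U U' with
  | _ k ih =>
  subst hn
  by_cases hbot : U = ⊥
  · refine ⟨1, one_mem _, fun x hx => ?_⟩
    have hx0 : x = 0 := (Submodule.mem_bot F).1 (hbot ▸ hx)
    rw [hx0, mulVec_zero]
    exact U'.zero_mem
  obtain ⟨e, he, he0⟩ := Submodule.exists_mem_ne_zero_of_ne_bot hbot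
  obtain ⟨y, hy, hey⟩ := (hU e he he0).2
  obtain ⟨h, hh, heh⟩ : ∃ h ∈ U, f e h = 1 :=
    ⟨(f e y)⁻¹ • y, U.smul_mem _ hy, by rw [hf.bilinear.smul_right, inv_mul_cancel₀ hey]⟩
  have hbot' : U' ≠ ⊥ := fun h0 => hbot (Submodule.finrank_eq_zero.1 (by rw [hdim, h0, finrank_bot]))
  obtain ⟨e', he', he'0⟩ := Submodule.exists_mem_ne_zero_of_ne_bot hbot'
  obtain ⟨y', hy', hey'⟩ := (hU' e' he' he'0).2
  obtain ⟨h', hh', heh'⟩ : ∃ h' ∈ U', f e' h' = 1 :=
    ⟨(f e' y')⁻¹ • y', U'.smul_mem _ hy', by rw [hf.bilinear.smul_right, inv_mul_cancel₀ hey']⟩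
  set P := Submodule.span F ({e, h} : Set (ι → F)) with hP
  set P' := Submodule.span F ({e', h'} : Set (ι → F)) with hP'
  have hPU : P ≤ U := Submodule.span_le.2 (by simp [Set.insert_subset_iff, he, hh])
  have hP'U : P' ≤ U' := Submodule.span_le.2 (by simp [Set.insert_subset_iff, he', hh'])
  have h1 : Module.finrank F ↥(U ⊓ perp hf P) + 2 = Module.finrank F U := finrank_sub_pair hf he hh heh
  have h2 : Module.finrank F ↥(U' ⊓ perp hf P') + 2 = Module.finrank F U' := finrank_sub_pair hf he' hh' heh'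
  obtain ⟨g₁, hg₁, hg₁U⟩ := ih _ (show Module.finrank F ↥(U ⊓ perp hf P) < Module.finrank F U by omega)
    (isNondegenerateOn_sub_pair hf hU he hh heh) (isNondegenerateOn_sub_pair hf hU' he' hh' heh')
    (fun a ha b hb => horth a ha.1 b hb.1) (Nat.add_right_cancel (h1.trans (hdim.trans h2.symm))) rfl
  have hnd : IsNondegenerateOn f (P ⊔ P') := isNondegenerateOn_sup hf (isNondegenerateOn_pair hf heh)
    (isNondegenerateOn_pair hf heh') fun a ha b hb => horth a (hPU ha) b (hP'U hb)
  obtain ⟨t, ⟨-, ht⟩, hte, hth⟩ := move_pair hf (M := isoSub f) (W := P ⊔ P') (fun u _ c => stv_iso hf u c) hnd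
    (Submodule.mem_sup_left (Submodule.subset_span (by simp) : e ∈ P))
    (Submodule.mem_sup_left (Submodule.subset_span (by simp) : h ∈ P))
    (Submodule.mem_sup_right (Submodule.subset_span (by simp) : e' ∈ P'))
    (Submodule.mem_sup_right (Submodule.subset_span (by simp) : h' ∈ P')) heh heh'
  have hfix₁ : ∀ x ∈ P, (g₁ : Matrix ι ι F) *ᵥ x = x := fun x hx => hg₁.2 x fun w hw => by
    obtain ⟨a, ha, b, hb, rfl⟩ := Submodule.mem_sup.1 hw
    rw [hf.bilinear.add_right, swap_zero hf (ha.2 x hx), horth x (hPU hx) b hb.1, add_zero]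
  refine ⟨t * g₁, ⟨mul_mem ht.1 hg₁.1, fun x hx => ?_⟩, fun x hx => ?_⟩
  · rw [gl_mul_mulVec, hg₁.2 x fun w hw => hx w ((sup_le_sup inf_le_left inf_le_left : _ ≤ U ⊔ U') hw),
      ht.2 x fun w hw => hx w ((sup_le_sup hPU hP'U : _ ≤ U ⊔ U') hw)]
  · obtain ⟨p, hp, hxp⟩ := exists_decomp hf (isNondegenerateOn_pair hf heh) x
    have hy₁ := hg₁U _ (show x - p ∈ U ⊓ perp hf P from ⟨U.sub_mem hx (hPU hp), hxp⟩)
    rw [show x = (x - p) + p by abel, gl_mul_mulVec, mulVec_add, mulVec_add]
    refine U'.add_mem ?_ ?_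
    · rw [ht.2 _ fun w hw => ?_]
      · exact hy₁.1
      · obtain ⟨a, ha, b, hb, rfl⟩ := Submodule.mem_sup.1 hw
        rw [hf.bilinear.add_right, swap_zero hf (horth a (hPU ha) _ hy₁.1), hy₁.2 b hb, add_zero]
    · rw [hfix₁ p hp]
      obtain ⟨a, b, rfl⟩ := Submodule.mem_span_pair.1 hp
      rw [mulVec_add, mulVec_smul, mulVec_smul, hte, hth]
      exact U'.add_mem (U'.smul_mem a he') (U'.smul_mem b hh')

/-! ### Components -/

variable {t k : ℕ} {D : Fin t → Submodule F (ι → F)} (hD : IsNondegenerateMDecomposition f k D)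
include hD

/-- the component in `D i` -/
noncomputable def comp (i : Fin t) (x : ι → F) : ι → F := Classical.choose (exists_decomp hf (hD.nondegenerate i) x)

theorem comp_mem (i : Fin t) (x : ι → F) : comp hf hD i x ∈ D i :=
  (Classical.choose_spec (exists_decomp hf (hD.nondegenerate i) x)).1

theorem comp_perp (i : Fin t) (x : ι → F) : x - comp hf hD i x ∈ perp hf (D i) :=
  (Classical.choose_spec (exists_decomp hf (hD.nondegenerate i) x)).2

theorem comp_eq {i : Fin t} {x a : ι → F} (ha : a ∈ D i) (hx : x - a ∈ perp hf (D i)) : comp hf hD i x = a := by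
  refine sub_eq_zero.1 (disjoint_perp hf (hD.nondegenerate i) ((D i).sub_mem (comp_mem hf hD i x) ha) ?_)
  have := (perp hf (D i)).sub_mem hx (comp_perp hf hD i x)
  rwa [sub_sub_sub_cancel_left] at this

theorem mem_perp_other {i j : Fin t} (hij : i ≠ j) {a : ι → F} (ha : a ∈ D i) : a ∈ perp hf (D j) :=
  fun w hw => hD.orthogonal i j hij a ha w hw

theorem comp_self {i : Fin t} {a : ι → F} (ha : a ∈ D i) : comp hf hD i a = a :=
  comp_eq hf hD ha (by rw [sub_self]; exact zero_mem _)

theorem comp_other {i j : Fin t} (hij : i ≠ j) {a : ι → F} (ha : a ∈ D i) : comp hf hD j a = 0 :=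
  comp_eq hf hD (zero_mem _) (by rw [sub_zero]; exact mem_perp_other hf hD hij ha)

theorem comp_zero (i : Fin t) : comp hf hD i 0 = 0 :=
  comp_eq hf hD (zero_mem _) (by rw [sub_zero]; exact zero_mem _)

theorem comp_add (i : Fin t) (x y : ι → F) : comp hf hD i (x + y) = comp hf hD i x + comp hf hD i y :=
  comp_eq hf hD ((D i).add_mem (comp_mem hf hD i x) (comp_mem hf hD i y)) (by
    rw [add_sub_add_comm]
    exact (perp hf (D i)).add_mem (comp_perp hf hD i x) (comp_perp hf hD i y))

theorem comp_smul (i : Fin t) (c : F) (x : ι → F) : comp hf hD i (c • x) = c • comp hf hD i x :=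
  comp_eq hf hD ((D i).smul_mem c (comp_mem hf hD i x)) (by
    rw [← smul_sub]
    exact (perp hf (D i)).smul_mem c (comp_perp hf hD i x))

theorem comp_sub (i : Fin t) (x y : ι → F) : comp hf hD i (x - y) = comp hf hD i x - comp hf hD i y := by
  rw [sub_eq_add_neg, ← neg_one_smul F y, comp_add, comp_smul, neg_one_smul, sub_eq_add_neg]

theorem ext_comp {x y : ι → F} (h : ∀ i, comp hf hD i x = comp hf hD i y) : x = y := by
  by_contra hne
  obtain ⟨z, hz⟩ := (hf.nondegenerate (x - y) (sub_ne_zero.2 hne)).2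
  have hall : ∀ i, D i ≤ LinearMap.ker (sfun hf (x - y)) := fun i w hw => by
    have := comp_perp hf hD i (x - y) w hw
    rw [comp_sub, h, sub_self, sub_zero] at this
    exact swap_zero hf this
  have htop : (⊤ : Submodule F (ι → F)) ≤ LinearMap.ker (sfun hf (x - y)) := hD.decomp.iSup_eq_top ▸ iSup_le hall
  exact hz (swap_zero hf (htop Submodule.mem_top : z ∈ LinearMap.ker (sfun hf (x - y))))

theorem form_single {i : Fin t} {x b : ι → F} (hb : b ∈ D i) : f x b = f (comp hf hD i x) b := by
  have := comp_perp hf hD i x b hb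
  rwa [sub_left hf, sub_eq_zero] at this

/-- changing one component -/
theorem comp_fix {i : Fin t} {g : GL ι F} (hg : g ∈ fixSub hf (D i)) (x : ι → F) (j : Fin t) :
    comp hf hD j ((g : Matrix ι ι F) *ᵥ x) =
      if j = i then (g : Matrix ι ι F) *ᵥ comp hf hD i x else comp hf hD j x := by
  have h1 : (g : Matrix ι ι F) *ᵥ x = (g : Matrix ι ι F) *ᵥ comp hf hD i x + (x - comp hf hD i x) := by
    conv_rhs => rw [← hg.2 _ (comp_perp hf hD i x), mulVec_sub, add_sub_cancel]
  rw [h1, comp_add]
  split_ifs with hji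
  · subst hji
    rw [comp_self hf hD (fix_maps hf (hD.nondegenerate j) hg (comp_mem hf hD j x)), comp_sub,
      comp_self hf hD (comp_mem hf hD j x), sub_self, add_zero]
  · rw [comp_other hf hD (Ne.symm hji) (fix_maps hf (hD.nondegenerate i) hg (comp_mem hf hD i x)), comp_sub,
      comp_other hf hD (Ne.symm hji) (comp_mem hf hD i x), sub_zero, zero_add]

/-- vectors with the same support are conjugate -/
theorem exists_move_support {M : Subgroup (GL ι F)} (hM : ∀ i, ∀ u ∈ D i, ∀ c, stv hf u c ∈ M) (x x' : ι → F)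
    (h : ∀ i, comp hf hD i x = 0 ↔ comp hf hD i x' = 0) : ∃ g ∈ M, (g : Matrix ι ι F) *ᵥ x = x' := by
  suffices hs : ∀ s : Finset (Fin t), ∃ g ∈ M, ∀ j,
      comp hf hD j ((g : Matrix ι ι F) *ᵥ x) = if j ∈ s then comp hf hD j x' else comp hf hD j x by
    obtain ⟨g, hg, hgx⟩ := hs Finset.univ
    exact ⟨g, hg, ext_comp hf hD fun i => by rw [hgx, if_pos (Finset.mem_univ i)]⟩
  intro s
  induction s using Finset.induction_on with
  | empty => exact ⟨1, M.one_mem, fun j => by simp⟩
  | @insert a s ha ih =>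
    obtain ⟨g, hg, hgx⟩ := ih
    by_cases ha0 : comp hf hD a x = 0
    · refine ⟨g, hg, fun j => ?_⟩
      rcases eq_or_ne j a with rfl | hja
      · rw [hgx, if_neg ha, if_pos (Finset.mem_insert_self _ _), ha0, (h j).1 ha0]
      · rw [hgx]
        simp [hja]
    · obtain ⟨t, ⟨ht, htD⟩, htx⟩ := move_vec hf (fun u hu c => hM a u hu c) (hD.nondegenerate a)
        (comp_mem hf hD a x) (comp_mem hf hD a x') ha0 (fun h0 => ha0 ((h a).2 h0))
      refine ⟨t * g, M.mul_mem ht hg, fun j => ?_⟩
      rw [gl_mul_mulVec, comp_fix hf hD htD]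
      rcases eq_or_ne j a with rfl | hja
      · rw [if_pos rfl, hgx, if_neg ha, htx, if_pos (Finset.mem_insert_self _ _)]
      · rw [if_neg hja, hgx]
        simp [hja]

/-- the support of a vector -/
noncomputable def supp (x : ι → F) : Finset (Fin t) :=
  open Classical in Finset.univ.filter fun i => comp hf hD i x ≠ 0

theorem mem_supp {x : ι → F} {i : Fin t} : i ∈ supp hf hD x ↔ comp hf hD i x ≠ 0 := by simp [supp]

theorem map_eq_of_maps [Finite F] {g : GL ι F} {i j : Fin t} (h : ∀ x ∈ D i, (g : Matrix ι ι F) *ᵥ x ∈ D j) :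
    (D i).map (Matrix.toLin' (g : Matrix ι ι F)) = D j := by
  have hinj : Function.Injective (Matrix.toLin' (g : Matrix ι ι F)) := fun a b hab => by
    have := congrArg (fun x => ((g⁻¹ : GL ι F) : Matrix ι ι F) *ᵥ x) hab
    simpa only [Matrix.toLin'_apply, gl_inv_mulVec] using this
  refine Submodule.eq_of_le_of_finrank_eq ?_ ?_
  · rintro y ⟨x, hx, rfl⟩
    rw [Matrix.toLin'_apply]
    exact h x hx
  · rw [← (Submodule.equivMapOfInjective _ hinj (D i)).finrank_eq, hD.decomp.finrank_eq i, hD.decomp.finrank_eq j]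

/-- stabilisers of orthogonal decompositions are maximal -/
theorem decomposition_maximal [Finite F] (hk : 3 ≤ k ∨ ∃ r : F, r ≠ 0 ∧ r ≠ -1) :
    IsMaximalIn (isoSub f) (decompositionStabilizer D ⊓ isoSub f) := by
  classical
  have hne : ∀ i, D i ≠ ⊥ := fun i h => by
    have := hD.decomp.finrank_eq i
    rw [h, finrank_bot] at this
    exact hD.decomp.pos.ne this
  -- transvections of the components stabilise the decomposition
  have hstab : ∀ i, ∀ u ∈ D i, ∀ c, stv hf u c ∈ decompositionStabilizer D := fun i u hu c =>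
    ⟨1, fun j => by
      rw [Equiv.Perm.one_apply]
      refine map_eq_of_maps hf hD fun x hx => ?_
      refine ((mem_subspaceStabilizer_iff.1 (stv_mem_stab hf ?_ c)) x).1 hx
      rcases eq_or_ne i j with rfl | hij
      · exact Or.inl hu
      · exact Or.inr fun w hw => hD.orthogonal j i hij.symm w hw u hu⟩
  refine isMaximalIn_of_centres hf (fun hle => ?_) fun M hHM hM hMD => ?_
  · let i0 : Fin t := ⟨0, by have := hD.decomp.two_le; omega⟩
    let i1 : Fin t := ⟨1, by have := hD.decomp.two_le; omega⟩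
    have h01 : i0 ≠ i1 := by simp [i0, i1]
    obtain ⟨a, ha, ha0⟩ := Submodule.exists_mem_ne_zero_of_ne_bot (hne i0)
    obtain ⟨b, hb, hb0⟩ := Submodule.exists_mem_ne_zero_of_ne_bot (hne i1)
    obtain ⟨t', ⟨ht', -⟩, htx⟩ := move_vec hf (M := isoSub f) (fun u _ c => stv_iso hf u c) (isNondegenerateOn_top hf)
      (Submodule.mem_top : a ∈ ⊤) (Submodule.mem_top : a + b ∈ ⊤) ha0 (fun h0 => ha0 (by
        rw [← comp_self hf hD ha, eq_neg_of_add_eq_zero_left h0, ← neg_one_smul F b, comp_smul,
          comp_other hf hD h01.symm hb, smul_zero]))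
    obtain ⟨σ, hσ⟩ := hle ht'
    have hmem : a + b ∈ D (σ i0) := by
      rw [← hσ i0]
      exact ⟨a, ha, by rw [Matrix.toLin'_apply, htx]⟩
    rcases eq_or_ne (σ i0) i0 with h | h
    · refine hb0 ?_
      have h1 := comp_other hf hD (h ▸ h01) hmem
      rwa [comp_add, comp_other hf hD h01 ha, comp_self hf hD hb, zero_add] at h1
    · refine ha0 ?_
      have h1 := comp_other hf hD h hmem
      rwa [comp_add, comp_self hf hD ha, comp_other hf hD h01.symm hb, add_zero] at h1
  have hD' : ∀ i, ∀ u ∈ D i, ∀ c, stv hf u c ∈ M := fun i u hu c => hHM ⟨hstab i u hu c, stv_iso hf u c⟩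
  have hconj : ∀ {x y : ι → F}, x ∈ centres hf M → (∀ i, comp hf hD i x = 0 ↔ comp hf hD i y = 0) →
      y ∈ centres hf M := fun {x y} hx h => by
    obtain ⟨g, hg, rfl⟩ := exists_move_support hf hD hD' x y h
    exact centres_conj hf hM hg hx
  -- a centre whose support is exactly a given pair
  let E : Fin t → Fin t → Prop := fun a b => ∀ x, (∀ i, comp hf hD i x ≠ 0 ↔ i = a ∨ i = b) → x ∈ centres hf M
  have hswap : ∀ a b : Fin t, a ≠ b → ∃ g ∈ M, ∀ j, ∀ x ∈ D j, (g : Matrix ι ι F) *ᵥ x ∈ D (Equiv.swap a b j) := by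
    intro a b hab
    obtain ⟨g, hg, hgU⟩ := exists_swap hf (hD.nondegenerate a) (hD.nondegenerate b) (hD.orthogonal a b hab)
      ((hD.decomp.finrank_eq a).trans (hD.decomp.finrank_eq b).symm)
    have hrest : ∀ j, j ≠ a → j ≠ b → ∀ x ∈ D j, (g : Matrix ι ι F) *ᵥ x = x := fun j hja hjb x hx =>
      hg.2 x fun w hw => by
        obtain ⟨p, hp, q, hq, rfl⟩ := Submodule.mem_sup.1 hw
        rw [hf.bilinear.add_right, hD.orthogonal j a hja x hx p hp, hD.orthogonal j b hjb x hx q hq, add_zero]
    have hmapA := map_eq_of_maps hf hD hgU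
    have hb : ∀ x ∈ D b, (g : Matrix ι ι F) *ᵥ x ∈ D a := by
      intro x hx
      have hz : ∀ j, j ≠ a → comp hf hD j ((g : Matrix ι ι F) *ᵥ x) = 0 := fun j hja => by
        refine comp_eq hf hD (zero_mem _) ?_
        rw [sub_zero]
        intro w hw
        rcases eq_or_ne j b with rfl | hjb
        · rw [← hmapA] at hw
          obtain ⟨p, hp, rfl⟩ := hw
          rw [Matrix.toLin'_apply, mem_isoSub.1 hg.1]
          exact hD.orthogonal j a hja x hx p hp
        · rw [← hrest j hja hjb w hw, mem_isoSub.1 hg.1]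
          exact hD.orthogonal b j (Ne.symm hjb) x hx w hw
      have : (g : Matrix ι ι F) *ᵥ x = comp hf hD a ((g : Matrix ι ι F) *ᵥ x) := ext_comp hf hD fun j => by
        rcases eq_or_ne j a with rfl | hja
        · rw [comp_self hf hD (comp_mem hf hD j _)]
        · rw [hz j hja, comp_other hf hD (Ne.symm hja) (comp_mem hf hD a _)]
      rw [this]
      exact comp_mem hf hD a _
    have hall : ∀ j, ∀ x ∈ D j, (g : Matrix ι ι F) *ᵥ x ∈ D (Equiv.swap a b j) := fun j x hx => by
      rcases eq_or_ne j a with rfl | hja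
      · rw [Equiv.swap_apply_left]; exact hgU x hx
      rcases eq_or_ne j b with rfl | hjb
      · rw [Equiv.swap_apply_right]; exact hb x hx
      rw [Equiv.swap_apply_of_ne_of_ne hja hjb, hrest j hja hjb x hx]; exact hx
    exact ⟨g, hHM ⟨⟨Equiv.swap a b, fun j => map_eq_of_maps hf hD (hall j)⟩, hg.1⟩, hall⟩
  -- an element outside gives a centre with at least two components
  obtain ⟨p, q, hpq, x₀, hx₀, hp₀, hq₀⟩ : ∃ p q, p ≠ q ∧ ∃ x, x ∈ centres hf M ∧ comp hf hD p x ≠ 0 ∧
      comp hf hD q x ≠ 0 := by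
    by_contra hcon
    push Not at hcon
    obtain ⟨g, hgM, hg⟩ := SetLike.not_le_iff_exists.1 hMD
    have hone : ∀ i, ∀ x ∈ D i, ∀ p q, p ≠ q → comp hf hD p ((g : Matrix ι ι F) *ᵥ x) ≠ 0 →
        comp hf hD q ((g : Matrix ι ι F) *ᵥ x) = 0 := fun i x hx p q hpq =>
      hcon p q hpq _ (centres_conj hf hM hgM (fun c => hD' i x hx c))
    have htarget : ∀ i, ∃ j, ∀ x ∈ D i, (g : Matrix ι ι F) *ᵥ x ∈ D j := by
      intro i
      obtain ⟨x, hx, hx0⟩ := Submodule.exists_mem_ne_zero_of_ne_bot (hne i)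
      have hgx : (g : Matrix ι ι F) *ᵥ x ≠ 0 := fun h0 => hx0 (gl_mulVec_eq_zero.1 h0)
      obtain ⟨j, hj⟩ : ∃ j, comp hf hD j ((g : Matrix ι ι F) *ᵥ x) ≠ 0 := by
        by_contra hn
        push Not at hn
        exact hgx (ext_comp hf hD fun j => by rw [hn, comp_zero])
      refine ⟨j, fun y hy => ?_⟩
      have hyz : ∀ l, l ≠ j → comp hf hD l ((g : Matrix ι ι F) *ᵥ y) = 0 := by
        intro l hl
        by_contra hyl
        have hyj : comp hf hD j ((g : Matrix ι ι F) *ᵥ y) = 0 := hone i y hy l j hl hyl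
        have hxl : comp hf hD l ((g : Matrix ι ι F) *ᵥ x) = 0 := hone i x hx j l hl.symm hj
        have := hone i (x + y) ((D i).add_mem hx hy) j l hl.symm (by
          rw [mulVec_add, comp_add, hyj, add_zero]; exact hj)
        rw [mulVec_add, comp_add, hxl, zero_add] at this
        exact hyl this
      have : (g : Matrix ι ι F) *ᵥ y = comp hf hD j ((g : Matrix ι ι F) *ᵥ y) := ext_comp hf hD fun l => by
        rcases eq_or_ne l j with rfl | hl
        · rw [comp_self hf hD (comp_mem hf hD l _)]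
        · rw [hyz l hl, comp_other hf hD (Ne.symm hl) (comp_mem hf hD j _)]
      rw [this]
      exact comp_mem hf hD j _
    choose σ hσ using htarget
    have hinj : Function.Injective σ := by
      intro i j hij
      by_contra hne'
      have h1 := map_eq_of_maps hf hD (hσ i)
      have h2 := map_eq_of_maps hf hD (hσ j)
      rw [← hij, ← h1] at h2
      obtain ⟨x, hx, hx0⟩ := Submodule.exists_mem_ne_zero_of_ne_bot (hne j)
      obtain ⟨y, hy, hyx⟩ := (h2.le ⟨x, hx, rfl⟩ : Matrix.toLin' (g : Matrix ι ι F) x ∈ _)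
      have hinjg : y = x := by
        have := congrArg (fun z => ((g⁻¹ : GL ι F) : Matrix ι ι F) *ᵥ z) hyx
        simpa only [Matrix.toLin'_apply, gl_inv_mulVec] using this
      exact hx0 (disjoint_perp hf (hD.nondegenerate j) hx (mem_perp_other hf hD hne' (hinjg ▸ hy)))
    exact hg ⟨Equiv.ofBijective σ (Finite.injective_iff_bijective.1 hinj), fun i => map_eq_of_maps hf hD (hσ i)⟩
  -- the pair `p`, `q`
  have hpair : E p q := by
    obtain ⟨h₀, hh₀, hh₀f⟩ := (hD.nondegenerate p _ (comp_mem hf hD p x₀) hp₀).2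
    obtain ⟨β, hβ, hβ0, hβne, hβs⟩ : ∃ β ∈ D q, β ≠ 0 ∧ β ≠ comp hf hD q x₀ ∧ f (comp hf hD q x₀) β ≠ -1 := by
      obtain ⟨h₁, hh₁, hh₁f⟩ := (hD.nondegenerate q _ (comp_mem hf hD q x₀) hq₀).2
      rcases hk with hk | ⟨r, hr0, hr1⟩
      · obtain ⟨β, hβ, hβn⟩ : ∃ β ∈ D q ⊓ LinearMap.ker (sfun hf (comp hf hD q x₀)),
            β ∉ Submodule.span F {comp hf hD q x₀} := by
          apply SetLike.not_le_iff_exists.1
          intro hle'
          have h1 := Submodule.finrank_mono hle'
          rw [finrank_span_singleton hq₀] at h1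
          have h2 := LinearMap.finrank_range_add_finrank_ker ((sfun hf (comp hf hD q x₀)).comp (D q).subtype)
          have h3 : Module.finrank F (LinearMap.range ((sfun hf (comp hf hD q x₀)).comp (D q).subtype)) ≤ 1 :=
            (Submodule.finrank_le _).trans (by rw [Module.finrank_self])
          have h4 : Module.finrank F (LinearMap.ker ((sfun hf (comp hf hD q x₀)).comp (D q).subtype)) =
              Module.finrank F ↥(D q ⊓ LinearMap.ker (sfun hf (comp hf hD q x₀))) := by
            rw [LinearMap.ker_comp, ← Submodule.map_comap_subtype]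
            exact (Submodule.equivMapOfInjective _ (D q).injective_subtype _).finrank_eq
          rw [hD.decomp.finrank_eq q] at h2
          omega
        refine ⟨β, hβ.1, fun h0 => hβn (h0 ▸ zero_mem _), fun h0 => hβn (h0 ▸ Submodule.mem_span_singleton_self _), ?_⟩
        rw [swap_zero hf (hβ.2 : f β (comp hf hD q x₀) = 0)]
        exact (neg_ne_zero.2 one_ne_zero).symm
      · have hval : f (comp hf hD q x₀) ((r / f (comp hf hD q x₀) h₁) • h₁) = r := by
          rw [hf.bilinear.smul_right, div_mul_cancel₀ _ hh₁f]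
        refine ⟨_, (D q).smul_mem _ hh₁, fun h0 => hr0 ?_, fun h0 => hr0 ?_, by rwa [hval]⟩
        · rw [← hval, h0, zero_right hf]
        · rw [← hval, h0, hf.alternating]
    obtain ⟨α, hα, hαf⟩ : ∃ α ∈ D p, f (comp hf hD p x₀) α = 1 :=
      ⟨(f (comp hf hD p x₀) h₀)⁻¹ • h₀, (D p).smul_mem _ hh₀,
        by rw [hf.bilinear.smul_right, inv_mul_cancel₀ hh₀f]⟩
    obtain ⟨y, hy⟩ : ∃ y, y = x₀ + (α - comp hf hD p x₀) + (β - comp hf hD q x₀) := ⟨_, rfl⟩
    have hαp : α - comp hf hD p x₀ ∈ D p := (D p).sub_mem hα (comp_mem hf hD p x₀)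
    have hβq : β - comp hf hD q x₀ ∈ D q := (D q).sub_mem hβ (comp_mem hf hD q x₀)
    have hyc : ∀ i, comp hf hD i y = if i = p then α else if i = q then β else comp hf hD i x₀ := fun i => by
      rw [hy, comp_add, comp_add]
      rcases eq_or_ne i p with rfl | hip
      · rw [if_pos rfl, comp_self hf hD hαp, comp_other hf hD hpq.symm hβq]; abel
      rw [if_neg hip, comp_other hf hD hip.symm hαp]
      rcases eq_or_ne i q with rfl | hiq
      · rw [if_pos rfl, comp_self hf hD hβq]; abel
      rw [if_neg hiq, comp_other hf hD hiq.symm hβq, add_zero, add_zero]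
    have hα0 : α ≠ 0 := fun h0 => one_ne_zero (by rw [← hαf, h0, zero_right hf])
    have hαne : α ≠ comp hf hD p x₀ := fun h0 => one_ne_zero (by rw [← hαf, h0, hf.alternating])
    have hyA : y ∈ centres hf M := hconj hx₀ fun i => by
      rw [hyc]
      split_ifs with h1 h2
      · subst h1; exact iff_of_false hp₀ hα0
      · subst h2; exact iff_of_false hq₀ hβ0
      · exact Iff.rfl
    have hfy : f x₀ y ≠ 0 := by
      rw [hy, hf.bilinear.add_right, hf.bilinear.add_right, hf.alternating, zero_add, form_single hf hD hαp,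
        form_single hf hD hβq, sub_right hf, sub_right hf, hf.alternating, hf.alternating, sub_zero, sub_zero, hαf]
      exact fun h0 => hβs (by linear_combination h0)
    have hdiff := centres_line hf hM hx₀ hyA hfy (-1)
    intro x hx
    refine hconj hdiff fun i => ?_
    rw [comp_add, comp_smul, hyc, neg_one_smul, ← sub_eq_add_neg, sub_eq_zero]
    split_ifs with h1 h2
    · subst h1; exact iff_of_false hαne.symm ((hx i).2 (Or.inl rfl))
    · subst h2; exact iff_of_false hβne.symm ((hx i).2 (Or.inr rfl))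
    · refine iff_of_true rfl ?_
      by_contra hn
      exact ((hx i).1 hn).elim h1 h2
  -- all pairs
  have hmove : ∀ a b c d : Fin t, E a b → c ≠ d → E (Equiv.swap c d a) (Equiv.swap c d b) := by
    intro a b c d hab hcd x hx
    obtain ⟨g, hg, hgD⟩ := hswap c d hcd
    have hgc : ∀ y j, comp hf hD (Equiv.swap c d j) ((g : Matrix ι ι F) *ᵥ y) =
        (g : Matrix ι ι F) *ᵥ comp hf hD j y := by
      intro y j
      refine comp_eq hf hD (hgD j _ (comp_mem hf hD j y)) fun w hw => ?_
      rw [← map_eq_of_maps hf hD (hgD j)] at hw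
      obtain ⟨v, hv, rfl⟩ := hw
      rw [Matrix.toLin'_apply, ← mulVec_sub, mem_isoSub.1 (hM hg)]
      exact comp_perp hf hD j y v hv
    have h1 : ((g⁻¹ : GL ι F) : Matrix ι ι F) *ᵥ x ∈ centres hf M := by
      refine hab _ fun i => ?_
      have h2 := hgc (((g⁻¹ : GL ι F) : Matrix ι ι F) *ᵥ x) i
      rw [gl_mulVec_inv] at h2
      rw [← (Equiv.swap c d).apply_eq_iff_eq (x := i) (y := a), ← (Equiv.swap c d).apply_eq_iff_eq (x := i) (y := b),
        ← hx, h2, Ne, Ne, gl_mulVec_eq_zero]
    have := centres_conj hf hM hg h1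
    rwa [gl_mulVec_inv] at this
  have hsymm : ∀ a b, E a b → E b a := fun a b h x hx => h x fun i => (hx i).trans or_comm
  have hall2 : ∀ a b, a ≠ b → E a b := by
    intro a b hab
    obtain ⟨q', hq', hq'a⟩ : ∃ q', E a q' ∧ q' ≠ a := by
      rcases eq_or_ne p a with rfl | hpa
      · exact ⟨q, hpair, hpq.symm⟩
      · refine ⟨_, by simpa using hmove p q p a hpair hpa, fun h0 => hpq ?_⟩
        have := congrArg (Equiv.swap p a) h0
        rw [Equiv.swap_apply_self, Equiv.swap_apply_right] at this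
        exact this.symm
    rcases eq_or_ne q' b with rfl | hqb
    · exact hq'
    · have := hmove a q' q' b hq' hqb
      rwa [Equiv.swap_apply_left, Equiv.swap_apply_of_ne_of_ne hq'a.symm hab] at this
  -- all vectors
  intro u
  suffices hs : ∀ s : Finset (Fin t), ∀ x, (∀ i, comp hf hD i x ≠ 0 ↔ i ∈ s) → x ∈ centres hf M by
    exact hs (supp hf hD u) u fun i => (mem_supp hf hD).symm
  intro s
  induction s using Finset.induction_on with
  | empty =>
    intro x hx
    have : x = 0 := ext_comp hf hD fun i => by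
      rw [not_not.1 (fun h => Finset.notMem_empty i ((hx i).1 h))]
      exact (comp_zero hf hD i).symm
    rw [this]
    exact fun c => by rw [stv_zero_left]; exact M.one_mem
  | @insert l s hl ih =>
    intro x hx
    rcases s.eq_empty_or_nonempty with rfl | ⟨i, hi⟩
    · have : x = comp hf hD l x := ext_comp hf hD fun j => by
        rcases eq_or_ne j l with rfl | hj
        · rw [comp_self hf hD (comp_mem hf hD j x)]
        · rw [comp_other hf hD hj.symm (comp_mem hf hD l x)]
          exact not_not.1 fun h => by simpa [hj] using (hx j).1 h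
      rw [this]
      exact fun c => hD' l _ (comp_mem hf hD l x) c
    have hil : i ≠ l := fun h => hl (h ▸ hi)
    obtain ⟨z, hz⟩ : ∃ z, z = x - comp hf hD l x := ⟨_, rfl⟩
    have hzc : ∀ j, comp hf hD j z = if j = l then 0 else comp hf hD j x := fun j => by
      rw [hz, comp_sub]
      split_ifs with hj
      · subst hj; rw [comp_self hf hD (comp_mem hf hD j x), sub_self]
      · rw [comp_other hf hD (Ne.symm hj) (comp_mem hf hD l x), sub_zero]
    have hzA : z ∈ centres hf M := ih z fun j => by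
      rw [hzc]
      split_ifs with hj
      · subst hj; exact iff_of_false (not_not.2 rfl) hl
      · rw [hx, Finset.mem_insert]; exact or_iff_right hj
    have hzi : comp hf hD i z ≠ 0 := by rw [hzc, if_neg hil]; exact (hx i).2 (Finset.mem_insert_of_mem hi)
    obtain ⟨β, hβ, hβf⟩ := (hD.nondegenerate i _ (comp_mem hf hD i z) hzi).2
    have hxl : comp hf hD l x ≠ 0 := (hx l).2 (Finset.mem_insert_self _ _)
    have hwc : ∀ j, comp hf hD j (β + comp hf hD l x) =
        if j = i then β else if j = l then comp hf hD l x else 0 := fun j => by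
      rw [comp_add]
      split_ifs with h1 h2
      · subst h1; rw [comp_self hf hD hβ, comp_other hf hD (Ne.symm hil) (comp_mem hf hD l x), add_zero]
      · subst h2; rw [comp_other hf hD hil hβ, comp_self hf hD (comp_mem hf hD j x), zero_add]
      · rw [comp_other hf hD (Ne.symm h1) hβ, comp_other hf hD (Ne.symm h2) (comp_mem hf hD l x), add_zero]
    have hwA : β + comp hf hD l x ∈ centres hf M := hall2 i l hil _ fun j => by
      rw [hwc]
      split_ifs with h1 h2
      · exact iff_of_true (fun h0 => hβf (by rw [h0, zero_right hf])) (Or.inl h1)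
      · exact iff_of_true hxl (Or.inr h2)
      · exact iff_of_false (not_not.2 rfl) (not_or.2 ⟨h1, h2⟩)
    have hfz : f z (β + comp hf hD l x) ≠ 0 := by
      rw [hf.bilinear.add_right, form_single hf hD hβ, form_single hf hD (x := z) (comp_mem hf hD l x), hzc l,
        if_pos rfl, zero_left hf, add_zero]
      exact hβf
    refine hconj (centres_line hf hM hzA hwA hfz 1) fun j => ?_
    rw [one_smul, comp_add, hwc]
    split_ifs with h1 h2
    · subst h1
      exact iff_of_false (fun h0 => hβf (by rw [eq_neg_of_add_eq_zero_right h0, neg_right hf, hf.alternating, neg_zero]))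
        ((hx j).2 (Finset.mem_insert_of_mem hi))
    · subst h2
      rw [hzc, if_pos rfl, zero_add]
    · rw [add_zero, hzc, if_neg h2]

end CfsgLib.Perm.Trans.Symp
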