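import Cfsg.Agent.Lib.Perm.Trans.SympExtBase

/-!
# Overgroups of symplectic groups over an extension field contain all transvections

From the normal form, commutators give elements of rank two supported on the image of the line; rescaling gives a
transvection when the ground field has more than two elements. Over the field with two elements the diagonal of
these elements gives one when the degree is at least three, and a third direction gives one when the dimension over
the extension is at least three.
-/

set_option autoImplicit false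
set_option linter.all false

namespace CfsgLib.Perm.Trans.Symp.Ext

open scoped Matrix
open Matrix Module Cfsg.Geo CfsgLib.Perm.Asch CfsgLib.Perm.Trans CfsgLib.Perm.Trans.Symp

variable {ι : Type} [Fintype ι] [DecidableEq ι] {F : Type*} [Field F] [Fintype F]
variable {E : Type*} [Field E] [Algebra F E] [FiniteDimensional F E]
variable [Module E (ι → F)] [IsScalarTower F E (ι → F)]
variable {f : (ι → F) → (ι → F) → F} {M : Subgroup (GL ι F)}

/-- `1 + N` lies in `M` -/
def Mem (M : Subgroup (GL ι F)) (N : (ι → F) → (ι → F)) : Prop :=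
  ∃ g ∈ M, ∀ x, (g : Matrix ι ι F) *ᵥ x = x + N x

theorem Mem.map_add {N : (ι → F) → (ι → F)} (h : Mem M N) (a b : ι → F) : N (a + b) = N a + N b := by
  obtain ⟨g, -, hg⟩ := h
  have h1 := hg (a + b)
  rw [mulVec_add, hg, hg, add_add_add_comm] at h1
  exact (add_left_cancel h1).symm

theorem Mem.add {N N' : (ι → F) → (ι → F)} (h : Mem M N) (h' : Mem M N') (hz : ∀ x, N (N' x) = 0) :
    Mem M (fun x => N x + N' x) := by
  have hadd := h.map_add
  obtain ⟨g, hgM, hg⟩ := h
  obtain ⟨k, hkM, hk⟩ := h'
  exact ⟨g * k, M.mul_mem hgM hkM, fun x => by rw [gl_mul_mulVec, hk, hg, hadd, hz]; abel⟩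

theorem Mem.congr {N N' : (ι → F) → (ι → F)} (h : Mem M N) (he : ∀ x, N x = N' x) : Mem M N' := by
  obtain ⟨g, hgM, hg⟩ := h
  exact ⟨g, hgM, fun x => by rw [hg, he]⟩

theorem exists_two_squares (e : F) : ∃ x y : F, x * x + y * y = e := by
  by_cases h2 : ringChar F = 2
  · obtain ⟨x, hx⟩ := FiniteField.isSquare_of_char_two h2 e
    exact ⟨x, 0, by rw [hx]; ring⟩
  · obtain ⟨x, y, h⟩ := FiniteField.exists_root_sum_quadratic (f := (Polynomial.X : Polynomial F) ^ 2)
      (g := Polynomial.X ^ 2 - Polynomial.C e) (Polynomial.degree_X_pow 2)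
      (Polynomial.degree_X_pow_sub_C (by norm_num) e) (FiniteField.odd_card_of_char_ne_two h2)
    rw [Polynomial.eval_pow, Polynomial.eval_X, Polynomial.eval_sub, Polynomial.eval_pow, Polynomial.eval_X,
      Polynomial.eval_C] at h
    exact ⟨x, y, by linear_combination h⟩

/-- the normal form -/
structure State (S : SData E f M) (g : GL ι F) (v w : ι → F) (β : E) (c : F) : Prop where
  mem : g ∈ M
  v_ne : v ≠ 0
  β_ne : β ≠ 0
  c_ne : c ≠ 0
  pair : Bf S w v = c • β
  act : ∀ p : E, (g : Matrix ι ι F) *ᵥ (p • v) = p • v + tr F E (p * β) • w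

section

variable (S : SData E f M)
include S

theorem stv_of_mem {u : ι → F} {c : F} (h : Mem M fun x => (c * f x u) • u) : stv S.form u c ∈ M := by
  obtain ⟨g, hgM, hg⟩ := h
  rwa [show stv S.form u c = g from gl_ext_vec fun x => by rw [stv_mulVec, hg]]

theorem exists_move {x y : ι → F} (hx : x ≠ 0) (hy : y ≠ 0) : ∃ g ∈ M, (g : Matrix ι ι F) *ᵥ x = y := by
  have direct : ∀ a b : ι → F, Bf S a b ≠ 0 → ∃ g ∈ M, (g : Matrix ι ι F) *ᵥ a = b := by
    intro a b h
    obtain ⟨g, hg, hgx⟩ := exists_Tm S (b - a) (Bf S a b)⁻¹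
    refine ⟨g, hg, ?_⟩
    have h1 : Bf S a (b - a) = Bf S a b := by
      rw [show Bf S a b = Bf S a ((b - a) + a) by rw [sub_add_cancel], Bf_add_right, Bf_self, add_zero]
    rw [hgx, h1, inv_mul_cancel₀ h, one_smul, add_sub_cancel]
  have hne : ∀ a : ι → F, a ≠ 0 → ∃ z, Bf S a z ≠ 0 := by
    intro a ha
    obtain ⟨z, -, hz⟩ := exists_pair S (x := (0 : ι → F)) (y := a) (by simpa using ha)
    exact ⟨z, hz⟩
  by_cases h : Bf S x y = 0
  · obtain ⟨z, hxz, hzy⟩ : ∃ z, Bf S x z ≠ 0 ∧ Bf S z y ≠ 0 := by
      obtain ⟨a, ha⟩ := hne x hx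
      obtain ⟨b, hb⟩ := hne y hy
      by_cases h1 : Bf S a y = 0
      · by_cases h2 : Bf S x b = 0
        · refine ⟨a + b, ?_, ?_⟩
          · rwa [Bf_add_right, h2, add_zero]
          · rw [Bf_add_left, h1, zero_add, Bf_swap S y b]
            exact neg_ne_zero.2 hb
        · exact ⟨b, h2, by rw [Bf_swap S y b]; exact neg_ne_zero.2 hb⟩
      · exact ⟨a, ha, h1⟩
    obtain ⟨g₁, hg₁, e₁⟩ := direct x z hxz
    obtain ⟨g₂, hg₂, e₂⟩ := direct z y hzy
    exact ⟨g₂ * g₁, M.mul_mem hg₂ hg₁, by rw [gl_mul_mulVec, e₁, e₂]⟩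
  · exact direct x y h

/-- one transvection gives all of them -/
theorem all_of_one {u : ι → F} {c : F} (hu : u ≠ 0) (hc : c ≠ 0) (h : stv S.form u c ∈ M) :
    ∀ y, y ∈ centres S.form M := by
  intro y d
  rcases eq_or_ne y 0 with rfl | hy
  · rw [stv_zero_left]; exact M.one_mem
  have hsq : ∀ s : F, stv S.form u (s * s * c) ∈ M := by
    intro s
    rcases eq_or_ne s 0 with rfl | hs
    · rw [mul_zero, zero_mul, stv_zero]; exact M.one_mem
    obtain ⟨g, hg, e⟩ := exists_move S hu (y := s • u) (smul_ne_zero hs hu)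
    have h1 := stv_conj_mem S.form S.le hg h
    rwa [e, stv_smul] at h1
  obtain ⟨a, b, hab⟩ := exists_two_squares (d / c)
  have h2 : stv S.form u d ∈ M := by
    have h3 := M.mul_mem (hsq a) (hsq b)
    rwa [stv_mul, ← add_mul, hab, div_mul_cancel₀ _ hc] at h3
  obtain ⟨g, hg, e⟩ := exists_move S hu hy
  have h4 := stv_conj_mem S.form S.le hg h2
  rwa [e] at h4

variable {g : GL ι F} {v w : ι → F} {β : E} {c : F}

/-- the map of the line onto its image -/
noncomputable def Gm (_st : State S g v w β c) : E →ₗ[F] (ι → F) where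
  toFun p := (g : Matrix ι ι F) *ᵥ (p • v)
  map_add' p q := by rw [add_smul, mulVec_add]
  map_smul' s p := by rw [smul_assoc, mulVec_smul]; rfl

/-- its adjoint -/
noncomputable def Gd (_st : State S g v w β c) (x : ι → F) : E := Bf S (((g⁻¹ : GL ι F) : Matrix ι ι F) *ᵥ x) v

variable (st : State S g v w β c)
include st

theorem Gm_apply (p : E) : Gm S st p = p • v + tr F E (p * β) • w := st.act p

theorem tr_Gd (q : E) (x : ι → F) : tr F E (q * Gd S st x) = f x (Gm S st q) := by
  rw [Gd, tr_Bf, S.adj, ← mem_isoSub.1 (S.le st.mem), gl_mulVec_inv]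
  rfl

theorem Gm_iso (p q : E) : f (Gm S st p) (Gm S st q) = 0 := by
  show f ((g : Matrix ι ι F) *ᵥ _) ((g : Matrix ι ι F) *ᵥ _) = 0
  rw [mem_isoSub.1 (S.le st.mem), isotropic_line S]

theorem Gm_fix {h : E} (hh : tr F E (h * β) = 0) : Gm S st h = h • v := by
  rw [Gm_apply, hh, zero_smul, add_zero]

theorem B_Gm (p : E) : Bf S (Gm S st p) v = (c * tr F E (p * β)) • β := by
  rw [Gm_apply, Bf_add_left, Bf_smul_left, Bf_self, mul_zero, zero_add, Bf_fsmul_left, st.pair, smul_smul, mul_comm]

theorem mem_line (e : E) : Mem M fun x => Gm S st (e * Gd S st x) := by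
  obtain ⟨t, ht, htx⟩ := exists_Tm S v e
  refine ⟨g * t * g⁻¹, M.mul_mem (M.mul_mem st.mem ht) (M.inv_mem st.mem), fun x => ?_⟩
  rw [gl_mul_mulVec, gl_mul_mulVec, htx, mulVec_add, gl_mulVec_inv]
  rfl

/-- **The commutators.** -/
theorem mem_comm {a : GL ι F} (ha : a ∈ M) {u : ι → F}
    (hau : ∀ p, (a : Matrix ι ι F) *ᵥ Gm S st p = Gm S st p + tr F E (p * β) • u)
    (hu : ∀ p, f (Gm S st p) u = 0) (q : E) :
    Mem M fun x => f x u • Gm S st q + f x (Gm S st q) • u + (tr F E (q * β) * f x u) • u := by
  set e := q * β⁻¹ with he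
  have heq : e * β = q := by rw [he, inv_mul_cancel_right₀ st.β_ne]
  obtain ⟨t, ht, htx⟩ := exists_Tm S v e
  have hmain : ∀ x, Bf S ((((a * g)⁻¹ : GL ι F) : Matrix ι ι F) *ᵥ x) v = Gd S st x + f x u • β := by
    intro x
    refine tr_ext (F := F) fun p => ?_
    rw [mul_add, map_add, tr_Gd, mul_smul_comm, map_smul, tr_Bf, S.adj,
      ← mem_isoSub.1 (S.le (M.mul_mem ha st.mem)), gl_mulVec_inv, gl_mul_mulVec,
      show (g : Matrix ι ι F) *ᵥ (p • v) = Gm S st p from rfl, hau, S.form.bilinear.add_right,
      S.form.bilinear.smul_right, smul_eq_mul, mul_comm (f x u)]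
  have h1 : Mem M fun x => Gm S st (e * (Gd S st x + f x u • β)) +
      tr F E (e * (Gd S st x + f x u • β) * β) • u := by
    refine ⟨a * g * t * (a * g)⁻¹,
      M.mul_mem (M.mul_mem (M.mul_mem ha st.mem) ht) (M.inv_mem (M.mul_mem ha st.mem)), fun x => ?_⟩
    rw [gl_mul_mulVec, gl_mul_mulVec, htx, mulVec_add, gl_mulVec_inv, hmain, gl_mul_mulVec,
      show (g : Matrix ι ι F) *ᵥ ((e * (Gd S st x + f x u • β)) • v) = Gm S st _ from rfl, hau]
  have hz : ∀ p, Gd S st (Gm S st p) = 0 := fun p => tr_ext (F := F) fun r => by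
    rw [tr_Gd, Gm_iso S st, mul_zero, map_zero]
  refine (h1.add (mem_line S st (-e)) fun x => ?_).congr fun x => ?_
  · rw [hz, hu, zero_smul, add_zero, mul_zero, map_zero, zero_add, zero_mul, map_zero, zero_smul]
  · rw [show e * (Gd S st x + f x u • β) * β = q * Gd S st x + f x u • (q * β) by
        rw [← heq]; simp only [Algebra.smul_def]; ring,
      show e * (Gd S st x + f x u • β) = e * Gd S st x + f x u • q by
        rw [← heq]; simp only [Algebra.smul_def]; ring,
      map_add, map_add, map_smul, map_smul, tr_Gd, neg_mul, map_neg, smul_eq_mul, add_smul,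
      mul_comm (tr F E (q * β)) (f x u)]
    abel

theorem exists_a (h : E) (z : ι → F) (hz : ∀ p, Bf S (Gm S st p) z = 0) :
    ∃ a ∈ M, ∀ p, (a : Matrix ι ι F) *ᵥ Gm S st p = Gm S st p + tr F E (p * β) • (h • (v + z)) := by
  obtain ⟨a, ha, hax⟩ := exists_Tm S (v + z) (h * (c • β)⁻¹)
  refine ⟨a, ha, fun p => ?_⟩
  rw [hax, Bf_add_right, hz, add_zero, B_Gm, mul_comm c, mul_smul (tr F E (p * β)) c β, mul_smul_comm,
    inv_mul_cancel_right₀ (smul_ne_zero st.c_ne st.β_ne), smul_assoc]

theorem hu_perp {h : E} (hh : tr F E (h * β) = 0) (p : E) : f (Gm S st p) (h • v) = 0 := by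
  rw [← Gm_fix S st hh, Gm_iso S st]

theorem mem_pair {h : E} (hh : tr F E (h * β) = 0) (q : E) :
    Mem M fun x => f x (h • v) • Gm S st q + f x (Gm S st q) • (h • v) +
      (tr F E (q * β) * f x (h • v)) • (h • v) := by
  obtain ⟨a, ha, hax⟩ := exists_a S st h 0 fun p => Bf_zero_right S _
  simp only [add_zero] at hax
  exact mem_comm S st ha hax (hu_perp S st hh) q

theorem exists_h : ∃ h : E, h ≠ 0 ∧ tr F E (h * β) = 0 := by
  have hlt : finrank F F < finrank F E := by rw [Module.finrank_self]; exact S.prime.one_lt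
  obtain ⟨h, hh, h0⟩ := Submodule.exists_mem_ne_zero_of_ne_bot
    (LinearMap.ker_ne_bot_of_finrank_lt (f := (tr F E).comp (LinearMap.mulRight F β)) hlt)
  exact ⟨h, h0, hh⟩

theorem exists_unit : ∃ q : E, tr F E (q * β) = 1 := by
  refine ⟨β⁻¹, ?_⟩
  rw [inv_mul_cancel₀ st.β_ne, ← tr_smul_one (E := E) (1 : F), one_smul]

/-- fields with more than two elements -/
theorem large {s : F} (hs0 : s ≠ 0) (hs1 : s ≠ 1) : ∀ y, y ∈ centres S.form M := by
  obtain ⟨h, h0, hh⟩ := exists_h S st
  obtain ⟨q, hq⟩ := exists_unit S st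
  have hh' : tr F E ((s • h) * β) = 0 := by rw [smul_mul_assoc, map_smul, hh, smul_zero]
  have h1 := mem_pair S st hh (-q)
  have h2 := mem_pair S st hh' (s⁻¹ • q)
  refine all_of_one S (u := h • v) (c := s - 1) (smul_ne_zero h0 st.v_ne) (sub_ne_zero.2 hs1)
    (stv_of_mem S ((h2.add h1 fun x => ?_).congr fun x => ?_))
  · have hk : f (h • v) (h • v) = 0 := S.form.alternating _
    simp only [smul_assoc, S.form.bilinear.add_left, S.form.bilinear.add_right, S.form.bilinear.smul_left,
      S.form.bilinear.smul_right, Gm_iso S st, hk, hu_perp S st hh, swap_zero S.form (hu_perp S st hh _),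
      mul_zero, add_zero, zero_smul, smul_zero]
  · simp only [smul_assoc, map_smul, map_neg, neg_mul, smul_mul_assoc, hq, S.form.bilinear.smul_right,
      neg_right S.form, smul_eq_mul, mul_one, smul_neg, neg_smul, smul_smul]
    rw [show s * f x (h • v) * s⁻¹ = f x (h • v) by field_simp,
      show s⁻¹ * f x (Gm S st q) * s = f x (Gm S st q) by field_simp,
      show s⁻¹ * (s * f x (h • v)) * s = s * f x (h • v) by field_simp]
    rw [sub_mul, one_mul, sub_smul]
    abel

variable (hF : ∀ x : F, x = 0 ∨ x = 1)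
include hF

omit S st in
theorem two_eq : (1 : F) + 1 = 0 := (hF (1 + 1)).resolve_right fun h => one_ne_zero (add_eq_left.1 h)

omit S st in
theorem vec_two (x : ι → F) : x + x = 0 := by
  rw [← two_smul F x, ← one_add_one_eq_two, two_eq hF, zero_smul]

omit S st in
theorem sq_self (x : F) : x * x = x := by rcases hF x with rfl | rfl <;> simp

/-- two elements and a third direction -/
theorem third (hdim : 3 ≤ finrank E (ι → F)) : ∀ y, y ∈ centres S.form M := by
  haveI : FiniteDimensional E (ι → F) := Module.Finite.of_restrictScalars_finite F E (ι → F)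
  obtain ⟨z, hz, hz0⟩ := Submodule.exists_mem_ne_zero_of_ne_bot
    (LinearMap.ker_ne_bot_of_finrank_lt (f := (Bfun S v).prod (Bfun S w))
      (by rw [Module.finrank_prod, Module.finrank_self]; omega))
  rw [LinearMap.mem_ker, LinearMap.prod_apply, Prod.ext_iff] at hz
  have hzv : Bf S z v = 0 := hz.1
  have hzw : Bf S z w = 0 := hz.2
  have hzG : ∀ p, Bf S (Gm S st p) z = 0 := fun p => by
    rw [Gm_apply, Bf_add_left, Bf_smul_left, Bf_fsmul_left, Bf_swap S z v, Bf_swap S z w, hzv, hzw, neg_zero,
      mul_zero, smul_zero, add_zero]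
  obtain ⟨h, h0, hh⟩ := exists_h S st
  obtain ⟨q, hq⟩ := exists_unit S st
  set k := h • v with hk
  set z' := h • z with hz'
  set l := Gm S st q with hl
  have hGz : ∀ p, f (Gm S st p) z' = 0 := fun p => by
    rw [hz', ← S.adj, ← tr_Bf S, hzG, mul_zero, map_zero]
  have hkz : f k z' = 0 := by
    have := hGz h
    rwa [Gm_fix S st hh] at this
  have hlk : f l k = 0 := hu_perp S st hh q
  have hlz : f l z' = 0 := hGz q
  obtain ⟨a, ha, hax⟩ := exists_a S st h z hzG
  have hu : ∀ p, f (Gm S st p) (h • (v + z)) = 0 := fun p => by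
    rw [smul_add, S.form.bilinear.add_right, ← hk, ← hz', hGz, hk, hu_perp S st hh, add_zero]
  -- the pair of `k` and `z'`
  have h1 : Mem M fun x => f x z' • k + f x k • z' := by
    refine (mem_comm S st ha hax hu h).congr fun x => ?_
    rw [Gm_fix S st hh, ← hk, smul_add, ← hk, ← hz', hh, zero_mul, zero_smul, add_zero, S.form.bilinear.add_right,
      add_smul, smul_add]
    calc f x k • k + f x z' • k + (f x k • k + f x k • z')
        = (f x k • k + f x k • k) + (f x z' • k + f x k • z') := by abel
      _ = _ := by rw [vec_two hF, zero_add]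
  -- moved to the pair of `l` and `z'`
  have hne : Bf S k (l - k) ≠ 0 := by
    rw [hk, hl, Bf_smul_left, show Bf S v (Gm S st q - h • v) = -Bf S (Gm S st q) v by
      rw [Bf_swap S (Gm S st q - h • v), ← Gm_fix S st hh, ← map_sub, B_Gm, B_Gm, sub_mul, map_sub, hh, sub_zero],
      B_Gm, hq, mul_one]
    exact mul_ne_zero h0 (neg_ne_zero.2 (smul_ne_zero st.c_ne st.β_ne))
  obtain ⟨n, hn, hnx⟩ := exists_Tm S (l - k) (Bf S k (l - k))⁻¹
  have hnk : (n : Matrix ι ι F) *ᵥ k = l := by rw [hnx, inv_mul_cancel₀ hne, one_smul, add_sub_cancel]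
  have hnz : (n : Matrix ι ι F) *ᵥ z' = z' := by
    rw [hnx, show Bf S z' (l - k) = 0 by
      rw [hl, hk, hz', Bf_smul_left, ← Gm_fix S st hh, ← map_sub, Bf_swap, hzG, neg_zero, mul_zero],
      mul_zero, zero_smul, add_zero]
  have h2 : Mem M fun x => f x z' • l + f x l • z' := by
    obtain ⟨m, hm, hmx⟩ := h1
    refine ⟨n * m * n⁻¹, M.mul_mem (M.mul_mem hn hm) (M.inv_mem hn), fun x => ?_⟩
    have hiso := mem_isoSub.1 (S.le hn)
    rw [gl_mul_mulVec, gl_mul_mulVec, hmx, mulVec_add, gl_mulVec_inv, mulVec_add, mulVec_smul, mulVec_smul,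
      ← hiso _ k, ← hiso _ z', gl_mulVec_inv, hnk, hnz]
  have h3 := mem_comm S st ha hax hu q
  have h4 := mem_pair S st hh q
  have hkz' : f z' k = 0 := swap_zero S.form hkz
  have hkl : f k l = 0 := swap_zero S.form hlk
  have hzl : f z' l = 0 := swap_zero S.form hlz
  have hkk : f k k = 0 := S.form.alternating _
  have hll : f l l = 0 := S.form.alternating _
  have hzz : f z' z' = 0 := S.form.alternating _
  refine all_of_one S (u := z') (c := 1) (smul_ne_zero h0 hz0) one_ne_zero
    (stv_of_mem S ((((h3.add h4 fun x => ?_).add h1 fun x => ?_).add h2 fun x => ?_).congr fun x => ?_))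
  all_goals simp only [smul_add, ← hk, ← hz', ← hl, hq, one_mul, S.form.bilinear.add_right,
    S.form.bilinear.add_left, S.form.bilinear.smul_left, S.form.bilinear.smul_right, hkz, hkz', hkl, hlk, hlz, hzl,
    hkk, hll, hzz, mul_zero, add_zero, zero_smul, smul_zero, add_smul]
  calc _ = (f x k • l + f x k • l) + (f x l • k + f x l • k) + (f x k • k + f x k • k)
        + (f x k • z' + f x k • z') + (f x z' • k + f x z' • k) + (f x z' • l + f x z' • l)
        + (f x l • z' + f x l • z') + f x z' • z' := by abel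
    _ = _ := by simp only [vec_two hF, zero_add]

/-- two elements and degree at least three -/
theorem diag (hr : 3 ≤ finrank F E) : ∀ y, y ∈ centres S.form M := by
  classical
  let W : (E →ₗ[F] E) → Prop := fun A => Mem M fun x => Gm S st (A (Gd S st x))
  have hadd : ∀ A B, W A → W B → W (A + B) := fun A B hA hB =>
    (hA.add hB fun x => by
      rw [show Gd S st (Gm S st (B (Gd S st x))) = 0 from tr_ext (F := F) fun r => by
        rw [tr_Gd, Gm_iso S st, mul_zero, map_zero], map_zero, map_zero]).congr fun x => by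
      rw [LinearMap.add_apply, map_add]
  let V2 : E → E → (E →ₗ[F] E) := fun a b =>
    ((tr F E).comp (LinearMap.mulLeft F a)).smulRight b + ((tr F E).comp (LinearMap.mulLeft F b)).smulRight a
  have hV2 : ∀ a b z, V2 a b z = tr F E (a * z) • b + tr F E (b * z) • a := fun a b z => rfl
  let U : E → (E →ₗ[F] E) := fun a => ((tr F E).comp (LinearMap.mulLeft F a)).smulRight a
  have hU : ∀ a z, U a z = tr F E (a * z) • a := fun a z => rfl
  have hpair : ∀ a q, tr F E (a * β) = 0 → W (V2 a q + tr F E (q * β) • U a) := by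
    intro a q ha
    refine (mem_pair S st ha q).congr fun x => ?_
    rw [LinearMap.add_apply, LinearMap.smul_apply, hV2, hU, map_add, map_add, map_smul, map_smul, map_smul, map_smul,
      tr_Gd, tr_Gd, Gm_fix S st ha, smul_smul]
  have hmul : ∀ e, W (LinearMap.mulLeft F e) := fun e => mem_line S st e
  have two' : ∀ a : E, a + a = 0 := fun a => by
    rw [← two_smul F a, ← one_add_one_eq_two, two_eq hF, zero_smul]
  -- alternating maps killing `β`
  have halt : ∀ n, ∀ A : E →ₗ[F] E, finrank F (LinearMap.range A) ≤ n →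
      (∀ y z, tr F E (y * A z) = tr F E (z * A y)) → (∀ y, tr F E (y * A y) = 0) → A β = 0 → W A := by
    intro n
    induction n using Nat.strong_induction_on with
    | _ n ih =>
      intro A hn hsym halt' hβ
      by_cases h0 : A = 0
      · subst h0
        exact ⟨1, M.one_mem, fun x => by
          show _ = x + Gm S st ((0 : E →ₗ[F] E) (Gd S st x))
          rw [Units.val_one, one_mulVec, LinearMap.zero_apply, map_zero, add_zero]⟩
      obtain ⟨y, hy⟩ : ∃ y, A y ≠ 0 := by
        by_contra hcon
        push Not at hcon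
        exact h0 (LinearMap.ext hcon)
      obtain ⟨x, hx⟩ : ∃ x, tr F E (x * A y) = 1 := by
        refine ⟨(A y)⁻¹, ?_⟩
        rw [inv_mul_cancel₀ hy, ← tr_smul_one (E := E) (1 : F), one_smul]
      have hxb : tr F E (A x * β) = 0 := by rw [mul_comm, hsym, hβ, mul_zero, map_zero]
      have hyb : tr F E (A y * β) = 0 := by rw [mul_comm, hsym, hβ, mul_zero, map_zero]
      have hV : W (V2 (A x) (A y)) := by
        have := hpair (A x) (A y) hxb
        rwa [hyb, zero_smul, add_zero] at this
      set A' := A + V2 (A x) (A y) with hA'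
      have hker : ∀ z, A z = 0 → A' z = 0 := fun z hz => by
        rw [hA', LinearMap.add_apply, hz, hV2, mul_comm (A x), mul_comm (A y), hsym, hsym z y, hz, mul_zero, mul_zero,
          map_zero, zero_smul, zero_smul, add_zero, add_zero]
      have hx' : A' x = 0 := by
        rw [hA', LinearMap.add_apply, hV2, mul_comm (A x), halt', mul_comm (A y), hx, zero_smul, one_smul, zero_add,
          two']
      have hlt : LinearMap.ker A < LinearMap.ker A' :=
        lt_of_le_of_ne (fun z hz => LinearMap.mem_ker.2 (hker z (LinearMap.mem_ker.1 hz))) fun he => by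
          have h5 : A x = 0 := LinearMap.mem_ker.1 (he ▸ LinearMap.mem_ker.2 hx')
          rw [hsym, h5, mul_zero, map_zero] at hx
          exact zero_ne_one hx
      have r1 := LinearMap.finrank_range_add_finrank_ker A
      have r2 := LinearMap.finrank_range_add_finrank_ker A'
      have r3 := Submodule.finrank_lt_finrank_of_lt hlt
      have hrest : W A' := by
        refine ih (finrank F (LinearMap.range A')) (by omega) A' le_rfl (fun a b => ?_) (fun a => ?_) (hker β hβ)
        · simp only [hA', LinearMap.add_apply, hV2, mul_add, mul_smul_comm, map_add, map_smul, smul_eq_mul, hsym a b]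
          rw [mul_comm (A x) b, mul_comm (A y) b, mul_comm a (A y), mul_comm a (A x), mul_comm b (A y),
            mul_comm b (A x)]
          ring
        · simp only [hA', LinearMap.add_apply, hV2, mul_add, mul_smul_comm, map_add, map_smul, smul_eq_mul, halt']
          rw [mul_comm (A x) a, mul_comm (A y) a, mul_comm (tr F E (a * A x)), zero_add, ← mul_add]
          rcases hF (tr F E (a * A x)) with h | h <;> rw [h] <;> simp [two_eq hF]
      have := hadd _ _ hrest hV
      rwa [hA', add_assoc, show V2 (A x) (A y) + V2 (A x) (A y) = 0 from LinearMap.ext fun z => two' _,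
        add_zero] at this
  haveI : Finite E := Module.finite_of_finite F
  obtain ⟨t, ht⟩ : ∃ t : E, t * t + t ≠ 0 ∧ t * t + t ≠ 1 := by
    by_contra hcon
    push Not at hcon
    have hone : (1 : E) + 1 = 0 := two' 1
    let P : Polynomial E := Polynomial.X ^ 4 + Polynomial.X
    have hroot : ∀ t : E, P.eval t = 0 := fun t => by
      have h4 : t ^ 4 + t = (t * t + t) * ((t * t + t) + 1) - (1 + 1) * (t ^ 3 + t * t) := by ring
      simp only [P, Polynomial.eval_add, Polynomial.eval_pow, Polynomial.eval_X]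
      rw [h4, hone, zero_mul, sub_zero]
      rcases eq_or_ne (t * t + t) 0 with h | h
      · rw [h, zero_mul]
      · rw [hcon t h, hone, mul_zero]
    haveI : Fintype E := Fintype.ofFinite E
    have hP : P ≠ 0 := fun h0 => by
      have := congrArg (fun P => Polynomial.coeff P 1) h0
      simp [P, Polynomial.coeff_X_pow] at this
    have hdeg : P.natDegree = 4 := by simp only [P]; compute_degree!
    have hle := Polynomial.card_le_degree_of_subset_roots (Z := Finset.univ) (p := P) fun t _ => by
      rw [Polynomial.mem_roots hP]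
      exact hroot t
    rw [hdeg, Finset.card_univ, ← Nat.card_eq_fintype_card, Module.natCard_eq_pow_finrank (K := F)] at hle
    have h8 : 2 ^ 3 ≤ Nat.card F ^ finrank F E :=
      le_trans (Nat.pow_le_pow_left (Finite.one_lt_card (α := F)) 3) (Nat.pow_le_pow_right Nat.card_pos hr)
    omega
  set y := β * t with hy
  obtain ⟨e, he1, he2⟩ := exists_tr_separate (F := F) (R := Submodule.span F {β * β}) (z := y * y + β * y) (by
    intro hmem
    obtain ⟨s, hs⟩ := Submodule.mem_span_singleton.1 hmem
    have hb2 : β * β ≠ 0 := mul_ne_zero st.β_ne st.β_ne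
    have e1 : y * y + β * y = β * β * (t * t + t) := by rw [hy]; ring
    rcases hF s with rfl | rfl
    · rw [zero_smul, e1] at hs
      exact ht.1 ((mul_eq_zero.1 hs.symm).resolve_left hb2)
    · rw [one_smul, e1] at hs
      exact ht.2 (mul_left_cancel₀ hb2 (by rw [mul_one]; exact hs.symm)))
  have heβ : tr F E (e * (β * β)) = 0 := he1 _ (Submodule.mem_span_singleton_self _)
  set h := e * β with hh'
  have hh : tr F E (h * β) = 0 := by rw [hh', mul_assoc]; exact heβ
  obtain ⟨q, hq⟩ := exists_unit S st
  set R := LinearMap.mulLeft F e + (V2 h q + tr F E (q * β) • U h) with hR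
  have hWR : W R := hadd _ _ (hmul e) (hpair h q hh)
  have hRz : ∀ z, R z = e * z + (tr F E (h * z) • q + tr F E (q * z) • h + tr F E (h * z) • h) := fun z => by
    rw [hR, hq, one_smul, LinearMap.add_apply, LinearMap.add_apply, hV2, hU, LinearMap.mulLeft_apply]
  have hsym : ∀ a b, tr F E (a * R b) = tr F E (b * R a) := fun a b => by
    simp only [hRz, mul_add, mul_smul_comm, map_add, map_smul, smul_eq_mul]
    rw [show a * (e * b) = b * (e * a) by ring, mul_comm a q, mul_comm a h, mul_comm b q, mul_comm b h]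
    ring
  have hRβ : R β = 0 := by
    rw [hRz, hh, hq, zero_smul, zero_smul, one_smul, zero_add, add_zero, ← hh', two']
  let δ : Module.Dual F E :=
    { toFun := fun a => tr F E (a * R a)
      map_add' := fun a b => by
        rw [map_add, add_mul, mul_add, mul_add, map_add, map_add, map_add, hsym b a]
        have hs : tr F E (a * R b) + tr F E (a * R b) = 0 := by
          rw [← two_mul, ← one_add_one_eq_two, two_eq hF, zero_mul]
        linear_combination hs
      map_smul' := fun s a => by
        rw [map_smul, smul_mul_assoc, mul_smul_comm, map_smul, map_smul, smul_eq_mul, smul_eq_mul, ← mul_assoc,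
          sq_self hF, RingHom.id_apply, smul_eq_mul] }
  set d := (trDual F E).symm δ with hd
  have hdel : ∀ a, tr F E (d * a) = tr F E (a * R a) := fun a => by
    rw [mul_comm, hd, ← trDual_apply, LinearEquiv.apply_symm_apply]
    rfl
  have hdy : tr F E (d * y) = 1 := by
    rw [hdel, hRz, ← he2]
    simp only [mul_add, mul_smul_comm, map_add, map_smul, smul_eq_mul]
    rw [mul_comm y q, mul_comm y h, show y * (e * y) = e * (y * y) by ring,
      show tr F E (e * (β * y)) = tr F E (h * y) by rw [hh', mul_assoc], sq_self hF,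
      mul_comm (tr F E (q * y))]
    have hs : tr F E (h * y) * tr F E (q * y) + tr F E (h * y) * tr F E (q * y) = 0 := by
      rw [← two_mul, ← one_add_one_eq_two, two_eq hF, zero_mul]
    linear_combination hs
  have hd0 : d ≠ 0 := fun h0 => by rw [h0, zero_mul, map_zero] at hdy; exact zero_ne_one hdy
  have hdβ : tr F E (d * β) = 0 := by rw [hdel, hRβ, mul_zero, map_zero]
  have hA : W (R + U d) := by
    refine halt _ _ le_rfl (fun a b => ?_) (fun a => ?_) ?_
    · simp only [LinearMap.add_apply, hU, mul_add, mul_smul_comm, map_add, map_smul, smul_eq_mul, hsym a b]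
      rw [mul_comm a d, mul_comm b d]; ring
    · simp only [LinearMap.add_apply, hU, mul_add, mul_smul_comm, map_add, map_smul, smul_eq_mul]
      rw [mul_comm a d, sq_self hF, ← hdel, ← two_mul, ← one_add_one_eq_two, two_eq hF, zero_mul]
    · rw [LinearMap.add_apply, hRβ, hU, hdβ, zero_smul, add_zero]
  have hUd : W (U d) := by
    have := hadd _ _ hWR hA
    rwa [← add_assoc, show R + R = 0 from LinearMap.ext fun z => two' _, zero_add] at this
  refine all_of_one S (u := d • v) (c := 1) (smul_ne_zero hd0 st.v_ne) one_ne_zero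
    (stv_of_mem S (Mem.congr hUd fun x => ?_))
  rw [hU, map_smul, tr_Gd, Gm_fix S st hdβ, one_mul]

end

/-- **Overgroups of the semilinear group are inside it or contain all transvections.** -/
theorem centres_of_not_lines (S : SData E f M) (hdim : 3 ≤ finrank E (ι → F) ∨ 3 ≤ finrank F E) {g : GL ι F}
    (hg : g ∈ M) {v : ι → F} {e : E}
    (h : (g : Matrix ι ι F) *ᵥ (e • v) ∉ Submodule.span E {(g : Matrix ι ι F) *ᵥ v}) :
    ∀ y, y ∈ centres S.form M := by
  obtain ⟨g', hg', v', w, β, c, hv, hβ, hc, hpair, hact⟩ := exists_state S hg h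
  have st : State S g' v' w β c := ⟨hg', hv, hβ, hc, hpair, hact⟩
  by_cases hF : ∀ x : F, x = 0 ∨ x = 1
  · rcases hdim with h | h
    · exact third S st hF h
    · exact diag S st hF h
  · push Not at hF
    obtain ⟨s, hs0, hs1⟩ := hF
    exact large S st hs0 hs1

end CfsgLib.Perm.Trans.Symp.Ext
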