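import Cfsg.Agent.Lib.Perm.Trans.SympOverfield

/-!
# An overgroup of the normaliser of a unitary overfield contains every symplectic transvection
-/

set_option autoImplicit false
set_option linter.all false

namespace CfsgLib.Perm.Trans.Symp.Over

open scoped Matrix
open Matrix Cfsg.Geo CfsgLib.Perm.Asch CfsgLib.Perm.Trans

/-- conjugates of commutators of two one-parameter groups -/
theorem conj_comm_mem {G R : Type*} [Group G] [AddCommGroup R] {M : Subgroup G} {σ τ : R → G}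
    (hσ : ∀ a b, σ a * σ b = σ (a + b)) (hτ : ∀ a b, τ a * τ b = τ (a + b))
    (hL : ∀ c a, σ c * τ a * (σ c)⁻¹ * (τ a)⁻¹ ∈ M) (b c y a : R) :
    σ c * τ y * σ b * τ a * (σ c * τ y * σ b)⁻¹ * (τ a)⁻¹ ∈ M := by
  have hcomm : τ y * τ a = τ a * τ y := by rw [hτ, hτ, add_comm]
  have hy : ∀ c' a', τ y * (σ c' * τ a' * (σ c')⁻¹ * (τ a')⁻¹) * (τ y)⁻¹ ∈ M := by
    intro c' a'
    have e : τ y * (σ c' * τ a' * (σ c')⁻¹ * (τ a')⁻¹) * (τ y)⁻¹ =
        (σ c' * τ y * (σ c')⁻¹ * (τ y)⁻¹)⁻¹ * (σ c' * τ (y + a') * (σ c')⁻¹ * (τ (y + a'))⁻¹) := by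
      have h1 : (τ (y + a'))⁻¹ = (τ a')⁻¹ * (τ y)⁻¹ := by rw [← hτ, _root_.mul_inv_rev]
      rw [h1, ← hτ]
      group
    rw [e]
    exact M.mul_mem (M.inv_mem (hL _ _)) (hL _ _)
  have hc : ∀ c' a', σ c * (σ c' * τ a' * (σ c')⁻¹ * (τ a')⁻¹) * (σ c)⁻¹ ∈ M := by
    intro c' a'
    have e : σ c * (σ c' * τ a' * (σ c')⁻¹ * (τ a')⁻¹) * (σ c)⁻¹ =
        (σ (c + c') * τ a' * (σ (c + c'))⁻¹ * (τ a')⁻¹) * (σ c * τ a' * (σ c)⁻¹ * (τ a')⁻¹)⁻¹ := by
      rw [← hσ]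
      group
    rw [e]
    exact M.mul_mem (hL _ _) (M.inv_mem (hL _ _))
  have e : σ c * τ y * σ b * τ a * (σ c * τ y * σ b)⁻¹ * (τ a)⁻¹ =
      σ c * (τ y * (σ b * τ a * (σ b)⁻¹ * (τ a)⁻¹) * (τ y)⁻¹) * (σ c)⁻¹ * (σ c * τ a * (σ c)⁻¹ * (τ a)⁻¹) := by
    have h1 : (τ y)⁻¹ * τ a = τ a * (τ y)⁻¹ := by
      rw [eq_mul_inv_iff_mul_eq, mul_assoc, ← hcomm, inv_mul_cancel_left]
    have h2 : (τ a)⁻¹ * ((τ y)⁻¹ * τ a) = (τ y)⁻¹ := by rw [h1, inv_mul_cancel_left]
    conv_lhs => rw [_root_.mul_inv_rev, _root_.mul_inv_rev, ← h2]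
    group
  rw [e]
  refine M.mul_mem ?_ (hL _ _)
  have e2 : τ y * (σ b * τ a * (σ b)⁻¹ * (τ a)⁻¹) * (τ y)⁻¹ =
      (σ b * τ y * (σ b)⁻¹ * (τ y)⁻¹)⁻¹ * (σ b * τ (y + a) * (σ b)⁻¹ * (τ (y + a))⁻¹) := by
    have h1 : (τ (y + a))⁻¹ = (τ a)⁻¹ * (τ y)⁻¹ := by rw [← hτ, _root_.mul_inv_rev]
    rw [h1, ← hτ]
    group
  rw [e2]
  have e3 : ∀ p q : G, σ c * (p⁻¹ * q) * (σ c)⁻¹ = (σ c * p * (σ c)⁻¹)⁻¹ * (σ c * q * (σ c)⁻¹) := by
    intro p q; group
  rw [e3]
  exact M.mul_mem (M.inv_mem (hc _ _)) (hc _ _)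

variable {ι : Type} [Fintype ι] [DecidableEq ι] {F : Type*} [Field F] [Fintype F]
variable {f : (ι → F) → (ι → F) → F} {E : Matrix ι ι F} {d : F}

/-- the displacement of a unitary transvection -/
def zv (_D : OData f E d) (u v : ι → F) : ι → F := (-(d * f v u)) • u + f v (E *ᵥ u) • (E *ᵥ u)

variable (D : OData f E d)
include D

/-- the unitary transvection at an isotropic vector -/
def ut (u : ι → F) (a : F) : GL ι F := stv D.form u (-(d * a)) * stv D.form (E *ᵥ u) a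

theorem ut_apply {u : ι → F} (hu : bq f E u = 0) (a : F) (v : ι → F) :
    (ut D u a : Matrix ι ι F) *ᵥ v = v + a • zv D u v := by
  rw [ut, gl_mul_mulVec, stv_mulVec, stv_mulVec, D.form.bilinear.add_left, D.form.bilinear.smul_left,
    show f (E *ᵥ u) u = 0 from hu, zv]
  module

theorem ut_iso (u : ι → F) (a : F) : ut D u a ∈ isoSub f := mul_mem (stv_iso D.form _ _) (stv_iso D.form _ _)

theorem ut_comm {u : ι → F} (hu : bq f E u = 0) (a : F) (v : ι → F) :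
    E *ᵥ ((ut D u a : Matrix ι ι F) *ᵥ v) = (ut D u a : Matrix ι ι F) *ᵥ (E *ᵥ v) := by
  rw [ut_apply D hu, ut_apply D hu, zv, zv, f_EE D, D.skew, mulVec_add, mulVec_smul, mulVec_add, mulVec_smul,
    mulVec_smul, D.sq]
  module

theorem zv_pair {u v : ι → F} :
    f v (zv D u v) = -(d * (f v u * f v u)) + f v (E *ᵥ u) * f v (E *ᵥ u) := by
  rw [zv, D.form.bilinear.add_right, D.form.bilinear.smul_right, D.form.bilinear.smul_right]
  ring

theorem zv_pair_ne {u v : ι → F} (h : u ∉ pk D v) : f v (zv D u v) ≠ 0 := by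
  rw [zv_pair D]
  exact norm_ne D fun h' => h (pk_symm D ((mem_pk D).2 h'))

theorem zv_orth {u v x : ι → F} (h : x ∈ pk D u) : f x (zv D u v) = 0 := by
  obtain ⟨h1, h2⟩ := (mem_pk D).1 h
  rw [zv, D.form.bilinear.add_right, D.form.bilinear.smul_right, D.form.bilinear.smul_right, h1, h2, mul_zero,
    mul_zero, add_zero]

theorem ut_fix {u x : ι → F} (hu : bq f E u = 0) (h : x ∈ pk D u) (a : F) : (ut D u a : Matrix ι ι F) *ᵥ x = x := by
  obtain ⟨h1, h2⟩ := (mem_pk D).1 h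
  rw [ut_apply D hu, zv, h1, h2]
  simp

theorem K_inv {W : Submodule F (ι → F)} (hW : ∀ w ∈ W, E *ᵥ w ∈ W) {u : ι → F} {a b : F} (hab : ¬(a = 0 ∧ b = 0))
    (h : a • u + b • (E *ᵥ u) ∈ W) : u ∈ W := by
  have hN := norm_ne D (a := b) (b := a) fun h => hab ⟨h.2, h.1⟩
  have h1 : (-(d * (b * b)) + a * a) • u = a • (a • u + b • (E *ᵥ u)) - b • (E *ᵥ (a • u + b • (E *ᵥ u))) := by
    rw [mulVec_add, mulVec_smul, mulVec_smul, D.sq]
    module
  have h2 : (-(d * (b * b)) + a * a) • u ∈ W := h1 ▸ W.sub_mem (W.smul_mem a h) (W.smul_mem b (hW _ h))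
  exact (Submodule.smul_mem_iff _ hN).1 h2

variable {M : Subgroup (GL ι F)} (hM : M ≤ isoSub f)
variable (hN : ∀ g ∈ isoSub f, (∀ v, E *ᵥ ((g : Matrix ι ι F) *ᵥ v) = (g : Matrix ι ι F) *ᵥ (E *ᵥ v)) → g ∈ M)
include hM hN

theorem ut_mem {u : ι → F} (hu : bq f E u = 0) (a : F) : ut D u a ∈ M := hN _ (ut_iso D u a) (ut_comm D hu a)

theorem exists_centre_aux {g : GL ι F} (hg : g ∈ M) {u : ι → F} (hu : bq f E u = 0)
    (hmove : ∀ a b : F, E *ᵥ ((g : Matrix ι ι F) *ᵥ u) ≠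
      a • ((g : Matrix ι ι F) *ᵥ u) + b • ((g : Matrix ι ι F) *ᵥ (E *ᵥ u)))
    (hgood : bq f E ((g : Matrix ι ι F) *ᵥ u) = 0 → bq f E ((g : Matrix ι ι F) *ᵥ (E *ᵥ u)) = 0) :
    ∃ v, v ≠ 0 ∧ v ∈ centres D.form M := by
  obtain ⟨w1, hw1⟩ : ∃ w, w = (g : Matrix ι ι F) *ᵥ u := ⟨_, rfl⟩
  obtain ⟨w2, hw2⟩ : ∃ w, w = (g : Matrix ι ι F) *ᵥ (E *ᵥ u) := ⟨_, rfl⟩
  rw [← hw1, ← hw2] at hmove hgood
  have hgI := hM hg
  have hu0 : u ≠ 0 := fun h => hmove 0 0 (by rw [hw1, h, mulVec_zero, mulVec_zero]; simp)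
  have hx : ∀ a, stv D.form w1 (-(d * a)) * stv D.form w2 a ∈ M := fun a => by
    rw [hw1, hw2, ← stv_conj D.form hgI, ← stv_conj D.form hgI]
    have := M.mul_mem (M.mul_mem hg (ut_mem D hM hN hu a)) (M.inv_mem hg)
    rw [ut] at this
    convert this using 1
    group
  have hind : ∀ x y : F, w2 ≠ x • w1 + y • (E *ᵥ w1) := fun x y h => by
    rcases eq_or_ne y 0 with hy | hy
    · rw [hy, zero_smul, add_zero, hw1, hw2, ← mulVec_smul] at h
      have h' : (g : Matrix ι ι F) *ᵥ ((-x) • u + (1 : F) • (E *ᵥ u)) = 0 := by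
        rw [mulVec_add, mulVec_smul, mulVec_smul, h, mulVec_smul]; module
      exact combo_ne D hu0 (fun h => one_ne_zero h.2) (gl_mulVec_eq_zero.1 h')
    · refine hmove (-(x / y)) (1 / y) ?_
      rw [h]
      match_scalars <;> field_simp <;> ring
  obtain ⟨u₀, hu₀, hu₀1, hu₀2⟩ := iso_sep D hind fun h => Or.inl (hgood h)
  obtain ⟨z0, hz0⟩ : ∃ z, z = zv D u₀ w2 := ⟨_, rfl⟩
  obtain ⟨e, he⟩ : ∃ e, f w2 z0 = e := ⟨_, rfl⟩
  have he0 : e ≠ 0 := he ▸ hz0 ▸ zv_pair_ne D hu₀2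
  have hze : f z0 w2 = -e := by rw [D.form.skew, he]
  let σ : F → GL ι F := fun c => stv D.form z0 c
  let τ : F → GL ι F := fun c => stv D.form w2 c
  have hσ : ∀ a b, σ a * σ b = σ (a + b) := stv_mul D.form z0
  have hτ : ∀ a b, τ a * τ b = τ (a + b) := stv_mul D.form w2
  have inv_eq : ∀ (v : ι → F) (c : F), (stv D.form v c)⁻¹ = stv D.form v (-c) := fun v c =>
    inv_eq_of_mul_eq_one_right (by rw [stv_mul, add_neg_cancel, stv_zero])
  have hK : ∀ c a, (τ a)⁻¹ * (σ c * τ a * (σ c)⁻¹) ∈ M := by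
    intro c a
    have h1 := M.mul_mem (M.mul_mem (ut_mem D hM hN hu₀ (c * e)) (hx a)) (M.inv_mem (ut_mem D hM hN hu₀ (c * e)))
    have e1 : ut D u₀ (c * e) * (stv D.form w1 (-(d * a)) * stv D.form w2 a) * (ut D u₀ (c * e))⁻¹ =
        stv D.form w1 (-(d * a)) * (σ c * τ a * (σ c)⁻¹) := by
      rw [show ut D u₀ (c * e) * (stv D.form w1 (-(d * a)) * stv D.form w2 a) * (ut D u₀ (c * e))⁻¹ =
        (ut D u₀ (c * e) * stv D.form w1 (-(d * a)) * (ut D u₀ (c * e))⁻¹) *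
          (ut D u₀ (c * e) * stv D.form w2 a * (ut D u₀ (c * e))⁻¹) by group,
        stv_conj D.form (ut_iso D _ _), stv_conj D.form (ut_iso D _ _), stv_conj D.form (stv_iso D.form z0 c),
        ut_fix D hu₀ (pk_symm D hu₀1), ut_apply D hu₀, stv_mulVec, he, ← hz0]
    rw [e1] at h1
    have h2 := M.mul_mem (M.inv_mem (hx a)) h1
    convert h2 using 1
    simp only [τ]
    group
  have hL : ∀ c a, σ c * τ a * (σ c)⁻¹ * (τ a)⁻¹ ∈ M := fun c a => by
    have h1 := M.inv_mem (hK c (-a))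
    have h2 : τ (-a) = (τ a)⁻¹ := (inv_eq w2 a).symm
    rw [h2] at h1
    convert h1 using 1
    group
  by_cases hs : ∃ s : F, s ≠ 0 ∧ s * s ≠ 1
  · obtain ⟨s, hs0, hs1⟩ := hs
    refine ⟨w2, ?_, fun k => ?_⟩
    · intro h
      exact hind 0 0 (by rw [h]; simp)
    have h1 := conj_comm_mem hσ hτ hL 1 (-1 / s) ((1 - s) / (e * e)) (k / (s * s - 1))
    have hmove2 : ((σ (-1 / s) * τ ((1 - s) / (e * e)) * σ 1 : GL ι F) : Matrix ι ι F) *ᵥ w2 = s • w2 := by
      simp only [σ, τ, gl_mul_mulVec, stv_mulVec, D.form.bilinear.add_left, D.form.bilinear.smul_left,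
        D.form.alternating, he, hze]
      match_scalars <;> field_simp <;> ring
    rw [show τ (k / (s * s - 1)) = stv D.form w2 (k / (s * s - 1)) from rfl,
      stv_conj D.form (mul_mem (mul_mem (stv_iso D.form _ _) (stv_iso D.form _ _)) (stv_iso D.form _ _)),
      hmove2, stv_smul, inv_eq, stv_mul] at h1
    convert h1 using 2
    rw [show s * s * (k / (s * s - 1)) + -(k / (s * s - 1)) = (s * s - 1) * (k / (s * s - 1)) by ring,
      mul_div_cancel₀ _ (sub_ne_zero.2 hs1)]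
  -- the field with three elements
  push Not at hs
  have hee : e * e = 1 := hs e he0
  have h3 : (3 : F) = 0 := by
    have := hs 2 D.two
    linear_combination this
  have hj : σ 1 * τ 1 * (σ 1)⁻¹ * (τ 1)⁻¹ ∈ M := hL 1 1
  obtain ⟨j, hjdef⟩ : ∃ j, j = σ 1 * τ 1 * (σ 1)⁻¹ * (τ 1)⁻¹ := ⟨_, rfl⟩
  rw [← hjdef] at hj
  have hjv : ∀ v, (j : Matrix ι ι F) *ᵥ v = v + (e * f v z0 - f v w2) • w2 + f v z0 • z0 := fun v => by
    rw [hjdef]
    simp only [σ, τ, inv_eq, gl_mul_mulVec, stv_mulVec, D.form.bilinear.add_left, D.form.bilinear.smul_left,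
      D.form.alternating, he, hze]
    match_scalars <;> grind
  obtain ⟨ι₁, hι₁def⟩ : ∃ x, x = j * j := ⟨_, rfl⟩
  have hι₁ : ι₁ ∈ M := hι₁def ▸ M.mul_mem hj hj
  have hι₁v : ∀ v, (ι₁ : Matrix ι ι F) *ᵥ v = v + (e * f v z0) • w2 - (e * f v w2) • z0 := fun v => by
    rw [hι₁def, gl_mul_mulVec, hjv, hjv]
    simp only [D.form.bilinear.add_left, D.form.bilinear.smul_left, D.form.alternating, he, hze]
    match_scalars <;> grind
  -- an element of order four over the overfield fixing `z0`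
  have hd1 : d = -1 := by
    rcases mul_self_eq_one_iff.1 (hs d (d_ne D)) with h | h
    · exact absurd (by rw [h, one_mul] : (1 : F) * 1 = d) (D.nsq 1)
    · exact h
  have hu₀0 : u₀ ≠ 0 := fun h => hu₀2 (h ▸ Submodule.zero_mem _)
  obtain ⟨c, hcu, hcq, hc2⟩ : ∃ c, c ∈ pk D u₀ ∧ bq f E c ≠ 0 ∧ c ∉ pk D w2 := by
    obtain ⟨p, hp, hup, hupE⟩ := partner D hu₀0
    obtain ⟨y1, hy1, hy1q⟩ := aniso_pair D hu₀ hp (by rw [hup]; exact one_ne_zero) hupE
    by_cases h : y1 ∈ pk D w2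
    · refine ⟨y1 + u₀, (pk D u₀).add_mem hy1.1 (pk_self D hu₀), ?_, fun h' => hu₀2 ?_⟩
      · rw [bq_add D, hu₀, D.skew, ((mem_pk D).1 hy1.1).2]
        simpa using hy1q
      · simpa using (pk D w2).sub_mem h' h
    · exact ⟨y1, hy1.1, hy1q, h⟩
  obtain ⟨bc, hbc⟩ : ∃ x, bq f E c = x := ⟨_, rfl⟩
  rw [hbc] at hcq
  have hcE : f (E *ᵥ c) c = bc := hbc
  have hcE' : f c (E *ᵥ c) = -bc := by rw [D.form.skew, hcE]
  let π : (ι → F) →ₗ[F] (ι → F) :=
    ((-bc⁻¹) • sfun D.form (E *ᵥ c)).smulRight c + (bc⁻¹ • sfun D.form c).smulRight (E *ᵥ c)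
  have hπ : ∀ v, π v = (-bc⁻¹ * f v (E *ᵥ c)) • c + (bc⁻¹ * f v c) • (E *ᵥ c) := fun v => rfl
  let δ : (ι → F) →ₗ[F] (ι → F) := (Matrix.mulVecLin E).comp π - π
  have hδ : ∀ v, δ v = E *ᵥ π v - π v := fun v => rfl
  obtain ⟨T, hT⟩ : ∃ T : GL ι F, ∀ v, (T : Matrix ι ι F) *ᵥ v = v + δ v := by
    let A : Matrix ι ι F := LinearMap.toMatrix' (LinearMap.id + δ)
    have hA : ∀ v, A *ᵥ v = v + δ v := fun v => by
      rw [← Matrix.toLin'_apply, Matrix.toLin'_toMatrix']; rfl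
    have hI : ∀ x y, f (A *ᵥ x) (A *ᵥ y) = f x y := fun x y => by
      simp only [hA, hδ, hπ, mulVec_add, mulVec_smul, D.sq, D.form.bilinear.add_left, D.form.bilinear.add_right,
        D.form.bilinear.smul_left, D.form.bilinear.smul_right, sub_left D.form, sub_right D.form, D.form.alternating,
        hcE, hcE', hd1, D.form.skew c y, D.form.skew (E *ᵥ c) y]
      field_simp
      ring
    have hu' : IsUnit A := Matrix.mulVec_injective_iff_isUnit.1 fun x y hxy => by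
      by_contra hne
      obtain ⟨⟨z, hz⟩, -⟩ := D.form.nondegenerate _ (sub_ne_zero.2 hne)
      have e := hI (x - y) z
      have e' := hI z (x - y)
      rw [mulVec_sub, show A *ᵥ x = A *ᵥ y from hxy, sub_self, zero_left D.form] at e
      rw [mulVec_sub, show A *ᵥ x = A *ᵥ y from hxy, sub_self, zero_right D.form] at e'
      first | exact hz e'.symm | exact hz e.symm
    exact ⟨hu'.unit, hA⟩
  have hTI : T ∈ isoSub f := mem_isoSub.2 fun x y => by
    simp only [hT, hδ, hπ, mulVec_add, mulVec_smul, D.sq, D.form.bilinear.add_left, D.form.bilinear.add_right,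
      D.form.bilinear.smul_left, D.form.bilinear.smul_right, sub_left D.form, sub_right D.form, D.form.alternating,
      hcE, hcE', hd1, D.form.skew c y, D.form.skew (E *ᵥ c) y]
    field_simp
    ring
  have hπE : ∀ v, π (E *ᵥ v) = E *ᵥ π v := fun v => by
    rw [hπ, hπ, f_EE D, D.skew, mulVec_add, mulVec_smul, mulVec_smul, D.sq]
    module
  have hTM : T ∈ M := hN T hTI fun v => by
    rw [hT, hT, hδ, hδ, hπE, mulVec_add, mulVec_sub]
  have hTz : (T : Matrix ι ι F) *ᵥ z0 = z0 := by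
    obtain ⟨e1, e2⟩ := (mem_pk D).1 (pk_symm D hcu)
    have h1 : π u₀ = 0 := by rw [hπ, e1, e2]; simp
    have h2 : π z0 = 0 := by rw [hz0, zv, map_add, map_smul, map_smul, hπE, h1]; simp
    rw [hT, hδ, h2]; simp
  obtain ⟨p, hpdef⟩ : ∃ p, p = π w2 := ⟨_, rfl⟩
  have hπp : π p = p := by
    rw [hpdef, hπ w2, map_add, map_smul, map_smul, hπE, show π c = c by
      rw [hπ, hcE', D.form.alternating, mul_zero, zero_smul, add_zero, neg_mul_neg, inv_mul_cancel₀ hcq, one_smul]]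
  have hpq : bq f E p ≠ 0 := by
    rw [hpdef, hπ, bq_add D, bq_smul D, bq_smul D, bq_E D, hbc, mulVec_smul, D.form.bilinear.smul_left,
      D.form.bilinear.smul_right, D.form.alternating, hd1]
    have hne := norm_ne D (a := f w2 c) (b := f w2 (E *ᵥ c)) fun h => hc2 (pk_symm D ((mem_pk D).2 h))
    rw [hd1] at hne
    intro h
    field_simp at h
    refine hne ((mul_eq_zero.1 (?_ : bc * _ = 0)).resolve_left hcq)
    linear_combination h
  obtain ⟨z2, hz2⟩ : ∃ z, z = E *ᵥ p - p := ⟨_, rfl⟩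
  have htI : T ∈ isoSub f := hTI
  obtain ⟨t, htdef⟩ : ∃ x, x = T := ⟨_, rfl⟩
  have htM : t ∈ M := htdef ▸ hTM
  replace htI : t ∈ isoSub f := htdef ▸ hTI
  have htz : (t : Matrix ι ι F) *ᵥ z0 = z0 := htdef ▸ hTz
  have htw : (t : Matrix ι ι F) *ᵥ w2 = w2 + z2 := by rw [htdef, hT, hδ, hz2, hpdef]
  have hzp : f z0 p = 0 ∧ f z0 (E *ᵥ p) = 0 := by
    have h1 : z0 ∈ pk D c := hz0 ▸ (pk D c).add_mem ((pk D c).smul_mem _ (pk_symm D hcu))
      ((pk D c).smul_mem _ (pk_inv D (pk_symm D hcu)))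
    obtain ⟨e1, e2⟩ := (mem_pk D).1 h1
    simp only [hpdef, hπ, mulVec_add, mulVec_smul, D.sq, D.form.bilinear.add_right, D.form.bilinear.smul_right,
      e1, e2]
    simp
  have hz20 : f z2 z0 = 0 := by
    rw [D.form.skew, hz2, sub_right D.form, hzp.1, hzp.2, sub_zero, neg_zero]
  obtain ⟨S, hSdef⟩ : ∃ S, S = ι₁ * (t * ι₁ * t⁻¹) := ⟨_, rfl⟩
  have hS : S ∈ M := hSdef ▸ M.mul_mem hι₁ (M.mul_mem (M.mul_mem htM hι₁) (M.inv_mem htM))
  have pull : ∀ {k : GL ι F}, k ∈ isoSub f → ∀ v x, f (((k⁻¹ : GL ι F) : Matrix ι ι F) *ᵥ v) x =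
      f v ((k : Matrix ι ι F) *ᵥ x) := fun {k} hk v x => by
    conv_rhs => rw [← gl_mulVec_inv k v, mem_isoSub.1 hk]
  have hι₂v : ∀ v, ((t * ι₁ * t⁻¹ : GL ι F) : Matrix ι ι F) *ᵥ v =
      v + (e * f v z0) • (w2 + z2) - (e * f v (w2 + z2)) • z0 := fun v => by
    rw [gl_mul_mulVec, gl_mul_mulVec, hι₁v, mulVec_sub, mulVec_add, mulVec_smul, mulVec_smul, gl_mulVec_inv,
      pull htI, pull htI, htz, htw]
  have hSv : ∀ v, (S : Matrix ι ι F) *ᵥ v =
      v + e • (f v z0 • z2 + f v z2 • z0) + (-(f z2 w2) * f v z0) • z0 := fun v => by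
    rw [hSdef, gl_mul_mulVec, hι₁v, hι₂v]
    simp only [D.form.bilinear.add_left, D.form.bilinear.add_right, D.form.bilinear.smul_left, sub_left D.form,
      D.form.alternating, he, hze, hz20]
    match_scalars <;> grind
  obtain ⟨t2, ht2def⟩ : ∃ x, x = T := ⟨_, rfl⟩
  obtain ⟨z3, hz3⟩ : ∃ z, z = E *ᵥ p := ⟨_, rfl⟩
  obtain ⟨e3, he3⟩ : ∃ x, f z2 z3 = x := ⟨_, rfl⟩
  have he30 : e3 ≠ 0 := by
    rw [← he3, hz2, hz3, sub_left D.form, D.form.alternating, D.form.skew p, show f (E *ᵥ p) p = bq f E p from rfl]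
    simpa using hpq
  have hz30 : f z3 z0 = 0 := by rw [D.form.skew, hz3, hzp.2, neg_zero]
  have ht2I : t2 ∈ isoSub f := ht2def ▸ hTI
  have ht2M : t2 ∈ M := ht2def ▸ hTM
  have ht2z : (t2 : Matrix ι ι F) *ᵥ z0 = z0 := ht2def ▸ hTz
  have ht2w : (t2 : Matrix ι ι F) *ᵥ z2 = z2 + z3 := by
    rw [ht2def, hT, hδ, hz2, hz3, map_sub, hπE, hπp, mulVec_sub, D.sq, hd1, add_right_inj]
    match_scalars <;> grind
  have hS'v : ∀ v, ((t2 * S * t2⁻¹ : GL ι F) : Matrix ι ι F) *ᵥ v =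
      v + e • (f v z0 • (z2 + z3) + f v (z2 + z3) • z0) + (-(f z2 w2) * f v z0) • z0 := fun v => by
    rw [gl_mul_mulVec, gl_mul_mulVec, hSv, mulVec_add, mulVec_add, mulVec_smul, mulVec_smul, mulVec_add, mulVec_smul,
      mulVec_smul, gl_mulVec_inv, pull ht2I, pull ht2I, ht2z, ht2w]
  have hS' : t2 * S * t2⁻¹ ∈ M := M.mul_mem (M.mul_mem ht2M hS) (M.inv_mem ht2M)
  obtain ⟨S', hS'def⟩ : ∃ x, x = t2 * S * t2⁻¹ := ⟨_, rfl⟩
  rw [← hS'def] at hS' hS'v
  have hz02 : f z0 z2 = 0 := swap_zero D.form hz20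
  have hz03 : f z0 z3 = 0 := swap_zero D.form hz30
  have he3' : f z3 z2 = -e3 := by rw [D.form.skew, he3]
  have hcomm : stv D.form z0 e3 = (S * S') * (S' * S)⁻¹ := by
    rw [eq_mul_inv_iff_mul_eq]
    refine gl_ext_vec fun v => ?_
    simp only [gl_mul_mulVec, stv_mulVec, hSv, hS'v]
    simp only [D.form.bilinear.add_left, D.form.bilinear.add_right, D.form.bilinear.smul_left,
      D.form.alternating, hz20, hz30, hz02, hz03, he3, he3']
    match_scalars <;> grind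
  have hz0mem : stv D.form z0 e3 ∈ M := hcomm ▸ M.mul_mem (M.mul_mem hS hS') (M.inv_mem (M.mul_mem hS' hS))
  refine ⟨z0, fun h => he0 (by rw [← he, h, zero_right D.form]), fun c => ?_⟩
  by_cases hc : c = 0
  · rw [hc, stv_zero]; exact M.one_mem
  have h5 : c / e3 = 1 ∨ c / e3 = -1 := mul_self_eq_one_iff.1 (hs _ (div_ne_zero hc he30))
  rcases h5 with h5 | h5
  · rw [(div_eq_one_iff_eq he30).1 h5]; exact hz0mem
  · rw [(div_eq_iff he30).1 h5, neg_one_mul, ← inv_eq]; exact M.inv_mem hz0mem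

/-- an element moving some line over the overfield to a plane gives a transvection -/
theorem exists_centre {g : GL ι F} (hg : g ∈ M) {u : ι → F} (hu : bq f E u = 0)
    (hmove : ∀ a b : F, E *ᵥ ((g : Matrix ι ι F) *ᵥ u) ≠
      a • ((g : Matrix ι ι F) *ᵥ u) + b • ((g : Matrix ι ι F) *ᵥ (E *ᵥ u))) :
    ∃ v, v ≠ 0 ∧ v ∈ centres D.form M := by
  have hEu : bq f E (E *ᵥ u) = 0 := by rw [bq_E D, hu, mul_zero, neg_zero]
  by_cases h : bq f E ((g : Matrix ι ι F) *ᵥ (E *ᵥ u)) = 0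
  · exact exists_centre_aux D hM hN hg hu hmove fun _ => h
  refine exists_centre_aux D hM hN hg hEu (fun a b hab => ?_) fun h' => absurd h' h
  rw [D.sq, mulVec_smul] at hab
  have h2 : E *ᵥ (E *ᵥ ((g : Matrix ι ι F) *ᵥ (E *ᵥ u))) =
      E *ᵥ (a • ((g : Matrix ι ι F) *ᵥ (E *ᵥ u)) + b • d • ((g : Matrix ι ι F) *ᵥ u)) := congrArg _ hab
  rw [D.sq, mulVec_add, mulVec_smul, mulVec_smul, mulVec_smul, hab] at h2
  have hd := d_ne D
  rcases eq_or_ne b 0 with hb | hb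
  · rw [hb] at h2
    have h3 : (d - a * a) • ((g : Matrix ι ι F) *ᵥ (E *ᵥ u)) = 0 := by linear_combination (norm := module) h2
    exact h (by rw [(smul_eq_zero.1 h3).resolve_left (sub_ne_zero.2 (D.nsq a).symm), bq, zero_right D.form])
  · refine hmove (-a) ((d - a * a) / (b * d)) ?_
    refine smul_right_injective (ι → F) (mul_ne_zero hb hd) ?_
    show (b * d) • _ = (b * d) • _
    simp only [smul_add, smul_smul]
    rw [mul_div_cancel₀ _ (mul_ne_zero hb hd)]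
    linear_combination (norm := module) -h2

omit hN in
theorem centre_shift {c u : ι → F} {h : GL ι F} (hh : h ∈ M) (hc : c ∈ centres D.form M)
    (hmv : (h : Matrix ι ι F) *ᵥ c = c + u) (hcu : f c u ≠ 0) : u ∈ centres D.form M := by
  have h1 := centres_conj D.form hM hh hc
  rw [hmv] at h1
  have h2 := centres_line D.form hM hc h1 (by rwa [D.form.bilinear.add_right, D.form.alternating, zero_add]) (-1)
  have h3 := centres_smul D.form h2 (-1)
  convert h3 using 1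
  module

/-- all vectors are centres -/
theorem all_centres {g : GL ι F} (hg : g ∈ M) {u₁ : ι → F} (hu₁ : bq f E u₁ = 0)
    (hmove : ∀ a b : F, E *ᵥ ((g : Matrix ι ι F) *ᵥ u₁) ≠
      a • ((g : Matrix ι ι F) *ᵥ u₁) + b • ((g : Matrix ι ι F) *ᵥ (E *ᵥ u₁))) :
    ∀ v, v ∈ centres D.form M := by
  obtain ⟨v₀, hv₀, hv₀c⟩ := exists_centre D hM hN hg hu₁ hmove
  have star : ∀ {c u : ι → F}, c ∈ centres D.form M → bq f E u = 0 → u ∉ pk D c →
      zv D u c ∈ centres D.form M := fun {c u} hc hu hn =>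
    centre_shift D hM (ut_mem D hM hN hu 1) hc (by rw [ut_apply D hu, one_smul]) (zv_pair_ne D hn)
  have rule : ∀ {c r : ι → F}, c ∈ centres D.form M → bq f E r = 0 → f c (E *ᵥ r) = 0 → f c r ≠ 0 →
      r ∈ centres D.form M := fun {c r} hc hr h1 h2 => by
    have h3 := star hc hr (fun h => h2 ((mem_pk D).1 (pk_symm D h)).1)
    rw [zv, h1, zero_smul, add_zero] at h3
    have h4 := centres_smul D.form h3 (-(d * f c r))⁻¹
    rwa [smul_smul, inv_mul_cancel₀ (neg_ne_zero.2 (mul_ne_zero (d_ne D) h2)), one_smul] at h4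
  have hne : ∀ {c u : ι → F}, c ≠ 0 → bq f E c = 0 → u ∉ pk D c → ¬(f c u = 0 ∧ f c (E *ᵥ u) = 0) :=
    fun {c u} _ _ hn h => hn (pk_symm D ((mem_pk D).2 h))
  -- a whole line over the overfield
  have line : ∀ {c : ι → F}, c ∈ centres D.form M → c ≠ 0 → bq f E c = 0 → ∀ k1 k2 : F,
      k1 • c + k2 • (E *ᵥ c) ∈ centres D.form M := by
    intro c hc hc0 hcq k1 k2
    by_cases hk : k1 = 0 ∧ k2 = 0
    · rw [hk.1, hk.2, zero_smul, zero_smul, add_zero]
      exact fun a => by rw [stv_zero_left]; exact M.one_mem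
    obtain ⟨u, hu, hun, -⟩ := iso_nonperp D hc0 hc0
    obtain ⟨p, hp⟩ : ∃ p, p = zv D u c := ⟨_, rfl⟩
    have hpc : p ∈ centres D.form M := hp ▸ star hc hu hun
    obtain ⟨e, he⟩ : ∃ e, f c p = e := ⟨_, rfl⟩
    have he0 : e ≠ 0 := he ▸ hp ▸ zv_pair_ne D hun
    have hcp : f c (E *ᵥ p) = 0 := by
      rw [hp, zv, mulVec_add, mulVec_smul, mulVec_smul, D.sq, D.form.bilinear.add_right, D.form.bilinear.smul_right,
        D.form.bilinear.smul_right, D.form.bilinear.smul_right]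
      ring
    have hEu : bq f E (E *ᵥ u) = 0 := by rw [bq_E D, hu, mul_zero, neg_zero]
    have hpq : bq f E p = 0 := by
      rw [hp, zv, bq_add D, bq_smul D, bq_smul D, hu, hEu, mulVec_smul, D.form.bilinear.smul_left,
        D.form.bilinear.smul_right, D.form.alternating]
      ring
    obtain ⟨y, hy, hy0⟩ := aniso_pair D hcq hpq (he.symm ▸ he0) hcp
    obtain ⟨w, hw, hwq⟩ := rep D (pk D c ⊓ pk D p) (fun w hw => ⟨pk_inv D hw.1, pk_inv D hw.2⟩) hy hy0
      (2 * k2 * d * e)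
    obtain ⟨wc1, wc2⟩ := (mem_pk D).1 (pk_symm D hw.1)
    obtain ⟨wp1, wp2⟩ := (mem_pk D).1 (pk_symm D hw.2)
    obtain ⟨wc3, wc4⟩ := (mem_pk D).1 hw.1
    have hcc : f c (E *ᵥ c) = 0 := f_self_E D hcq
    have hpp : f p (E *ᵥ p) = 0 := f_self_E D hpq
    have hpcE : f p (E *ᵥ c) = 0 := by rw [D.form.skew, D.skew, hcp, neg_zero, neg_zero]
    have hpc' : f p c = -e := by rw [D.form.skew, he]
    obtain ⟨r, hr⟩ : ∃ r, r = c + (k1 • p + k2 • (E *ᵥ p)) + w := ⟨_, rfl⟩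
    have hrq : bq f E r = 0 := by
      have hEp : bq f E (E *ᵥ p) = 0 := by rw [bq_E D, hpq, mul_zero, neg_zero]
      have h1 : f (E *ᵥ (c + (k1 • p + k2 • (E *ᵥ p)))) w = 0 := by
        rw [D.skew]
        simp only [D.form.bilinear.add_left, D.form.bilinear.smul_left, D.skew p, D.sq, D.form.bilinear.smul_right,
          wc2, wp1, wp2, mul_zero, add_zero, neg_zero]
      have h2 : f (E *ᵥ c) (k1 • p + k2 • (E *ᵥ p)) = -(k2 * (d * e)) := by
        rw [D.skew, mulVec_add, mulVec_smul, mulVec_smul, D.sq, D.form.bilinear.add_right, D.form.bilinear.smul_right,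
          D.form.bilinear.smul_right, D.form.bilinear.smul_right, hcp, he]
        ring
      rw [hr, bq_add D, bq_add D, bq_add D, bq_smul D, bq_smul D, hcq, hpq, hEp, h1, hwq, h2, mulVec_smul,
        D.form.bilinear.smul_left, D.form.bilinear.smul_right, D.form.alternating]
      ring
    have hrc : r ∈ centres D.form M := by
      refine rule hpc hrq ?_ ?_
      · rw [hr]
        simp only [mulVec_add, mulVec_smul, D.sq, D.form.bilinear.add_right, D.form.bilinear.smul_right, hpcE, hpp,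
          D.form.alternating, wp2, mul_zero, add_zero]
      · rw [hr]
        simp only [D.form.bilinear.add_right, D.form.bilinear.smul_right, hpc', hpp, D.form.alternating, wp1,
          mul_zero, add_zero]
        exact neg_ne_zero.2 he0
    have hkq : bq f E (k1 • c + k2 • (E *ᵥ c)) = 0 := by
      rw [bq_add D, bq_smul D, bq_smul D, bq_E D, hcq, mulVec_smul, D.form.bilinear.smul_left,
        D.form.bilinear.smul_right, D.form.alternating]
      ring
    have hEpc : f (E *ᵥ p) c = 0 := by rw [D.skew, hpcE, neg_zero]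
    have hEpEc : f (E *ᵥ p) (E *ᵥ c) = d * e := by rw [f_EE D, hpc']; ring
    refine rule hrc hkq ?_ ?_
    · rw [hr]
      simp only [mulVec_add, mulVec_smul, D.sq, D.form.bilinear.add_left, D.form.bilinear.add_right,
        D.form.bilinear.smul_left, D.form.bilinear.smul_right, hpcE, hpc', hEpc, hEpEc, hcc, D.form.alternating,
        wc3, wc4, mul_zero, add_zero, zero_add]
      ring
    · rw [hr]
      simp only [D.form.bilinear.add_left, D.form.bilinear.add_right,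
        D.form.bilinear.smul_left, D.form.bilinear.smul_right, hpcE, hpc', hEpc, hEpEc, hcc, D.form.alternating,
        wc3, wc4, mul_zero, add_zero, zero_add]
      intro h0
      refine norm_ne D (a := k2) (b := k1) (fun h => hk ⟨h.2, h.1⟩) (mul_right_cancel₀ he0 ?_)
      linear_combination -h0
  have step : ∀ {c u : ι → F}, c ∈ centres D.form M → c ≠ 0 → bq f E c = 0 → bq f E u = 0 → u ∉ pk D c →
      u ∈ centres D.form M := by
    intro c u hc hc0 hcq hu hun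
    have hz := star hc hu hun
    have hA := hne hc0 hcq hun
    have hA' : ¬(-(d * f c u) = 0 ∧ f c (E *ᵥ u) = 0) := fun h => hA
      ⟨(mul_eq_zero.1 (neg_eq_zero.1 h.1)).resolve_left (d_ne D), h.2⟩
    have hEu : bq f E (E *ᵥ u) = 0 := by rw [bq_E D, hu, mul_zero, neg_zero]
    have hzq : bq f E (zv D u c) = 0 := by
      rw [zv, bq_add D, bq_smul D, bq_smul D, hu, hEu, mulVec_smul, D.form.bilinear.smul_left,
        D.form.bilinear.smul_right, D.form.alternating]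
      ring
    have hz0 : zv D u c ≠ 0 := fun h => zv_pair_ne D hun (by rw [h, zero_right D.form])
    obtain ⟨a, ha⟩ : ∃ a, a = -(d * f c u) := ⟨_, rfl⟩
    obtain ⟨b, hb⟩ : ∃ b, b = f c (E *ᵥ u) := ⟨_, rfl⟩
    rw [← ha, ← hb] at hA'
    have hN := norm_ne D (a := b) (b := a) fun h => hA' ⟨h.2, h.1⟩
    have := line hz hz0 hzq (a / (-(d * (b * b)) + a * a)) (-b / (-(d * (b * b)) + a * a))
    convert this using 1
    rw [zv, ← ha, ← hb, mulVec_add, mulVec_smul, mulVec_smul, D.sq]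
    generalize hn : -(d * (b * b)) + a * a = n at hN ⊢
    match_scalars <;> field_simp <;> first | linear_combination hn | linear_combination -hn | ring
  obtain ⟨c₀, hc₀, hc₀0, hc₀q⟩ : ∃ c, c ∈ centres D.form M ∧ c ≠ 0 ∧ bq f E c = 0 := by
    obtain ⟨u, hu, hun, -⟩ := iso_nonperp D hv₀ hv₀
    have hEu : bq f E (E *ᵥ u) = 0 := by rw [bq_E D, hu, mul_zero, neg_zero]
    refine ⟨zv D u v₀, star hv₀c hu hun, fun h => zv_pair_ne D hun (by rw [h, zero_right D.form]), ?_⟩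
    rw [zv, bq_add D, bq_smul D, bq_smul D, hu, hEu, mulVec_smul, D.form.bilinear.smul_left,
      D.form.bilinear.smul_right, D.form.alternating]
    ring
  have hiso : ∀ u, u ≠ 0 → bq f E u = 0 → u ∈ centres D.form M := by
    intro u hu0 hu
    obtain ⟨p, hp, hpc, hpu⟩ := iso_nonperp D hc₀0 hu0
    have hp0 : p ≠ 0 := fun h => hpc (h ▸ Submodule.zero_mem _)
    exact step (step hc₀ hc₀0 hc₀q hp hpc) hp0 hp hu fun h => hpu (pk_symm D h)
  intro v
  rcases eq_or_ne v 0 with rfl | hv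
  · exact fun a => by rw [stv_zero_left]; exact M.one_mem
  obtain ⟨y, hy, hvy, hpair⟩ := split_iso D hv
  have hy0 : y ≠ 0 := fun h => by
    rw [h, zero_right D.form] at hpair
    exact zero_ne_one hpair
  have hvy0 : v - y ≠ 0 := fun h => by
    rw [h, zero_left D.form] at hpair
    exact zero_ne_one hpair
  have := centres_line D.form hM (hiso _ hvy0 hvy) (hiso _ hy0 hy) (by rw [hpair]; exact one_ne_zero) 1
  rwa [one_smul, sub_add_cancel] at this

end CfsgLib.Perm.Trans.Symp.Over
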