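import Cfsg.Agent.Lib.Perm.Trans.SympMax
import Cfsg.Agent.Lib.Perm.Trans.OrthB
import Cfsg.Agent.Lib.Perm.Trans.QuadNondeg

/-!
# Normalisers of unitary overfields are maximal in symplectic groups

`E` is an element of trace zero of a quadratic field extension; `f (E ·) ·` is the real part of the Hermitian form.
A conjugate of a unitary transvection outside the normaliser yields a symplectic transvection in the overgroup, and
the centres of such transvections fill the space.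
-/

set_option autoImplicit false
set_option linter.all false

namespace CfsgLib.Perm.Trans.Symp.Over

open scoped Matrix
open Matrix Cfsg.Geo CfsgLib.Perm.Asch CfsgLib.Perm.Trans

variable {ι : Type} [Fintype ι] [DecidableEq ι] {F : Type*} [Field F] [Fintype F]
variable {f : (ι → F) → (ι → F) → F} {E : Matrix ι ι F} {d : F}

/-- the data of a unitary overfield -/
structure OData (f : (ι → F) → (ι → F) → F) (E : Matrix ι ι F) (d : F) : Prop where
  form : IsSymplecticForm f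
  two : (2 : F) ≠ 0
  nsq : ∀ s : F, s * s ≠ d
  sq : ∀ v : ι → F, E *ᵥ (E *ᵥ v) = d • v
  skew : ∀ u v, f (E *ᵥ u) v = -f u (E *ᵥ v)
  big : 6 ≤ Fintype.card ι

/-- the quadratic form `v ↦ f (E v) v` -/
def bq (f : (ι → F) → (ι → F) → F) (E : Matrix ι ι F) (v : ι → F) : F := f (E *ᵥ v) v

variable (D : OData f E d)
include D

theorem d_ne : d ≠ 0 := fun h => D.nsq 0 (by rw [h, mul_zero])

theorem E_ne {v : ι → F} (hv : v ≠ 0) : E *ᵥ v ≠ 0 := fun h => by
  have h1 := D.sq v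
  rw [h, mulVec_zero] at h1
  exact hv ((smul_eq_zero.1 h1.symm).resolve_left (d_ne D))

theorem f_EE (u v : ι → F) : f (E *ᵥ u) (E *ᵥ v) = -(d * f u v) := by
  rw [D.skew, D.sq, D.form.bilinear.smul_right]

theorem b_symm (u v : ι → F) : f (E *ᵥ u) v = f (E *ᵥ v) u := by rw [D.skew, ← D.form.skew]

theorem bq_E (v : ι → F) : bq f E (E *ᵥ v) = -(d * bq f E v) := by
  rw [bq, bq, f_EE D]

theorem bq_add (v w : ι → F) : bq f E (v + w) = bq f E v + 2 * f (E *ᵥ v) w + bq f E w := by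
  rw [bq, bq, bq, mulVec_add, D.form.bilinear.add_left, D.form.bilinear.add_right, D.form.bilinear.add_right,
    b_symm D w v]
  ring

theorem bq_smul (c : F) (v : ι → F) : bq f E (c • v) = c * c * bq f E v := by
  rw [bq, bq, mulVec_smul, D.form.bilinear.smul_left, D.form.bilinear.smul_right, mul_assoc]

theorem f_self_E {v : ι → F} (h : bq f E v = 0) : f v (E *ᵥ v) = 0 := by
  rw [D.form.skew, show f (E *ᵥ v) v = 0 from h, neg_zero]

theorem combo_ne {v : ι → F} (hv : v ≠ 0) {a b : F} (h : ¬(a = 0 ∧ b = 0)) : a • v + b • (E *ᵥ v) ≠ 0 := by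
  intro h0
  have h1 := congrArg (fun x => a • x - b • (E *ᵥ x)) h0
  simp only [mulVec_add, mulVec_smul, D.sq, mulVec_zero, smul_zero, sub_zero] at h1
  have h2 : (a * a - d * (b * b)) • v = 0 := by rw [← h1]; module
  have h3 := (smul_eq_zero.1 h2).resolve_right hv
  rcases eq_or_ne b 0 with hb | hb
  · rw [hb, mul_zero, mul_zero, sub_zero, mul_self_eq_zero] at h3
    exact h ⟨h3, hb⟩
  · refine D.nsq (a / b) ?_
    field_simp
    linear_combination h3

theorem norm_ne {a b : F} (h : ¬(a = 0 ∧ b = 0)) : -(d * (a * a)) + b * b ≠ 0 := by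
  intro h0
  rcases eq_or_ne a 0 with ha | ha
  · rw [ha, mul_zero, mul_zero, neg_zero, zero_add, mul_self_eq_zero] at h0
    exact h ⟨ha, h0⟩
  · refine D.nsq (b / a) ?_
    field_simp
    linear_combination h0

/-! ### Orthogonality over the overfield -/

/-- orthogonal to the line of `a` over the overfield -/
def pk (a : ι → F) : Submodule F (ι → F) :=
  LinearMap.ker (sfun D.form a) ⊓ LinearMap.ker (sfun D.form (E *ᵥ a))

theorem mem_pk {a v : ι → F} : v ∈ pk D a ↔ f v a = 0 ∧ f v (E *ᵥ a) = 0 := Iff.rfl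

theorem pk_symm {a v : ι → F} (h : v ∈ pk D a) : a ∈ pk D v := by
  rw [mem_pk] at h ⊢
  exact ⟨by rw [D.form.skew, h.1, neg_zero],
    by rw [D.form.skew, D.skew, h.2, neg_zero, neg_zero]⟩

theorem pk_inv {a v : ι → F} (h : v ∈ pk D a) : E *ᵥ v ∈ pk D a := by
  rw [mem_pk] at h ⊢
  exact ⟨by rw [D.skew, h.2, neg_zero], by rw [f_EE D, h.1, mul_zero, neg_zero]⟩

theorem pk_E {a v : ι → F} (h : v ∈ pk D a) : v ∈ pk D (E *ᵥ a) := by
  rw [mem_pk] at h ⊢
  exact ⟨h.2, by rw [D.sq, D.form.bilinear.smul_right, h.1, mul_zero]⟩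

theorem finrank_pk (W : Submodule F (ι → F)) (a : ι → F) :
    Module.finrank F W ≤ Module.finrank F ↥(W ⊓ pk D a) + 2 := by
  have h1 := Orth.finrank_le_inf_ker W (sfun D.form a)
  have h2 := Orth.finrank_le_inf_ker (W ⊓ LinearMap.ker (sfun D.form a)) (sfun D.form (E *ᵥ a))
  rw [inf_assoc] at h2
  exact h1.trans (by rw [pk]; omega)

theorem finrank_pk1 (a : ι → F) : Fintype.card ι ≤ Module.finrank F ↥(pk D a) + 2 := by
  have := finrank_pk D ⊤ a
  rwa [finrank_top, Module.finrank_fintype_fun_eq_card, top_inf_eq] at this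

/-- an anisotropic line over the overfield represents every value -/
theorem rep_line {y : ι → F} (hy0 : bq f E y ≠ 0) (c : F) : ∃ s t : F, bq f E (s • y + t • (E *ᵥ y)) = c := by
  have hodd : Fintype.card F % 2 = 1 := FiniteField.odd_card_of_char_ne_two fun h => D.two (by
    haveI := ringChar.of_eq h
    exact CharTwo.two_eq_zero)
  obtain ⟨s, t, hst⟩ := FiniteField.exists_root_sum_quadratic (R := F)
    (f := Polynomial.X ^ 2 - Polynomial.C (c / bq f E y)) (g := Polynomial.C (-d) * Polynomial.X ^ 2)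
    (Polynomial.degree_X_pow_sub_C two_pos _) (Polynomial.degree_C_mul_X_pow 2 (neg_ne_zero.2 (d_ne D))) hodd
  simp only [Polynomial.eval_sub, Polynomial.eval_pow, Polynomial.eval_X, Polynomial.eval_C, Polynomial.eval_mul] at hst
  refine ⟨s, t, ?_⟩
  rw [bq_add D, bq_smul D, bq_smul D, bq_E D, mulVec_smul, D.form.bilinear.smul_left, D.form.bilinear.smul_right,
    D.form.alternating, mul_zero, mul_zero, mul_zero, add_zero]
  have hc : c = c / bq f E y * bq f E y := (div_mul_cancel₀ c hy0).symm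
  rw [hc]
  linear_combination bq f E y * hst


/-- an invariant subspace with an anisotropic vector represents every value -/
theorem rep (W : Submodule F (ι → F)) (hE : ∀ w ∈ W, E *ᵥ w ∈ W) {y : ι → F} (hy : y ∈ W) (hy0 : bq f E y ≠ 0)
    (c : F) : ∃ w ∈ W, bq f E w = c := by
  obtain ⟨s, t, hst⟩ := rep_line D hy0 c
  exact ⟨s • y + t • (E *ᵥ y), W.add_mem (W.smul_mem s hy) (W.smul_mem t (hE y hy)), hst⟩

/-- two proper subspaces do not cover the space -/
theorem exists_not_two {A B : Submodule F (ι → F)} (hA : A ≠ ⊤) (hB : B ≠ ⊤) : ∃ x, x ∉ A ∧ x ∉ B := by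
  by_contra hcon
  push Not at hcon
  obtain ⟨x, hx⟩ : ∃ x, x ∉ A := by
    by_contra h; push Not at h; exact hA (Submodule.eq_top_iff'.2 h)
  obtain ⟨y, hy⟩ : ∃ y, y ∉ B := by
    by_contra h; push Not at h; exact hB (Submodule.eq_top_iff'.2 h)
  have hxB := hcon x hx
  have hyA : y ∈ A := by
    by_contra h
    exact hy (hcon y h)
  rcases Classical.em (x + y ∈ A) with h | h
  · exact hx (by simpa using A.sub_mem h hyA)
  · exact hy (by simpa using B.sub_mem (hcon _ h) hxB)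

/-- three proper subspaces do not cover the space in odd characteristic -/
theorem exists_not_three {A B C : Submodule F (ι → F)} (hA : A ≠ ⊤) (hB : B ≠ ⊤) (hC : C ≠ ⊤) :
    ∃ x, x ∉ A ∧ x ∉ B ∧ x ∉ C := by
  obtain ⟨x, hxA, hxB⟩ := exists_not_two D hA hB
  by_cases hxC : x ∈ C
  swap
  · exact ⟨x, hxA, hxB, hxC⟩
  obtain ⟨y, hy⟩ : ∃ y, y ∉ C := by
    by_contra h; push Not at h; exact hC (Submodule.eq_top_iff'.2 h)
  have key : ∀ S : Submodule F (ι → F), x ∉ S → ¬(y ∈ S ∧ x + y ∈ S) ∧ ¬(y ∈ S ∧ x + (2 : F) • y ∈ S) ∧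
      ¬(x + y ∈ S ∧ x + (2 : F) • y ∈ S) := by
    intro S hS
    refine ⟨fun h => hS ?_, fun h => hS ?_, fun h => hS ?_⟩
    · simpa using S.sub_mem h.2 h.1
    · simpa using S.sub_mem h.2 (S.smul_mem (2 : F) h.1)
    · have := S.sub_mem (S.smul_mem (2 : F) h.1) h.2
      rwa [show (2 : F) • (x + y) - (x + (2 : F) • y) = x by module] at this
  obtain ⟨k1, k2, k3⟩ := key A hxA
  obtain ⟨l1, l2, l3⟩ := key B hxB
  have hy1 : x + y ∉ C := fun h => hy (by simpa using C.sub_mem h hxC)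
  have hy2 : x + (2 : F) • y ∉ C := fun h => hy ((Submodule.smul_mem_iff C D.two).1 (by simpa using C.sub_mem h hxC))
  by_contra hcon
  push Not at hcon
  by_cases h0 : y ∈ A
  · have e1 : x + y ∈ B := by by_contra h; exact hy1 (hcon _ (fun h' => k1 ⟨h0, h'⟩) h)
    have e2 : x + (2 : F) • y ∈ B := by by_contra h; exact hy2 (hcon _ (fun h' => k2 ⟨h0, h'⟩) h)
    exact l3 ⟨e1, e2⟩
  · have e0 : y ∈ B := by by_contra h; exact hy (hcon _ h0 h)
    have e1 : x + y ∈ A := by by_contra h; exact hy1 (hcon _ h fun h' => l1 ⟨e0, h'⟩)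
    have e2 : x + (2 : F) • y ∈ A := by by_contra h; exact hy2 (hcon _ h fun h' => l2 ⟨e0, h'⟩)
    exact k3 ⟨e1, e2⟩

theorem pk_ne_top {a : ι → F} (ha : a ≠ 0) : pk D a ≠ ⊤ := fun h => by
  obtain ⟨x, hx⟩ := (D.form.nondegenerate a ha).1
  exact hx ((mem_pk D).1 (h ▸ Submodule.mem_top : x ∈ pk D a)).1

theorem pk_self {a : ι → F} (h : bq f E a = 0) : a ∈ pk D a :=
  (mem_pk D).2 ⟨D.form.alternating a, f_self_E D h⟩

/-- shifting a vector to an isotropic one along an isotropic line -/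
theorem shift_iso {x : ι → F} (W : Submodule F (ι → F)) (hE : ∀ w ∈ W, E *ᵥ w ∈ W) {w0 : ι → F} (hw : w0 ∈ W)
    (hw0 : bq f E w0 = 0) (hx : x ∉ pk D w0) : ∃ w ∈ W, bq f E (x + w) = 0 := by
  by_cases hA : f (E *ᵥ x) w0 = 0
  · have hB : f (E *ᵥ x) (E *ᵥ w0) ≠ 0 := fun h => hx ((mem_pk D).2 ⟨(mul_eq_zero.1 (neg_eq_zero.1
      (by rwa [f_EE D] at h))).resolve_left (d_ne D), by rw [D.skew] at hA; exact neg_eq_zero.1 hA⟩)
    refine ⟨(-bq f E x / (2 * f (E *ᵥ x) (E *ᵥ w0))) • (E *ᵥ w0), W.smul_mem _ (hE _ hw), ?_⟩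
    rw [bq_add D, bq_smul D, bq_E D, hw0, D.form.bilinear.smul_right]
    have := D.two
    field_simp
    ring
  · refine ⟨(-bq f E x / (2 * f (E *ᵥ x) w0)) • w0, W.smul_mem _ hw, ?_⟩
    rw [bq_add D, bq_smul D, hw0, D.form.bilinear.smul_right]
    have := D.two
    field_simp
    ring

/-- shifting a vector to an isotropic one along an anisotropic line -/
theorem shift (x : ι → F) (W : Submodule F (ι → F)) (hE : ∀ w ∈ W, E *ᵥ w ∈ W) {y0 : ι → F} (hy0W : y0 ∈ W)
    (hy00 : bq f E y0 ≠ 0) : ∃ w ∈ W, bq f E (x + w) = 0 := by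
  obtain ⟨y, hy, hy1⟩ := rep D W hE hy0W hy00 1
  have hy0 : bq f E y ≠ 0 := by rw [hy1]; exact one_ne_zero
  -- remove the component along the line of `y`
  obtain ⟨p, hp⟩ : ∃ p, p = f (E *ᵥ x) y • y + f x y • (E *ᵥ y) := ⟨_, rfl⟩
  have hy1' : f (E *ᵥ y) y = 1 := hy1
  have hperp : x - p ∈ pk D y := by
    refine (mem_pk D).2 ⟨?_, ?_⟩
    · rw [hp, sub_left D.form, D.form.bilinear.add_left, D.form.bilinear.smul_left, D.form.bilinear.smul_left,
        D.form.alternating, hy1']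
      ring
    · rw [hp, sub_left D.form, D.form.bilinear.add_left, D.form.bilinear.smul_left, D.form.bilinear.smul_left,
        D.form.alternating, D.form.skew y (E *ᵥ y), hy1', D.skew x y]
      ring
  obtain ⟨s, t, hst⟩ := rep_line D hy0 (-bq f E (x - p))
  refine ⟨s • y + t • (E *ᵥ y) - p, ?_, ?_⟩
  · rw [hp]
    exact W.sub_mem (W.add_mem (W.smul_mem _ hy) (W.smul_mem _ (hE y hy)))
      (W.add_mem (W.smul_mem _ hy) (W.smul_mem _ (hE y hy)))
  · obtain ⟨h3, h4⟩ := (mem_pk D).1 hperp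
    rw [show x + (s • y + t • (E *ᵥ y) - p) = (x - p) + (s • y + t • (E *ᵥ y)) by abel, bq_add D, hst, D.skew,
      mulVec_add, mulVec_smul, mulVec_smul, D.sq, D.form.bilinear.add_right, D.form.bilinear.smul_right,
      D.form.bilinear.smul_right, D.form.bilinear.smul_right, h3, h4]
    ring

/-- an isotropic vector not orthogonal to two given vectors -/
theorem iso_nonperp {a b : ι → F} (ha : a ≠ 0) (hb : b ≠ 0) :
    ∃ u, bq f E u = 0 ∧ u ∉ pk D a ∧ u ∉ pk D b := by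
  have h1 := finrank_pk1 D a
  have h2 := finrank_pk D (pk D a) b
  have := D.big
  have hE : ∀ w ∈ pk D a ⊓ pk D b, E *ᵥ w ∈ pk D a ⊓ pk D b := fun w hw => ⟨pk_inv D hw.1, pk_inv D hw.2⟩
  obtain ⟨x, w, hxa, hxb, hw, hwc⟩ : ∃ x w, x ∉ pk D a ∧ x ∉ pk D b ∧ w ∈ pk D a ⊓ pk D b ∧ bq f E (x + w) = 0 := by
    by_cases hW : ∃ y ∈ pk D a ⊓ pk D b, bq f E y ≠ 0
    · obtain ⟨y, hy, hy0⟩ := hW
      obtain ⟨x, hxa, hxb⟩ := exists_not_two D (pk_ne_top D ha) (pk_ne_top D hb)
      obtain ⟨w, hw, hwc⟩ := shift D x _ hE hy hy0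
      exact ⟨x, w, hxa, hxb, hw, hwc⟩
    · push Not at hW
      obtain ⟨w0, hw0, hw00⟩ := Submodule.exists_mem_ne_zero_of_ne_bot (p := pk D a ⊓ pk D b) fun h => by
        rw [h, finrank_bot] at h2; omega
      obtain ⟨x, hxa, hxb, hxw⟩ := exists_not_three D (pk_ne_top D ha) (pk_ne_top D hb) (pk_ne_top D hw00)
      obtain ⟨w, hw, hwc⟩ := shift_iso D _ hE hw0 (hW _ hw0) hxw
      exact ⟨x, w, hxa, hxb, hw, hwc⟩
  exact ⟨x + w, hwc, fun h => hxa (by simpa using (pk D a).sub_mem h hw.1),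
    fun h => hxb (by simpa using (pk D b).sub_mem h hw.2)⟩

/-- an isotropic vector orthogonal to `a` and not to `b` -/
theorem iso_sep {a b : ι → F} (hab : ∀ x y : F, b ≠ x • a + y • (E *ᵥ a))
    (hcase : bq f E a = 0 → bq f E b = 0 ∨ b ∉ pk D a) :
    ∃ u, bq f E u = 0 ∧ u ∈ pk D a ∧ u ∉ pk D b := by
  classical
  obtain ⟨φ, hφb, hφ⟩ := exists_dual (Submodule.span F ({a, E *ᵥ a} : Set (ι → F))) (fun h => by
    obtain ⟨x, y, hxy⟩ := Submodule.mem_span_pair.1 h
    exact hab x y hxy.symm)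
  obtain ⟨p, hp⟩ := exists_rep D.form φ
  have hpa : p ∈ pk D a := by
    have h1 : f a p = 0 := by rw [hp]; exact hφ a (Submodule.subset_span (by simp))
    have h2 : f (E *ᵥ a) p = 0 := by rw [hp]; exact hφ _ (Submodule.subset_span (by simp))
    exact (mem_pk D).2 ⟨by rw [D.form.skew, h1, neg_zero], by rw [D.form.skew, h2, neg_zero]⟩
  have hpb : p ∉ pk D b := fun h => by
    have h1 : f b p = 1 := by rw [hp, hφb]
    rw [D.form.skew, ((mem_pk D).1 h).1, neg_zero] at h1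
    exact zero_ne_one h1
  have h1 := finrank_pk1 D a
  have h2 := finrank_pk D (pk D a) b
  have := D.big
  have hE : ∀ w ∈ pk D a ⊓ pk D b, E *ᵥ w ∈ pk D a ⊓ pk D b := fun w hw => ⟨pk_inv D hw.1, pk_inv D hw.2⟩
  have fin : ∀ q w, q ∈ pk D a → q ∉ pk D b → w ∈ pk D a ⊓ pk D b → bq f E (q + w) = 0 →
      ∃ u, bq f E u = 0 ∧ u ∈ pk D a ∧ u ∉ pk D b := fun q w hqa hqb hw hwc =>
    ⟨q + w, hwc, (pk D a).add_mem hqa hw.1, fun h => hqb (by simpa using (pk D b).sub_mem h hw.2)⟩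
  by_cases hab' : bq f E a = 0 ∧ b ∉ pk D a
  · exact ⟨a, hab'.1, pk_self D hab'.1, fun h => hab'.2 (pk_symm D h)⟩
  by_cases hW : ∃ y ∈ pk D a ⊓ pk D b, bq f E y ≠ 0
  · obtain ⟨y, hy, hy0⟩ := hW
    obtain ⟨w, hw, hwc⟩ := shift D p _ hE hy hy0
    exact fin p w hpa hpb hw hwc
  push Not at hW
  by_cases haq : bq f E a = 0
  · have hba : b ∈ pk D a := by by_contra h; exact hab' ⟨haq, h⟩
    have hbq : bq f E b = 0 := (hcase haq).resolve_right (not_not.2 hba)
    obtain ⟨w, hw, hwc⟩ := shift_iso D _ hE (w0 := b) ⟨hba, pk_self D hbq⟩ hbq hpb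
    exact fin p w hpa hpb hw hwc
  obtain ⟨w0, hw0, hw00⟩ := Submodule.exists_mem_ne_zero_of_ne_bot (p := pk D a ⊓ pk D b) fun h => by
    rw [h, finrank_bot] at h2; omega
  obtain ⟨q, hqa, hqb, hqw⟩ : ∃ q, q ∈ pk D a ∧ q ∉ pk D b ∧ q ∉ pk D w0 := by
    obtain ⟨⟨x, hx⟩, -⟩ := D.form.nondegenerate w0 hw00
    obtain ⟨a1, a2⟩ := (mem_pk D).1 (pk_symm D hw0.1)
    obtain ⟨x', hx'⟩ : ∃ x', x' = x - ((f (E *ᵥ x) a / bq f E a) • a + (f x a / bq f E a) • (E *ᵥ a)) := ⟨_, rfl⟩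
    have hxa : x' ∈ pk D a := by
      refine (mem_pk D).2 ⟨?_, ?_⟩
      · rw [hx', sub_left D.form, D.form.bilinear.add_left, D.form.bilinear.smul_left, D.form.bilinear.smul_left,
          D.form.alternating, show f (E *ᵥ a) a = bq f E a from rfl, div_mul_cancel₀ _ haq]
        ring
      · rw [hx', sub_left D.form, D.form.bilinear.add_left, D.form.bilinear.smul_left, D.form.bilinear.smul_left,
          D.form.alternating, D.form.skew a (E *ᵥ a), show f (E *ᵥ a) a = bq f E a from rfl, D.skew x a, mul_zero,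
          add_zero, mul_neg, div_mul_cancel₀ _ haq]
        ring
    have hxw : x' ∉ pk D w0 := fun h => hx (by
      have e := ((mem_pk D).1 h).1
      rw [hx', sub_left D.form, D.form.bilinear.add_left, D.form.bilinear.smul_left, D.form.bilinear.smul_left,
        D.skew a w0, a1, a2] at e
      linear_combination e)
    by_cases hp' : p ∈ pk D w0
    · by_cases hx'b : x' ∈ pk D b
      · exact ⟨p + x', (pk D a).add_mem hpa hxa, fun h => hpb (by simpa using (pk D b).sub_mem h hx'b),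
          fun h => hxw (by simpa using (pk D w0).sub_mem h hp')⟩
      · exact ⟨x', hxa, hx'b, hxw⟩
    · exact ⟨p, hpa, hpb, hp'⟩
  obtain ⟨w, hw, hwc⟩ := shift_iso D _ hE hw0 (hW _ hw0) hqw
  exact fin q w hqa hqb hw hwc

/-- the orthogonal of a hyperbolic line contains an anisotropic vector -/
theorem aniso_pair {c p : ι → F} (hcq : bq f E c = 0) (hpq : bq f E p = 0) (he : f c p ≠ 0)
    (hcp : f c (E *ᵥ p) = 0) : ∃ z, z ∈ pk D c ⊓ pk D p ∧ bq f E z ≠ 0 := by
  by_contra hcon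
  push Not at hcon
  have h1 := finrank_pk1 D c
  have h2 := finrank_pk D (pk D c) p
  have := D.big
  obtain ⟨w, hw, hw0⟩ := Submodule.exists_mem_ne_zero_of_ne_bot (p := pk D c ⊓ pk D p) fun h => by
    rw [h, finrank_bot] at h2; omega
  obtain ⟨⟨x, hx⟩, -⟩ := D.form.nondegenerate w hw0
  obtain ⟨c1, c2⟩ := (mem_pk D).1 (pk_symm D hw.1)
  obtain ⟨p1, p2⟩ := (mem_pk D).1 (pk_symm D hw.2)
  have hd := d_ne D
  have hcc : f c (E *ᵥ c) = 0 := f_self_E D hcq
  have hpp : f p (E *ᵥ p) = 0 := f_self_E D hpq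
  have hpc : f p c = -f c p := D.form.skew p c
  have hpEc : f p (E *ᵥ c) = 0 := by rw [D.form.skew, D.skew, hcp, neg_zero, neg_zero]
  obtain ⟨x', hx'⟩ : ∃ x', x' = x + (-(f x p / f c p)) • c + (f x c / f c p) • p +
      (f x (E *ᵥ p) / (d * f c p)) • (E *ᵥ c) + (-(f x (E *ᵥ c) / (d * f c p))) • (E *ᵥ p) := ⟨_, rfl⟩
  have hxW : x' ∈ pk D c ⊓ pk D p := by
    refine ⟨(mem_pk D).2 ⟨?_, ?_⟩, (mem_pk D).2 ⟨?_, ?_⟩⟩ <;>
      simp only [hx', D.form.bilinear.add_left, D.form.bilinear.smul_left, D.skew c, D.skew p, D.sq,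
        D.form.bilinear.smul_right, D.form.alternating, hcc, hpp, hpc, hcp, hpEc] <;>
      field_simp <;> ring
  have hzero := hcon _ ⟨Submodule.add_mem _ hxW.1 (pk_inv D hw.1), Submodule.add_mem _ hxW.2 (pk_inv D hw.2)⟩
  rw [bq_add D, hcon _ hxW, bq_E D, hcon _ hw, mul_zero, neg_zero, add_zero, zero_add, f_EE D] at hzero
  have h3 : f x' w = 0 := (mul_eq_zero.1 (neg_eq_zero.1 ((mul_eq_zero.1 hzero).resolve_left D.two))).resolve_left hd
  simp only [hx', D.form.bilinear.add_left, D.form.bilinear.smul_left, D.skew c w, D.skew p w, c1, c2, p1, p2,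
    neg_zero, mul_zero, add_zero] at h3
  exact hx h3

/-- the hyperbolic partner of an isotropic vector -/
theorem partner {u : ι → F} (hu0 : u ≠ 0) : ∃ p, bq f E p = 0 ∧ f u p = 1 ∧ f u (E *ᵥ p) = 0 := by
  obtain ⟨p, hp, hpn, -⟩ := iso_nonperp D hu0 hu0
  obtain ⟨A, hA⟩ : ∃ A, f u p = A := ⟨_, rfl⟩
  obtain ⟨B, hB⟩ : ∃ B, f u (E *ᵥ p) = B := ⟨_, rfl⟩
  have hN := norm_ne D (a := A) (b := B) fun h => hpn (pk_symm D ((mem_pk D).2 ⟨hA.trans h.1, hB.trans h.2⟩))
  obtain ⟨N, hNdef⟩ : ∃ N, N = -(d * (A * A)) + B * B := ⟨_, rfl⟩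
  rw [← hNdef] at hN
  refine ⟨(-(d * A) / N) • p + (B / N) • (E *ᵥ p), ?_, ?_, ?_⟩
  · rw [bq_add D, bq_smul D, bq_smul D, bq_E D, hp, mulVec_smul, D.form.bilinear.smul_left,
      D.form.bilinear.smul_right, D.form.alternating]
    ring
  · rw [D.form.bilinear.add_right, D.form.bilinear.smul_right, D.form.bilinear.smul_right, hA, hB]
    field_simp
    linear_combination -hNdef
  · rw [mulVec_add, mulVec_smul, mulVec_smul, D.sq, D.form.bilinear.add_right, D.form.bilinear.smul_right,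
      D.form.bilinear.smul_right, D.form.bilinear.smul_right, hA, hB]
    field_simp
    ring

/-- every vector is a sum of two isotropic vectors pairing to one -/
theorem split_iso {v : ι → F} (hv : v ≠ 0) :
    ∃ y, bq f E y = 0 ∧ bq f E (v - y) = 0 ∧ f (v - y) y = 1 := by
  obtain ⟨u, hu, hun, -⟩ := iso_nonperp D hv hv
  obtain ⟨A, hA⟩ : ∃ A, f v u = A := ⟨_, rfl⟩
  obtain ⟨B, hB⟩ : ∃ B, f v (E *ᵥ u) = B := ⟨_, rfl⟩
  have hAB : ¬(A = 0 ∧ B = 0) := fun h => hun ((mem_pk D).2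
    ⟨by rw [D.form.skew, hA, h.1, neg_zero], by rw [D.form.skew, D.skew, hB, h.2, neg_zero, neg_zero]⟩)
  have hN := norm_ne D hAB
  obtain ⟨h, hh⟩ : ∃ h, h = bq f E v / 2 := ⟨_, rfl⟩
  have hh2 : bq f E v = 2 * h := by rw [hh, mul_div_cancel₀ _ D.two]
  -- the combination
  obtain ⟨N, hNdef⟩ : ∃ N, N = -(d * (A * A)) + B * B := ⟨_, rfl⟩
  obtain ⟨α, hα⟩ : ∃ α, α = (-(d * A) - B * h) / N := ⟨_, rfl⟩
  obtain ⟨β, hβ⟩ : ∃ β, β = (B + A * h) / N := ⟨_, rfl⟩
  rw [← hNdef] at hN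
  have hEu : bq f E (E *ᵥ u) = 0 := by rw [bq_E D, hu, mul_zero, neg_zero]
  have hy : bq f E (α • u + β • (E *ᵥ u)) = 0 := by
    rw [bq_add D, bq_smul D, bq_smul D, hu, hEu, mulVec_smul, D.form.bilinear.smul_left, D.form.bilinear.smul_right,
      D.form.alternating]
    ring
  have e1 : f v (α • u + β • (E *ᵥ u)) = 1 := by
    rw [D.form.bilinear.add_right, D.form.bilinear.smul_right, D.form.bilinear.smul_right, hA, hB, hα, hβ]
    field_simp
    linear_combination hNdef.symm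
  have e2 : f (E *ᵥ v) (α • u + β • (E *ᵥ u)) = h := by
    rw [D.skew, mulVec_add, mulVec_smul, mulVec_smul, D.sq, D.form.bilinear.add_right, D.form.bilinear.smul_right,
      D.form.bilinear.smul_right, D.form.bilinear.smul_right, hA, hB, hα, hβ]
    field_simp
    linear_combination h * hNdef.symm
  refine ⟨α • u + β • (E *ᵥ u), hy, ?_, ?_⟩
  · have := bq_add D (v - (α • u + β • (E *ᵥ u))) (α • u + β • (E *ᵥ u))
    rw [sub_add_cancel, hy, mulVec_sub, sub_left D.form, e2, show f (E *ᵥ (α • u + β • (E *ᵥ u))) _ = 0 from hy] at this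
    linear_combination hh2 - this
  · rw [sub_left D.form, e1, D.form.alternating, sub_zero]

/-! ### The normaliser -/

theorem eq_pm (g : GL ι F)
    (h : ∀ u, bq f E u = 0 → ∃ a b : F, E *ᵥ ((g : Matrix ι ι F) *ᵥ u) =
      a • ((g : Matrix ι ι F) *ᵥ u) + b • ((g : Matrix ι ι F) *ᵥ (E *ᵥ u))) :
    ∃ b : F, (b = 1 ∨ b = -1) ∧
      ∀ v, E *ᵥ ((g : Matrix ι ι F) *ᵥ v) = b • ((g : Matrix ι ι F) *ᵥ (E *ᵥ v)) := by
  choose! a b hab using h
  have hEiso : ∀ u, bq f E u = 0 → bq f E (E *ᵥ u) = 0 := fun u hu => by rw [bq_E D, hu, mul_zero, neg_zero]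
  have pair : ∀ u v, bq f E u = 0 → bq f E v = 0 → bq f E (u + v) = 0 → u ≠ 0 →
      (∀ x y : F, v ≠ x • u + y • (E *ᵥ u)) → a v = a u ∧ b v = b u := by
    intro u v hu hv huv hu0 hind
    have h1 := hab _ huv
    simp only [mulVec_add, smul_add, hab u hu, hab v hv] at h1
    have h2 : (g : Matrix ι ι F) *ᵥ ((a u - a (u + v)) • u + (b u - b (u + v)) • (E *ᵥ u) +
        ((a v - a (u + v)) • v + (b v - b (u + v)) • (E *ᵥ v))) = 0 := by
      simp only [mulVec_add, mulVec_smul]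
      linear_combination (norm := module) h1
    rw [gl_mulVec_eq_zero] at h2
    by_cases h3 : a v - a (u + v) = 0 ∧ b v - b (u + v) = 0
    · rw [h3.1, h3.2, zero_smul, zero_smul, add_zero, add_zero] at h2
      by_cases h4 : a u - a (u + v) = 0 ∧ b u - b (u + v) = 0
      · exact ⟨by linear_combination h3.1 - h4.1, by linear_combination h3.2 - h4.2⟩
      · exact absurd h2 (combo_ne D hu0 h4)
    · exfalso
      obtain ⟨P, hP⟩ : ∃ P, P = a v - a (u + v) := ⟨_, rfl⟩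
      obtain ⟨R, hR⟩ : ∃ R, R = b v - b (u + v) := ⟨_, rfl⟩
      rw [← hP, ← hR] at h2 h3
      have hN := norm_ne D (a := R) (b := P) fun h => h3 ⟨h.2, h.1⟩
      have h5 := congrArg (fun x => P • x - R • (E *ᵥ x)) h2
      simp only [mulVec_add, mulVec_smul, D.sq, mulVec_zero, smul_zero, sub_zero] at h5
      refine hind (-(P * (a u - a (u + v)) - R * d * (b u - b (u + v))) / (-(d * (R * R)) + P * P))
        (-(P * (b u - b (u + v)) - R * (a u - a (u + v))) / (-(d * (R * R)) + P * P)) ?_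
      refine smul_right_injective (ι → F) hN ?_
      simp only [smul_add, smul_smul, mul_div_cancel₀ _ hN]
      linear_combination (norm := module) h5
  have hline : ∀ u, bq f E u = 0 → ∀ x y : F, bq f E (x • u + y • (E *ᵥ u)) = 0 := fun u hu x y => by
    rw [bq_add D, bq_smul D, bq_smul D, hu, hEiso u hu, mulVec_smul, D.form.bilinear.smul_left,
      D.form.bilinear.smul_right, D.form.alternating]
    ring
  have hcoef : ∀ u, u ≠ 0 → bq f E u = 0 → a u = 0 ∧ b u * b u = 1 := by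
    intro u hu0 hu
    obtain ⟨p, hp, hup, hupE⟩ := partner D hu0
    obtain ⟨z, hz, hz0⟩ := aniso_pair D hu hp (by rw [hup]; exact one_ne_zero) hupE
    obtain ⟨zu1, zu2⟩ := (mem_pk D).1 (pk_symm D hz.1)
    obtain ⟨zp1, zp2⟩ := (mem_pk D).1 (pk_symm D hz.2)
    obtain ⟨t, ht⟩ : ∃ t, t = bq f E z / (2 * d) := ⟨_, rfl⟩
    have h2d : 2 * d ≠ 0 := mul_ne_zero D.two (d_ne D)
    have ht0 : t ≠ 0 := ht ▸ div_ne_zero hz0 h2d
    have hbz : bq f E z = 2 * d * t := by rw [ht, mul_div_cancel₀ _ h2d]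
    have huu : f u (E *ᵥ u) = 0 := f_self_E D hu
    have hpp : f p (E *ᵥ p) = 0 := f_self_E D hp
    have hpu : f p u = -1 := by rw [D.form.skew, hup]
    have hpEu : f p (E *ᵥ u) = 0 := by rw [D.form.skew, D.skew, hupE, neg_zero, neg_zero]
    obtain ⟨w, hw⟩ : ∃ w, w = u + ((1 : F) • p + t • (E *ᵥ p)) + z := ⟨_, rfl⟩
    have e1 : f (E *ᵥ u) w = -(t * d) := by
      simp only [hw, D.form.bilinear.add_right, D.form.bilinear.smul_right, D.skew u, D.sq, huu, hupE, hup, zu2]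
      ring
    have e2 : f u w = 1 := by
      simp only [hw, D.form.bilinear.add_right, D.form.bilinear.smul_right, D.form.alternating, hupE, hup, zu1]
      ring
    have e3 : f u (E *ᵥ w) = t * d := by rw [← neg_neg (f u (E *ᵥ w)), ← D.skew, e1, neg_neg]
    have e4 : f (E *ᵥ p) w = 0 := by
      simp only [hw, D.form.bilinear.add_right, D.form.bilinear.smul_right, D.skew p, D.sq, D.form.alternating,
        hpp, hpEu, zp2]
      ring
    have hwq : bq f E w = 0 := by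
      rw [hw, bq_add D, bq_add D, hu, hline p hp, hbz, mulVec_add, mulVec_add, mulVec_smul, mulVec_smul]
      simp only [D.form.bilinear.add_left, D.form.bilinear.add_right, D.form.bilinear.smul_left,
        D.form.bilinear.smul_right, D.skew u, D.skew p, D.sq, hup, hupE, zu2, zp1, zp2]
      ring
    have hwp : f w p = 1 := by
      simp only [hw, D.form.bilinear.add_left, D.form.bilinear.smul_left, D.form.alternating, D.skew p, hup, hpp,
        D.form.skew z p, zp1]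
      ring
    have hup2 : bq f E (u + p) = 0 := by rw [bq_add D, hu, hp, D.skew, hupE]; ring
    obtain ⟨pa, pb⟩ := pair u p hu hp hup2 hu0 fun x y h => by
      rw [h, D.form.bilinear.add_right, D.form.bilinear.smul_right, D.form.bilinear.smul_right, D.form.alternating,
        huu, mul_zero, mul_zero, add_zero] at hup
      exact zero_ne_one hup
    obtain ⟨wa, wb⟩ := pair p w hp hwq (by rw [bq_add D, hp, hwq, e4]; ring) (fun h => by
      rw [h, zero_right D.form] at hup; exact zero_ne_one hup) fun x y h => by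
      rw [h, D.form.bilinear.add_left, D.form.bilinear.smul_left, D.form.bilinear.smul_left, D.form.alternating,
        show f (E *ᵥ p) p = 0 from hp, mul_zero, mul_zero, add_zero] at hwp
      exact zero_ne_one hwp
    obtain ⟨w1, hw1⟩ : ∃ w1, w1 = (1 : F) • w + (-t) • (E *ᵥ w) := ⟨_, rfl⟩
    have hw1q : bq f E w1 = 0 := hw1 ▸ hline w hwq 1 (-t)
    obtain ⟨va, vb⟩ := pair u w1 hu hw1q (by
      rw [bq_add D, hu, hw1q, hw1, D.form.bilinear.add_right, D.form.bilinear.smul_right, D.form.bilinear.smul_right,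
        e1, f_EE D, e2]
      ring) hu0 fun x y h => by
      have e5 := congrArg (f u) h
      rw [hw1] at e5
      simp only [D.form.bilinear.add_right, D.form.bilinear.smul_right, D.form.alternating, huu, e2, e3] at e5
      refine D.nsq (1 / t) ?_
      field_simp
      linear_combination e5
    have hw0 : w ≠ 0 := fun h => by rw [h, zero_left D.form] at hwp; exact zero_ne_one hwp
    obtain ⟨A, hA⟩ : ∃ A, a u = A := ⟨_, rfl⟩
    obtain ⟨B, hB⟩ : ∃ B, b u = B := ⟨_, rfl⟩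
    have f1 := hab w hwq
    rw [wa, wb, pa, pb, hA, hB] at f1
    have f2 := hab w1 hw1q
    rw [va, vb, hA, hB, hw1] at f2
    simp only [mulVec_add, mulVec_smul, D.sq, f1] at f2
    have f3 : E *ᵥ ((g : Matrix ι ι F) *ᵥ (E *ᵥ w)) =
        A • ((g : Matrix ι ι F) *ᵥ (E *ᵥ w)) + (B * d) • ((g : Matrix ι ι F) *ᵥ w) := by
      refine smul_right_injective (ι → F) ht0 ?_
      show t • _ = t • _
      linear_combination (norm := module) -f2
    have f4 : E *ᵥ (E *ᵥ ((g : Matrix ι ι F) *ᵥ w)) =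
        E *ᵥ (A • ((g : Matrix ι ι F) *ᵥ w) + B • ((g : Matrix ι ι F) *ᵥ (E *ᵥ w))) := congrArg _ f1
    rw [D.sq, mulVec_add, mulVec_smul, mulVec_smul, f1, f3] at f4
    have f5 : (g : Matrix ι ι F) *ᵥ ((A * A + B * B * d - d) • w + (2 * A * B) • (E *ᵥ w)) = 0 := by
      simp only [mulVec_add, mulVec_smul]
      linear_combination (norm := module) -f4
    rw [gl_mulVec_eq_zero] at f5
    obtain ⟨g1, g2⟩ : A * A + B * B * d - d = 0 ∧ 2 * A * B = 0 := by
      by_contra hne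
      exact combo_ne D hw0 hne f5
    rcases mul_eq_zero.1 g2 with g3 | g3
    · have hA0 : A = 0 := (mul_eq_zero.1 g3).resolve_left D.two
      rw [hA, hB]
      rw [hA0] at g1
      exact ⟨hA0, mul_right_cancel₀ (d_ne D) (by linear_combination g1)⟩
    · rw [g3] at g1
      exact absurd (by linear_combination g1) (D.nsq A)
  have heig : ∀ u, u ≠ 0 → bq f E u = 0 →
      E *ᵥ ((g : Matrix ι ι F) *ᵥ u) = b u • ((g : Matrix ι ι F) *ᵥ (E *ᵥ u)) := fun u hu0 hu => by
    rw [hab u hu, (hcoef u hu0 hu).1, zero_smul, zero_add]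
  have hK : ∀ u, u ≠ 0 → bq f E u = 0 → ∀ x y : F, x • u + y • (E *ᵥ u) ≠ 0 →
      b (x • u + y • (E *ᵥ u)) = b u := by
    intro u hu0 hu x y hne
    have h1 := heig _ hne (hline u hu x y)
    have h2 := congrArg (E *ᵥ ·) (heig u hu0 hu)
    simp only [D.sq, mulVec_smul] at h2
    have h3 : E *ᵥ ((g : Matrix ι ι F) *ᵥ (E *ᵥ u)) = (b u * d) • ((g : Matrix ι ι F) *ᵥ u) := by
      have h4 := congrArg (b u • ·) h2
      simp only [smul_smul] at h4
      rw [(hcoef u hu0 hu).2, one_smul] at h4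
      exact h4.symm
    have h5 : E *ᵥ ((g : Matrix ι ι F) *ᵥ (x • u + y • (E *ᵥ u))) =
        b u • ((g : Matrix ι ι F) *ᵥ (E *ᵥ (x • u + y • (E *ᵥ u)))) := by
      simp only [mulVec_add, mulVec_smul, D.sq, heig u hu0 hu, h3]
      module
    have h6 : (g : Matrix ι ι F) *ᵥ (E *ᵥ (x • u + y • (E *ᵥ u))) ≠ 0 := fun h => E_ne D hne (gl_mulVec_eq_zero.1 h)
    exact smul_left_injective F h6 (h1.symm.trans h5)
  have step : ∀ u v, bq f E u = 0 → bq f E v = 0 → u ∉ pk D v → b v = b u := by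
    intro u v hu hv hn
    have hu0 : u ≠ 0 := fun h => hn (h ▸ Submodule.zero_mem _)
    have hv0 : v ≠ 0 := fun h => hn (pk_symm D (h ▸ Submodule.zero_mem _))
    obtain ⟨x, hx⟩ : ∃ x, x = f (E *ᵥ u) (E *ᵥ v) := ⟨_, rfl⟩
    obtain ⟨y, hy⟩ : ∃ y, y = -f (E *ᵥ u) v := ⟨_, rfl⟩
    have hxy : ¬(x = 0 ∧ y = 0) := fun h => hn ((mem_pk D).2
      ⟨(mul_eq_zero.1 (neg_eq_zero.1 (by rw [← f_EE D, ← hx]; exact h.1))).resolve_left (d_ne D),
        neg_eq_zero.1 (by rw [← D.skew, ← neg_eq_zero, ← hy]; exact h.2)⟩)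
    have hne := combo_ne D hv0 hxy
    have e1 : b (x • v + y • (E *ᵥ v)) = b v := hK v hv0 hv x y hne
    by_cases hind : ∀ p r : F, x • v + y • (E *ᵥ v) ≠ p • u + r • (E *ᵥ u)
    · obtain ⟨-, e2⟩ := pair u _ hu (hline v hv x y) (by
        rw [bq_add D, hu, hline v hv x y, D.form.bilinear.add_right, D.form.bilinear.smul_right,
          D.form.bilinear.smul_right, hx, hy]
        ring) hu0 hind
      exact e1.symm.trans e2
    · push Not at hind
      obtain ⟨p, r, hpr⟩ := hind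
      exact e1.symm.trans (by rw [hpr]; exact hK u hu0 hu p r (hpr ▸ hne))
  haveI : Nonempty ι := Fintype.card_pos_iff.1 (by have := D.big; omega)
  obtain ⟨v₁, hv₁⟩ := exists_ne (0 : ι → F)
  obtain ⟨u₀, hu₀, hu₀n, -⟩ := iso_nonperp D hv₁ hv₁
  have hu₀0 : u₀ ≠ 0 := fun h => hu₀n (h ▸ Submodule.zero_mem _)
  have hiso : ∀ u, bq f E u = 0 →
      E *ᵥ ((g : Matrix ι ι F) *ᵥ u) = b u₀ • ((g : Matrix ι ι F) *ᵥ (E *ᵥ u)) := by
    intro u hu
    rcases eq_or_ne u 0 with rfl | hu0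
    · simp
    · obtain ⟨w, hw, hwa, hwb⟩ := iso_nonperp D hu₀0 hu0
      rw [heig u hu0 hu, step w u hw hu hwb, step w u₀ hw hu₀ hwa]
  refine ⟨b u₀, mul_self_eq_one_iff.1 (hcoef u₀ hu₀0 hu₀).2, fun v => ?_⟩
  rcases eq_or_ne v 0 with rfl | hv0
  · simp
  obtain ⟨y, hy, hvy, -⟩ := split_iso D hv0
  conv_lhs => rw [show v = (v - y) + y by abel]
  rw [mulVec_add, mulVec_add, hiso _ hy, hiso _ hvy]
  simp only [mulVec_sub, smul_sub]
  abel

end CfsgLib.Perm.Trans.Symp.Over
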