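import Cfsg.Agent.Lib.Perm.Trans.SympSubfMax

/-!
# Subfield subgroups of symplectic groups in odd characteristic, from degree four on

The shear along a rational isotropic plane with irrational parameter is isolated by the involution negating a
hyperbolic pair, so no third orthogonal direction is needed.
-/

set_option autoImplicit false
set_option linter.all false

namespace CfsgLib.Perm.Trans.Symp

open scoped Matrix
open Matrix Cfsg.Geo CfsgLib.Perm.Asch CfsgLib.Perm.Trans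
open CfsgLib.Perm.Trans.Subf (em lift em_add em_neg em_sub em_smul em_sum em_zero em_injective em_ne_zero exists_coords lift_em lift_mem ext_em)

variable {ι : Type} [Fintype ι] [DecidableEq ι] {F : Type*} [Field F] [Fintype F]
variable {F₀ : Subfield F} {P : GL ι F}
variable {f : (ι → F) → (ι → F) → F} (hf : IsSymplecticForm f) (hrat : ∀ a b, f (em F₀ P a) (em F₀ P b) ∈ F₀)
include hf hrat

/-- a vector orthogonal to a hyperbolic pair outside its span -/
theorem exists_orth_hyp (hn : 3 ≤ Fintype.card ι) {u h : ι → F₀} (huh : f₀ hrat u h = 1) :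
    ∃ z, f₀ hrat u z = 0 ∧ f₀ hrat h z = 0 ∧ z ∉ Submodule.span F₀ ({u, h} : Set (ι → F₀)) := by
  have hf' := f₀_symplectic hf hrat
  have hhu : f₀ hrat h u = -1 := by rw [hf'.skew, huh]
  have h1 : Submodule.span F₀ ({u, h} : Set (ι → F₀)) ≠ ⊤ := fun he => by
    have h3 : Module.finrank F₀ (Submodule.span F₀ ({u, h} : Set (ι → F₀))) ≤ 2 := by
      rw [← Matrix.range_cons_cons_empty u h ![]]
      refine (finrank_range_le_card (R := F₀) _).trans ?_
      simp
    rw [he, finrank_top, Module.finrank_fintype_fun_eq_card] at h3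
    omega
  obtain ⟨w, hw⟩ : ∃ w, w ∉ Submodule.span F₀ ({u, h} : Set (ι → F₀)) := by
    by_contra hc
    push Not at hc
    exact h1 (eq_top_iff.2 fun x _ => hc x)
  refine ⟨w + f₀ hrat h w • u - f₀ hrat u w • h, ?_, ?_, fun hm => hw ?_⟩
  · rw [sub_right hf', hf'.bilinear.add_right, hf'.bilinear.smul_right, hf'.bilinear.smul_right, hf'.alternating, huh]
    ring
  · rw [sub_right hf', hf'.bilinear.add_right, hf'.bilinear.smul_right, hf'.bilinear.smul_right, hf'.alternating, hhu]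
    ring
  · have hu : u ∈ Submodule.span F₀ ({u, h} : Set (ι → F₀)) := Submodule.subset_span (by simp)
    have hh : h ∈ Submodule.span F₀ ({u, h} : Set (ι → F₀)) := Submodule.subset_span (by simp)
    rw [add_sub_assoc] at hm
    exact (Submodule.add_mem_iff_left _ (Submodule.sub_mem _ (Submodule.smul_mem _ _ hu) (Submodule.smul_mem _ _ hh))).1 hm

variable {M : Subgroup (GL ι F)} (hHM : subfieldSubgroup F₀ P ⊓ isoSub f ≤ M) (hM : M ≤ isoSub f)
variable (h2 : (2 : F) ≠ 0)
include hHM hM h2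

/-- irrational centres give one in a rational isotropic plane -/
theorem exists_plane_centre_odd_four (hn : 4 ≤ Fintype.card ι) {r : ℕ} (hr : r.Prime)
    (hcard : Fintype.card F = Nat.card F₀ ^ r) {v : ι → F} {c : F} (hc : c ≠ 0) (hvc : stv hf v c ∈ M)
    (hirr : ∀ (t : F) (d : ι → F₀), v ≠ t • em F₀ P d) :
    ∃ (e x : ι → F₀) (γ : F) (k : F₀), f₀ hrat e x = 0 ∧ x ∉ Submodule.span F₀ ({e} : Set (ι → F₀)) ∧ e ≠ 0 ∧
      γ ∉ F₀ ∧ k ≠ 0 ∧ stv hf (em F₀ P e + γ • em F₀ P x) (k : F) ∈ M := by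
  have hf' := f₀_symplectic hf hrat
  by_cases hx : ∃ x : ι → F₀, x ≠ 0 ∧ f v (em F₀ P x) = 0
  · obtain ⟨x, hx0, hvx⟩ := hx
    exact centre_in_plane hf hrat hHM hM hc hvc hirr hx0 hvx
  push Not at hx
  have hr2 : 2 < r := by
    have hinj : Function.Injective fun a : ι → F₀ => f v (em F₀ P a) := fun a b hab => by
      by_contra hne
      exact hx (a - b) (sub_ne_zero.2 hne) (by
        rw [em_sub, sub_right hf]; exact sub_eq_zero.2 hab)
    have h1 := Nat.card_le_card_of_injective _ hinj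
    rw [Nat.card_fun, Nat.card_eq_fintype_card (α := F), Nat.card_eq_fintype_card (α := ι), hcard] at h1
    have h2 := (Nat.pow_le_pow_iff_right (Finite.one_lt_card : 1 < Nat.card F₀)).1 h1
    omega
  have hone : ∀ {u : ι → F} (a : ι → F₀), stv hf (em F₀ P a) 1 ∈ M := fun {u} a => by
    have := rat_tv hf hrat hHM a 1
    push_cast at this
    exact this
  obtain ⟨i⟩ : Nonempty ι := Fintype.card_pos_iff.1 (by omega)
  have hu0 : (Pi.single i 1 : ι → F₀) ≠ 0 := fun h => one_ne_zero (α := F₀) (by simpa using congrFun h i)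
  obtain ⟨u, hu⟩ : ∃ u, u = (Pi.single i 1 : ι → F₀) := ⟨_, rfl⟩
  rw [← hu] at hu0
  obtain ⟨h, huh, -⟩ := exists_val hf hrat (S := (∅ : Set (ι → F₀))) (x := u) (by simpa using hu0)
  obtain ⟨g, hgM, hgu, hgh, hgfix⟩ := rat_neg hf hrat hHM huh
  have huh' := f_one hrat huh
  have hhu' : f (em F₀ P h) (em F₀ P u) = -1 := by rw [hf.skew, huh']
  have hgform : ∀ a : ι → F₀, (g : Matrix ι ι F) *ᵥ em F₀ P a = em F₀ P a -
      (2 * f (em F₀ P a) (em F₀ P h)) • em F₀ P u + (2 * f (em F₀ P a) (em F₀ P u)) • em F₀ P h := by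
    intro a
    obtain ⟨a', ha'⟩ : ∃ a', a' = a - f₀ hrat a h • u + f₀ hrat a u • h := ⟨_, rfl⟩
    have hhu : f₀ hrat h u = -1 := by rw [hf'.skew, huh]
    have h1 : f₀ hrat a' u = 0 := by
      rw [ha', hf'.bilinear.add_left, sub_left hf', hf'.bilinear.smul_left, hf'.bilinear.smul_left, hf'.alternating,
        hhu]
      ring
    have h3 : f₀ hrat a' h = 0 := by
      rw [ha', hf'.bilinear.add_left, sub_left hf', hf'.bilinear.smul_left, hf'.bilinear.smul_left, hf'.alternating,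
        huh]
      ring
    have h4 := hgfix a' h1 h3
    rw [ha', em_add, em_sub, em_smul, em_smul, f₀_coe, f₀_coe, mulVec_add, mulVec_sub, mulVec_smul, mulVec_smul,
      hgu, hgh] at h4
    linear_combination (norm := module) h4
  have hgv : (g : Matrix ι ι F) *ᵥ v = v - (2 * f v (em F₀ P h)) • em F₀ P u +
      (2 * f v (em F₀ P u)) • em F₀ P h := by
    obtain ⟨a, rfl⟩ := exists_coords F₀ P v
    rw [mulVec_sum, f_sum_left hf, f_sum_left hf, Finset.mul_sum, Finset.mul_sum, Finset.sum_smul,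
      Finset.sum_smul, ← Finset.sum_sub_distrib, ← Finset.sum_add_distrib]
    refine Finset.sum_congr rfl fun j _ => ?_
    rw [mulVec_smul, hgform, smul_add, smul_sub, smul_smul, smul_smul]
    congr 2 <;> ring_nf
  have hv' : stv hf ((g : Matrix ι ι F) *ᵥ v) c ∈ M := stv_conj_mem hf hM hgM hvc
  obtain ⟨A', hA'⟩ : ∃ A, A = f v (em F₀ P h) := ⟨_, rfl⟩
  obtain ⟨B', hB'⟩ : ∃ B, B = f v (em F₀ P u) := ⟨_, rfl⟩
  rw [← hA', ← hB'] at hgv
  have hA0 : A' ≠ 0 := hA' ▸ hx h (fun h0 => one_ne_zero (huh.symm.trans (by rw [h0, zero_right hf'])))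
  have hB0 : B' ≠ 0 := hB' ▸ hx u hu0
  rw [hgv] at hv'
  have hm := M.mul_mem hvc hv'
  have hmap : ∀ y : ι → F₀,
      f (em F₀ P y) (v - (2 * A') • em F₀ P u + (2 * B') • em F₀ P h) = -f (em F₀ P y) v →
      ((stv hf v c * stv hf (v - (2 * A') • em F₀ P u + (2 * B') • em F₀ P h) c : GL ι F) : Matrix ι ι F) *ᵥ
        em F₀ P y = em F₀ P y + (2 * c * f (em F₀ P y) v) • (A' • em F₀ P u - B' • em F₀ P h) := by
    intro y hy
    have h0 : f (v - (2 * A') • em F₀ P u + (2 * B') • em F₀ P h) v = 0 := by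
      rw [hf.bilinear.add_left, sub_left hf, hf.bilinear.smul_left, hf.bilinear.smul_left, hf.alternating,
        hf.skew (em F₀ P u) v, hf.skew (em F₀ P h) v, ← hA', ← hB']
      ring
    rw [gl_mul_mulVec, stv_mulVec, stv_mulVec, hy, hf.bilinear.add_left, hf.bilinear.smul_left, h0]
    module
  have hfu : f (em F₀ P u) v = -B' := by rw [hf.skew, hB']
  have hfh : f (em F₀ P h) v = -A' := by rw [hf.skew, hA']
  have hmu := stv_conj_mem hf hM hm (hone (u := v) u)
  have hmh := stv_conj_mem hf hM hm (hone (u := v) h)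
  rw [hmap u (by
    rw [hf.bilinear.add_right, sub_right hf, hf.bilinear.smul_right, hf.bilinear.smul_right, hf.alternating, huh',
      hfu]
    ring), hfu, show em F₀ P u + (2 * c * -B') • (A' • em F₀ P u - B' • em F₀ P h) =
      (1 - 2 * c * A' * B') • em F₀ P u + (2 * c * B' * B') • em F₀ P h by module] at hmu
  rw [hmap h (by
    rw [hf.bilinear.add_right, sub_right hf, hf.bilinear.smul_right, hf.bilinear.smul_right, hf.alternating, hhu',
      hfh]
    ring), hfh, show em F₀ P h + (2 * c * -A') • (A' • em F₀ P u - B' • em F₀ P h) =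
      (-(2 * c * A' * A')) • em F₀ P u + (1 + 2 * c * A' * B') • em F₀ P h by module] at hmh
  obtain ⟨z, huz, hhz, hz'⟩ := exists_orth_hyp hf hrat (by omega) huh
  have hz0 := ne_zero_of_not_mem_span hz'
  have hperp : ∀ p q : F, f (p • em F₀ P u + q • em F₀ P h) (em F₀ P z) = 0 := fun p q => by
    rw [hf.bilinear.add_left, hf.bilinear.smul_left, hf.bilinear.smul_left, f_zero hrat huz, f_zero hrat hhz,
      mul_zero, mul_zero, add_zero]
  by_cases hi1 : ∀ (t : F) (d : ι → F₀),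
      (1 - 2 * c * A' * B') • em F₀ P u + (2 * c * B' * B') • em F₀ P h ≠ t • em F₀ P d
  · exact centre_in_plane hf hrat hHM hM one_ne_zero hmu hi1 hz0 (hperp _ _)
  by_cases hi2 : ∀ (t : F) (d : ι → F₀),
      (-(2 * c * A' * A')) • em F₀ P u + (1 + 2 * c * A' * B') • em F₀ P h ≠ t • em F₀ P d
  · exact centre_in_plane hf hrat hHM hM one_ne_zero hmh hi2 hz0 (hperp _ _)
  push Not at hi1 hi2
  obtain ⟨t₁, d₁, e1⟩ := hi1
  obtain ⟨t₂, d₂, e2⟩ := hi2
  exfalso
  have hhu : h ∉ Submodule.span F₀ ({u} : Set (ι → F₀)) := fun hm => by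
    obtain ⟨a, ha⟩ := Submodule.mem_span_singleton.1 hm
    rw [← ha, hf'.bilinear.smul_right, hf'.alternating, mul_zero] at huh
    exact zero_ne_one huh
  have huh0 : u ∉ Submodule.span F₀ ({h} : Set (ι → F₀)) := not_span_single hf hrat hhu hu0
  obtain ⟨a₁, ha₁⟩ := coeff_mem hf hrat huh0 e1
  obtain ⟨b₁, hb₁⟩ := coeff_mem hf hrat hhu (p := 2 * c * B' * B') (by rw [add_comm]; exact e1)
  obtain ⟨a₂, ha₂⟩ := coeff_mem hf hrat huh0 e2
  obtain ⟨b₂, hb₂⟩ := coeff_mem hf hrat hhu (p := 1 + 2 * c * A' * B') (by rw [add_comm]; exact e2)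
  obtain ⟨p, hp⟩ : ∃ p, p = 2 * c * A' * B' := ⟨_, rfl⟩
  obtain ⟨A, hA⟩ : ∃ A, A = 2 * c * A' * A' := ⟨_, rfl⟩
  obtain ⟨B, hB⟩ : ∃ B, B = 2 * c * B' * B' := ⟨_, rfl⟩
  rw [← hp] at ha₁ hb₂
  rw [← hB] at hb₁
  rw [← hA] at ha₂
  have hAB : A * B = p * p := by rw [hA, hB, hp]; ring
  have hpne : p ≠ 0 := hp ▸ mul_ne_zero (mul_ne_zero (mul_ne_zero h2 hc) hA0) hB0
  have hX : 1 - p ≠ 0 → B / (1 - p) ∈ F₀ := fun h => by
    rw [ha₁] at h
    rw [hb₁, ha₁, mul_div_mul_left _ _ (left_ne_zero_of_mul h)]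
    exact F₀.div_mem b₁.2 a₁.2
  have hY : 1 + p ≠ 0 → A / (1 + p) ∈ F₀ := fun h => by
    rw [hb₂] at h
    rw [show A = -(t₂ * (a₂ : F)) by linear_combination -ha₂, hb₂, neg_div,
      mul_div_mul_left _ _ (left_ne_zero_of_mul h)]
    exact F₀.neg_mem (F₀.div_mem a₂.2 b₂.2)
  have hpF : p ∈ F₀ := by
    by_cases h1 : 1 - p = 0
    · rw [← sub_eq_zero.1 h1]; exact F₀.one_mem
    by_cases h3 : 1 + p = 0
    · rw [eq_neg_of_add_eq_zero_right h3]; exact F₀.neg_mem F₀.one_mem
    refine Subf.mem_of_sq_mem hr hr2 hcard ?_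
    have hXY := F₀.mul_mem (hX h1) (hY h3)
    obtain ⟨X, hXdef⟩ : ∃ X, X = B / (1 - p) * (A / (1 + p)) := ⟨_, rfl⟩
    rw [← hXdef] at hXY
    have hrel : p * p = X * (1 - p * p) := by
      rw [hXdef, ← hAB]; field_simp; rw [hAB]; ring
    have hX1 : 1 + X ≠ 0 := fun h => one_ne_zero (α := F) (by linear_combination (1 - p * p) * h + hrel)
    rw [show p * p = X / (1 + X) by rw [eq_div_iff hX1]; linear_combination hrel]
    exact F₀.div_mem hXY (F₀.add_mem F₀.one_mem hXY)
  have hratio : A' / B' ∈ F₀ := by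
    by_cases h1 : 1 - p = 0
    · have h3 : 1 + p ≠ 0 := by
        rw [← sub_eq_zero.1 h1, one_add_one_eq_two]; exact h2
      have hAF : A ∈ F₀ := by
        have := F₀.mul_mem (hY h3) (F₀.add_mem F₀.one_mem hpF)
        rwa [div_mul_cancel₀ _ h3] at this
      rw [show A' / B' = A / p by rw [hA, hp]; field_simp]
      exact F₀.div_mem hAF hpF
    · have hBF : B ∈ F₀ := by
        have := F₀.mul_mem (hX h1) (F₀.sub_mem F₀.one_mem hpF)
        rwa [div_mul_cancel₀ _ h1] at this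
      rw [show A' / B' = p / B by rw [hB, hp]; field_simp]
      exact F₀.div_mem hpF hBF
  refine hx (h - (⟨_, hratio⟩ : F₀) • u) (sub_ne_zero.2 fun h0 => hhu (Submodule.mem_span_singleton.2 ⟨_, h0.symm⟩)) ?_
  rw [em_sub, em_smul, sub_right hf, hf.bilinear.smul_right, ← hA', ← hB']
  show A' - A' / B' * B' = 0
  rw [div_mul_cancel₀ _ hB0, sub_self]

/-- all transvections at rational vectors -/
theorem cset_eq_top_odd_four (hn : 4 ≤ Fintype.card ι) {r : ℕ} (hr : r.Prime) (hcard : Fintype.card F = Nat.card F₀ ^ r)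
    {v : ι → F} {c : F} (hc : c ≠ 0) (hvc : stv hf v c ∈ M)
    (hirr : ∀ (t : F) (d : ι → F₀), v ≠ t • em F₀ P d) (a : ι → F₀) (y : F) : stv hf (em F₀ P a) y ∈ M := by
  have hf' := f₀_symplectic hf hrat
  obtain ⟨e, x, γ, k, hex, hxe, he0, hγ, hk, hmem⟩ :=
    exists_plane_centre_odd_four hf hrat hHM hM h2 hn hr hcard hc hvc hirr
  have hex' := f_zero hrat hex
  have hx0 : x ≠ 0 := ne_zero_of_not_mem_span hxe
  have hk' : (k : F) ≠ 0 := fun h => hk (Subtype.ext h)
  have hinv : ∀ {u : ι → F} {s : F}, stv hf u s ∈ M → stv hf u (-s) ∈ M := fun {u s} h => by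
    have : stv hf u (-s) = (stv hf u s)⁻¹ := eq_inv_of_mul_eq_one_left (by rw [stv_mul, neg_add_cancel, stv_zero])
    rw [this]
    exact M.inv_mem h
  let C := cset (P := P) hf hM e
  have hex_span : e ∉ Submodule.span F₀ ({x} : Set (ι → F₀)) := not_span_single hf hrat hxe he0
  obtain ⟨w, hxw, hw'⟩ := exists_val hf hrat (x := x) (S := ({e} : Set (ι → F₀))) hxe
  have hew : f₀ hrat e w = 0 := hw' e rfl
  have hexw' := f_zero hrat hew
  have hxw' := f_one hrat hxw
  obtain ⟨g, hgM, hgx, -, hgfix⟩ := rat_neg hf hrat hHM hxw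
  have hge := hgfix e hex hew
  have hlong : ∀ {s : F}, sh hf (em F₀ P e) (em F₀ P x) s ∈ M → 2 * s ∈ C := fun {s} h =>
    cset_move hf hrat hHM hM hx0 he0 (long_of_short hf hrat hHM hM hex hex_span h)
  -- the shear of a product is reached twice
  have hsplit : ∀ {s t : F}, sh hf (em F₀ P e) (em F₀ P x) s * stv hf (em F₀ P e) t ∈ M → 2 * (2 * s) ∈ C := by
    intro s t h
    have hinvol := M.mul_mem (M.mul_mem hgM h) (M.inv_mem hgM)
    have h4 := M.mul_mem h (M.inv_mem hinvol)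
    refine hlong ?_
    convert h4 using 1
    rw [eq_mul_inv_iff_mul_eq,
      show g * (sh hf (em F₀ P e) (em F₀ P x) s * stv hf (em F₀ P e) t) * g⁻¹ =
        (g * sh hf (em F₀ P e) (em F₀ P x) s * g⁻¹) * (g * stv hf (em F₀ P e) t * g⁻¹) by group,
      sh_conj hf (hM hgM), stv_conj hf (hM hgM), hge, hgx]
    refine gl_ext_vec fun y => ?_
    rw [gl_mul_mulVec, gl_mul_mulVec, gl_mul_mulVec, sh_mulVec hf hex', sh_mulVec hf (by rw [neg_right hf, hex', neg_zero]),
      stv_mulVec, sh_mulVec hf hex']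
    simp only [hf.bilinear.add_left, hf.bilinear.add_right, hf.bilinear.smul_left, hf.bilinear.smul_right,
      neg_left hf, neg_right hf, hf.alternating, hex', swap_zero hf hex', mul_zero, neg_zero, add_zero]
    module
  have hF₀ : ∀ s : F₀, (s : F) ∈ C := fun s => rat_tv hf hrat hHM e s
  obtain ⟨s₀, hs₀, hs₀F⟩ : ∃ s ∈ C, s ∉ F₀ := by
    have h1 := stv_conj_mem hf hM hgM hmem
    rw [mulVec_add, mulVec_smul, hgx, hge] at h1
    have h4 := M.mul_mem hmem (hinv h1)
    have heq : stv hf (em F₀ P e + γ • em F₀ P x) (k : F) * stv hf (em F₀ P e + γ • -em F₀ P x) (-(k : F)) =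
        sh hf (em F₀ P e) (em F₀ P x) (2 * (k : F) * γ) :=
      gl_ext_vec fun y => by
        rw [gl_mul_mulVec, sh_mulVec hf hex', stv_mulVec, stv_mulVec]
        simp only [hf.bilinear.add_left, hf.bilinear.add_right, hf.bilinear.smul_left, hf.bilinear.smul_right,
          neg_left hf, neg_right hf, hf.alternating, hex', swap_zero hf hex', mul_zero, neg_zero, add_zero]
        module
    rw [heq] at h4
    refine ⟨2 * (2 * (k : F) * γ), hlong h4, fun hm => hγ ?_⟩
    have h5 := F₀.div_mem hm (F₀.mul_mem (F₀.mul_mem (show (2 : F) ∈ F₀ by exact_mod_cast (2 : F₀).2)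
      (show (2 : F) ∈ F₀ by exact_mod_cast (2 : F₀).2)) k.2)
    rwa [show 2 * (2 * (k : F) * γ) / (2 * 2 * (k : F)) = γ by field_simp] at h5
  have hmul : ∀ c₁ ∈ C, ∀ c₂ ∈ C, c₁ * c₂ ∈ C := by
    intro c₁ hc₁ c₂ hc₂
    have hw0 : w ≠ 0 := fun h => by rw [h, zero_right hf'] at hxw; exact zero_ne_one hxw
    have hew0 : e + w ≠ 0 := fun h => by
      rw [eq_neg_of_add_eq_zero_right h, neg_right hf', swap_zero hf' hex, neg_zero] at hxw
      exact zero_ne_one hxw
    have hg := short_of_long hf hrat hHM hM he0 hw0 hew0 hc₂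
    have hlx := cset_move hf hrat hHM hM he0 hx0 hc₁
    have h1 := stv_conj_mem hf hM hg hlx
    have hgx' : (sh hf (em F₀ P e) (em F₀ P w) c₂ : Matrix ι ι F) *ᵥ em F₀ P x = em F₀ P x + c₂ • em F₀ P e := by
      rw [sh_mulVec hf hexw', swap_zero hf hex', hxw']
      simp
    rw [hgx'] at h1
    have h4 := M.mul_mem h1 (hinv hlx)
    refine half_mem C h2 (half_mem C h2 (hsplit (t := c₁ * (c₂ * c₂)) ?_))
    convert h4 using 1
    refine gl_ext_vec fun y => ?_
    rw [gl_mul_mulVec, gl_mul_mulVec, sh_mulVec hf hex', stv_mulVec, stv_mulVec, stv_mulVec]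
    simp only [hf.bilinear.add_left, hf.bilinear.add_right, hf.bilinear.smul_left, hf.bilinear.smul_right,
      hf.alternating, hex', swap_zero hf hex', mul_zero, add_zero]
    module
  rcases eq_or_ne a 0 with rfl | ha
  · rw [em_zero, stv_zero_left]
    exact M.one_mem
  exact cset_move hf hrat hHM hM he0 ha
    (Subf.eq_univ_of_closed hr hcard (C := (C : Set F)) (fun p hp q hq => C.add_mem hp hq) hmul hF₀ hs₀ hs₀F y)

omit hHM hM in
/-- subfield subgroups are maximal -/
theorem subfield_maximal_odd_four (hn : 4 ≤ Fintype.card ι) {r : ℕ} (hr : r.Prime)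
    (hcard : Fintype.card F = Nat.card F₀ ^ r) :
    IsMaximalIn (isoSub f) (subfieldSubgroup F₀ P ⊓ isoSub f) :=
  subfield_maximal_of hf hrat (by omega) hr hcard fun M hHM hM _v hvc hirr b y =>
    cset_eq_top_odd_four hf hrat hHM hM h2 hn hr hcard one_ne_zero hvc hirr b y

end CfsgLib.Perm.Trans.Symp
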