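import Cfsg.Agent.Lib.Perm.Trans.TensorHermStep

/-!
# Tensor products of unitary spaces of dimensions two and three

An element outside the tensor product subgroup moves every isotropic `U ⊗ b` so that the pairing with every isotropic
`U ⊗ b₀` is a similitude of the first factor; by linearity one isotropic plane then pairs to zero, which is absurd.
-/

set_option autoImplicit false
set_option linter.all false

namespace CfsgLib.Perm.Trans.TensorHerm

open scoped Matrix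
open Matrix Cfsg.Geo CfsgLib.Perm.Asch CfsgLib.Perm.Trans CfsgLib.Perm.Trans.Unit
open CfsgLib.Perm.Trans.TensorFrame CfsgLib.Perm.Trans.TensorMax

variable {F : Type*} [Field F] [Fintype F]

section One

variable {κ : Type} [Fintype κ] [DecidableEq κ] {σ : F ≃+* F} {h : (κ → F) → (κ → F) → F} (hh : IsUnitaryForm σ h)
include hh

/-- a frame of a three dimensional space at an isotropic vector -/
theorem exists_frame3 (h3 : Fintype.card κ = 3) {b : κ → F} (hb : b ≠ 0) (hbb : h b b = 0) :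
    ∃ b' w, h b' b' = 0 ∧ h b b' = 1 ∧ h b' b = 1 ∧ h w b = 0 ∧ h b w = 0 ∧ h w b' = 0 ∧ h b' w = 0 ∧ h w w ≠ 0 ∧
      ∀ y, y = h y b' • b + h y b • b' + (h y w / h w w) • w := by
  obtain ⟨b', hb'b', hbb', hb'b⟩ := exists_isotropic_partner hh hb hbb
  obtain ⟨p, hp1, hp2⟩ := exists_aniso_perp hh (by omega) hb hbb
  obtain ⟨w, hw⟩ : ∃ w, w = p - h p b' • b := ⟨_, rfl⟩
  have hwb : h w b = 0 := by rw [hw, herm_sub_left hh, hh.smul_left, hp1, hbb, mul_zero, sub_zero]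
  have hwb' : h w b' = 0 := by rw [hw, herm_sub_left hh, hh.smul_left, hbb', mul_one, sub_self]
  have hbw := herm_swap_zero hh hwb
  have hb'w := herm_swap_zero hh hwb'
  have hbp := herm_swap_zero hh hp1
  have hww : h w w ≠ 0 := by
    rw [hw, herm_sub_left hh, herm_sub_right hh, herm_sub_right hh, hh.smul_left, hh.smul_left, herm_smul_right hh,
      herm_smul_right hh, hp1, hbb, hbp]
    simpa using hp2
  refine ⟨b', w, hb'b', hbb', hb'b, hwb, hbw, hwb', hb'w, hww, fun y => ?_⟩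
  have hli : LinearIndependent F ![b, b', w] := by
    rw [Fintype.linearIndependent_iff]
    intro c hc i
    simp only [Fin.sum_univ_three, Matrix.cons_val_zero, Matrix.cons_val_one, Matrix.cons_val_two,
      Matrix.head_cons, Matrix.tail_cons] at hc
    have e1 := congrArg (fun v => h v b) hc
    have e2 := congrArg (fun v => h v b') hc
    have e3 := congrArg (fun v => h v w) hc
    simp only [hh.add_left, hh.smul_left, hbb, hb'b, hwb, hbb', hb'b', hwb', hbw, hb'w, herm_zero_left hh, mul_zero,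
      mul_one, zero_add, add_zero] at e1 e2 e3
    have e3' := (mul_eq_zero.1 e3).resolve_right hww
    fin_cases i <;> assumption
  have hspan := hli.span_eq_top_of_card_eq_finrank
    (by rw [Fintype.card_fin, Module.finrank_fintype_fun_eq_card, h3])
  refine eq_of_left hh fun x => ?_
  have hx : x ∈ Submodule.span F (Set.range ![b, b', w]) := hspan ▸ Submodule.mem_top
  obtain ⟨c, rfl⟩ := (Submodule.mem_span_range_iff_exists_fun F).1 hx
  simp only [Fin.sum_univ_three, Matrix.cons_val_zero, Matrix.cons_val_one, Matrix.cons_val_two, Matrix.head_cons,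
    Matrix.tail_cons, herm_add_right hh, herm_smul_right hh, hh.add_left, hh.smul_left, hbb, hb'b, hwb, hbb', hb'b',
    hwb', hbw, hb'w, mul_zero, mul_one, zero_add, add_zero, div_mul_cancel₀ _ hww]

/-- maps whose commutators with the transvections are scalar are scalar -/
theorem scalar_of_comm (h2 : 2 ≤ Fintype.card κ) (hcard2 : Fintype.card κ = 2)
    (hex : ∃ t : F, σ t = t ∧ t ≠ 0 ∧ t ≠ 1) (X : (κ → F) →ₗ[F] (κ → F))
    (H : ∀ A ∈ isoU h ⊓ specialLinear κ F, ∃ c : F, ∀ x, conj1 A X x - X x = c • x) :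
    ∃ c : F, ∀ x, X x = c • x := by
  refine scalar_of_isotropic_eigen hh h2 X fun a ha haa => ?_
  obtain ⟨p, hpp, hap, hpa⟩ := exists_isotropic_partner hh ha haa
  have hexp : ∀ y, y = h y p • a + h y a • p := by
    intro y
    have hli : LinearIndependent F ![a, p] := by
      rw [Fintype.linearIndependent_iff]
      intro c hc i
      simp only [Fin.sum_univ_two, Matrix.cons_val_zero, Matrix.cons_val_one] at hc
      have e1 := congrArg (fun v => h v a) hc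
      have e2 := congrArg (fun v => h v p) hc
      simp only [hh.add_left, hh.smul_left, haa, hpa, hpp, hap, herm_zero_left hh, mul_zero, mul_one, zero_add,
        add_zero] at e1 e2
      fin_cases i <;> assumption
    have hspan := hli.span_eq_top_of_card_eq_finrank
      (by rw [Fintype.card_fin, Module.finrank_fintype_fun_eq_card, hcard2])
    refine eq_of_left hh fun x => ?_
    have hx : x ∈ Submodule.span F (Set.range ![a, p]) := hspan ▸ Submodule.mem_top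
    obtain ⟨c, rfl⟩ := (Submodule.mem_span_range_iff_exists_fun F).1 hx
    simp only [Fin.sum_univ_two, Matrix.cons_val_zero, Matrix.cons_val_one, herm_add_right hh, herm_smul_right hh,
      hh.add_left, hh.smul_left, haa, hpa, hpp, hap, mul_zero, mul_one, zero_add, add_zero]
  have key : ∀ δ : F, σ δ = -δ → δ ≠ 0 →
      h (X a) a = -h (X a) a ∧ h (X p) a - h (X a) p = δ * h (X a) a := by
    intro δ hδ hδ0
    obtain ⟨A, hA, hAx⟩ := exists_tvS hh haa hδ
    obtain ⟨c, hc⟩ := H A hA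
    have hc' : ∀ x, (A : Matrix κ κ F) *ᵥ X x - X ((A : Matrix κ κ F) *ᵥ x) = c • ((A : Matrix κ κ F) *ᵥ x) := by
      intro x
      rw [← hc, conj1_apply, gl_inv_mulVec]
    have e1 := hc' a
    rw [hAx, hAx, haa, mul_zero, zero_smul, add_zero, add_sub_cancel_left] at e1
    have hc1 : c = δ * h (X a) a := by
      have := congrArg (fun v => h v p) e1
      simp only [hh.smul_left, hap, mul_one] at this
      exact this.symm
    have e2 := hc' p
    rw [hAx, hAx, hpa, mul_one, map_add, map_smul] at e2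
    have ea := congrArg (fun v => h v a) e2
    have ep := congrArg (fun v => h v p) e2
    simp only [herm_sub_left hh, hh.add_left, hh.smul_left, haa, hpa, hpp, hap, mul_zero, mul_one, add_zero,
      zero_add] at ea ep
    refine ⟨mul_left_cancel₀ hδ0 ?_, mul_left_cancel₀ hδ0 ?_⟩
    · linear_combination -ea - hc1
    · linear_combination ep + δ * hc1
  obtain ⟨δ, hδ0, hδ⟩ := exists_trace_zero hh
  obtain ⟨t, htσ, ht0, ht1⟩ := hex
  have k1 := (key δ hδ hδ0).2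
  have k2 := (key (t * δ) (by rw [map_mul, htσ, hδ, mul_neg]) (mul_ne_zero ht0 hδ0)).2
  have hq : h (X a) a = 0 := by
    have : (t - 1) * (δ * h (X a) a) = 0 := by linear_combination k1 - k2
    exact (mul_eq_zero.1 ((mul_eq_zero.1 this).resolve_left (sub_ne_zero.2 ht1))).resolve_left hδ0
  refine Submodule.mem_span_singleton.2 ⟨h (X a) p, ?_⟩
  conv_rhs => rw [hexp (X a), hq, zero_smul, add_zero]

end One

/-- Cayley–Hamilton in dimension two -/
theorem cayley_two (m : Matrix (Fin 2) (Fin 2) F) (v : Fin 2 → F) :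
    m *ᵥ (m *ᵥ v) = m.trace • (m *ᵥ v) - m.det • v := by
  funext i
  fin_cases i <;>
    simp [Matrix.mulVec, dotProduct, Fin.sum_univ_two, Matrix.trace_fin_two, Matrix.det_fin_two] <;> ring

variable {ι : Type} [Fintype ι] [DecidableEq ι] {e : ι ≃ Fin 2 × Fin 3} {P : GL ι F}
variable {σ : F ≃+* F} {f : (ι → F) → (ι → F) → F} {M : Subgroup (GL ι F)}
variable {f₁ : (Fin 2 → F) → (Fin 2 → F) → F} {f₂ : (Fin 3 → F) → (Fin 3 → F) → F} {k : F}
variable (D : TU σ f f₁ f₂ e P k M)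
include D

/-- an element respecting pure tensors -/
theorem mem_of_pure {g : GL ι F} {C : (Fin 2 → F) →ₗ[F] (Fin 2 → F)} {B : (Fin 3 → F) →ₗ[F] (Fin 3 → F)}
    (hg : ∀ x y, (g : Matrix ι ι F) *ᵥ tvec e P x y = tvec e P (C x) (B y)) :
    g ∈ tensorProductSubgroup 2 3 e P := by
  have hCi : Function.Injective C := (injective_iff_map_eq_zero C).2 fun x hx => by
    by_contra hx0
    refine tvec_ne_zero hx0 (show (Pi.single 0 1 : Fin 3 → F) ≠ 0 by simp) ((gl_mulVec_eq_zero (g := g)).1 ?_) (e := e) (P := P)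
    rw [hg, hx, tvec_zero_left]
  have hBi : Function.Injective B := (injective_iff_map_eq_zero B).2 fun y hy => by
    by_contra hy0
    refine tvec_ne_zero (show (Pi.single 0 1 : Fin 2 → F) ≠ 0 by simp) hy0 ((gl_mulVec_eq_zero (g := g)).1 ?_) (e := e) (P := P)
    rw [hg, hy, tvec_zero_right]
  have hCu : IsUnit (LinearMap.toMatrix' C) := by
    rw [← Matrix.mulVec_injective_iff_isUnit]
    rwa [show (LinearMap.toMatrix' C).mulVec = ⇑C from funext (LinearMap.toMatrix'_mulVec C)]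
  have hBu : IsUnit (LinearMap.toMatrix' B) := by
    rw [← Matrix.mulVec_injective_iff_isUnit]
    rwa [show (LinearMap.toMatrix' B).mulVec = ⇑B from funext (LinearMap.toMatrix'_mulVec B)]
  obtain ⟨Cg, hCg⟩ := hCu
  obtain ⟨Bg, hBg⟩ := hBu
  rw [show g = kg e P Cg Bg from gl_ext_tvec (e := e) (P := P) fun x y => by
    rw [hg, kg_tvec, hCg, hBg, LinearMap.toMatrix'_mulVec, LinearMap.toMatrix'_mulVec]]
  exact kg_mem _ _

variable (h4 : 4 < Fintype.card F) (hex : ∃ t : F, σ t = t ∧ t ≠ 0 ∧ t ≠ 1)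
variable (hΩ : ¬ isoU f ⊓ specialLinear ι F ≤ M)
include h4 hex hΩ

/-- elements mapping one isotropic `U ⊗ b` to a pure plane lie in the tensor product subgroup -/
theorem rigid_two {g : GL ι F} (hg : g ∈ M) {b b'' : Fin 3 → F} (hb : b ≠ 0) (hbb : f₂ b b = 0) (hb'' : b'' ≠ 0)
    (hpure : ∀ x, ∃ x', (g : Matrix ι ι F) *ᵥ tvec e P x b = tvec e P x' b'') :
    g ∈ tensorProductSubgroup 2 3 e P := by
  classical
  have h1 := D.u1
  have h2 := D.u2
  have hs' : 4 ≤ 3 ∨ 3 ≤ 3 ∧ 4 < Fintype.card F := Or.inr ⟨le_rfl, h4⟩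
  obtain ⟨p, hp, hp'⟩ := exists_left_one h2 hb''
  obtain ⟨C, hCdef⟩ : ∃ C : (Fin 2 → F) →ₗ[F] (Fin 2 → F),
      C = (cob D p).comp ((Matrix.mulVecLin (g : Matrix ι ι F)).comp (tlm e P b)) := ⟨_, rfl⟩
  have hC : ∀ x, (g : Matrix ι ι F) *ᵥ tvec e P x b = tvec e P (C x) b'' := fun x => by
    obtain ⟨x', hx'⟩ := hpure x
    rw [hCdef]
    show _ = tvec e P (cob D p ((g : Matrix ι ι F) *ᵥ tvec e P x b)) b''
    rw [hx', cob_tvec, hp', one_smul]
  have hCi : Function.Injective C := (injective_iff_map_eq_zero C).2 fun x hx0 => by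
    have e1 := hC x
    rw [hx0, tvec_zero_left, gl_mulVec_eq_zero] at e1
    exact tvec_left_inj hb (e1.trans (tvec_zero_left b).symm)
  have hCs : Function.Surjective C := LinearMap.surjective_of_injective hCi
  have hgi : ∀ z z', f ((g : Matrix ι ι F) *ᵥ z) ((g : Matrix ι ι F) *ᵥ z') = f z z' := mem_isoU.1 (D.le hg)
  have hb''b'' : f₂ b'' b'' = 0 := by
    obtain ⟨a, -, haa⟩ := exists_anisotropic h1 (isNondegenerateOn_top h1) (fun h0 => by
      have := congrArg (fun W : Submodule F (Fin 2 → F) => Module.finrank F W) h0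
      simp at this)
    obtain ⟨x, rfl⟩ := hCs a
    have e1 := hgi (tvec e P x b) (tvec e P x b)
    rw [hC, D.pol, D.pol, hbb, mul_zero, mul_zero] at e1
    exact (mul_eq_zero.1 ((mul_eq_zero.1 e1).resolve_left D.kne)).resolve_left haa
  obtain ⟨b', w, hb'b', hbb', hb'b, hwb, hbw, hwb', hb'w, hww, hexp⟩ := exists_frame3 h2 (by simp) hb hbb
  obtain ⟨b₃, w₀, hb₃b₃, hb''b₃, hb₃b'', hw₀b'', hb''w₀, hw₀b₃, hb₃w₀, hw₀w₀, hexp₀⟩ :=
    exists_frame3 h2 (by simp) hb'' hb''b''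
  -- vectors by their three contractions
  have hdec : ∀ z, z = tvec e P (cob D b₃ z) b'' + tvec e P (cob D b'' z) b₃ +
      tvec e P ((f₂ w₀ w₀)⁻¹ • cob D w₀ z) w₀ := by
    intro z
    induction tvec_span (e := e) (P := P) z using Submodule.span_induction with
    | mem u hu =>
      obtain ⟨x, y, rfl⟩ := hu
      simp only [cob_tvec, smul_smul, tvec_smul_left, ← tvec_smul_right, ← tvec_add_right]
      rw [mul_comm, ← div_eq_mul_inv, ← hexp₀ y]
    | zero => simp [tvec_zero_left]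
    | add a c _ _ e1 e2 =>
      simp only [map_add, smul_add, tvec_add_left]
      linear_combination (norm := module) e1 + e2
    | smul c a _ e1 =>
      conv_lhs => rw [e1]
      simp only [map_smul, smul_comm _ c, tvec_smul_left, smul_add]
  -- the contraction of the image of the partner
  obtain ⟨C₃, hC₃def⟩ : ∃ C₃ : (Fin 2 → F) →ₗ[F] (Fin 2 → F),
      C₃ = (cob D b'').comp ((Matrix.mulVecLin (g : Matrix ι ι F)).comp (tlm e P b')) := ⟨_, rfl⟩
  have hC₃ : ∀ x, cob D b'' ((g : Matrix ι ι F) *ᵥ tvec e P x b') = C₃ x := fun x => by rw [hC₃def]; rfl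
  have hC₃C : ∀ x x', f₁ (C₃ x) (C x') = f₁ x x' := fun x x' => by
    refine mul_left_cancel₀ D.kne ?_
    rw [← hC₃, ← pair D, ← hC, hgi, D.pol, hb'b, mul_one]
  have hcobw : ∀ x, cob D b'' ((g : Matrix ι ι F) *ᵥ tvec e P x w) = 0 := fun x => eq_of_left h1 fun u => by
    obtain ⟨x', rfl⟩ := hCs u
    refine mul_left_cancel₀ D.kne ?_
    rw [← pair D, ← hC, hgi, D.pol, hwb, herm_zero_left h1, mul_zero, mul_zero]
  -- the middle of the image
  obtain ⟨ω, hω⟩ : ∃ ω : F, ∀ x, cob D w₀ ((g : Matrix ι ι F) *ᵥ tvec e P x w) = ω • C₃ x := by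
    obtain ⟨τ, hτ⟩ := exists_trace h2 (d := -f₂ w w) (by rw [map_neg, ← h2.herm])
    obtain ⟨X, hX, -, hXz⟩ := exists_hB D hbb hwb (τ := τ) (by linear_combination hτ)
    have hXb : ∀ x, (X : Matrix ι ι F) *ᵥ tvec e P x b = tvec e P x b := fun x => by
      rw [hXz, cob_tvec, cob_tvec, hbb, hbw, zero_smul, smul_zero, sub_zero, tvec_zero_left, tvec_zero_left,
        add_zero, add_zero]
    obtain ⟨Y, hY⟩ : ∃ Y, Y = g * X * g⁻¹ := ⟨_, rfl⟩
    have hYM : Y ∈ M := hY ▸ M.mul_mem (M.mul_mem hg hX) (M.inv_mem hg)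
    have hYg : ∀ z, (Y : Matrix ι ι F) *ᵥ ((g : Matrix ι ι F) *ᵥ z) = (g : Matrix ι ι F) *ᵥ ((X : Matrix ι ι F) *ᵥ z) :=
      fun z => by rw [hY, gl_mul_mulVec, gl_mul_mulVec, gl_inv_mulVec]
    obtain ⟨c, hc⟩ := middle_scalar' D le_rfl hs' (Or.inr hex) hΩ hb'' hb''b'' hYM (fun x => by
        obtain ⟨x', rfl⟩ := hCs x
        rw [← hC, hYg, hXb])
      (fun x y hy => by
        obtain ⟨z, hz⟩ : ∃ z, (g : Matrix ι ι F) *ᵥ z = tvec e P x y := ⟨_, gl_mulVec_inv g _⟩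
        have hzb : cob D b z = 0 := eq_of_left h1 fun x' => by
          refine mul_left_cancel₀ D.kne ?_
          rw [← pair D, ← hgi, hz, hC, D.pol, hy, herm_zero_left h1, mul_zero, mul_zero]
        refine ⟨C (-cob D w z), ?_⟩
        rw [← hz, hYg, hXz, hzb, smul_zero, zero_sub, tvec_zero_left, add_zero, mulVec_add, hC])
      (w := w₀) hw₀b''
    refine ⟨-σ c, fun x => eq_of_left h1 fun x' => mul_left_cancel₀ D.kne ?_⟩
    rw [← pair D]
    obtain ⟨G, hG⟩ : ∃ G, G = (g : Matrix ι ι F) *ᵥ tvec e P x b' := ⟨_, rfl⟩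
    have e1 : (Y : Matrix ι ι F) *ᵥ G =
        G + (g : Matrix ι ι F) *ᵥ tvec e P x w + tvec e P (τ • C x) b'' := by
      rw [hG, hYg, hXz, cob_tvec, cob_tvec, hb'b, hb'w, one_smul, zero_smul, sub_zero, mulVec_add, mulVec_add, hC,
        map_smul]
    have e2 := mem_isoU.1 (D.le hYM) G (tvec e P x' w₀)
    rw [e1, hc, D.form.add_left, D.form.add_left, herm_add_right D.form, herm_add_right D.form, herm_add_right D.form,
      D.pol (τ • C x), D.pol (τ • C x), hb''w₀, hb''b'', pair D G (c • x'), pair D _ (c • x'), hcobw, hG, hC₃] at e2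
    rw [h1.smul_left]
    rw [herm_smul_right h1, herm_smul_right h1, herm_zero_left h1] at e2
    linear_combination e2
  obtain ⟨K₁, hK₁def⟩ : ∃ K₁ : (Fin 2 → F) →ₗ[F] (Fin 2 → F),
      K₁ = (cob D b₃).comp ((Matrix.mulVecLin (g : Matrix ι ι F)).comp (tlm e P w)) := ⟨_, rfl⟩
  have hK₁ : ∀ x, cob D b₃ ((g : Matrix ι ι F) *ᵥ tvec e P x w) = K₁ x := fun x => by rw [hK₁def]; rfl
  have hgw : ∀ x, (g : Matrix ι ι F) *ᵥ tvec e P x w =
      tvec e P (K₁ x) b'' + tvec e P (((f₂ w₀ w₀)⁻¹ * ω) • C₃ x) w₀ := fun x => by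
    conv_lhs => rw [hdec ((g : Matrix ι ι F) *ᵥ tvec e P x w), hcobw, hω, hK₁, tvec_zero_left, add_zero, smul_smul]
  -- similitudes
  obtain ⟨w', hw'⟩ : ∃ w', w' = ((f₂ w₀ w₀)⁻¹ * ω) • w₀ := ⟨_, rfl⟩
  have hN : ∀ x x', f₁ (C₃ x) (C₃ x') * f₂ w' w' = f₁ x x' * f₂ w w := fun x x' => by
    refine mul_left_cancel₀ D.kne ?_
    rw [← D.pol x, ← hgi, hgw, hgw, tvec_smul_left, tvec_smul_left, ← tvec_smul_right, ← tvec_smul_right, ← hw',
      D.form.add_left, herm_add_right D.form, herm_add_right D.form, D.pol, D.pol, D.pol, D.pol, hb''b'']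
    rw [show f₂ b'' w' = 0 by rw [hw', herm_smul_right h2, hb''w₀, mul_zero],
      show f₂ w' b'' = 0 by rw [hw', h2.smul_left, hw₀b'', mul_zero]]
    ring
  obtain ⟨μ, hμdef⟩ : ∃ μ, μ = f₂ w w / f₂ w' w' := ⟨_, rfl⟩
  have hw'0 : f₂ w' w' ≠ 0 := fun h0 => by
    obtain ⟨a, -, haa⟩ := exists_anisotropic h1 (isNondegenerateOn_top h1) (fun h0' => by
      have := congrArg (fun W : Submodule F (Fin 2 → F) => Module.finrank F W) h0'
      simp at this)
    have := hN a a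
    rw [h0, mul_zero] at this
    exact mul_ne_zero haa hww this.symm
  have hμ : ∀ x x', f₁ (C₃ x) (C₃ x') = μ * f₁ x x' := fun x x' => by
    rw [hμdef, div_mul_eq_mul_div, eq_div_iff hw'0, hN, mul_comm]
  have hμ0 : μ ≠ 0 := hμdef ▸ div_ne_zero hww hw'0
  have hμσ : σ μ = μ := by rw [hμdef, map_div₀, ← h2.herm, ← h2.herm]
  have hC₃s : Function.Surjective C₃ := LinearMap.surjective_of_injective ((injective_iff_map_eq_zero C₃).2 fun x hx =>
    eq_of_left h1 fun x' => by rw [herm_zero_left h1, ← hC₃C, hx, herm_zero_left h1])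
  have hC₃eq : ∀ x, C₃ x = μ • C x := fun x => eq_of_left h1 fun u => by
    obtain ⟨y, rfl⟩ := hC₃s u
    rw [hμ, h1.smul_left, h1.herm (C x) (C₃ y), hC₃C, ← h1.herm]
  have hsim : ∀ x x', f₁ (C x) (C x') = μ⁻¹ * f₁ x x' := fun x x' => by
    have e1 := hC₃C x x'
    rw [hC₃eq, h1.smul_left] at e1
    rw [← e1, inv_mul_cancel_left₀ hμ0]
  obtain ⟨w₁, hw₁⟩ : ∃ w₁, w₁ = μ • w' := ⟨_, rfl⟩
  obtain ⟨Cu, hCu⟩ : ∃ Cu : GL (Fin 2) F, ∀ x, (Cu : Matrix (Fin 2) (Fin 2) F) *ᵥ x = C x := by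
    have hu : IsUnit (LinearMap.toMatrix' C) := by
      rw [← Matrix.mulVec_injective_iff_isUnit]
      rwa [show (LinearMap.toMatrix' C).mulVec = ⇑C from funext (LinearMap.toMatrix'_mulVec C)]
    obtain ⟨Cu, hCu⟩ := hu
    exact ⟨Cu, fun x => by rw [hCu, LinearMap.toMatrix'_mulVec]⟩
  obtain ⟨K, hKdef⟩ : ∃ K : (Fin 2 → F) →ₗ[F] (Fin 2 → F),
      K = (Matrix.mulVecLin ((Cu⁻¹ : GL (Fin 2) F) : Matrix (Fin 2) (Fin 2) F)).comp K₁ := ⟨_, rfl⟩
  have hgw' : ∀ x, (g : Matrix ι ι F) *ᵥ tvec e P x w = tvec e P (C x) w₁ + tvec e P (C (K x)) b'' := fun x => by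
    rw [hgw, hw₁, hw', hC₃eq, hKdef, LinearMap.comp_apply, Matrix.mulVecLin_apply, ← hCu, ← hCu, gl_mulVec_inv]
    simp only [tvec_smul_left, tvec_smul_right]
    module
  -- conjugated left elements
  have helem : ∀ A ∈ isoU f₁ ⊓ specialLinear (Fin 2) F, ∃ n ∈ M, ∀ z z₁ : ι → F, ∀ x₀ y₀,
      z = tvec e P x₀ y₀ → (g : Matrix ι ι F) *ᵥ z₁ =
        (kg e P (Cu * A * Cu⁻¹) 1 : Matrix ι ι F) *ᵥ
          ((g : Matrix ι ι F) *ᵥ tvec e P (((A⁻¹ : GL (Fin 2) F) : Matrix (Fin 2) (Fin 2) F) *ᵥ x₀) y₀) →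
      (n : Matrix ι ι F) *ᵥ z = z₁ := by
    intro A hA
    have hA' : Cu * A * Cu⁻¹ ∈ isoU f₁ ⊓ specialLinear (Fin 2) F := by
      refine ⟨mem_isoU.2 fun x x' => ?_, ?_⟩
      · obtain ⟨y, rfl⟩ : ∃ y, (Cu : Matrix (Fin 2) (Fin 2) F) *ᵥ y = x := ⟨_, gl_mulVec_inv Cu x⟩
        obtain ⟨y', rfl⟩ : ∃ y, (Cu : Matrix (Fin 2) (Fin 2) F) *ᵥ y = x' := ⟨_, gl_mulVec_inv Cu x'⟩
        rw [gl_mul_mulVec, gl_mul_mulVec, gl_inv_mulVec, gl_mul_mulVec, gl_mul_mulVec, gl_inv_mulVec, hCu, hCu, hCu,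
          hCu, hsim, hsim, mem_isoU.1 hA.1]
      · refine Units.ext ?_
        show (((Cu * A * Cu⁻¹ : GL (Fin 2) F)) : Matrix (Fin 2) (Fin 2) F).det = 1
        rw [Units.val_mul, Units.val_mul, det_mul, det_mul, sl_det hA.2, mul_one, ← det_mul, ← Units.val_mul,
          mul_inv_cancel, Units.val_one, det_one]
    refine ⟨g⁻¹ * kg e P (Cu * A * Cu⁻¹) 1 * g * (kg e P A 1)⁻¹,
      M.mul_mem (M.mul_mem (M.mul_mem (M.inv_mem hg) (kg_mem_M D hA' (one_mem _))) hg)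
        (M.inv_mem (kg_mem_M D hA (one_mem _))), ?_⟩
    rintro _ z₁ x₀ y₀ rfl hz₁
    have e0 : (((kg e P A 1)⁻¹ : GL ι F) : Matrix ι ι F) *ᵥ tvec e P x₀ y₀ =
        tvec e P (((A⁻¹ : GL (Fin 2) F) : Matrix (Fin 2) (Fin 2) F) *ᵥ x₀) y₀ := by
      have e1 : (kg e P A 1 : Matrix ι ι F) *ᵥ
          tvec e P (((A⁻¹ : GL (Fin 2) F) : Matrix (Fin 2) (Fin 2) F) *ᵥ x₀) y₀ = tvec e P x₀ y₀ := by
        rw [kg_tvec, gl_mulVec_inv, Units.val_one, one_mulVec]
      conv_lhs => rw [← e1, gl_inv_mulVec]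
    rw [gl_mul_mulVec, gl_mul_mulVec, gl_mul_mulVec, e0, ← hz₁, gl_inv_mulVec]
  have hconjC : ∀ (A : GL (Fin 2) F) (u : Fin 2 → F) (y : Fin 3 → F),
      (kg e P (Cu * A * Cu⁻¹) 1 : Matrix ι ι F) *ᵥ tvec e P (C u) y =
        tvec e P (C ((A : Matrix (Fin 2) (Fin 2) F) *ᵥ u)) y := fun A u y => by
    rw [kg_tvec, Units.val_one, one_mulVec, gl_mul_mulVec, gl_mul_mulVec, ← hCu, gl_inv_mulVec, hCu]
  have hAb : ∀ A ∈ isoU f₁ ⊓ specialLinear (Fin 2) F, ∀ x,
      (g : Matrix ι ι F) *ᵥ tvec e P x b = (kg e P (Cu * A * Cu⁻¹) 1 : Matrix ι ι F) *ᵥ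
          ((g : Matrix ι ι F) *ᵥ tvec e P (((A⁻¹ : GL (Fin 2) F) : Matrix (Fin 2) (Fin 2) F) *ᵥ x) b) := fun A _ x => by
    rw [hC, hC, hconjC, gl_mulVec_inv]
  have hAw : ∀ A ∈ isoU f₁ ⊓ specialLinear (Fin 2) F, ∀ x,
      (g : Matrix ι ι F) *ᵥ (tvec e P x w + tvec e P (conj1 A K x - K x) b) =
        (kg e P (Cu * A * Cu⁻¹) 1 : Matrix ι ι F) *ᵥ
          ((g : Matrix ι ι F) *ᵥ tvec e P (((A⁻¹ : GL (Fin 2) F) : Matrix (Fin 2) (Fin 2) F) *ᵥ x) w) := fun A _ x => by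
    rw [mulVec_add, hgw', hC, hgw', mulVec_add, hconjC, hconjC, gl_mulVec_inv, conj1_apply, map_sub, tvec_sub_l D]
    abel
  obtain ⟨κ, hκ⟩ := scalar_of_comm h1 (by simp) (by simp) hex K fun A hA => by
    obtain ⟨n, hn, hnz⟩ := helem A hA
    have hnb : ∀ x, (n : Matrix ι ι F) *ᵥ tvec e P x b = tvec e P x b := fun x => hnz _ _ x b rfl (hAb A hA x)
    have hnw : ∀ x, (n : Matrix ι ι F) *ᵥ tvec e P x w = tvec e P x w + tvec e P (conj1 A K x - K x) b :=
      fun x => hnz _ _ x w rfl (hAw A hA x)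
    obtain ⟨c, hc⟩ := middle_scalar' D le_rfl hs' (Or.inr hex) hΩ hb hbb hn hnb (fun x y hy => by
      rw [hexp y, hy, zero_smul, add_zero]
      refine ⟨(f₂ y w / f₂ w w) • (conj1 A K x - K x), ?_⟩
      simp only [tvec_add_right, tvec_smul_right, mulVec_add, mulVec_smul, hnb, hnw, tvec_smul_left]
      module) hwb
    exact ⟨c, fun x => tvec_left_inj hb (add_left_cancel ((hnw x).symm.trans (hc x)))⟩
  obtain ⟨w₂, hw₂⟩ : ∃ w₂, w₂ = w₁ + κ • b'' := ⟨_, rfl⟩
  have hgw₂ : ∀ x, (g : Matrix ι ι F) *ᵥ tvec e P x w = tvec e P (C x) w₂ := fun x => by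
    rw [hgw', hκ, hw₂, map_smul, tvec_smul_left, tvec_add_right, tvec_smul_right]
  -- the image of the partner
  obtain ⟨ρ, hρ⟩ : ∃ ρ, ρ = μ * ((f₂ w₀ w₀)⁻¹ * ω) := ⟨_, rfl⟩
  have hw₂' : w₂ = ρ • w₀ + κ • b'' := by rw [hw₂, hw₁, hw', smul_smul, hρ]
  have hρ0 : ρ ≠ 0 := fun h0 => hw'0 (by
    have : (f₂ w₀ w₀)⁻¹ * ω = 0 := (mul_eq_zero.1 (hρ ▸ h0)).resolve_left hμ0
    rw [hw', this, zero_smul, herm_zero_left h2])
  have hσρ0 : σ ρ ≠ 0 := by simpa using hρ0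
  have hG0 : ∀ x, cob D w₀ ((g : Matrix ι ι F) *ᵥ tvec e P x b') = (-(σ κ * μ) / σ ρ) • C x := fun x =>
    eq_of_left h1 fun u => by
    obtain ⟨x', rfl⟩ := hCs u
    have e1 := hgi (tvec e P x b') (tvec e P x' w)
    rw [hgw₂, D.pol x b', hb'w, mul_zero, mul_zero, hw₂', tvec_add_right, tvec_smul_right, tvec_smul_right,
      herm_add_right D.form, herm_smul_right D.form, herm_smul_right D.form, pair D, pair D, hC₃, hC₃eq,
      h1.smul_left] at e1
    have e2 : σ ρ * f₁ (cob D w₀ ((g : Matrix ι ι F) *ᵥ tvec e P x b')) (C x') + σ κ * (μ * f₁ (C x) (C x')) = 0 :=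
      mul_left_cancel₀ D.kne (by linear_combination e1)
    rw [h1.smul_left, div_mul_eq_mul_div, eq_div_iff hσρ0]
    linear_combination e2
  obtain ⟨b₄, hb₄⟩ : ∃ b₄, b₄ = μ • b₃ + ((f₂ w₀ w₀)⁻¹ * (-(σ κ * μ) / σ ρ)) • w₀ := ⟨_, rfl⟩
  obtain ⟨S, hSdef⟩ : ∃ S : (Fin 2 → F) →ₗ[F] (Fin 2 → F),
      S = (Matrix.mulVecLin ((Cu⁻¹ : GL (Fin 2) F) : Matrix (Fin 2) (Fin 2) F)).comp
        ((cob D b₃).comp ((Matrix.mulVecLin (g : Matrix ι ι F)).comp (tlm e P b'))) := ⟨_, rfl⟩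
  have hgb' : ∀ x, (g : Matrix ι ι F) *ᵥ tvec e P x b' = tvec e P (C x) b₄ + tvec e P (C (S x)) b'' := fun x => by
    conv_lhs => rw [hdec ((g : Matrix ι ι F) *ᵥ tvec e P x b'), hC₃, hG0, hC₃eq, smul_smul]
    have e1 : C (S x) = cob D b₃ ((g : Matrix ι ι F) *ᵥ tvec e P x b') := by
      rw [hSdef, ← hCu, LinearMap.comp_apply, Matrix.mulVecLin_apply, gl_mulVec_inv]; first | done | rfl
    rw [← e1, hb₄]
    simp only [tvec_smul_left, tvec_add_right, tvec_smul_right]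
    module
  have hAb' : ∀ A ∈ isoU f₁ ⊓ specialLinear (Fin 2) F, ∀ x,
      (g : Matrix ι ι F) *ᵥ (tvec e P x b' + tvec e P (conj1 A S x - S x) b) =
        (kg e P (Cu * A * Cu⁻¹) 1 : Matrix ι ι F) *ᵥ
          ((g : Matrix ι ι F) *ᵥ tvec e P (((A⁻¹ : GL (Fin 2) F) : Matrix (Fin 2) (Fin 2) F) *ᵥ x) b') := fun A _ x => by
    rw [mulVec_add, hgb', hC, hgb', mulVec_add, hconjC, hconjC, gl_mulVec_inv, conj1_apply, map_sub, tvec_sub_l D]
    abel
  obtain ⟨γ, hγ⟩ := scalar_of_comm h1 (by simp) (by simp) hex S fun A hA => by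
    obtain ⟨n, hn, hnz⟩ := helem A hA
    have hcen : Cen D b (conj1 A S - S) n := by
      intro z
      induction tvec_span (e := e) (P := P) z using Submodule.span_induction with
      | mem u hu =>
        obtain ⟨x, y, rfl⟩ := hu
        have hnb : ∀ x, (n : Matrix ι ι F) *ᵥ tvec e P x b = tvec e P x b := fun x => hnz _ _ x b rfl (hAb A hA x)
        have hnw : ∀ x, (n : Matrix ι ι F) *ᵥ tvec e P x w = tvec e P x w := fun x =>
          hnz _ _ x w rfl (by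
            have := hAw A hA x
            rwa [conj1_apply, hκ, hκ, mulVec_smul, gl_mulVec_inv, sub_self, tvec_zero_left, add_zero] at this)
        have hnb' : ∀ x, (n : Matrix ι ι F) *ᵥ tvec e P x b' =
            tvec e P x b' + tvec e P (conj1 A S x - S x) b := fun x => hnz _ _ x b' rfl (hAb' A hA x)
        conv_lhs => rw [hexp y]
        conv_rhs => arg 1; rw [hexp y]
        simp only [tvec_add_right, tvec_smul_right, mulVec_add, mulVec_smul, hnb, hnw, hnb', cob_tvec, map_smul,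
          LinearMap.sub_apply, tvec_smul_left]
        module
      | zero => rw [mulVec_zero, map_zero, map_zero, tvec_zero_left, add_zero]
      | add a c _ _ e1 e2 =>
        rw [mulVec_add, e1, e2, map_add, map_add, tvec_add_left]
        abel
      | smul c a _ e1 => rw [mulVec_smul, e1, map_smul, map_smul, tvec_smul_left, smul_add]
    obtain ⟨c, hc⟩ := cen_scalar' D le_rfl hs' (Or.inr hex) hΩ hb hbb hn hcen
    exact ⟨c, fun x => hc x⟩
  obtain ⟨B, hB⟩ : ∃ B : (Fin 3 → F) →ₗ[F] (Fin 3 → F), B =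
      (hFun h2 b').smulRight b'' + (hFun h2 b).smulRight (b₄ + γ • b'') +
        ((f₂ w w)⁻¹ • hFun h2 w).smulRight w₂ := ⟨_, rfl⟩
  refine mem_of_pure D (C := C) (B := B) fun x y => ?_
  have hBy : B y = f₂ y b' • b'' + f₂ y b • (b₄ + γ • b'') + (f₂ y w / f₂ w w) • w₂ := by
    rw [hB, div_eq_inv_mul]; rfl
  conv_lhs => rw [hexp y]
  rw [hBy]
  simp only [tvec_add_right, tvec_smul_right, mulVec_add, mulVec_smul, hC, hgw₂, hgb', hγ, map_smul, tvec_smul_left]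
  try module

/-- the pairing of two moved planes is scalar -/
theorem pairing_scalar {g : GL ι F} (hg : g ∈ M) {b b₀ : Fin 3 → F} (hb : b ≠ 0) (hbb : f₂ b b = 0)
    (hbb₀ : f₂ b₀ b₀ = 0) :
    ∃ c : F, ∀ x, cob D b ((g : Matrix ι ι F) *ᵥ
      tvec e P (cob D b₀ (((g⁻¹ : GL ι F) : Matrix ι ι F) *ᵥ tvec e P x b)) b₀) = c • x := by
  classical
  have h1 := D.u1
  have h2 := D.u2
  obtain ⟨θ, hθ, hθσ⟩ := exists_trace_zero h1
  obtain ⟨b', w, -, -, -, hwb, -, -, -, hww, -⟩ := exists_frame3 h2 (by simp) hb hbb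
  let T : (Fin 2 → F) →ₗ[F] (Fin 2 → F) :=
    (cob D b₀).comp ((Matrix.mulVecLin ((g⁻¹ : GL ι F) : Matrix ι ι F)).comp (tlm e P b))
  let S : (Fin 2 → F) →ₗ[F] (Fin 2 → F) :=
    (cob D b).comp ((Matrix.mulVecLin (g : Matrix ι ι F)).comp (tlm e P b₀))
  let R : (Fin 2 → F) →ₗ[F] (ι → F) := (Matrix.mulVecLin (g : Matrix ι ι F)).comp (tlm e P b₀)
  have hTx : ∀ x, cob D b₀ (((g⁻¹ : GL ι F) : Matrix ι ι F) *ᵥ tvec e P x b) = T x := fun x => rfl
  have hSy : ∀ y, cob D b (R y) = S y := fun y => rfl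
  have hR0 : ∀ y, cob D b₀ (((g⁻¹ : GL ι F) : Matrix ι ι F) *ᵥ R y) = 0 := fun y => by
    show cob D b₀ (((g⁻¹ : GL ι F) : Matrix ι ι F) *ᵥ ((g : Matrix ι ι F) *ᵥ tvec e P y b₀)) = 0
    rw [gl_inv_mulVec, cob_tvec, hbb₀, zero_smul]
  have hadj : ∀ y x, f₁ (S y) x = f₁ y (T x) := fun y x => by
    refine mul_left_cancel₀ D.kne ?_
    rw [← hSy, ← pair D, ← hTx, ← pair' D]
    show f ((g : Matrix ι ι F) *ᵥ tvec e P y b₀) _ = _
    conv_lhs => rw [← gl_mulVec_inv g (tvec e P x b), mem_isoU.1 (D.le hg)]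
  -- the two families of roots
  have hroot : ∀ α : F, σ α = α → (∃ m ∈ M, ∀ z x y, (m : Matrix ι ι F) *ᵥ (z + tvec e P x b + R y) =
        z + tvec e P (x + (θ * α) • (cob D b z + S y)) b + R y) ∧
      ∃ m ∈ M, ∀ z x y, (m : Matrix ι ι F) *ᵥ (z + tvec e P x b + R y) =
        z + tvec e P x b + R (y + (α / θ) • (cob D b₀ (((g⁻¹ : GL ι F) : Matrix ι ι F) *ᵥ z) + T x)) := by
    intro α hα
    constructor
    · obtain ⟨h0, hm, hz⟩ := exists_root D hbb (c := θ * α) (by rw [map_mul, hθσ, hα, neg_mul])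
      refine ⟨_, hm, fun z x y => ?_⟩
      rw [hz, map_add, map_add, cob_tvec, hbb, zero_smul, add_zero, hSy, tvec_add_left]
      abel
    · obtain ⟨h0, hm, hz⟩ := exists_root D hbb₀ (c := α / θ) (by rw [map_div₀, hθσ, hα, div_neg])
      refine ⟨_, M.mul_mem (M.mul_mem hg hm) (M.inv_mem hg), fun z x y => ?_⟩
      rw [gl_mul_mulVec, gl_mul_mulVec, hz, mulVec_add (A := (g : Matrix ι ι F)), gl_mulVec_inv]
      have e1 : cob D b₀ (((g⁻¹ : GL ι F) : Matrix ι ι F) *ᵥ (z + tvec e P x b + R y)) =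
          cob D b₀ (((g⁻¹ : GL ι F) : Matrix ι ι F) *ᵥ z) + T x := by
        rw [mulVec_add, mulVec_add, map_add, map_add, hTx, hR0, add_zero]
      rw [e1, map_add R, add_assoc]
      rfl
  -- words in the roots
  have hword : ∀ β₁ β₂ β₃ A B : F, σ β₁ = β₁ → σ β₂ = β₂ → σ β₃ = β₃ → σ A = A → σ B = B →
      (∀ v, (β₁ + β₂ + β₃) • v + (A * β₁ * β₂ + A * β₁ * β₃ + B * β₃ * (β₁ + β₂)) • T (S v) +
        (A * B * β₁ * β₂ * β₃) • T (S (T (S v))) = 0) →
      ∃ c : F, ∀ x, (A * β₁ + B * (β₁ + β₂)) • S (T x) + (A * B * β₁ * β₂) • S (T (S (T x))) = c • x := by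
    intro β₁ β₂ β₃ A B hβ₁ hβ₂ hβ₃ hA hB hpoly
    obtain ⟨E₁, hE₁, hE₁z⟩ := (hroot β₁ hβ₁).2
    obtain ⟨E₂, hE₂, hE₂z⟩ := (hroot β₂ hβ₂).2
    obtain ⟨E₃, hE₃, hE₃z⟩ := (hroot β₃ hβ₃).2
    obtain ⟨A₁, hA₁, hA₁z⟩ := (hroot A hA).1
    obtain ⟨A₂, hA₂, hA₂z⟩ := (hroot B hB).1
    obtain ⟨m, hm⟩ : ∃ m, m = E₃ * A₂ * E₂ * A₁ * E₁ := ⟨_, rfl⟩
    have hmM : m ∈ M := hm ▸ M.mul_mem (M.mul_mem (M.mul_mem (M.mul_mem hE₃ hA₂) hE₂) hA₁) hE₁
    have hmz : ∀ z v, cob D b z = 0 → cob D b₀ (((g⁻¹ : GL ι F) : Matrix ι ι F) *ᵥ z) = v →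
        (m : Matrix ι ι F) *ᵥ z = z + tvec e P
          ((A * β₁ + B * (β₁ + β₂)) • S v + (A * B * β₁ * β₂) • S (T (S v))) b := by
      intro z v hz hv
      rw [hm, gl_mul_mulVec, gl_mul_mulVec, gl_mul_mulVec, gl_mul_mulVec]
      obtain ⟨y₁, hy₁⟩ : ∃ y₁, y₁ = (β₁ / θ) • v := ⟨_, rfl⟩
      obtain ⟨x₁, hx₁⟩ : ∃ x₁, x₁ = (θ * A) • S y₁ := ⟨_, rfl⟩
      obtain ⟨y₂, hy₂⟩ : ∃ y₂, y₂ = y₁ + (β₂ / θ) • (v + T x₁) := ⟨_, rfl⟩
      obtain ⟨x₂, hx₂⟩ : ∃ x₂, x₂ = x₁ + (θ * B) • S y₂ := ⟨_, rfl⟩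
      obtain ⟨y₃, hy₃⟩ : ∃ y₃, y₃ = y₂ + (β₃ / θ) • (v + T x₂) := ⟨_, rfl⟩
      have s0 : (E₁ : Matrix ι ι F) *ᵥ z = z + tvec e P 0 b + R y₁ := by
        have := hE₁z z 0 0
        simp only [map_zero, hv, tvec_zero_left, add_zero, zero_add, ← hy₁] at this
        rwa [tvec_zero_left, add_zero]
      rw [s0, hA₁z, hz, zero_add, zero_add, ← hx₁, hE₂z, hv, ← hy₂, hA₂z, hz, zero_add, ← hx₂, hE₃z, hv, ← hy₃]
      have ey : y₃ = θ⁻¹ • (0 : Fin 2 → F) := by
        rw [← hpoly v, hy₃, hx₂, hy₂, hx₁, hy₁]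
        simp only [map_add, map_smul]
        match_scalars <;> field_simp <;> ring
      have ex : x₂ = (A * β₁ + B * (β₁ + β₂)) • S v + (A * B * β₁ * β₂) • S (T (S v)) := by
        rw [hx₂, hy₂, hx₁, hy₁]
        simp only [map_add, map_smul]
        match_scalars <;> field_simp <;> ring
      rw [ey, smul_zero, map_zero, add_zero, ex]
    obtain ⟨Q, hQ⟩ : ∃ Q : (Fin 2 → F) →ₗ[F] (Fin 2 → F), Q = LinearMap.id +
        ((A * β₁ + B * (β₁ + β₂)) • S.comp T + (A * B * β₁ * β₂) • (S.comp T).comp (S.comp T)) := ⟨_, rfl⟩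
    have hmb : ∀ x, (m : Matrix ι ι F) *ᵥ tvec e P x b = tvec e P (Q x) b := fun x => by
      rw [hmz _ (T x) (by rw [cob_tvec, hbb, zero_smul]) (hTx x), ← tvec_add_left, hQ]
      rfl
    obtain ⟨Am, Bm, hAB⟩ := mem_tensor (rigid_two D h4 hex hΩ hmM hb hbb hb fun x => ⟨_, hmb x⟩)
    obtain ⟨φ, hφw, hφb⟩ := exists_dual (Submodule.span F {b}) (x := w) fun h => by
      obtain ⟨c, hc⟩ := Submodule.mem_span_singleton.1 h
      rw [← hc, h2.smul_left, herm_smul_right h2, hbb, mul_zero, mul_zero] at hww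
      exact hww rfl
    have hwm : ∀ x, (φ ⬝ᵥ ((Bm : Matrix (Fin 3) (Fin 3) F) *ᵥ w)) • ((Am : Matrix (Fin 2) (Fin 2) F) *ᵥ x) = x :=
      fun x => by
      have e1 := congrArg (co e P φ) (hmz (tvec e P x w) _ (by rw [cob_tvec, hwb, zero_smul]) rfl)
      rwa [hAB, map_add, co_tvec, co_tvec, co_tvec, hφw, hφb b (Submodule.mem_span_singleton_self b), one_smul,
        zero_smul, add_zero] at e1
    obtain ⟨a, ha⟩ : ∃ a, a = φ ⬝ᵥ ((Bm : Matrix (Fin 3) (Fin 3) F) *ᵥ w) := ⟨_, rfl⟩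
    obtain ⟨ψ, hψ⟩ := exists_dot_one hb
    refine ⟨(ψ ⬝ᵥ ((Bm : Matrix (Fin 3) (Fin 3) F) *ᵥ b)) * a⁻¹ - 1, fun x => ?_⟩
    have ha0 : a ≠ 0 := fun h0 => by
      have e1 := hwm (Pi.single 0 1)
      rw [← ha, h0, zero_smul] at e1
      simpa using congrFun e1 0
    have e1 := congrArg (co e P ψ) ((hmb x).symm.trans (hAB x b))
    rw [co_tvec, co_tvec, hψ, one_smul, hQ] at e1
    have e2 : (Am : Matrix (Fin 2) (Fin 2) F) *ᵥ x = a⁻¹ • x := by
      rw [eq_inv_smul_iff₀ ha0, ha]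
      exact hwm x
    rw [e2, smul_smul] at e1
    simp only [LinearMap.add_apply, LinearMap.smul_apply, LinearMap.comp_apply, LinearMap.id_apply] at e1
    rw [sub_smul, one_smul, ← e1]
    abel
  -- trace and determinant
  obtain ⟨MS, hMS⟩ : ∃ MS, MS = LinearMap.toMatrix' S := ⟨_, rfl⟩
  obtain ⟨MT, hMT⟩ : ∃ MT, MT = LinearMap.toMatrix' T := ⟨_, rfl⟩
  obtain ⟨τ, hτ⟩ : ∃ τ, τ = (MS * MT).trace := ⟨_, rfl⟩
  obtain ⟨δ, hδ⟩ : ∃ δ, δ = (MS * MT).det := ⟨_, rfl⟩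
  have hST : ∀ x, S (T (S (T x))) = τ • S (T x) - δ • x := fun x => by
    have e1 := cayley_two (MS * MT) x
    simp only [← Matrix.mulVec_mulVec, hMS, hMT, LinearMap.toMatrix'_mulVec] at e1
    rw [e1, hτ, hδ, hMS, hMT]
  have hTS : ∀ v, T (S (T (S v))) = τ • T (S v) - δ • v := fun v => by
    have e1 := cayley_two (MT * MS) v
    simp only [← Matrix.mulVec_mulVec, hMS, hMT, LinearMap.toMatrix'_mulVec] at e1
    rw [e1, hτ, hδ, hMS, hMT, Matrix.trace_mul_comm, Matrix.det_mul_comm]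
  obtain ⟨hτσ, hδσ⟩ : σ τ = τ ∧ σ δ = δ := by
    let u : Fin 2 → Fin 2 → F := fun i => Pi.single i 1
    let G : Matrix (Fin 2) (Fin 2) F := Matrix.of fun i j => f₁ (u i) (u j)
    have hexp : ∀ v : Fin 2 → F, v = v 0 • u 0 + v 1 • u 1 := fun v => by
      funext i; fin_cases i <;> simp [u]
    have hsym : (MS * MT)ᵀ * G = G * (MS * MT).map σ := by
      ext i j
      have e1 : f₁ (S (T (u i))) (u j) = f₁ (u i) (S (T (u j))) := by
        rw [hadj, h1.herm (u i) (S (T (u j))), hadj, ← h1.herm]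
      have e2 : ∀ i l, S (T (u i)) l = (MS * MT) l i := fun i l => by
        rw [hMS, hMT, ← LinearMap.toMatrix'_comp]
        simp [LinearMap.toMatrix'_apply, u, Pi.single_apply]
      rw [hexp (S (T (u i))), hexp (S (T (u j))), h1.add_left, h1.smul_left, h1.smul_left, herm_add_right h1,
        herm_smul_right h1, herm_smul_right h1, e2, e2, e2, e2] at e1
      simp only [Matrix.mul_apply (n := Fin 2), Fin.sum_univ_two, Matrix.transpose_apply, Matrix.map_apply, G,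
        Matrix.of_apply] at e1 ⊢
      linear_combination e1
    have hGu : IsUnit G.det := by
      rw [isUnit_iff_ne_zero]
      intro h0
      obtain ⟨c, hc0, hc⟩ := Matrix.exists_vecMul_eq_zero_iff.2 h0
      refine hc0 (eq_of_left h1 fun x => ?_)
      rw [herm_zero_left h1, hexp c, hexp x, h1.add_left, h1.smul_left, h1.smul_left, herm_add_right h1,
        herm_add_right h1, herm_smul_right h1, herm_smul_right h1, herm_smul_right h1, herm_smul_right h1]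
      have c0 := congrFun hc 0
      have c1 := congrFun hc 1
      simp only [Matrix.vecMul, dotProduct, Fin.sum_univ_two, G, Matrix.of_apply, Pi.zero_apply] at c0 c1
      linear_combination σ (x 0) * c0 + σ (x 1) * c1
    obtain ⟨Gu, hGu'⟩ := (Matrix.isUnit_iff_isUnit_det G).2 hGu
    have e3 : (MS * MT).map σ = ((Gu⁻¹ : (Matrix (Fin 2) (Fin 2) F)ˣ) : Matrix (Fin 2) (Fin 2) F) * (MS * MT)ᵀ *
        (Gu : Matrix (Fin 2) (Fin 2) F) := by
      rw [mul_assoc, hGu', hsym, ← hGu', ← mul_assoc, Units.inv_mul, one_mul]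
    constructor
    · rw [hτ, show σ (MS * MT).trace = ((MS * MT).map σ).trace by rw [Matrix.trace, map_sum]; rfl]
      rw [e3, Matrix.trace_mul_cycle, Units.mul_inv, one_mul, Matrix.trace_transpose]
    · rw [hδ, show σ (MS * MT).det = ((MS * MT).map σ).det from RingEquiv.map_det σ _, e3, Matrix.det_mul,
        Matrix.det_mul, Matrix.det_transpose, mul_comm, ← mul_assoc, ← Matrix.det_mul, Units.mul_inv, Matrix.det_one,
        one_mul]
  obtain ⟨t, htσ, ht0, ht1⟩ := hex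
  show ∃ c : F, ∀ x, S (T x) = c • x
  suffices hq : ∃ q r : F, q ≠ 0 ∧ ∀ x, q • S (T x) = r • x by
    obtain ⟨q, r, hq0, hq⟩ := hq
    exact ⟨q⁻¹ * r, fun x => by rw [mul_smul, ← hq, inv_smul_smul₀ hq0]⟩
  by_cases hδ0 : δ = 0
  · have ht1' : 1 - t ≠ 0 := sub_ne_zero.2 (Ne.symm ht1)
    by_cases hτ0 : τ = 0
    · obtain ⟨c, hc⟩ := hword 1 (t - 1) (-t) 1 (-1 / (t * t)) (map_one σ) (by rw [map_sub, htσ, map_one])
        (by rw [map_neg, htσ]) (map_one σ) (by rw [map_div₀, map_neg, map_one, map_mul, htσ]) fun v => by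
          rw [hTS, hτ0, hδ0]
          match_scalars <;> field_simp <;> ring
      refine ⟨(t - 1) / t, c, div_ne_zero (sub_ne_zero.2 ht1) ht0, fun x => ?_⟩
      rw [← hc, hST, hτ0, hδ0]
      match_scalars <;> field_simp <;> ring
    · obtain ⟨c, hc⟩ := hword 1 (t - 1) (-t) (-1 / τ) (1 / (τ * t)) (map_one σ) (by rw [map_sub, htσ, map_one])
        (by rw [map_neg, htσ]) (by rw [map_div₀, map_neg, map_one, hτσ])
        (by rw [map_div₀, map_one, map_mul, hτσ, htσ]) fun v => by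
          rw [hTS, hδ0]
          match_scalars <;> field_simp <;> ring
      refine ⟨(1 - t) / (τ * t), c, div_ne_zero ht1' (mul_ne_zero hτ0 ht0), fun x => ?_⟩
      rw [← hc, hST, hδ0]
      match_scalars <;> field_simp <;> ring
  · by_cases hτ0 : τ = 0
    · obtain ⟨c, hc⟩ := hword 1 (-1) 1 1 (-1 / δ) (map_one σ) (by rw [map_neg, map_one]) (map_one σ) (map_one σ)
        (by rw [map_div₀, map_neg, map_one, hδσ]) fun v => by
          rw [hTS, hτ0]
          match_scalars <;> field_simp <;> ring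
      refine ⟨1, c + 1, one_ne_zero, fun x => ?_⟩
      rw [add_smul, one_smul, ← hc x, hST, hτ0]
      match_scalars <;> field_simp <;> ring
    · have ht1' : t - 1 ≠ 0 := sub_ne_zero.2 ht1
      obtain ⟨c, hc⟩ := hword 1 (-1) t (-(t * τ) / (δ * (t - 1))) ((t - 1) / (t * τ)) (map_one σ)
        (by rw [map_neg, map_one]) htσ (by rw [map_div₀, map_neg, map_mul, map_mul, map_sub, map_one, htσ, hτσ, hδσ])
        (by rw [map_div₀, map_sub, map_one, map_mul, htσ, hτσ]) fun v => by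
          rw [hTS]
          match_scalars <;> field_simp <;> ring
      refine ⟨-τ / (δ * (t - 1)), c + 1, div_ne_zero (neg_ne_zero.2 hτ0) (mul_ne_zero hδ0 ht1'), fun x => ?_⟩
      rw [add_smul, one_smul, ← hc x, hST]
      match_scalars <;> field_simp <;> ring

/-- `M` lies in the tensor product subgroup -/
theorem good_two : M ≤ tensorProductSubgroup 2 3 e P := by
  classical
  intro g hg
  by_contra hgN
  have h1 := D.u1
  have h2 := D.u2
  obtain ⟨c₀, hc₀, hc₀σ⟩ := exists_trace_zero h1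
  -- a vanishing pairing is absurd
  have hzero : ∀ b b₀, b ≠ 0 → f₂ b b = 0 → b₀ ≠ 0 → f₂ b₀ b₀ = 0 →
      (∀ x, cob D b ((g : Matrix ι ι F) *ᵥ
        tvec e P (cob D b₀ (((g⁻¹ : GL ι F) : Matrix ι ι F) *ᵥ tvec e P x b)) b₀) = 0) → False := by
    intro b b₀ hb hbb hb₀ hbb₀ hΦ
    obtain ⟨h0, ht, htz⟩ := exists_root D hbb hc₀σ
    obtain ⟨h0', ht', htz'⟩ := exists_root D hbb₀ hc₀σ
    obtain ⟨t₁, ht₁⟩ : ∃ t₁, t₁ = rootGL e P b (c₀ • hv h2 b) h0 := ⟨_, rfl⟩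
    obtain ⟨t₀, ht₀⟩ : ∃ t₀, t₀ = rootGL e P b₀ (c₀ • hv h2 b₀) h0' := ⟨_, rfl⟩
    rw [← ht₁] at ht htz
    rw [← ht₀] at ht' htz'
    obtain ⟨E, hE⟩ : ∃ E, E = g * t₀ * g⁻¹ := ⟨_, rfl⟩
    have hEM : E ∈ M := hE ▸ M.mul_mem (M.mul_mem hg ht') (M.inv_mem hg)
    have pull : ∀ h ∈ M, ∀ (v : Fin 3 → F) hv0, v ≠ 0 → f₂ v v = 0 →
        h * rootGL e P v (c₀ • hv h2 v) hv0 * h⁻¹ ∈ tensorProductSubgroup 2 3 e P → h ∈ tensorProductSubgroup 2 3 e P := by
      intro h hh v hv0 hv hvv hmem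
      obtain ⟨y, hy, -⟩ := exists_left_one h2 hv
      obtain ⟨b'', hb'', hx⟩ := fold (by norm_num) (by norm_num) hv0 hv (smul_ne_zero hc₀ fun e1 =>
        one_ne_zero (α := F) (by rw [← hy, ← hv_dot h2, e1, zero_dotProduct])) hmem
      exact rigid_two D h4 hex hΩ hh hv hvv hb'' hx
    have hX : E⁻¹ * t₁ * E ∈ tensorProductSubgroup 2 3 e P := by
      refine rigid_two D h4 hex hΩ (M.mul_mem (M.mul_mem (M.inv_mem hEM) ht) hEM) hb hbb hb fun x => ⟨x, ?_⟩
      rw [gl_mul_mulVec, gl_mul_mulVec]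
      have e1 : cob D b ((E : Matrix ι ι F) *ᵥ tvec e P x b) = 0 := by
        rw [hE, gl_mul_mulVec, gl_mul_mulVec, htz', mulVec_add, gl_mulVec_inv, map_add, cob_tvec, hbb, zero_smul,
          zero_add, tvec_smul_left, mulVec_smul, map_smul, hΦ, smul_zero]
      rw [htz, e1, smul_zero, tvec_zero_left, add_zero, gl_inv_mulVec]
    refine hgN (pull g hg b₀ h0' hb₀ hbb₀ ?_)
    rw [← ht₀, ← hE]
    subst ht₁
    exact inv_inv E ▸ inv_mem (pull E⁻¹ (M.inv_mem hEM) b h0 hb hbb (by rwa [inv_inv]))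
  obtain ⟨b, -, hb, hbb⟩ := exists_isotropic h2 (W := (⊤ : Submodule F (Fin 3 → F)))
    (by rw [finrank_top, Module.finrank_fin_fun]; omega)
  obtain ⟨b', w, hb'b', hbb', hb'b, hwb, hbw, hwb', hb'w, hww, hexp⟩ := exists_frame3 h2 (by simp) hb hbb
  have hb'0 : b' ≠ 0 := fun h => by rw [h, herm_zero_left h2] at hb'b; exact zero_ne_one hb'b
  obtain ⟨ε, hε⟩ : ∃ ε, ε = f₂ w w := ⟨_, rfl⟩
  rw [← hε] at hww
  have hεσ : σ ε = ε := by rw [hε, ← h2.herm]
  let T : (Fin 3 → F) → (Fin 2 → F) →ₗ[F] (Fin 2 → F) := fun y =>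
    (cob D b).comp ((Matrix.mulVecLin ((g⁻¹ : GL ι F) : Matrix ι ι F)).comp (tlm e P y))
  have hTadd : ∀ y y' x, T (y + y') x = T y x + T y' x := fun y y' x => by
    show cob D b (((g⁻¹ : GL ι F) : Matrix ι ι F) *ᵥ tvec e P x (y + y')) =
      cob D b (((g⁻¹ : GL ι F) : Matrix ι ι F) *ᵥ tvec e P x y) + cob D b (((g⁻¹ : GL ι F) : Matrix ι ι F) *ᵥ tvec e P x y')
    rw [tvec_add_right, mulVec_add, map_add]
  have hTsmul : ∀ (c : F) y x, T (c • y) x = c • T y x := fun c y x => by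
    show cob D b (((g⁻¹ : GL ι F) : Matrix ι ι F) *ᵥ tvec e P x (c • y)) =
      c • cob D b (((g⁻¹ : GL ι F) : Matrix ι ι F) *ᵥ tvec e P x y)
    rw [tvec_smul_right, mulVec_smul, map_smul]
  -- the pairings modulo scalars
  let Sc : Submodule F ((Fin 2 → F) → (Fin 2 → F) → F) := Submodule.span F {f₁}
  let π := Submodule.mkQ Sc
  let Pp : (Fin 3 → F) → (Fin 3 → F) → ((Fin 2 → F) → (Fin 2 → F) → F) ⧸ Sc := fun y y' =>
    π fun x x' => f₁ (T y x) (T y' x')
  have hsc : ∀ y y', Pp y y' = 0 → ∃ c : F, ∀ x x', f₁ (T y x) (T y' x') = c * f₁ x x' := fun y y' h => by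
    obtain ⟨c, hc⟩ := Submodule.mem_span_singleton.1 ((Submodule.Quotient.mk_eq_zero Sc).1 h)
    exact ⟨c, fun x x' => (congrFun (congrFun hc x) x').symm⟩
  have hiso : ∀ z, z ≠ 0 → f₂ z z = 0 → ∃ c : F, c ≠ 0 ∧ ∀ x x', f₁ (T z x) (T z x') = c * f₁ x x' := by
    intro z hz hzz
    obtain ⟨c, hc⟩ := pairing_scalar D h4 hex hΩ hg hz hzz hbb
    refine ⟨c, fun h0 => hzero z b hz hzz hb hbb fun x => by rw [hc, h0, zero_smul], fun x x' => ?_⟩
    rw [← h1.smul_left, ← hc]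
    refine mul_left_cancel₀ D.kne ?_
    rw [← pair D]
    show k * f₁ (T z x) (cob D b (((g⁻¹ : GL ι F) : Matrix ι ι F) *ᵥ tvec e P x' z)) = _
    rw [← pair' D]
    conv_lhs => rw [← mem_isoU.1 (D.le hg), gl_mulVec_inv]
    rfl
  have hP0 : ∀ z, z ≠ 0 → f₂ z z = 0 → Pp z z = 0 := fun z hz hzz => by
    obtain ⟨c, -, hc⟩ := hiso z hz hzz
    refine (Submodule.Quotient.mk_eq_zero Sc).2 (Submodule.mem_span_singleton.2 ⟨c, funext fun x => funext fun x' => ?_⟩)
    exact (hc x x').symm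
  have hPadd : ∀ y y' u, Pp (y + y') u = Pp y u + Pp y' u := fun y y' u => by
    show π _ = π _ + π _
    rw [← map_add]
    exact congrArg π (funext fun x => funext fun x' => by rw [hTadd, h1.add_left]; rfl)
  have hPadd' : ∀ u y y', Pp u (y + y') = Pp u y + Pp u y' := fun u y y' => by
    show π _ = π _ + π _
    rw [← map_add]
    exact congrArg π (funext fun x => funext fun x' => by rw [hTadd, herm_add_right h1]; rfl)
  have hPsmul : ∀ (c : F) y u, Pp (c • y) u = c • Pp y u := fun c y u => by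
    show π _ = c • π _
    rw [← map_smul]
    exact congrArg π (funext fun x => funext fun x' => by rw [hTsmul, h1.smul_left]; rfl)
  have hPsmul' : ∀ (c : F) y u, Pp u (c • y) = σ c • Pp u y := fun c y u => by
    show π _ = σ c • π _
    rw [← map_smul]
    exact congrArg π (funext fun x => funext fun x' => by rw [hTsmul, herm_smul_right h1]; rfl)
  -- one side of the isotropic family
  obtain ⟨θ, hθ, hθσ⟩ := exists_trace_zero h1
  obtain ⟨ν₀, hν₀⟩ := exists_not_fixed h1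
  have hexpand : ∀ p q, p ≠ 0 → q ≠ 0 → f₂ p p = 0 → f₂ q q = 0 → f₂ p q = 1 → f₂ q p = 1 → f₂ w p = 0 →
      f₂ p w = 0 → f₂ w q = 0 → f₂ q w = 0 → ∀ ν τ : F, τ + σ τ + ν * σ ν * ε = 0 →
        σ τ • Pp p q + τ • Pp q p + σ ν • Pp p w + ν • Pp w p + (τ * σ ν) • Pp q w + (ν * σ τ) • Pp w q +
          (ν * σ ν) • Pp w w = 0 := by
    intro p q hp hq hpp hqq hpq hqp hwp hpw hwq hqw ν τ hτ
    have hz0 : p + ν • w + τ • q ≠ 0 := fun h => by
      have := congrArg (fun v => f₂ v q) h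
      simp only [h2.add_left, h2.smul_left, hpq, hwq, hqq, herm_zero_left h2, mul_zero, add_zero] at this
      exact one_ne_zero this
    have hzz : f₂ (p + ν • w + τ • q) (p + ν • w + τ • q) = 0 := by
      simp only [h2.add_left, herm_add_right h2, h2.smul_left, herm_smul_right h2, hpp, hqq, hpq, hqp, hwp, hpw,
        hwq, hqw, ← hε]
      linear_combination hτ
    have e1 := hP0 _ hz0 hzz
    simp only [hPadd, hPadd', hPsmul, hPsmul', hP0 p hp hpp, hP0 q hq hqq] at e1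
    rw [← e1]
    module
  have half : ∀ p q, p ≠ 0 → q ≠ 0 → f₂ p p = 0 → f₂ q q = 0 → f₂ p q = 1 → f₂ q p = 1 → f₂ w p = 0 → f₂ p w = 0 →
      f₂ w q = 0 → f₂ q w = 0 → Pp q p = Pp p q ∧ Pp q w = 0 ∧ Pp w q = 0 := by
    intro p q hp hq hpp hqq hpq hqp hwp hpw hwq hqw
    have hexp' := hexpand p q hp hq hpp hqq hpq hqp hwp hpw hwq hqw
    have lin : ∀ ν, (Pp q p - Pp p q) + σ ν • Pp q w - ν • Pp w q = 0 := fun ν => by
      obtain ⟨τ, hτ⟩ := exists_trace h1 (d := -(ν * σ ν * ε))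
        (by rw [map_neg, map_mul, map_mul, h1.involutive, hεσ, mul_comm (σ ν)])
      have e1 := hexp' ν τ (by linear_combination hτ)
      have e2 := hexp' ν (τ + θ) (by rw [map_add, hθσ]; linear_combination hτ)
      rw [map_add, hθσ] at e2
      refine (smul_eq_zero.1 (?_ : θ • ((Pp q p - Pp p q) + σ ν • Pp q w - ν • Pp w q) = 0)).resolve_left hθ
      linear_combination (norm := module) e2 - e1
    have ha : Pp q p = Pp p q := by
      have := lin 0
      rwa [map_zero, zero_smul, zero_smul, add_zero, sub_zero, sub_eq_zero] at this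
    have hb1 : Pp q w = Pp w q := by
      have := lin 1
      rwa [ha, sub_self, map_one, one_smul, one_smul, zero_add, sub_eq_zero] at this
    have hqw0 : Pp q w = 0 := by
      have := lin ν₀
      rw [ha, sub_self, ← hb1, zero_add, ← sub_smul] at this
      exact (smul_eq_zero.1 this).resolve_left (sub_ne_zero.2 hν₀)
    exact ⟨ha, hqw0, hb1 ▸ hqw0⟩
  obtain ⟨hsym, hb'w0, hwb'0⟩ := half b b' hb hb'0 hbb hb'b' hbb' hb'b hwb hbw hwb' hb'w
  obtain ⟨-, hbw0, hwb0⟩ := half b' b hb'0 hb hb'b' hbb hb'b hbb' hwb' hb'w hwb hbw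
  have hww0 : Pp w w = ε • Pp b b' := by
    obtain ⟨τ, hτ⟩ := exists_trace h1 (d := -ε) (by rw [map_neg, hεσ])
    have e1 := hexpand b b' hb hb'0 hbb hb'b' hbb' hb'b hwb hbw hwb' hb'w 1 τ (by rw [map_one]; linear_combination hτ)
    rw [hsym, hb'w0, hwb'0, hbw0, hwb0, map_one, show σ τ = -ε - τ by linear_combination hτ] at e1
    linear_combination (norm := module) e1
  -- the maps are proportional
  obtain ⟨cb, hcb0, hcb⟩ := hiso b hb hbb
  obtain ⟨cb', hcb'0, hcb'⟩ := hiso b' hb'0 hb'b'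
  have prop : ∀ p y (cp : F), cp ≠ 0 → (∀ x x', f₁ (T p x) (T p x') = cp * f₁ x x') → Pp p y = 0 →
      ∃ μ : F, ∀ x, T y x = μ • T p x := by
    intro p y cp hcp hp hPy
    obtain ⟨c, hc⟩ := hsc _ _ hPy
    obtain ⟨μ, hμ⟩ : ∃ μ, μ = σ c / cp := ⟨_, rfl⟩
    have hsur : Function.Surjective (T p) := LinearMap.surjective_of_injective ((injective_iff_map_eq_zero (T p)).2
      fun x hx => eq_of_left h1 fun x' => by
        have e1 := hp x x'
        rw [hx, herm_zero_left h1] at e1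
        rw [herm_zero_left h1, (mul_eq_zero.1 e1.symm).resolve_left hcp])
    refine ⟨μ, fun x => eq_of_left h1 fun u => ?_⟩
    obtain ⟨x', rfl⟩ := hsur u
    rw [h1.smul_left, hp, h1.herm (T y x) (T p x'), hc, hμ, map_mul, ← h1.herm, ← mul_assoc,
      div_mul_cancel₀ _ hcp]
  obtain ⟨μ, hμ⟩ := prop b w cb hcb0 hcb hbw0
  obtain ⟨μ', hμ'⟩ := prop b' w cb' hcb'0 hcb' hb'w0
  obtain ⟨ρ, hρ⟩ : ∃ ρ : F, ∀ x, T b' x = ρ • T b x := by
    by_cases hμ0 : μ = 0
    · refine prop b b' cb hcb0 hcb ((smul_eq_zero.1 (?_ : ε • Pp b b' = 0)).resolve_left hww)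
      rw [← hww0]
      show π _ = 0
      convert map_zero π using 2
      funext x x'
      rw [hμ, hμ0, zero_smul, herm_zero_left h1]
      rfl
    · have hμ'0 : μ' ≠ 0 := fun h0 => hcb0 (by
        obtain ⟨a, -, haa⟩ := exists_anisotropic h1 (isNondegenerateOn_top h1) (fun h0 => by
          have := congrArg (fun W : Submodule F (Fin 2 → F) => Module.finrank F W) h0
          simp at this)
        have e1 := hμ a
        rw [hμ', h0, zero_smul] at e1
        have e2 := hcb a a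
        rw [(smul_eq_zero.1 e1.symm).resolve_left hμ0, herm_zero_left h1] at e2
        exact (mul_eq_zero.1 e2.symm).resolve_right haa)
      refine ⟨μ'⁻¹ * μ, fun x => ?_⟩
      rw [mul_smul, ← hμ, hμ', inv_smul_smul₀ hμ'0]
  -- an isotropic vector with zero map
  obtain ⟨u, huW, hu0, huu⟩ := exists_isotropic h2 (W := Submodule.span F (Set.range ![w - μ • b, b' - ρ • b])) (by
    rw [finrank_span_eq_card, Fintype.card_fin]
    rw [Fintype.linearIndependent_iff]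
    intro c hc i
    simp only [Fin.sum_univ_two, Matrix.cons_val_zero, Matrix.cons_val_one] at hc
    have e1 := congrArg (fun v => f₂ v w) hc
    have e2 := congrArg (fun v => f₂ v b) hc
    simp only [h2.add_left, h2.smul_left, herm_sub_left h2, hbw, hb'w, hwb, hbb, hb'b, ← hε, herm_zero_left h2,
      mul_zero, sub_zero, mul_one, add_zero, zero_add] at e1 e2
    fin_cases i
    · exact (mul_eq_zero.1 e1).resolve_right hww
    · exact e2)
  obtain ⟨c, rfl⟩ := (Submodule.mem_span_range_iff_exists_fun F).1 huW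
  simp only [Fin.sum_univ_two, Matrix.cons_val_zero, Matrix.cons_val_one] at hu0 huu
  obtain ⟨cu, hcu0, hcu⟩ := hiso _ hu0 huu
  obtain ⟨a, -, haa⟩ := exists_anisotropic h1 (isNondegenerateOn_top h1) (fun h0 => by
    have := congrArg (fun W : Submodule F (Fin 2 → F) => Module.finrank F W) h0
    simp at this)
  have e1 := hcu a a
  simp only [sub_eq_add_neg, ← neg_smul, hTadd, hTsmul, hμ, hρ] at e1
  simp only [smul_smul, ← add_smul] at e1
  rw [show c 0 * (μ + -μ) + c 1 * (ρ + -ρ) = 0 by ring] at e1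
  rw [zero_smul, herm_zero_left h1] at e1
  exact mul_ne_zero hcu0 haa e1.symm

omit D h4 hex hΩ in
/-- the stabiliser of a tensor decomposition of dimensions two and three is maximal -/
theorem unitary_tensor_two_three (hf : IsUnitaryForm σ f) (hu1 : IsUnitaryForm σ f₁) (hu2 : IsUnitaryForm σ f₂)
    (hk : k ≠ 0) (hkσ : σ k = k)
    (hpol : ∀ x y x' y', f (tvec e P x y) (tvec e P x' y') = k * (f₁ x x' * f₂ y y'))
    (h4 : 4 < Fintype.card F) (hex : ∃ t : F, σ t = t ∧ t ≠ 0 ∧ t ≠ 1) :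
    IsMaximalIn (isoU f ⊓ specialLinear ι F) (tensorProductSubgroup 2 3 e P ⊓ (isoU f ⊓ specialLinear ι F)) := by
  refine ⟨lt_of_le_of_ne inf_le_right fun heq =>
    tensor_proper hf hu1 hu2 hk hpol le_rfl (by norm_num) (heq ▸ inf_le_left), fun M hHM hM => ?_⟩
  by_cases hΩ : isoU f ⊓ specialLinear ι F ≤ M
  · exact Or.inr (le_antisymm hM hΩ)
  · exact Or.inl (le_antisymm (le_inf (good_two (TU.of_inf hf hu1 hu2 hk hkσ hpol (hM.trans inf_le_left) hHM)
      h4 hex hΩ) hM) hHM)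

end CfsgLib.Perm.Trans.TensorHerm
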