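import Cfsg.Agent.Lib.Perm.Trans.Herm

/-!
# Unitary transvections generate the special unitary group
-/

set_option autoImplicit false
set_option linter.all false

namespace CfsgLib.Perm.Trans.Unit

open scoped Matrix
open Matrix Cfsg.Geo CfsgLib.Perm.Asch CfsgLib.Perm.Trans

variable {ι : Type} [Fintype ι] [DecidableEq ι] {F : Type*} [Field F] [Fintype F]
variable {σ : F ≃+* F} {f : (ι → F) → (ι → F) → F}

/-- the isometry group of `f` -/
def isoU (f : (ι → F) → (ι → F) → F) : Subgroup (GL ι F) :=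
  Cfsg.preserving (Units.coeHom (Matrix ι ι F)) f

omit [Fintype F] in
theorem mem_isoU {g : GL ι F} :
    g ∈ isoU f ↔ ∀ x y, f ((g : Matrix ι ι F) *ᵥ x) ((g : Matrix ι ι F) *ᵥ y) = f x y := Iff.rfl

variable (hf : IsUnitaryForm σ f)
include hf

/-! ### Orthogonal subspaces -/

/-- the vectors orthogonal to `W` -/
def perp (W : Submodule F (ι → F)) : Submodule F (ι → F) where
  carrier := {x | ∀ w ∈ W, f x w = 0}
  add_mem' := fun {a b} ha hb w hw => by rw [hf.add_left, ha w hw, hb w hw, add_zero]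
  zero_mem' := fun w _ => herm_zero_left hf w
  smul_mem' := fun c a ha w hw => by rw [hf.smul_left, ha w hw, mul_zero]

theorem exists_decomp {W : Submodule F (ι → F)} (hW : IsNondegenerateOn f W) (x : ι → F) :
    ∃ w ∈ W, x - w ∈ perp hf W := by
  classical
  let L : W → Module.Dual F W := fun w => (hFun hf (w : ι → F)).comp W.subtype
  have hinj : Function.Injective L := by
    intro a b hab
    refine Subtype.ext ?_
    by_contra hne
    obtain ⟨z, hz, hzw⟩ := (hW ((a : ι → F) - b) (W.sub_mem a.2 b.2) (sub_ne_zero.2 hne)).1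
    refine hzw ?_
    rw [herm_sub_right hf, show f z (a : ι → F) = f z (b : ι → F) from LinearMap.congr_fun hab ⟨z, hz⟩, sub_self]
  have hcard : Nat.card W = Nat.card (Module.Dual F W) := by
    rw [Module.natCard_eq_pow_finrank (K := F), Module.natCard_eq_pow_finrank (K := F) (V := Module.Dual F W),
      Subspace.dual_finrank_eq]
  haveI : Finite (Module.Dual F W) := Module.finite_of_finite F
  obtain ⟨w, hw⟩ := ((Nat.bijective_iff_injective_and_card L).2 ⟨hinj, hcard⟩).2 ((hFun hf x).comp W.subtype)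
  refine ⟨w, w.2, fun z hz => ?_⟩
  have h1 : f z (w : ι → F) = f z x := LinearMap.congr_fun hw ⟨z, hz⟩
  rw [herm_sub_left hf, hf.herm x z, hf.herm (w : ι → F) z, h1, sub_self]

theorem disjoint_perp {W : Submodule F (ι → F)} (hW : IsNondegenerateOn f W) {x : ι → F} (hx : x ∈ W)
    (hx' : x ∈ perp hf W) : x = 0 := by
  by_contra hne
  obtain ⟨z, hz, hxz⟩ := (hW x hx hne).2
  exact hxz (hx' z hz)

theorem perp_perp {W : Submodule F (ι → F)} (hW : IsNondegenerateOn f W) {x : ι → F}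
    (hx : ∀ p ∈ perp hf W, f x p = 0) : x ∈ W := by
  obtain ⟨w, hw, hp⟩ := exists_decomp hf hW x
  have h0 : x - w = 0 := by
    by_contra hne
    obtain ⟨z, hz⟩ := (hf.nondegenerate _ hne).2
    obtain ⟨w', hw', hp'⟩ := exists_decomp hf hW z
    refine hz ?_
    rw [show z = w' + (z - w') by abel, herm_add_right hf, hp w' hw', herm_sub_left hf, hx _ hp',
      herm_swap_zero hf (hp' w hw), sub_zero, add_zero]
  rw [sub_eq_zero.1 h0]
  exact hw

theorem isNondegenerateOn_perp {W : Submodule F (ι → F)} (hW : IsNondegenerateOn f W) :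
    IsNondegenerateOn f (perp hf W) := by
  intro p hp hp0
  obtain ⟨z, hz⟩ := (hf.nondegenerate p hp0).2
  obtain ⟨w, hw, hq⟩ := exists_decomp hf hW z
  have hne : f p (z - w) ≠ 0 := by rwa [herm_sub_right hf, hp w hw, sub_zero]
  exact ⟨⟨_, hq, fun h => hne (herm_swap_zero hf h)⟩, ⟨_, hq, hne⟩⟩

theorem finrank_add_perp {W : Submodule F (ι → F)} (hW : IsNondegenerateOn f W) :
    Module.finrank F W + Module.finrank F (perp hf W) = Fintype.card ι := by
  rw [← Module.finrank_fintype_fun_eq_card F]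
  refine Submodule.finrank_add_eq_of_isCompl ⟨Submodule.disjoint_def.2 fun x h1 h2 => disjoint_perp hf hW h1 h2, ?_⟩
  refine codisjoint_iff.2 (eq_top_iff.2 fun x _ => ?_)
  obtain ⟨w, hw, hp⟩ := exists_decomp hf hW x
  exact Submodule.mem_sup.2 ⟨w, hw, _, hp, add_sub_cancel _ _⟩

theorem isNondegenerateOn_top : IsNondegenerateOn f (⊤ : Submodule F (ι → F)) := fun v _ hv => by
  obtain ⟨⟨a, ha⟩, ⟨b, hb⟩⟩ := hf.nondegenerate v hv
  exact ⟨⟨a, Submodule.mem_top, ha⟩, ⟨b, Submodule.mem_top, hb⟩⟩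

theorem isNondegenerateOn_singleton {p : ι → F} (hp : f p p ≠ 0) :
    IsNondegenerateOn f (Submodule.span F {p}) := by
  intro w hw hw0
  obtain ⟨c, rfl⟩ := Submodule.mem_span_singleton.1 hw
  have hc : c ≠ 0 := fun h => hw0 (by rw [h, zero_smul])
  have hm : p ∈ Submodule.span F ({p} : Set (ι → F)) := Submodule.mem_span_singleton_self p
  exact ⟨⟨p, hm, by rw [herm_smul_right hf]; exact mul_ne_zero (by simpa using hc) hp⟩,
    ⟨p, hm, by rw [hf.smul_left]; exact mul_ne_zero hc hp⟩⟩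

theorem isNondegenerateOn_pair {e h : ι → F} (hee : f e e = 0) (hhh : f h h = 0) (heh : f e h = 1) :
    IsNondegenerateOn f (Submodule.span F {e, h}) := by
  intro w hw hw0
  obtain ⟨a, b, rfl⟩ := Submodule.mem_span_pair.1 hw
  have hhe : f h e = 1 := by rw [hf.herm, heh, map_one]
  have h1 : f (a • e + b • h) e = b := by
    rw [hf.add_left, hf.smul_left, hf.smul_left, hee, hhe]; ring
  have h2 : f (a • e + b • h) h = a := by
    rw [hf.add_left, hf.smul_left, hf.smul_left, hhh, heh]; ring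
  have he : e ∈ Submodule.span F ({e, h} : Set (ι → F)) := Submodule.subset_span (by simp)
  have hh : h ∈ Submodule.span F ({e, h} : Set (ι → F)) := Submodule.subset_span (by simp)
  by_cases hb : b = 0
  · have ha : a ≠ 0 := fun ha => hw0 (by rw [ha, hb, zero_smul, zero_smul, add_zero])
    exact ⟨⟨h, hh, fun h' => ha (h2.symm.trans (herm_swap_zero hf h'))⟩, ⟨h, hh, by rwa [h2]⟩⟩
  · exact ⟨⟨e, he, fun h' => hb (h1.symm.trans (herm_swap_zero hf h'))⟩, ⟨e, he, by rwa [h1]⟩⟩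

/-- the orthogonal of a nondegenerate subspace inside a nondegenerate subspace -/
theorem sub_perp {W P : Submodule F (ι → F)} (hW : IsNondegenerateOn f W) (hP : IsNondegenerateOn f P)
    (hPW : P ≤ W) : IsNondegenerateOn f (W ⊓ perp hf P) ∧
      Module.finrank F P + Module.finrank F ↥(W ⊓ perp hf P) = Module.finrank F W := by
  constructor
  · intro w hw hw0
    obtain ⟨x, hx, hxw⟩ := (hW w hw.1 hw0).1
    obtain ⟨p, hp, hxp⟩ := exists_decomp hf hP x
    have h1 : f (x - p) w = f x w := by rw [herm_sub_left hf, herm_swap_zero hf (hw.2 p hp), sub_zero]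
    have hmem : x - p ∈ W ⊓ perp hf P := ⟨W.sub_mem hx (hPW hp), hxp⟩
    exact ⟨⟨_, hmem, by rwa [h1]⟩, ⟨_, hmem, fun h' => hxw (h1.symm.trans (herm_swap_zero hf h'))⟩⟩
  · have hdis : P ⊓ (W ⊓ perp hf P) = ⊥ := by
      rw [eq_bot_iff]
      rintro x ⟨hx, -, hx'⟩
      exact (Submodule.mem_bot F).2 (disjoint_perp hf hP hx hx')
    have hsup : P ⊔ (W ⊓ perp hf P) = W := by
      refine le_antisymm (sup_le hPW inf_le_left) fun x hx => ?_
      obtain ⟨p, hp, hxp⟩ := exists_decomp hf hP x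
      exact Submodule.mem_sup.2 ⟨p, hp, _, ⟨W.sub_mem hx (hPW hp), hxp⟩, add_sub_cancel _ _⟩
    have := Submodule.finrank_sup_add_finrank_inf_eq P (W ⊓ perp hf P)
    rw [hsup, hdis, finrank_bot] at this
    omega

theorem exists_anisotropic {W : Submodule F (ι → F)} (hW : IsNondegenerateOn f W) (hne : W ≠ ⊥) :
    ∃ p ∈ W, f p p ≠ 0 := by
  by_contra hcon
  push Not at hcon
  obtain ⟨a, ha, ha0⟩ := Submodule.exists_mem_ne_zero_of_ne_bot hne
  obtain ⟨b, hb, hab⟩ := (hW a ha ha0).2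
  obtain ⟨d, hd⟩ := exists_trace_ne_zero hf
  have h1 := hcon _ (W.add_mem (W.smul_mem (d / f a b) ha) hb)
  rw [hf.add_left, herm_add_right hf, herm_add_right hf, hf.smul_left, hf.smul_left, herm_smul_right hf,
    herm_smul_right hf, hcon a ha, hcon b hb, hf.herm b a, ← map_mul, div_mul_cancel₀ d hab] at h1
  exact hd (by linear_combination h1)

theorem exists_rep_on {W : Submodule F (ι → F)} (hW : IsNondegenerateOn f W) (φ : ι → F) :
    ∃ z ∈ W, ∀ x ∈ W, f x z = φ ⬝ᵥ x := by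
  obtain ⟨z₀, rfl⟩ := hv_surjective hf φ
  obtain ⟨z, hz, hzz⟩ := exists_decomp hf hW z₀
  refine ⟨z, hz, fun x hx => ?_⟩
  rw [hv_dot hf, ← sub_eq_zero, ← herm_sub_right hf, ← neg_sub z₀ z, herm_neg_right hf,
    herm_swap_zero hf (hzz x hx), neg_zero]

theorem exists_values {W : Submodule F (ι → F)} (hW : IsNondegenerateOn f W) {x y : ι → F} (hx : x ∈ W) (hy : y ∈ W)
    (hx0 : x ≠ 0) (hxy : y ∉ Submodule.span F {x}) (a b : F) : ∃ z ∈ W, f z x = a ∧ f z y = b := by
  obtain ⟨φ, hφy, hφx⟩ := exists_dual _ hxy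
  obtain ⟨ψ, hψx, -⟩ := exists_dual (⊥ : Submodule F (ι → F)) (fun h => hx0 ((Submodule.mem_bot F).1 h))
  obtain ⟨z, hz, hzf⟩ := exists_rep_on hf hW (σ a • ψ + (σ b - σ a * (ψ ⬝ᵥ y)) • φ)
  refine ⟨z, hz, ?_, ?_⟩
  · rw [hf.herm, hzf x hx, add_dotProduct, smul_dotProduct, smul_dotProduct,
      hφx x (Submodule.mem_span_singleton_self x), hψx]
    simp [hf.involutive]
  · rw [hf.herm, hzf y hy, add_dotProduct, smul_dotProduct, smul_dotProduct, hφy]
    simp [hf.involutive]

/-- determinant one isometries fixing the vectors orthogonal to `W` -/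
def fixU (W : Submodule F (ι → F)) : Subgroup (GL ι F) where
  carrier := {g | (g ∈ isoU f ∧ g ∈ specialLinear ι F) ∧ ∀ x ∈ perp hf W, (g : Matrix ι ι F) *ᵥ x = x}
  mul_mem' := fun {a b} ha hb => ⟨⟨(isoU f).mul_mem ha.1.1 hb.1.1, (specialLinear ι F).mul_mem ha.1.2 hb.1.2⟩,
    fun x hx => by rw [gl_mul_mulVec, hb.2 x hx, ha.2 x hx]⟩
  one_mem' := ⟨⟨(isoU f).one_mem, (specialLinear ι F).one_mem⟩, fun x _ => by rw [Units.val_one, one_mulVec]⟩
  inv_mem' := fun {a} ha => ⟨⟨(isoU f).inv_mem ha.1.1, (specialLinear ι F).inv_mem ha.1.2⟩, fun x hx => by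
    conv_lhs => rw [← ha.2 x hx]
    rw [gl_inv_mulVec]⟩

theorem fix_iso {W : Submodule F (ι → F)} {g : GL ι F} (hg : g ∈ fixU hf W) (x y : ι → F) :
    f ((g : Matrix ι ι F) *ᵥ x) ((g : Matrix ι ι F) *ᵥ y) = f x y := mem_isoU.1 hg.1.1 x y

theorem fix_maps {W : Submodule F (ι → F)} (hW : IsNondegenerateOn f W) {g : GL ι F} (hg : g ∈ fixU hf W)
    {w : ι → F} (hw : w ∈ W) : (g : Matrix ι ι F) *ᵥ w ∈ W := by
  refine perp_perp hf hW fun p hp => ?_
  conv_lhs => rw [← hg.2 p hp]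
  rw [fix_iso hf hg]
  exact herm_swap_zero hf (hp w hw)

theorem trace_zero_inv {c : F} (hc : σ c = -c) : σ c⁻¹ = -c⁻¹ := by rw [map_inv₀, hc, inv_neg]

/-- the transvection hypothesis -/
def HasTv (M : Subgroup (GL ι F)) (W : Submodule F (ι → F)) : Prop :=
  ∀ u ∈ W, f u u = 0 → ∀ c : F, σ c = -c → Has M u (c • hv hf u)

theorem utv_mem_fix {W : Submodule F (ι → F)} {u : ι → F} (hu : u ∈ W) (huu : f u u = 0) {c : F} (hc : σ c = -c)
    (h : (c • hv hf u) ⬝ᵥ u = 0) : tv u (c • hv hf u) h ∈ fixU hf W :=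
  ⟨⟨mem_isoU.2 (utv_isometry hf u huu hc h), tv_mem_SL _ _ _⟩, fun x hx => by
    rw [tv_mulVec, smul_dotProduct, hv_dot, hx u hu, smul_zero, zero_smul, add_zero]⟩

section Transitive

variable {M : Subgroup (GL ι F)} {W : Submodule F (ι → F)} (hM : HasTv hf M W)
include hM

theorem exists_tv {u : ι → F} (hu : u ∈ W) (huu : f u u = 0) {c : F} (hc : σ c = -c) :
    ∃ t ∈ M ⊓ fixU hf W, ∀ x, (t : Matrix ι ι F) *ᵥ x = x + (c * f x u) • u := by
  obtain ⟨h, hmem⟩ := hM u hu huu c hc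
  exact ⟨_, ⟨hmem, utv_mem_fix hf hu huu hc h⟩, fun x => by
    rw [tv_mulVec, smul_dotProduct, hv_dot, smul_eq_mul]⟩

theorem move_direct {x y : ι → F} (hx : x ∈ W) (hy : y ∈ W) (hxx : f x x = 0) (hyy : f y y = 0) {d : F}
    (hxy : f x y = d) (hd0 : d ≠ 0) (hd : σ d = -d) :
    ∃ t ∈ M ⊓ fixU hf W, (t : Matrix ι ι F) *ᵥ x = y ∧
      ∀ z, (t : Matrix ι ι F) *ᵥ z = z + (d⁻¹ * f z (y - x)) • (y - x) := by
  obtain ⟨t, ht, htf⟩ := exists_tv hf hM (W.sub_mem hy hx) (by
    rw [herm_sub_left hf, herm_sub_right hf, herm_sub_right hf, hxx, hyy, hf.herm y x, hxy, hd]; ring)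
    (trace_zero_inv hf hd)
  refine ⟨t, ht, ?_, htf⟩
  rw [htf, herm_sub_right hf, hxy, hxx, sub_zero, inv_mul_cancel₀ hd0, one_smul, add_sub_cancel]

omit hM in
theorem exists_third (hW : IsNondegenerateOn f W) (hdim : 3 ≤ Module.finrank F W) {e h : ι → F} (he : e ∈ W)
    (hh : h ∈ W) (hee : f e e = 0) (hhh : f h h = 0) (heh : f e h = 1) :
    ∃ p ∈ W, f p e = 0 ∧ f p h = 0 ∧ f p p ≠ 0 := by
  have hPW : Submodule.span F ({e, h} : Set (ι → F)) ≤ W := Submodule.span_le.2 (by simp [Set.insert_subset_iff, he, hh])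
  obtain ⟨hnd, hfr⟩ := sub_perp hf hW (isNondegenerateOn_pair hf hee hhh heh) hPW
  obtain ⟨p, hp, hpp⟩ := exists_anisotropic hf hnd (fun h0 => by
    rw [h0, finrank_bot] at hfr
    have : Module.finrank F (Submodule.span F ({e, h} : Set (ι → F))) ≤ 2 := by
      classical
      refine (finrank_span_le_card _).trans ?_
      rw [Set.toFinset_insert, Set.toFinset_singleton]
      exact Finset.card_le_two
    omega)
  exact ⟨p, hp.1, hp.2 e (Submodule.subset_span (by simp)), hp.2 h (Submodule.subset_span (by simp)), hpp⟩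

/-- three transvections multiplying an isotropic vector by a scalar -/
theorem three_step {e h p : ι → F} (he : e ∈ W) (hh : h ∈ W) (hp : p ∈ W) (hee : f e e = 0) (hhh : f h h = 0)
    (heh : f e h = 1) (hpe : f p e = 0) (hph : f p h = 0) {a δ γ : F} (ha : a ≠ 0) (hδ : δ ≠ 0) (hδσ : σ δ = -δ)
    (hγ : γ * σ γ * f p p = -(δ / σ a + σ (δ / σ a))) :
    ∃ t ∈ M ⊓ fixU hf W, (t : Matrix ι ι F) *ᵥ e = a • e ∧
      ∃ A B : F, (t : Matrix ι ι F) *ᵥ h = A • e + B • h + (γ / δ * (1 - σ a + σ a / a)) • p := by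
  have hhe : f h e = 1 := by rw [hf.herm, heh, map_one]
  have hep := herm_swap_zero hf hpe
  have hhp := herm_swap_zero hf hph
  obtain ⟨β, hβ⟩ : ∃ β, β = δ / σ a := ⟨_, rfl⟩
  rw [← hβ] at hγ
  have hσa : σ a ≠ 0 := by simpa using ha
  have hσβ : σ β = -δ / a := by rw [hβ, map_div₀, hδσ, hf.involutive]
  obtain ⟨z, hz⟩ : ∃ z, z = δ • h := ⟨_, rfl⟩
  obtain ⟨w, hw⟩ : ∃ w, w = e + β • h + γ • p := ⟨_, rfl⟩
  have hzW : z ∈ W := hz ▸ W.smul_mem δ hh
  have hwW : w ∈ W := hw ▸ W.add_mem (W.add_mem he (W.smul_mem β hh)) (W.smul_mem γ hp)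
  have hzz : f z z = 0 := by rw [hz, hf.smul_left, herm_smul_right hf, hhh, mul_zero, mul_zero]
  have hww : f w w = 0 := by
    simp only [hw, hf.add_left, herm_add_right hf, hf.smul_left, herm_smul_right hf, hee, hhh, heh, hhe, hpe, hph,
      hep, hhp]
    linear_combination hγ
  have haa : f (a • e) (a • e) = 0 := by rw [hf.smul_left, herm_smul_right hf, hee, mul_zero, mul_zero]
  have hez : f e z = -δ := by rw [hz, herm_smul_right hf, heh, mul_one, hδσ]
  have hzw : f z w = δ := by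
    simp only [hz, hw, herm_add_right hf, hf.smul_left, herm_smul_right hf, hhh, hhe, hhp]; ring
  have hwa : f w (a • e) = δ := by
    simp only [hw, hf.add_left, hf.smul_left, herm_smul_right hf, hee, hhe, hpe]
    rw [hβ]
    field_simp
    ring
  obtain ⟨t₁, ht₁, ht₁e, h₁⟩ := move_direct hf hM he hzW hee hzz hez (neg_ne_zero.2 hδ) (by rw [map_neg, hδσ])
  obtain ⟨t₂, ht₂, ht₂z, h₂⟩ := move_direct hf hM hzW hwW hzz hww hzw hδ hδσ
  obtain ⟨t₃, ht₃, ht₃w, h₃⟩ := move_direct hf hM hwW (W.smul_mem a he) hww haa hwa hδ hδσ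
  refine ⟨t₃ * t₂ * t₁, mul_mem (mul_mem ht₃ ht₂) ht₁, by rw [gl_mul_mulVec, gl_mul_mulVec, ht₁e, ht₂z, ht₃w], ?_⟩
  have s₁ : (t₁ : Matrix ι ι F) *ᵥ h = (-δ⁻¹) • e + (2 : F) • h := by
    rw [h₁, show f h (z - e) = -1 by rw [hz, herm_sub_right hf, herm_smul_right hf, hhh, hhe]; ring, hz,
      inv_neg, neg_mul_neg, mul_one, smul_sub, smul_smul, inv_mul_cancel₀ hδ, one_smul, neg_smul, two_smul]
    abel
  obtain ⟨k, hk⟩ : ∃ k, k = (1 + a⁻¹) / δ := ⟨_, rfl⟩
  have s₂ : (t₂ : Matrix ι ι F) *ᵥ ((-δ⁻¹) • e + (2 : F) • h) =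
      (k - δ⁻¹) • e + (2 + k * (β - δ)) • h + (k * γ) • p := by
    rw [h₂]
    have : δ⁻¹ * f ((-δ⁻¹) • e + (2 : F) • h) (w - z) = k := by
      simp only [hz, hw, herm_sub_right hf, herm_add_right hf, hf.add_left, hf.smul_left, herm_smul_right hf, hee,
        hhh, heh, hhe, hep, hhp, hσβ, hδσ, hk]
      field_simp
      ring
    rw [this, hz, hw]
    module
  obtain ⟨m, hm⟩ : ∃ m, m = δ⁻¹ * f ((k - δ⁻¹) • e + (2 + k * (β - δ)) • h + (k * γ) • p) (a • e - w) := ⟨_, rfl⟩
  have hm' : k - m = δ⁻¹ * (1 - σ a + σ a / a) := by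
    rw [hm]
    simp only [hw, herm_sub_right hf, herm_add_right hf, hf.add_left, hf.smul_left, herm_smul_right hf, hee, hhh,
      heh, hhe, hep, hhp, hpe, hph]
    rw [show k * γ * (σ γ * f p p) = k * (γ * σ γ * f p p) by ring, hγ, hσβ, hk, hβ]
    field_simp
    ring
  refine ⟨k - δ⁻¹ + m * (a - 1), 2 + k * (β - δ) - m * β, ?_⟩
  rw [gl_mul_mulVec, gl_mul_mulVec, s₁, s₂, h₃, ← hm,
    show γ / δ * (1 - σ a + σ a / a) = (k - m) * γ by rw [hm']; ring, hw]
  module

theorem exists_partner_in (hW : IsNondegenerateOn f W) {x : ι → F} (hx : x ∈ W) (hx0 : x ≠ 0) (hxx : f x x = 0) :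
    ∃ h ∈ W, f h h = 0 ∧ f x h = 1 := by
  obtain ⟨y, hy, hxy⟩ := (hW x hx hx0).2
  obtain ⟨h, hh, h1, h2, -⟩ := exists_partner hf hx hxx hy hxy
  exact ⟨h, hh, h1, h2⟩

theorem move_scalar (hW : IsNondegenerateOn f W) (hdim : 3 ≤ Module.finrank F W) {x : ι → F} (hx : x ∈ W)
    (hx0 : x ≠ 0) (hxx : f x x = 0) {a : F} (ha : a ≠ 0) :
    ∃ t ∈ M ⊓ fixU hf W, (t : Matrix ι ι F) *ᵥ x = a • x := by
  obtain ⟨h, hh, hhh, hxh⟩ := exists_partner_in hf hM hW hx hx0 hxx
  obtain ⟨p, hp, hpx, hph, hpp⟩ := exists_third hf hW hdim hx hh hxx hhh hxh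
  obtain ⟨δ, hδ, hδσ⟩ := exists_trace_zero hf
  obtain ⟨γ, hγ⟩ := exists_norm hf (d := -(δ / σ a + σ (δ / σ a)) / f p p) (by
    rw [map_div₀, map_neg, map_add, hf.involutive, ← hf.herm, add_comm])
  obtain ⟨t, ht, hte, -⟩ := three_step hf hM hx hh hp hxx hhh hxh hpx hph ha hδ hδσ
    (by rw [hγ, div_mul_cancel₀ _ hpp])
  exact ⟨t, ht, hte⟩

theorem move_iso_vec (hW : IsNondegenerateOn f W) (hdim : 3 ≤ Module.finrank F W) {x y : ι → F} (hx : x ∈ W)
    (hy : y ∈ W) (hx0 : x ≠ 0) (hy0 : y ≠ 0) (hxx : f x x = 0) (hyy : f y y = 0) :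
    ∃ t ∈ M ⊓ fixU hf W, (t : Matrix ι ι F) *ᵥ x = y := by
  by_cases hdep : y ∈ Submodule.span F {x}
  · obtain ⟨a, rfl⟩ := Submodule.mem_span_singleton.1 hdep
    exact move_scalar hf hM hW hdim hx hx0 hxx (fun h => hy0 (by rw [h, zero_smul]))
  obtain ⟨δ, hδ, hδσ⟩ := exists_trace_zero hf
  by_cases hxy : f x y = 0
  · obtain ⟨z₀, hz₀, hz₀x, hz₀y⟩ := exists_values hf hW hx hy hx0 hdep δ δ
    obtain ⟨ν, hν⟩ := exists_trace hf (d := f z₀ z₀) (by rw [← hf.herm])
    obtain ⟨z, hz⟩ : ∃ z, z = z₀ + (ν / δ) • x := ⟨_, rfl⟩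
    have hzW : z ∈ W := hz ▸ W.add_mem hz₀ (W.smul_mem _ hx)
    have hzx : f z x = δ := by rw [hz, hf.add_left, hf.smul_left, hxx, mul_zero, add_zero, hz₀x]
    have hzy : f z y = δ := by rw [hz, hf.add_left, hf.smul_left, hxy, mul_zero, add_zero, hz₀y]
    have hzz : f z z = 0 := by
      rw [hz, hf.add_left, hf.smul_left, herm_add_right hf, herm_add_right hf, herm_smul_right hf,
        herm_smul_right hf, hz₀x, hf.herm x z₀, hz₀x, hxx, map_div₀, hδσ]
      field_simp
      linear_combination -δ ^ 2 * hν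
    obtain ⟨t, ht, htx, -⟩ := move_direct hf hM hx hzW hxx hzz (d := -δ) (by rw [hf.herm, hzx, hδσ])
      (neg_ne_zero.2 hδ) (by rw [map_neg, hδσ])
    obtain ⟨s, hs, hsz, -⟩ := move_direct hf hM hzW hy hzz hyy hzy hδ hδσ
    exact ⟨s * t, mul_mem hs ht, by rw [gl_mul_mulVec, htx, hsz]⟩
  · obtain ⟨t, ht, htx⟩ := move_scalar hf hM hW hdim hx hx0 hxx (a := δ / f x y) (div_ne_zero hδ hxy)
    obtain ⟨s, hs, hsx, -⟩ := move_direct hf hM (W.smul_mem (δ / f x y) hx) hy
      (by rw [hf.smul_left, herm_smul_right hf, hxx, mul_zero, mul_zero]) hyy (d := δ)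
      (by rw [hf.smul_left, div_mul_cancel₀ _ hxy]) hδ hδσ
    exact ⟨s * t, mul_mem hs ht, by rw [gl_mul_mulVec, htx, hsx]⟩

omit hM in
/-- `h'` is reached from `h` fixing `e` -/
def Reach (M : Subgroup (GL ι F)) (W : Submodule F (ι → F)) (e h h' : ι → F) : Prop :=
  ∃ t ∈ M ⊓ fixU hf W, (t : Matrix ι ι F) *ᵥ e = e ∧ (t : Matrix ι ι F) *ᵥ h = h'

omit hM in
theorem Reach.trans {e h₁ h₂ h₃ : ι → F} (a : Reach hf M W e h₁ h₂) (b : Reach hf M W e h₂ h₃) :
    Reach hf M W e h₁ h₃ := by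
  obtain ⟨t, ht, hte, hth⟩ := a
  obtain ⟨s, hs, hse, hsh⟩ := b
  exact ⟨s * t, mul_mem hs ht, by rw [gl_mul_mulVec, hte, hse], by rw [gl_mul_mulVec, hth, hsh]⟩

omit hM in
/-- `h` is a partner of `e` -/
def Partner (f : (ι → F) → (ι → F) → F) (W : Submodule F (ι → F)) (e h : ι → F) : Prop :=
  h ∈ W ∧ f h h = 0 ∧ f e h = 1

omit hM in
theorem Partner.left {e h : ι → F} (hp : Partner f W e h) : f h e = 1 := by rw [hf.herm, hp.2.2, map_one]

theorem reach_direct {e h h' : ι → F} (hh : Partner f W e h) (hh' : Partner f W e h') (hne : f h h' ≠ 0)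
    (hd : f (h' - h) (h' - h) = 0) : Reach hf M W e h h' := by
  have hσ : σ (f h h') = -f h h' := by
    rw [herm_sub_left hf, herm_sub_right hf, herm_sub_right hf, hh.2.1, hh'.2.1] at hd
    rw [← hf.herm]
    linear_combination -hd
  obtain ⟨t, ht, hth, htz⟩ := move_direct hf hM hh.1 hh'.1 hh.2.1 hh'.2.1 rfl hne hσ
  exact ⟨t, ht, by rw [htz, herm_sub_right hf, hh.2.2, hh'.2.2, sub_self, mul_zero, zero_smul, add_zero], hth⟩

theorem reach_iso {e h h' : ι → F} (he : e ∈ W) (hee : f e e = 0) (hh : Partner f W e h) (hh' : Partner f W e h')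
    (hd : f (h' - h) (h' - h) = 0) : Reach hf M W e h h' := by
  by_cases hne : f h h' = 0
  swap
  · exact reach_direct hf hM hh hh' hne hd
  obtain ⟨δ, hδ, hδσ⟩ := exists_trace_zero hf
  have hP : Partner f W e (h + δ • e) := ⟨W.add_mem hh.1 (W.smul_mem δ he), by
    rw [hf.add_left, herm_add_right hf, herm_add_right hf, hf.smul_left, hf.smul_left, herm_smul_right hf,
      herm_smul_right hf, hh.2.1, hh.left hf, hh.2.2, hee, hδσ]
    ring, by rw [herm_add_right hf, herm_smul_right hf, hee, mul_zero, add_zero, hh.2.2]⟩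
  refine Reach.trans hf (reach_direct hf hM hh hP ?_ ?_) (reach_direct hf hM hP hh' ?_ ?_)
  · rw [herm_add_right hf, herm_smul_right hf, hh.2.1, hh.left hf, zero_add, mul_one, hδσ]
    exact neg_ne_zero.2 hδ
  · rw [add_sub_cancel_left, hf.smul_left, herm_smul_right hf, hee, mul_zero, mul_zero]
  · rw [hf.add_left, hf.smul_left, hne, hh'.2.2, zero_add, mul_one]
    exact hδ
  · have h1 : f (h' - h) e = 0 := by rw [herm_sub_left hf, hh'.left hf, hh.left hf, sub_self]
    rw [show h' - (h + δ • e) = (h' - h) - δ • e by abel]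
    generalize h' - h = d at hd h1
    rw [herm_sub_left hf, herm_sub_right hf, herm_sub_right hf, hf.smul_left, hf.smul_left, herm_smul_right hf,
      herm_smul_right hf, hee, hd, h1, herm_swap_zero hf h1]
    ring

theorem reach_eq_mod {e h h' : ι → F} (he : e ∈ W) (hee : f e e = 0) (hh : Partner f W e h) (hh' : Partner f W e h')
    {s : F} (hs : h' - h = s • e) : Reach hf M W e h h' :=
  reach_iso hf hM he hee hh hh' (by rw [hs, hf.smul_left, herm_smul_right hf, hee, mul_zero, mul_zero])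

omit hM in
theorem exists_shift {e h p : ι → F} (he : e ∈ W) (hp : p ∈ W) (hee : f e e = 0) (hh : Partner f W e h)
    (hpe : f p e = 0) : ∃ s : F, Partner f W e (h + p + s • e) := by
  obtain ⟨s, hs⟩ := exists_trace hf (d := -f (h + p) (h + p)) (by rw [map_neg, ← hf.herm])
  have h1 : f (h + p) e = 1 := by rw [hf.add_left, hh.left hf, hpe, add_zero]
  have h2 : f e (h + p) = 1 := by rw [hf.herm, h1, map_one]
  refine ⟨s, W.add_mem (W.add_mem hh.1 hp) (W.smul_mem s he), ?_, ?_⟩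
  · rw [hf.add_left (h + p), herm_add_right hf (h + p) (h + p) (s • e), herm_add_right hf (s • e) (h + p) (s • e),
      hf.smul_left, hf.smul_left, herm_smul_right hf, herm_smul_right hf, h1, h2, hee]
    linear_combination hs
  · rw [herm_add_right hf, h2, herm_smul_right hf, hee, mul_zero, add_zero]

/-- in dimension three one step is enough -/
theorem reach_three (hbig : 4 < Fintype.card F) {e p : ι → F} (he : e ∈ W) (he0 : e ≠ 0) (hp : p ∈ W)
    (hee : f e e = 0) (hpe : f p e = 0) (hpp : f p p ≠ 0) {h₁ : ι → F} (hh₁ : Partner f W e h₁) (g : F) :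
    ∃ h', Partner f W e h' ∧ Reach hf M W e h₁ h' ∧ ∃ s : F, h' = h₁ + g • p + s • e := by
  classical
  rcases eq_or_ne g 0 with rfl | hg
  · refine ⟨h₁, hh₁, reach_eq_mod hf hM he hee hh₁ hh₁ (s := 0) (by rw [sub_self, zero_smul]), 0, ?_⟩
    rw [zero_smul, zero_smul, add_zero, add_zero]
  obtain ⟨δ, hδ, hδσ⟩ := exists_trace_zero hf
  -- a suitable scalar
  obtain ⟨a, ha0, haσ, hgood⟩ : ∃ a : F, a ≠ 0 ∧ σ a ≠ a ∧ 1 - σ a + σ a / a ≠ 0 := by
    obtain ⟨a₀, ha₀⟩ := exists_not_fixed hf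
    by_contra hcon
    push Not at hcon
    have hb : ∀ b : F, σ b ≠ b → b + σ b = 1 := by
      intro b hb
      have hb0 : b ≠ 0 := fun h => hb (by rw [h, map_zero])
      have hσb : σ b ≠ 0 := by simpa using hb0
      have h1 := hcon b⁻¹ (inv_ne_zero hb0) (by rw [map_inv₀]; exact fun h => hb (inv_injective h))
      rw [map_inv₀] at h1
      field_simp at h1
      linear_combination h1
    obtain ⟨r, hr, hr0, hr1⟩ : ∃ r : F, σ r = r ∧ r ≠ 0 ∧ r ≠ 1 := by
      by_contra hc2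
      push Not at hc2
      have hsub : (Finset.univ : Finset F) ⊆ {0, 1, a₀, 1 + a₀} := fun x _ => by
        rcases eq_or_ne (σ x) x with hx | hx
        · rcases eq_or_ne x 0 with h | h
          · simp [h]
          · simp [hc2 x hx h]
        · have h2 : σ (x - a₀) = x - a₀ ∨ True := Or.inr trivial
          rcases eq_or_ne (x - a₀) 0 with h | h
          · simp [sub_eq_zero.1 h]
          · have h3 := hb x hx
            have h4 := hb a₀ ha₀
            have hfix : σ (x - a₀) = x - a₀ := by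
              have h5 : (2 : F) = 0 := by
                have := hc2 (-1) (by rw [map_neg, map_one]) (neg_ne_zero.2 one_ne_zero)
                linear_combination -this
              rw [map_sub]
              linear_combination h3 - h4 + (a₀ - x) * h5
            have := hc2 _ hfix h
            simp [show x = 1 + a₀ by linear_combination this]
      have h1 := Finset.card_le_card hsub
      rw [Finset.card_univ] at h1
      have h2 : ({0, 1, a₀, 1 + a₀} : Finset F).card ≤ 4 := Finset.card_le_four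
      omega
    have h2 : σ (r * a₀) ≠ r * a₀ := by
      rw [map_mul, hr]
      exact fun h => ha₀ (mul_left_cancel₀ hr0 h)
    have h3 := hb _ ha₀
    have h4 := hb _ h2
    rw [map_mul, hr] at h4
    exact hr1 (by linear_combination h4 - r * h3)
  have hβne : δ / σ a + σ (δ / σ a) ≠ 0 := by
    have hσa : σ a ≠ 0 := by simpa using ha0
    rw [map_div₀, hδσ, hf.involutive, neg_div, ← sub_eq_add_neg, sub_ne_zero]
    intro h
    rw [div_eq_div_iff hσa ha0] at h
    exact haσ (mul_left_cancel₀ hδ h).symm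
  obtain ⟨γ, hγ⟩ := exists_norm hf (d := -(δ / σ a + σ (δ / σ a)) / f p p) (by
    rw [map_div₀, map_neg, map_add, hf.involutive, ← hf.herm, add_comm])
  have hγ' : γ * σ γ * f p p = -(δ / σ a + σ (δ / σ a)) := by rw [hγ, div_mul_cancel₀ _ hpp]
  have hγ0 : γ ≠ 0 := fun h => hβne (by rw [h, zero_mul, zero_mul] at hγ'; linear_combination hγ')
  obtain ⟨b, hb1, hbN⟩ : ∃ b : F, b ≠ 1 ∧ b * σ b = 1 := by
    refine ⟨a / σ a, fun h => haσ ?_, ?_⟩
    · have hσa : σ a ≠ 0 := by simpa using ha0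
      rw [div_eq_one_iff_eq hσa] at h
      exact h.symm
    · rw [map_div₀, hf.involutive]
      field_simp [show σ a ≠ 0 by simpa using ha0]
  obtain ⟨μ, hμ⟩ : ∃ μ, μ = σ a * (γ / δ * (1 - σ a + σ a / a)) := ⟨_, rfl⟩
  have hσa : σ a ≠ 0 := by simpa using ha0
  have hμ0 : μ ≠ 0 := hμ ▸ mul_ne_zero hσa (mul_ne_zero (div_ne_zero hγ0 hδ) hgood)
  obtain ⟨r, hr⟩ : ∃ r, r = σ (g / (μ * (b - 1))) := ⟨_, rfl⟩
  have hr' : σ r * (μ * (b - 1)) = g := by
    rw [hr, hf.involutive, div_mul_cancel₀ _ (mul_ne_zero hμ0 (sub_ne_zero.2 hb1))]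
  have hr0 : r ≠ 0 := fun h => hg (by rw [← hr', h, map_zero, zero_mul])
  have hσr : σ r ≠ 0 := by simpa using hr0
  -- the base pair
  obtain ⟨s₀, hh⟩ := exists_shift hf he (W.smul_mem (-(σ r * μ)) hp) hee hh₁ (by rw [hf.smul_left, hpe, mul_zero])
  obtain ⟨h, hhdef⟩ : ∃ h, h = h₁ + -(σ r * μ) • p + s₀ • e := ⟨_, rfl⟩
  rw [← hhdef] at hh
  obtain ⟨p', hp'⟩ : ∃ p', p' = p - f p h • e := ⟨_, rfl⟩
  have hep : f e p = 0 := herm_swap_zero hf hpe
  have hp'e : f p' e = 0 := by rw [hp', herm_sub_left hf, hf.smul_left, hee, hpe, mul_zero, sub_zero]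
  have hp'h : f p' h = 0 := by rw [hp', herm_sub_left hf, hf.smul_left, hh.2.2, mul_one, sub_self]
  have hp'p : f p' p' = f p p := by
    rw [hp', herm_sub_left hf, herm_sub_right hf, herm_sub_right hf, hf.smul_left, hf.smul_left, herm_smul_right hf,
      herm_smul_right hf, hee, hpe, hep]
    ring
  have hp'W : p' ∈ W := hp' ▸ W.sub_mem hp (W.smul_mem _ he)
  have hstep : ∀ γ' : F, γ' * σ γ' * f p p = -(δ / σ a + σ (δ / σ a)) →
      ∃ t ∈ M ⊓ fixU hf W, (t : Matrix ι ι F) *ᵥ e = a • e ∧ Partner f W e ((σ a) • ((t : Matrix ι ι F) *ᵥ h)) ∧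
        ∃ s : F, σ a • ((t : Matrix ι ι F) *ᵥ h) = h + (σ r * σ a * (γ' / δ * (1 - σ a + σ a / a))) • p + s • e := by
    intro γ' hγ''
    obtain ⟨t, ht, hte, A, B, hth⟩ := three_step hf hM (W.smul_mem r he) (W.smul_mem (σ r)⁻¹ hh.1) hp'W
      (by rw [hf.smul_left, herm_smul_right hf, hee, mul_zero, mul_zero])
      (by rw [hf.smul_left, herm_smul_right hf, hh.2.1, mul_zero, mul_zero])
      (by rw [hf.smul_left, herm_smul_right hf, hh.2.2, map_inv₀, hf.involutive, mul_one, mul_inv_cancel₀ hr0])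
      (by rw [herm_smul_right hf, hp'e, mul_zero]) (by rw [herm_smul_right hf, hp'h, mul_zero]) ha0 hδ hδσ
      (by rw [hp'p]; exact hγ'')
    rw [mulVec_smul, smul_comm] at hte
    have hte' : (t : Matrix ι ι F) *ᵥ e = a • e := smul_right_injective _ hr0 hte
    have hiso : ∀ x y, f ((t : Matrix ι ι F) *ᵥ x) ((t : Matrix ι ι F) *ᵥ y) = f x y := fix_iso hf ht.2
    have hP : Partner f W e (σ a • ((t : Matrix ι ι F) *ᵥ h)) := by
      refine ⟨W.smul_mem _ ?_, by rw [hf.smul_left, herm_smul_right hf, hiso, hh.2.1, mul_zero, mul_zero], ?_⟩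
      · rw [mulVec_smul] at hth
        exact (W.smul_mem_iff (inv_ne_zero hσr)).1 (hth ▸ W.add_mem
          (W.add_mem (W.smul_mem A (W.smul_mem r he)) (W.smul_mem B (W.smul_mem _ hh.1))) (W.smul_mem _ hp'W))
      · have h5 := hiso e h
        rw [hte', hf.smul_left, hh.2.2] at h5
        rw [herm_smul_right hf, hf.involutive, h5]
    refine ⟨t, ht, hte', hP, σ r * σ a * A * r - σ r * σ a * (γ' / δ * (1 - σ a + σ a / a)) * f p h, ?_⟩
    have hB : σ a * B = 1 := by
      have h5 := hP.left hf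
      rw [hf.smul_left] at h5
      rw [mulVec_smul] at hth
      have h6 := congrArg (fun v => f v e) hth
      simp only [hf.smul_left, hf.add_left, hee, hh.left hf, hp'e, mul_zero, zero_add, add_zero, mul_one] at h6
      have h7 : B = f ((t : Matrix ι ι F) *ᵥ h) e := by
        refine (mul_left_cancel₀ (inv_ne_zero hσr) ?_).symm
        linear_combination h6
      rw [h7, h5]
    rw [mulVec_smul] at hth
    have h6 : (t : Matrix ι ι F) *ᵥ h = σ r • (A • r • e + B • (σ r)⁻¹ • h + (γ' / δ * (1 - σ a + σ a / a)) • p') := by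
      rw [← hth, smul_smul, mul_inv_cancel₀ hσr, one_smul]
    rw [h6, hp']
    have hB' : σ a * σ r * B * (σ r)⁻¹ = 1 := by
      rw [show σ a * σ r * B * (σ r)⁻¹ = σ a * B * (σ r * (σ r)⁻¹) by ring, hB, mul_inv_cancel₀ hσr, one_mul]
    simp only [smul_add, smul_sub, smul_smul]
    rw [show σ a * (σ r * (B * (σ r)⁻¹)) = σ a * σ r * B * (σ r)⁻¹ by ring, hB']
    module
  obtain ⟨t, ht, hte, hP, s₁, hs₁⟩ := hstep γ hγ'
  obtain ⟨t', ht', hte', hP', s₂, hs₂⟩ := hstep (b * γ) (by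
    rw [map_mul]; linear_combination hγ' + γ * σ γ * f p p * hbN)
  refine ⟨_, hP', Reach.trans hf (reach_eq_mod hf hM he hee hh₁ hP (s := s₀ + s₁) ?_)
    ⟨t' * t⁻¹, mul_mem ht' (inv_mem ht), ?_, ?_⟩, s₀ + s₂, ?_⟩
  · rw [hs₁, hhdef, hμ]
    module
  · have h5 : ((t⁻¹ : GL ι F) : Matrix ι ι F) *ᵥ e = a⁻¹ • e := by
      refine smul_right_injective _ ha0 ?_
      show a • _ = a • a⁻¹ • e
      rw [smul_smul, mul_inv_cancel₀ ha0, one_smul, ← mulVec_smul, ← hte, gl_inv_mulVec]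
    rw [gl_mul_mulVec, h5, mulVec_smul, hte', smul_smul, inv_mul_cancel₀ ha0, one_smul]
  · rw [gl_mul_mulVec, mulVec_smul, gl_inv_mulVec, mulVec_smul]
  · rw [hs₂, hhdef, ← hr', hμ]
    module

theorem move_second (hW : IsNondegenerateOn f W) (hdim : 4 ≤ Module.finrank F W ∨
    (Module.finrank F W = 3 ∧ 4 < Fintype.card F)) {e h h' : ι → F} (he : e ∈ W) (hee : f e e = 0)
    (hh : Partner f W e h) (hh' : Partner f W e h') : Reach hf M W e h h' := by
  classical
  have he0 : e ≠ 0 := fun h0 => one_ne_zero (hh.2.2.symm.trans (by rw [h0, herm_zero_left hf]))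
  have hpair := isNondegenerateOn_pair hf hee hh.2.1 hh.2.2
  have hPW : Submodule.span F ({e, h} : Set (ι → F)) ≤ W :=
    Submodule.span_le.2 (by simp [Set.insert_subset_iff, he, hh.1])
  obtain ⟨hnd, hfr⟩ := sub_perp hf hW hpair hPW
  have hP2 : Module.finrank F (Submodule.span F ({e, h} : Set (ι → F))) ≤ 2 := by
    refine (finrank_span_le_card _).trans ?_
    rw [Set.toFinset_insert, Set.toFinset_singleton]
    exact Finset.card_le_two
  obtain ⟨q, hq, hqp⟩ := exists_decomp hf hpair (h' - h)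
  obtain ⟨a, b, rfl⟩ := Submodule.mem_span_pair.1 hq
  have hqe := hqp e (Submodule.subset_span (by simp))
  have hb : b = 0 := by
    rw [herm_sub_left hf, herm_sub_left hf, hh'.left hf, hh.left hf, hf.add_left, hf.smul_left, hf.smul_left, hee,
      hh.left hf] at hqe
    linear_combination -hqe
  subst hb
  rw [zero_smul, add_zero] at hqp hqe
  obtain ⟨q, hqdef⟩ : ∃ q, q = h' - h - a • e := ⟨_, rfl⟩
  rw [← hqdef] at hqp hqe
  have hqW : q ∈ W := hqdef ▸ W.sub_mem (W.sub_mem hh'.1 hh.1) (W.smul_mem a he)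
  suffices hs : ∃ h'', Partner f W e h'' ∧ Reach hf M W e h h'' ∧ ∃ s : F, h'' = h + q + s • e by
    obtain ⟨h'', hP, hR, s, hs⟩ := hs
    exact Reach.trans hf hR (reach_eq_mod hf hM he hee hP hh' (s := a - s) (by rw [hs, hqdef]; module))
  rcases hdim with h4 | ⟨h3, hbig⟩
  · obtain ⟨e₁, he₁, he₁0, he₁e⟩ := exists_isotropic hf (W := W ⊓ perp hf (Submodule.span F {e, h})) (by omega)
    obtain ⟨y, hy, hye⟩ := (hnd e₁ he₁ he₁0).2
    obtain ⟨h₁', hh₁', hh₁'h, he₁h, -⟩ := exists_partner hf he₁ he₁e hy hye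
    let S : Submodule F (ι → F) :=
      { carrier := {v | (v ∈ W ∧ f v e = 0) ∧ ∀ c : F, ∀ x, Partner f W e x →
          ∃ x', Partner f W e x' ∧ Reach hf M W e x x' ∧ ∃ s : F, x' = x + c • v + s • e}
        add_mem' := fun {v w} hv hw => ⟨⟨W.add_mem hv.1.1 hw.1.1, by rw [hf.add_left, hv.1.2, hw.1.2, add_zero]⟩,
          fun c x hx => by
            obtain ⟨x₁, hx₁, hR₁, s₁, rfl⟩ := hv.2 c x hx
            obtain ⟨x₂, hx₂, hR₂, s₂, rfl⟩ := hw.2 c _ hx₁
            exact ⟨_, hx₂, Reach.trans hf hR₁ hR₂, s₁ + s₂, by module⟩⟩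
        zero_mem' := ⟨⟨W.zero_mem, herm_zero_left hf e⟩, fun c x hx =>
          ⟨x, hx, reach_eq_mod hf hM he hee hx hx (s := 0) (by rw [sub_self, zero_smul]), 0, by module⟩⟩
        smul_mem' := fun r v hv => ⟨⟨W.smul_mem r hv.1.1, by rw [hf.smul_left, hv.1.2, mul_zero]⟩, fun c x hx => by
          obtain ⟨x₁, hx₁, hR₁, s₁, rfl⟩ := hv.2 (c * r) x hx
          exact ⟨_, hx₁, hR₁, s₁, by module⟩⟩ }
    have hiso : ∀ v ∈ W ⊓ perp hf (Submodule.span F {e, h}), f v v = 0 → v ∈ S := fun v hv hvv => by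
      refine ⟨⟨hv.1, hv.2 e (Submodule.subset_span (by simp))⟩, fun c x hx => ?_⟩
      have hve : f (c • v) e = 0 := by rw [hf.smul_left, hv.2 e (Submodule.subset_span (by simp)), mul_zero]
      obtain ⟨s, hs⟩ := exists_shift hf he (W.smul_mem c hv.1) hee hx hve
      refine ⟨_, hs, reach_iso hf hM he hee hx hs ?_, s, rfl⟩
      rw [show x + c • v + s • e - x = c • v + s • e by abel, hf.add_left, herm_add_right hf, herm_add_right hf,
        herm_smul_right hf s (c • v) e, hve, hf.smul_left s, hf.smul_left s, herm_smul_right hf s e e,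
        herm_swap_zero hf hve, hee, hf.smul_left, herm_smul_right hf, hvv]
      ring
    have hle := subspace_le_of_pair hf (S := S) he₁ he₁e hh₁' hh₁'h he₁h (hiso _ he₁ he₁e)
      (fun z hz hzz _ => hiso z hz hzz)
    obtain ⟨x', hx', hR, s, hs⟩ := (hle ⟨hqW, hqp⟩).2 1 h hh
    exact ⟨x', hx', hR, s, by rw [hs, one_smul]⟩
  · obtain ⟨p, hp, hpp⟩ := exists_anisotropic hf hnd (fun h0 => by rw [h0, finrank_bot] at hfr; omega)
    have hp0 : p ≠ 0 := fun h0 => hpp (by rw [h0, herm_zero_left hf])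
    have hP2' : Module.finrank F (Submodule.span F ({e, h} : Set (ι → F))) = 2 := by
      rw [← Matrix.range_cons_cons_empty e h, finrank_span_eq_card]
      · simp
      · rw [LinearIndependent.pair_iff]
        intro s t hst
        have h5 := congrArg (fun v => f v e) hst
        have h6 := congrArg (fun v => f v h) hst
        simp only [hf.add_left, hf.smul_left, hee, hh.2.1, hh.2.2, hh.left hf, herm_zero_left hf] at h5 h6
        exact ⟨by linear_combination h6, by linear_combination h5⟩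
    obtain ⟨g, hg⟩ : ∃ g : F, g • p = q := by
      obtain ⟨g, hg⟩ := exists_smul_eq_of_finrank_eq_one (K := F)
        (V := ↥(W ⊓ perp hf (Submodule.span F {e, h}))) (by omega) (x := ⟨p, hp⟩)
        (fun h0 => hp0 (congrArg Subtype.val h0)) ⟨q, hqW, hqp⟩
      exact ⟨g, congrArg Subtype.val hg⟩
    obtain ⟨x', hx', hR, s, hs⟩ :=
      reach_three hf hM hbig he he0 hp.1 hee (hp.2 e (Submodule.subset_span (by simp))) hpp hh g
    exact ⟨x', hx', hR, s, by rw [hs, hg]⟩

end Transitive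

/-! ### Generation -/

theorem det_one_add_two (u v φ ψ : ι → F) :
    (1 + vecMulVec u φ + vecMulVec v ψ).det = (1 + φ ⬝ᵥ u) * (1 + ψ ⬝ᵥ v) - (φ ⬝ᵥ v) * (ψ ⬝ᵥ u) := by
  let A : Matrix ι (Fin 2) F := Matrix.of fun i j => if j = 0 then u i else v i
  let B : Matrix (Fin 2) ι F := Matrix.of fun j i => if j = 0 then φ i else ψ i
  have hAB : 1 + vecMulVec u φ + vecMulVec v ψ = 1 + A * B := by
    rw [add_assoc]
    congr 1
    ext i j
    simp [A, B, Matrix.mul_apply, vecMulVec_apply, Fin.sum_univ_two]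
  rw [hAB, det_one_add_mul_comm, det_fin_two]
  simp [A, B, Matrix.mul_apply, Matrix.one_apply, dotProduct]

theorem apply_formula {W : Submodule F (ι → F)} (hW : IsNondegenerateOn f W) {e h : ι → F} (he : e ∈ W) (hh : h ∈ W)
    (hee : f e e = 0) (hhh : f h h = 0) (heh : f e h = 1) (hdim : Module.finrank F W ≤ 2) {g : GL ι F}
    (hg : g ∈ fixU hf W) :
    (∀ x ∈ W, x = f x h • e + f x e • h) ∧
    (g : Matrix ι ι F) = 1 + vecMulVec ((g : Matrix ι ι F) *ᵥ e - e) (hv hf h)
      + vecMulVec ((g : Matrix ι ι F) *ᵥ h - h) (hv hf e) := by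
  have hhe : f h e = 1 := by rw [hf.herm, heh, map_one]
  have hpair := isNondegenerateOn_pair hf hee hhh heh
  have hPW : Submodule.span F ({e, h} : Set (ι → F)) ≤ W := Submodule.span_le.2 (by simp [Set.insert_subset_iff, he, hh])
  have hrest : ∀ x, x - (f x h • e + f x e • h) ∈ perp hf (Submodule.span F ({e, h} : Set (ι → F))) := by
    intro x w hw
    obtain ⟨a, b, rfl⟩ := Submodule.mem_span_pair.1 hw
    simp only [herm_sub_left hf, hf.add_left, hf.smul_left, herm_add_right hf, herm_smul_right hf, hee, hhh, heh,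
      hhe]
    ring
  have hle : W ≤ Submodule.span F ({e, h} : Set (ι → F)) := by
    refine (Submodule.eq_of_le_of_finrank_le hPW (hdim.trans ?_)).symm.le
    rw [← Matrix.range_cons_cons_empty e h, finrank_span_eq_card]
    · simp
    · rw [LinearIndependent.pair_iff]
      intro s t hst
      have h5 := congrArg (fun v => f v e) hst
      have h6 := congrArg (fun v => f v h) hst
      simp only [hf.add_left, hf.smul_left, hee, hhh, heh, hhe, herm_zero_left hf] at h5 h6
      exact ⟨by linear_combination h6, by linear_combination h5⟩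
  refine ⟨fun x hx => sub_eq_zero.1 (disjoint_perp hf hpair
    (Submodule.sub_mem _ (hle hx) (Submodule.add_mem _ (Submodule.smul_mem _ _ (Submodule.subset_span (by simp)))
      (Submodule.smul_mem _ _ (Submodule.subset_span (by simp))))) (hrest x)),
    Matrix.ext_iff_mulVec.2 fun x => ?_⟩
  have h1 := hg.2 _ (fun w hw => hrest x w (hle hw))
  rw [mulVec_sub, mulVec_add, mulVec_smul, mulVec_smul] at h1
  rw [add_mulVec, add_mulVec, one_mulVec, vecMulVec_mulVec, vecMulVec_mulVec, op_smul_eq_smul, op_smul_eq_smul,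
    hv_dot, hv_dot, smul_sub, smul_sub, sub_eq_iff_eq_add.1 h1]
  abel

/-- the plane case -/
theorem mem_of_fix_two {M : Subgroup (GL ι F)} {W : Submodule F (ι → F)} (hW : IsNondegenerateOn f W)
    (hM : HasTv hf M W) (hdim : Module.finrank F W = 2) {g : GL ι F} (hg : g ∈ fixU hf W) : g ∈ M := by
  obtain ⟨e, he, he0, hee⟩ := exists_isotropic hf (W := W) hdim.ge
  obtain ⟨h, hh, hhh, heh⟩ := exists_partner_in hf hM hW he he0 hee
  have hhe : f h e = 1 := by rw [hf.herm, heh, map_one]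
  suffices hs : ∀ g : GL ι F, g ∈ fixU hf W → f ((g : Matrix ι ι F) *ᵥ e) e ≠ 0 → g ∈ M by
    by_cases h0 : f ((g : Matrix ι ι F) *ᵥ e) e = 0
    · obtain ⟨δ, hδ, hδσ⟩ := exists_trace_zero hf
      obtain ⟨s, hs', hsf⟩ := exists_tv hf hM hh hhh hδσ
      have h1 := hs _ (mul_mem hs'.2 hg) (by
        rw [gl_mul_mulVec, hsf, hf.add_left, hf.smul_left, h0, zero_add, hhe, mul_one]
        refine mul_ne_zero hδ fun h2 => gl_mulVec_eq_zero.not.2 he0 (show (g : Matrix ι ι F) *ᵥ e = 0 from ?_)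
        rw [(apply_formula hf hW he hh hee hhh heh hdim.le hg).1 _ (fix_maps hf hW hg he), h2, h0, zero_smul,
          zero_smul, add_zero])
      have h2 := M.mul_mem (M.inv_mem hs'.1) h1
      rwa [inv_mul_cancel_left] at h2
    · exact hs g hg h0
  clear hg g
  intro g hg hβ
  obtain ⟨hco, hmat⟩ := apply_formula hf hW he hh hee hhh heh hdim.le hg
  obtain ⟨u, hu⟩ : ∃ u, u = (g : Matrix ι ι F) *ᵥ e := ⟨_, rfl⟩
  obtain ⟨v, hv'⟩ : ∃ v, v = (g : Matrix ι ι F) *ᵥ h := ⟨_, rfl⟩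
  rw [← hu] at hβ hmat
  rw [← hv'] at hmat
  have huW : u ∈ W := hu ▸ fix_maps hf hW hg he
  have hvW : v ∈ W := hv' ▸ fix_maps hf hW hg hh
  obtain ⟨α, hα⟩ : ∃ α, α = f u h := ⟨_, rfl⟩
  obtain ⟨β, hβdef⟩ : ∃ β, β = f u e := ⟨_, rfl⟩
  obtain ⟨γ, hγ⟩ : ∃ γ, γ = f v h := ⟨_, rfl⟩
  obtain ⟨ε, hε⟩ : ∃ ε, ε = f v e := ⟨_, rfl⟩
  have hue : u = α • e + β • h := by rw [hα, hβdef]; exact hco u huW
  have hve : v = γ • e + ε • h := by rw [hγ, hε]; exact hco v hvW
  have huu : f u u = 0 := by rw [hu, fix_iso hf hg, hee]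
  have hvu : f v u = 1 := by rw [hv', hu, fix_iso hf hg, hhe]
  have hdet : α * ε - γ * β = 1 := by
    have h1 : (g : Matrix ι ι F).det = 1 := congrArg Units.val hg.1.2
    rw [hmat, det_one_add_two hf, hv_dot, hv_dot, hv_dot, hv_dot, herm_sub_left hf, herm_sub_left hf,
      herm_sub_left hf, herm_sub_left hf, ← hα, ← hβdef, ← hγ, ← hε, heh, hee, hhh, hhe] at h1
    linear_combination h1
  have e1 : α * σ β + β * σ α = 0 := by
    have h1 := huu
    rw [hue] at h1
    simp only [hf.add_left, herm_add_right hf, hf.smul_left, herm_smul_right hf, hee, hhh, heh, hhe] at h1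
    linear_combination h1
  have e3 : γ * σ β + ε * σ α = 1 := by
    have h1 := hvu
    rw [hue, hve] at h1
    simp only [hf.add_left, herm_add_right hf, hf.smul_left, herm_smul_right hf, hee, hhh, heh, hhe] at h1
    linear_combination h1
  have hσβ : σ β = -β := by linear_combination ε * e1 - β * e3 - σ β * hdet
  have hβ0 : β ≠ 0 := hβdef ▸ hβ
  obtain ⟨t, ht, hte, -⟩ := move_direct hf hM he huW hee huu (d := σ β)
    (by rw [hf.herm, ← hβdef]) (by simpa using hβ0) (by rw [hσβ, map_neg, hσβ])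
  obtain ⟨v', hv''⟩ : ∃ v', v' = ((t⁻¹ * g : GL ι F) : Matrix ι ι F) *ᵥ h := ⟨_, rfl⟩
  have hg' : t⁻¹ * g ∈ fixU hf W := mul_mem (inv_mem ht.2) hg
  have hge : ((t⁻¹ * g : GL ι F) : Matrix ι ι F) *ᵥ e = e := by
    rw [gl_mul_mulVec, ← hu, ← hte, gl_inv_mulVec]
  have hv'W : v' ∈ W := hv'' ▸ fix_maps hf hW hg' hh
  have hP : Partner f W e v' := ⟨hv'W, by rw [hv'', fix_iso hf hg', hhh], by
    rw [hv'']; conv_lhs => rw [← hge]
    rw [fix_iso hf hg', heh]⟩
  have hdiff : v' - h = f v' h • e := by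
    conv_lhs => rw [hco v' hv'W, hP.left hf, one_smul]
    abel
  obtain ⟨s, hs, hse, hsh⟩ := reach_eq_mod hf hM he hee ⟨hh, hhh, heh⟩ hP hdiff
  have hone : s⁻¹ * (t⁻¹ * g) = 1 := by
    have hk : s⁻¹ * (t⁻¹ * g) ∈ fixU hf W := mul_mem (inv_mem hs.2) hg'
    have h1 : ((s⁻¹ * (t⁻¹ * g) : GL ι F) : Matrix ι ι F) *ᵥ e = e := by
      rw [gl_mul_mulVec, hge]; conv_lhs => rw [← hse, gl_inv_mulVec]
    have h2 : ((s⁻¹ * (t⁻¹ * g) : GL ι F) : Matrix ι ι F) *ᵥ h = h := by
      rw [gl_mul_mulVec, ← hv'', ← hsh, gl_inv_mulVec]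
    refine Units.ext ?_
    rw [(apply_formula hf hW he hh hee hhh heh hdim.le hk).2, h1, h2, sub_self, sub_self]
    simp
  have hgm : g = t * s := by rw [inv_mul_eq_one.1 hone, mul_inv_cancel_left]
  rw [hgm]
  exact M.mul_mem ht.1 hs.1

/-- unitary transvections generate the special unitary group of a nondegenerate subspace -/
theorem mem_of_fix {M : Subgroup (GL ι F)} {W : Submodule F (ι → F)} (hW : IsNondegenerateOn f W)
    (hM : HasTv hf M W) (hgood : Module.finrank F W ≠ 3 ∨ 4 < Fintype.card F) {g : GL ι F} (hg : g ∈ fixU hf W) :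
    g ∈ M := by
  classical
  induction hn : Module.finrank F W using Nat.strong_induction_on generalizing W g with
  | _ k ih =>
  subst hn
  rcases Nat.lt_or_ge (Module.finrank F W) 3 with hlt | hge
  · rcases Nat.lt_or_ge (Module.finrank F W) 2 with hlt' | hge'
    · have hone : g = 1 := by
        by_cases hbot : W = ⊥
        · refine gl_ext_vec fun x => ?_
          rw [hg.2 x (fun w hw => ?_), Units.val_one, one_mulVec]
          have hw0 : w = 0 := (Submodule.mem_bot F).1 (hbot ▸ hw)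
          rw [hw0, herm_zero_right hf]
        obtain ⟨p, hp, hpp⟩ := exists_anisotropic hf hW hbot
        have hle : W ≤ Submodule.span F ({p} : Set (ι → F)) := by
          refine (Submodule.eq_of_le_of_finrank_le (S₂ := W) ((Submodule.span_singleton_le_iff_mem _ _).2 hp) ?_).symm.le
          rw [finrank_span_singleton (fun h0 => hpp (by rw [h0, herm_zero_left hf]))]
          omega
        obtain ⟨b, hb⟩ := Submodule.mem_span_singleton.1 (hle (fix_maps hf hW hg hp))
        have hmat : (g : Matrix ι ι F) = 1 + vecMulVec ((b - 1) • p) ((f p p)⁻¹ • hv hf p) := by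
          refine Matrix.ext_iff_mulVec.2 fun x => ?_
          have h1 := hg.2 (x - (f x p / f p p) • p) (fun w hw => by
            obtain ⟨c, rfl⟩ := Submodule.mem_span_singleton.1 (hle hw)
            rw [herm_smul_right hf, herm_sub_left hf, hf.smul_left, div_mul_cancel₀ _ hpp, sub_self, mul_zero])
          rw [mulVec_sub, mulVec_smul, ← hb] at h1
          rw [add_mulVec, one_mulVec, vecMulVec_mulVec, op_smul_eq_smul, smul_dotProduct, hv_dot,
            sub_eq_iff_eq_add.1 h1, smul_eq_mul, inv_mul_eq_div]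
          module
        have hdet : (g : Matrix ι ι F).det = 1 := congrArg Units.val hg.1.2
        rw [hmat, vecMulVec_eq Unit, det_one_add_replicateCol_mul_replicateRow, smul_dotProduct, dotProduct_smul,
          hv_dot, smul_eq_mul, smul_eq_mul, mul_comm (b - 1), inv_mul_cancel_left₀ hpp, add_sub_cancel] at hdet
        refine Units.ext ?_
        rw [hmat, hdet, sub_self, zero_smul, Units.val_one]
        ext i j
        simp [vecMulVec_apply]
      rw [hone]
      exact M.one_mem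
    · exact mem_of_fix_two hf hW hM (by omega) hg
  obtain ⟨e, he, he0, hee⟩ := exists_isotropic hf (W := W) (by omega)
  obtain ⟨h, hh, hhh, heh⟩ := exists_partner_in hf hM hW he he0 hee
  obtain ⟨t₁, ht₁, hte₁⟩ := move_iso_vec hf hM hW hge (fix_maps hf hW hg he) he
    (fun h0 => he0 (gl_mulVec_eq_zero.1 h0)) he0 (by rw [fix_iso hf hg, hee]) hee
  have hge₁ : ((t₁ * g : GL ι F) : Matrix ι ι F) *ᵥ e = e := by rw [gl_mul_mulVec, hte₁]
  have hg₁ : t₁ * g ∈ fixU hf W := mul_mem ht₁.2 hg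
  have hP : Partner f W e (((t₁ * g : GL ι F) : Matrix ι ι F) *ᵥ h) :=
    ⟨fix_maps hf hW hg₁ hh, by rw [fix_iso hf hg₁, hhh], by
      conv_lhs => rw [← hge₁]
      rw [fix_iso hf hg₁, heh]⟩
  obtain ⟨t₂, ht₂, hte₂, hth₂⟩ := move_second hf hM hW (by
    rcases hgood with h | h
    · exact Or.inl (by omega)
    · rcases Nat.lt_or_ge (Module.finrank F W) 4 with h' | h'
      · exact Or.inr ⟨by omega, h⟩
      · exact Or.inl h') he hee hP ⟨hh, hhh, heh⟩
  obtain ⟨g', hg'def⟩ : ∃ g', g' = t₂ * (t₁ * g) := ⟨_, rfl⟩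
  have hg' : g' ∈ fixU hf W := hg'def ▸ mul_mem ht₂.2 hg₁
  have hge' : (g' : Matrix ι ι F) *ᵥ e = e := by rw [hg'def, gl_mul_mulVec, hge₁, hte₂]
  have hgh' : (g' : Matrix ι ι F) *ᵥ h = h := by rw [hg'def, gl_mul_mulVec, hth₂]
  suffices hs : g' ∈ M by
    have h1 := M.mul_mem (M.inv_mem ht₁.1) (M.mul_mem (M.inv_mem ht₂.1) hs)
    rwa [hg'def, inv_mul_cancel_left, inv_mul_cancel_left] at h1
  have hfixP : ∀ x ∈ Submodule.span F ({e, h} : Set (ι → F)), (g' : Matrix ι ι F) *ᵥ x = x := fun x hx => by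
    obtain ⟨a, b, rfl⟩ := Submodule.mem_span_pair.1 hx
    rw [mulVec_add, mulVec_smul, mulVec_smul, hge', hgh']
  have hrec : ∀ P : Submodule F (ι → F), P ≤ Submodule.span F ({e, h} : Set (ι → F)) → IsNondegenerateOn f P →
      g' ∈ fixU hf (W ⊓ perp hf P) := by
    intro P hP hPn
    refine ⟨hg'.1, fun x hx => ?_⟩
    obtain ⟨p, hp, hxp⟩ := exists_decomp hf hPn x
    have h1 : x - p ∈ perp hf W := fun w hw => by
      obtain ⟨q, hq, hwq⟩ := exists_decomp hf hPn w
      have hPW : P ≤ W := hP.trans (Submodule.span_le.2 (by simp [Set.insert_subset_iff, he, hh]))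
      have h2 : f (x - p) (w - q) = 0 := by
        rw [herm_sub_left hf, hx _ ⟨W.sub_mem hw (hPW hq), hwq⟩, herm_swap_zero hf (hwq p hp), sub_zero]
      rw [show w = q + (w - q) by abel, herm_add_right hf, hxp q hq, h2, add_zero]
    have h2 := hg'.2 _ h1
    rw [mulVec_sub, hfixP p (hP hp)] at h2
    exact sub_left_inj.1 h2
  have hpair := isNondegenerateOn_pair hf hee hhh heh
  have hPW : Submodule.span F ({e, h} : Set (ι → F)) ≤ W := Submodule.span_le.2 (by simp [Set.insert_subset_iff, he, hh])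
  obtain ⟨hnd, hfr⟩ := sub_perp hf hW hpair hPW
  have hpos : 1 ≤ Module.finrank F (Submodule.span F ({e, h} : Set (ι → F))) := by
    rw [Nat.one_le_iff_ne_zero]
    intro h0
    exact he0 ((Submodule.mem_bot F).1 (Submodule.finrank_eq_zero.1 h0 ▸ Submodule.subset_span (by simp)))
  by_cases hok : Module.finrank F ↥(W ⊓ perp hf (Submodule.span F ({e, h} : Set (ι → F)))) ≠ 3 ∨ 4 < Fintype.card F
  · exact ih _ (by omega) hnd (fun u hu huu c hc => hM u hu.1 huu c hc) hok (hrec _ le_rfl hpair) rfl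
  -- enlarge by an anisotropic vector of the pair
  push Not at hok
  obtain ⟨a, ha, haa⟩ := exists_anisotropic hf hpair (fun h0 => by rw [h0, finrank_bot] at hpos; omega)
  have haP : Submodule.span F ({a} : Set (ι → F)) ≤ Submodule.span F {e, h} :=
    (Submodule.span_singleton_le_iff_mem _ _).2 ha
  obtain ⟨hnd', hfr'⟩ := sub_perp hf hW (isNondegenerateOn_singleton hf haa) (haP.trans hPW)
  have ha1 : Module.finrank F (Submodule.span F ({a} : Set (ι → F))) = 1 :=
    finrank_span_singleton fun h0 => haa (by rw [h0, herm_zero_left hf])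
  have hP2 : Module.finrank F (Submodule.span F ({e, h} : Set (ι → F))) = 2 := by
    rw [← Matrix.range_cons_cons_empty e h, finrank_span_eq_card]
    · simp
    · rw [LinearIndependent.pair_iff]
      intro s t hst
      have h5 := congrArg (fun v => f v e) hst
      have h6 := congrArg (fun v => f v h) hst
      simp only [hf.add_left, hf.smul_left, hee, hhh, heh, show f h e = 1 by rw [hf.herm, heh, map_one],
        herm_zero_left hf] at h5 h6
      exact ⟨by linear_combination h6, by linear_combination h5⟩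
  exact ih _ (by omega) hnd' (fun u hu huu c hc => hM u hu.1 huu c hc) (Or.inl (by omega))
    (hrec _ haP (isNondegenerateOn_singleton hf haa)) rfl

/-- a group containing all unitary transvections contains the special unitary group -/
theorem isoU_inf_SL_le {M : Subgroup (GL ι F)} (hM : HasTv hf M ⊤) (hn : 4 ≤ Fintype.card ι ∨ 4 < Fintype.card F) :
    isoU f ⊓ specialLinear ι F ≤ M := fun g hg =>
  mem_of_fix hf (isNondegenerateOn_top hf) hM (hn.imp (fun h => by
    rw [finrank_top, Module.finrank_fintype_fun_eq_card]; omega) id)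
    ⟨⟨hg.1, hg.2⟩, fun x hx => by
      have hx0 : x = 0 := by
        by_contra hne
        obtain ⟨y, hy⟩ := (hf.nondegenerate x hne).2
        exact hy (hx y Submodule.mem_top)
      rw [hx0, mulVec_zero]⟩

end CfsgLib.Perm.Trans.Unit
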