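import Cfsg.Agent.Lib.Perm.Trans.UnitDecomp.Arith

/-!
# Two tori in a hyperbolic plane

A group of isometries containing the quasi-reflections of two anisotropic vectors of a plane, neither proportional
nor orthogonal, up to scalars on a further line, contains every unitary transvection of the plane.
-/

set_option autoImplicit false
set_option linter.all false

namespace CfsgLib.Perm.Trans.Unit

open scoped Matrix
open Matrix Cfsg.Geo CfsgLib.Perm.Asch CfsgLib.Perm.Trans

variable {ι : Type} [Fintype ι] [DecidableEq ι] {F : Type*} [Field F] [Fintype F]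
variable {σ : F ≃+* F} {f : (ι → F) → (ι → F) → F}
variable (hf : IsUnitaryForm σ f)

/-- `g` fixes the orthogonal of `P`, up to a scalar on `l` -/
def OffAct (P : Submodule F (ι → F)) (l : ι → F) (g : GL ι F) (m : F) : Prop :=
  m ≠ 0 ∧ ∀ x, (∀ p ∈ P, f x p = 0) → (g : Matrix ι ι F) *ᵥ x = x + ((m - 1) / f l l * f x l) • l

/-- `M` contains the quasi-reflections of `a` on `P` -/
def RefAct (M : Subgroup (GL ι F)) (P : Submodule F (ι → F)) (l a : ι → F) : Prop :=
  ∀ u ∈ circ σ, ∃ g ∈ M, (∃ m, OffAct (f := f) P l g m) ∧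
    ∀ x ∈ P, (g : Matrix ι ι F) *ᵥ x = x + (((u : F) - 1) / f a a * f x a) • a

include hf

theorem offAct_mul {P : Submodule F (ι → F)} {l : ι → F} (hl : ∀ p ∈ P, f l p = 0) (hll : f l l ≠ 0)
    {g h : GL ι F} {m n : F} (hg : OffAct (f := f) P l g m) (hh : OffAct (f := f) P l h n) :
    OffAct (f := f) P l (g * h) (m * n) := by
  refine ⟨mul_ne_zero hg.1 hh.1, fun x hx => ?_⟩
  rw [gl_mul_mulVec, hh.2 x hx, mulVec_add, mulVec_smul, hg.2 x hx, hg.2 l hl, smul_add, smul_smul,
    div_mul_cancel₀ _ hll, add_assoc, ← add_smul, ← add_smul]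
  congr 2
  field_simp
  ring

theorem offAct_pow {P : Submodule F (ι → F)} {l : ι → F} (hl : ∀ p ∈ P, f l p = 0) (hll : f l l ≠ 0)
    {g : GL ι F} {m : F} (hg : OffAct (f := f) P l g m) (j : ℕ) : OffAct (f := f) P l (g ^ j) (m ^ j) := by
  induction j with
  | zero => exact ⟨by simp, fun x _ => by simp⟩
  | succ j ih => rw [pow_succ, pow_succ]; exact offAct_mul hf hl hll ih hg

theorem offAct_inv {P : Submodule F (ι → F)} {l : ι → F} (hl : ∀ p ∈ P, f l p = 0) (hll : f l l ≠ 0)
    {g : GL ι F} {m : F} (hg : OffAct (f := f) P l g m) : OffAct (f := f) P l g⁻¹ m⁻¹ := by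
  refine ⟨inv_ne_zero hg.1, fun x hx => ?_⟩
  have h1 : (g : Matrix ι ι F) *ᵥ (x + ((m⁻¹ - 1) / f l l * f x l) • l) = x := by
    rw [mulVec_add, mulVec_smul, hg.2 x hx, hg.2 l hl, smul_add, smul_smul, div_mul_cancel₀ _ hll, add_assoc,
      ← add_smul, ← add_smul, add_eq_left]
    refine smul_eq_zero.2 (Or.inl ?_)
    field_simp [hg.1]
    ring
  conv_lhs => rw [← h1, gl_inv_mulVec]

section Plane

variable {M : Subgroup (GL ι F)} (hM : M ≤ isoU f) {P : Submodule F (ι → F)} {v e l : ι → F}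
  (hP : P = Submodule.span F {v, e}) (hvv : f v v ≠ 0) (hee : f e e ≠ 0) (hve : f v e = 0)
  (hll : f l l ≠ 0) (hl : ∀ p ∈ P, f l p = 0)

/-- the elements in question -/
def InK (M : Subgroup (GL ι F)) (f : (ι → F) → (ι → F) → F) (P : Submodule F (ι → F)) (l : ι → F)
    (g : GL ι F) : Prop :=
  g ∈ M ∧ ∃ m, OffAct (f := f) P l g m

/-- the parameters of isotropic points -/
abbrev Rt (f : (ι → F) → (ι → F) → F) (σ : F ≃+* F) (v e : ι → F) (x : F) : Prop :=
  x * σ x * f e e + f v v = 0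

include hl hll

theorem inK_mul {g h : GL ι F} (hg : InK M f P l g) (hh : InK M f P l h) : InK M f P l (g * h) := by
  obtain ⟨hgM, m, hm⟩ := hg
  obtain ⟨hhM, n, hn⟩ := hh
  exact ⟨M.mul_mem hgM hhM, _, offAct_mul hf hl hll hm hn⟩

theorem inK_inv {g : GL ι F} (hg : InK M f P l g) : InK M f P l g⁻¹ := by
  obtain ⟨hgM, m, hm⟩ := hg
  exact ⟨M.inv_mem hgM, _, offAct_inv hf hl hll hm⟩

include hP hvv hee hve

omit hl hll in
theorem plane_decomp (x : ι → F) :
    ∀ p ∈ P, f (x - ((f x v / f v v) • v + (f x e / f e e) • e)) p = 0 := by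
  intro p hp
  rw [hP] at hp
  obtain ⟨a, b, rfl⟩ := Submodule.mem_span_pair.1 hp
  simp only [herm_sub_left hf, hf.add_left, hf.smul_left, herm_add_right hf, herm_smul_right hf, hve,
    herm_swap_zero hf hve]
  field_simp
  ring

omit hl hll in
theorem plane_coord {x : ι → F} (hx : x ∈ P) : x = (f x v / f v v) • v + (f x e / f e e) • e := by
  rw [hP] at hx
  obtain ⟨a, b, rfl⟩ := Submodule.mem_span_pair.1 hx
  simp only [hf.add_left, hf.smul_left, hve, herm_swap_zero hf hve, mul_zero, add_zero, zero_add,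
    mul_div_cancel_right₀ _ hvv, mul_div_cancel_right₀ _ hee]

include hM

theorem inK_maps {g : GL ι F} (hg : InK M f P l g) {x : ι → F} (hx : x ∈ P) :
    (g : Matrix ι ι F) *ᵥ x ∈ P := by
  obtain ⟨m, hm⟩ := (inK_inv hf hll hl hg).2
  set y := (g : Matrix ι ι F) *ᵥ x with hy
  have hd := plane_decomp hf hP hvv hee hve y
  set p := (f y v / f v v) • v + (f y e / f e e) • e with hp
  have hpP : p ∈ P := by
    rw [hP]
    exact Submodule.mem_span_pair.2 ⟨_, _, hp.symm⟩
  have h0 : y - p = 0 := by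
    by_contra hne
    obtain ⟨z, hz⟩ := (hf.nondegenerate _ hne).2
    refine hz ?_
    have hq := plane_decomp hf hP hvv hee hve z
    set r := (f z v / f v v) • v + (f z e / f e e) • e with hr
    have hrP : r ∈ P := by
      rw [hP]
      exact Submodule.mem_span_pair.2 ⟨_, _, hr.symm⟩
    have h1 : f y (z - r) = 0 := by
      have h3 : f x (((g⁻¹ : GL ι F) : Matrix ι ι F) *ᵥ (z - r)) = 0 := by
        refine herm_swap_zero hf ?_
        rw [hm.2 _ hq, hf.add_left, hf.smul_left, hq x hx, hl x hx, mul_zero, add_zero]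
      rw [← mem_isoU.1 (hM hg.1), gl_mulVec_inv] at h3
      exact h3
    rw [show z = r + (z - r) by abel, herm_add_right hf, hd r hrP, herm_sub_left hf, h1,
      herm_swap_zero hf (hq p hpP), sub_zero, add_zero]
  rw [sub_eq_zero.1 h0]
  exact hpP

omit hM hl hll hP hve in
theorem rt_ne_zero {x : F} (hx : Rt f σ v e x) : x ≠ 0 := fun h => hvv (by
  rw [Rt, h, zero_mul, zero_mul, zero_add] at hx; exact hx)

omit hM hl hll hP in
theorem form_pts (x y : F) : f (v + x • e) (v + y • e) = f v v + x * σ y * f e e := by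
  simp only [hf.add_left, herm_add_right hf, hf.smul_left, herm_smul_right hf, hve, herm_swap_zero hf hve]
  ring

omit hM hl hll in
theorem pt_mem (x : F) : v + x • e ∈ P := by
  rw [hP]
  exact Submodule.mem_span_pair.2 ⟨1, x, by rw [one_smul]⟩

omit hM hl hll hP hvv in
theorem pt_smul_inj {a b x y : F} (h : a • (v + x • e) = b • (v + y • e)) (hvv : f v v ≠ 0) :
    a = b ∧ a * x = b * y := by
  have h1 := congrArg (fun z => f z v) h
  have h2 := congrArg (fun z => f z e) h
  simp only [hf.smul_left, hf.add_left, hve, herm_swap_zero hf hve, mul_zero, add_zero, zero_add] at h1 h2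
  exact ⟨mul_right_cancel₀ hvv h1, mul_right_cancel₀ hee (by linear_combination h2)⟩

omit hM hl hll in
theorem iso_pt {z : ι → F} (hz : z ∈ P) (hzz : f z z = 0) (hz0 : z ≠ 0) :
    ∃ a x : F, a ≠ 0 ∧ Rt f σ v e x ∧ z = a • (v + x • e) := by
  have hc := plane_coord hf hP hvv hee hve hz
  generalize f z v / f v v = a at hc
  generalize f z e / f e e = b at hc
  have h1 : a * σ a * f v v + b * σ b * f e e = 0 := by
    rw [hc] at hzz
    simp only [hf.add_left, herm_add_right hf, hf.smul_left, herm_smul_right hf, hve, herm_swap_zero hf hve] at hzz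
    linear_combination hzz
  have ha : a ≠ 0 := by
    intro ha
    rw [ha] at h1
    simp only [zero_mul, zero_add, mul_eq_zero, hee, or_false, map_eq_zero] at h1
    exact hz0 (by rw [hc, ha, h1.elim id id, zero_smul, zero_smul, add_zero])
  have hσa : σ a ≠ 0 := by simpa using ha
  refine ⟨a, b / a, ha, ?_, by rw [hc, smul_add, smul_smul, mul_div_cancel₀ _ ha]⟩
  rw [Rt, map_div₀]
  field_simp
  linear_combination h1

/-- `g` sends the point `x` to the point `y` -/
def Sends (g : GL ι F) (v e : ι → F) (x y : F) : Prop :=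
  ∃ a : F, a ≠ 0 ∧ (g : Matrix ι ι F) *ᵥ (v + x • e) = a • (v + y • e)

omit hf hM hP hvv hee hve hll hl in
theorem Sends.trans {g h : GL ι F} {v e : ι → F} {x y z : F} (h1 : Sends h v e x y) (h2 : Sends g v e y z) :
    Sends (g * h) v e x z := by
  obtain ⟨a, ha, h1⟩ := h1
  obtain ⟨b, hb, h2⟩ := h2
  exact ⟨a * b, mul_ne_zero ha hb, by rw [gl_mul_mulVec, h1, mulVec_smul, h2, smul_smul]⟩

omit hf hM hP hvv hee hve hll hl in
theorem Sends.symm {g : GL ι F} {v e : ι → F} {x y : F} (h : Sends g v e x y) : Sends g⁻¹ v e y x := by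
  obtain ⟨a, ha, h⟩ := h
  refine ⟨a⁻¹, inv_ne_zero ha, ?_⟩
  have h1 := congrArg (fun z => ((g⁻¹ : GL ι F) : Matrix ι ι F) *ᵥ z) h
  simp only [gl_inv_mulVec, mulVec_smul] at h1
  conv_rhs => rw [h1, smul_smul, inv_mul_cancel₀ ha, one_smul]

omit hM hl hll hP in
theorem Sends.unique {g : GL ι F} {x y y' : F} (h : Sends g v e x y) (h' : Sends g v e x y') : y = y' := by
  obtain ⟨a, ha, h⟩ := h
  obtain ⟨b, hb, h'⟩ := h'
  obtain ⟨hab, h1⟩ := pt_smul_inj hf hee hve (h.symm.trans h') hvv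
  exact mul_left_cancel₀ ha (h1.trans (by rw [hab]))

theorem inK_sends {g : GL ι F} (hg : InK M f P l g) {x : F} (hx : Rt f σ v e x) :
    ∃ y, Rt f σ v e y ∧ Sends g v e x y := by
  have hz0 : v + x • e ≠ 0 := fun h => hvv (by
    have h1 := congrArg (fun z => f z v) h
    simpa only [hf.add_left, hf.smul_left, herm_swap_zero hf hve, mul_zero, add_zero, herm_zero_left hf] using h1)
  obtain ⟨a, y, ha, hy, e'⟩ := iso_pt hf hP hvv hee hve
    (inK_maps hf hM hP hvv hee hve hll hl hg (pt_mem hf hP hvv hee hve x))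
    (by rw [mem_isoU.1 (hM hg.1), form_pts hf hvv hee hve]; linear_combination hx)
    (fun h => hz0 (gl_mulVec_eq_zero.1 h))
  exact ⟨y, hy, a, ha, e'⟩

/-- an element of `K` inducing a transvection gives one -/
theorem has_of_unipotent {g : GL ι F} (hgM : g ∈ M) (hgoff : OffAct (f := f) P l g 1) {x y : F}
    (hx : Rt f σ v e x) (hy : Rt f σ v e y) (hxy : x ≠ y)
    (hgx : (g : Matrix ι ι F) *ᵥ (v + x • e) = v + x • e) {c : F} (hc : c ≠ 0)
    (hgy : (g : Matrix ι ι F) *ᵥ (v + y • e) = v + y • e + c • (v + x • e)) :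
    ∃ d, d ≠ 0 ∧ σ d = -d ∧ Has M (v + x • e) (d • hv hf (v + x • e)) := by
  have hzz : f (v + x • e) (v + x • e) = 0 := by
    rw [form_pts hf hvv hee hve]; linear_combination hx
  have hyy : f (v + y • e) (v + y • e) = 0 := by
    rw [form_pts hf hvv hee hve]; linear_combination hy
  have hx0 := rt_ne_zero hf hvv hee hx
  have hyx : f (v + y • e) (v + x • e) ≠ 0 := by
    rw [form_pts hf hvv hee hve]
    intro h
    have : (x - y) * f v v = 0 := by linear_combination x * h - y * hx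
    rcases mul_eq_zero.1 this with h' | h'
    · exact hxy (sub_eq_zero.1 h')
    · exact hvv h'
  set z := v + x • e with hz
  obtain ⟨d, hd⟩ : ∃ d, d = c / f (v + y • e) z := ⟨_, rfl⟩
  have hd0 : d ≠ 0 := hd ▸ div_ne_zero hc hyx
  have h0 := utv_orth hf hzz d
  refine ⟨d, hd0, ?_, h0, ?_⟩
  · obtain ⟨Yv, hYv⟩ : ∃ Yv, Yv = v + y • e := ⟨_, rfl⟩
    rw [← hYv] at hgy hyy hyx hd
    have h1 := mem_isoU.1 (hM hgM) Yv Yv
    rw [hgy, hf.add_left, herm_add_right hf, herm_add_right hf, hf.smul_left, hf.smul_left, herm_smul_right hf,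
      herm_smul_right hf, hyy, hzz, hf.herm z Yv] at h1
    have h2 : σ (f Yv z) ≠ 0 := by simpa using hyx
    rw [hd, map_div₀, ← neg_div, div_eq_div_iff h2 hyx]
    linear_combination h1
  · suffices hs : tv z (d • hv hf z) h0 = g by rw [hs]; exact hgM
    refine gl_ext_vec fun w => ?_
    rw [tv_mulVec, smul_dotProduct, hv_dot, smul_eq_mul]
    obtain ⟨p, hp⟩ : ∃ p, p = (f w v / f v v) • v + (f w e / f e e) • e := ⟨_, rfl⟩
    have hd' := plane_decomp hf hP hvv hee hve w
    rw [← hp] at hd'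
    obtain ⟨s, t, hst⟩ : ∃ s t : F, p = s • z + t • (v + y • e) := by
      obtain ⟨t, ht⟩ : ∃ t, t = (f w e / f e e - x * (f w v / f v v)) / (y - x) := ⟨_, rfl⟩
      have hd0' : y - x ≠ 0 := sub_ne_zero.2 (Ne.symm hxy)
      refine ⟨f w v / f v v - t, t, ?_⟩
      rw [hp, hz]
      have he : f w e / f e e = (f w v / f v v - t) * x + t * y := by
        rw [ht]; field_simp; ring
      rw [he]
      module
    have hpP : p ∈ P := by rw [hp, hP]; exact Submodule.mem_span_pair.2 ⟨_, _, rfl⟩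
    have hfp : f w z = t * f (v + y • e) z := by
      have h1 : f (w - p) z = 0 := hd' z (pt_mem hf hP hvv hee hve x)
      rw [herm_sub_left hf, sub_eq_zero] at h1
      rw [h1, hst, hf.add_left, hf.smul_left, hf.smul_left, hzz, mul_zero, zero_add]
    conv_rhs => rw [show w = p + (w - p) by abel, mulVec_add, hgoff.2 _ hd', hst, mulVec_add, mulVec_smul,
      mulVec_smul, hgx, hgy]
    rw [hfp, hd, ← hst]
    have hcc : c / f (v + y • e) z * (t * f (v + y • e) z) = t * c := by field_simp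
    rw [hcc, hst]
    simp only [sub_self, zero_div, zero_mul, zero_smul, add_zero]
    module

variable {w : ι → F} {α : F} (hα : α ≠ 0) (hw : w = α • v + e) (hww : f w w ≠ 0)
  (hRv : RefAct (σ := σ) (f := f) M P l v) (hRw : RefAct (σ := σ) (f := f) M P l w)

include hα hw hww hRv hRw

theorem exists_rot (u : Fˣ) (hu : u ∈ circ σ) :
    ∃ g, InK M f P l g ∧ ∀ x, (g : Matrix ι ι F) *ᵥ (v + x • e) =
      (u : F) • (v + ((x / (u : F))) • e) := by
  obtain ⟨g, hg, hoff, hgx⟩ := hRv u hu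
  refine ⟨g, ⟨hg, hoff⟩, fun x => ?_⟩
  rw [hgx _ (pt_mem hf hP hvv hee hve x), hf.add_left, hf.smul_left, herm_swap_zero hf hve, mul_zero, add_zero,
    div_mul_cancel₀ _ hvv, smul_add, smul_smul, mul_div_cancel₀ _ u.ne_zero, sub_smul, one_smul]
  abel

theorem exists_rot_to {x y : F} (hx : Rt f σ v e x) (hy : Rt f σ v e y) :
    ∃ g, InK M f P l g ∧ ∀ z, Sends g v e z (z * (y / x)) := by
  have hx0 := rt_ne_zero hf hvv hee hx
  have hy0 := rt_ne_zero hf hvv hee hy
  obtain ⟨u, hu, hux⟩ := exists_circ (σ := σ) (x := x / y) (by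
    have h : (x * σ x - y * σ y) * f e e = 0 := by linear_combination hx - hy
    have h' : x * σ x = y * σ y := sub_eq_zero.1 ((mul_eq_zero.1 h).resolve_right hee)
    have hσy : σ y ≠ 0 := by simpa using hy0
    rw [map_div₀, div_mul_div_comm, h', div_self (mul_ne_zero hy0 hσy)])
  obtain ⟨g, hg, hgx⟩ := exists_rot hf hM hP hvv hee hve hll hl hα hw hww hRv hRw u hu
  refine ⟨g, hg, fun z => ⟨(u : F), u.ne_zero, ?_⟩⟩
  rw [hgx, hux, div_div_eq_mul_div, mul_div_assoc]

/-- some point carries a transvection -/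
theorem exists_transvection :
    ∃ x, Rt f σ v e x ∧ ∃ d, d ≠ 0 ∧ σ d = -d ∧ Has M (v + x • e) (d • hv hf (v + x • e)) := by
  classical
  by_contra hcon
  push Not at hcon
  -- a torus element at `w`
  have hfvw : f v w = σ α * f v v := by
    rw [hw, herm_add_right hf, herm_smul_right hf, hve, add_zero]
  have hfew : f e w = f e e := by
    rw [hw, herm_add_right hf, herm_smul_right hf, herm_swap_zero hf hve, mul_zero, zero_add]
  have hσα : σ α ≠ 0 := by simpa using hα
  obtain ⟨η, hη, hη1, hηA⟩ : ∃ η ∈ circ σ, (η : F) ≠ 1 ∧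
      1 + ((η : F) - 1) / f w w * f v w * α ≠ 0 := by
    obtain ⟨η, hη, h⟩ := exists_circ_notMem (σ := σ) (s := {1, 1 - f w w / (f v w * α)})
      (lt_of_le_of_lt Finset.card_le_two (three_le_circ hf))
    simp only [Finset.mem_insert, Finset.mem_singleton, not_or] at h
    refine ⟨η, hη, h.1, fun h0 => h.2 ?_⟩
    have hne : f v w * α ≠ 0 := mul_ne_zero (hfvw ▸ mul_ne_zero hσα hvv) hα
    field_simp at h0
    rw [eq_sub_iff_add_eq, ← eq_sub_iff_add_eq', div_eq_iff hne]
    linear_combination h0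
  obtain ⟨R, hRM, hRoff, hR⟩ := hRw η hη
  have hRK : InK M f P l R := ⟨hRM, hRoff⟩
  obtain ⟨c, hc⟩ : ∃ c, c = ((η : F) - 1) / f w w * f v w := ⟨_, rfl⟩
  obtain ⟨c', hc'⟩ : ∃ c', c' = ((η : F) - 1) / f w w * f e w := ⟨_, rfl⟩
  rw [← hc] at hηA
  have hc0 : c ≠ 0 := hc ▸ mul_ne_zero (div_ne_zero (sub_ne_zero.2 hη1) hww) (hfvw ▸ mul_ne_zero hσα hvv)
  have hRz : ∀ x, (R : Matrix ι ι F) *ᵥ (v + x • e) =
      (1 + c * α + x * (c' * α)) • v + (c + x * (1 + c')) • e := by
    intro x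
    rw [hR _ (pt_mem hf hP hvv hee hve x), hf.add_left, hf.smul_left,
      show ((η : F) - 1) / f w w * (f v w + x * f e w) = c + x * c' by rw [hc, hc']; ring, hw]
    module
  have hratio : ∀ {x y}, Sends R v e x y → c + x * (1 + c') = y * (1 + c * α + x * (c' * α)) := by
    intro x y h
    obtain ⟨a, -, h⟩ := h
    rw [hRz] at h
    have h1 := congrArg (fun z => f z v) h
    have h2 := congrArg (fun z => f z e) h
    simp only [hf.smul_left, hf.add_left, hve, herm_swap_zero hf hve, mul_zero, add_zero, zero_add] at h1 h2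
    have h1' := mul_right_cancel₀ hvv h1
    have h2' : c + x * (1 + c') = a * y := mul_right_cancel₀ hee (by linear_combination h2)
    rw [h1', h2']
    ring
  obtain ⟨C, hC⟩ := exists_norm hf (d := -f v v / f e e) (by rw [map_div₀, map_neg, ← hf.herm, ← hf.herm])
  have hCrt : Rt f σ v e C := by
    rw [Rt, hC, div_mul_cancel₀ _ hee, neg_add_cancel]
  have hC0 := rt_ne_zero hf hvv hee hCrt
  have hpts : ∀ u ∈ circ σ, Rt f σ v e (C * (u : F)) := fun u hu => by
    have hu' : (u : F) * σ u = 1 := hu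
    unfold Rt at hCrt ⊢
    rw [map_mul]
    linear_combination hCrt + C * σ C * f e e * hu'
  have hinf : ∀ {a b d : F}, (∀ x, Rt f σ v e x → a + b * x + d * x ^ 2 = 0) → a = 0 ∧ b = 0 ∧ d = 0 := by
    intro a b d h
    obtain ⟨h1, h2, h3⟩ := quad_circ_zero (σ := σ) (a := a) (b := b * C) (c := d * C ^ 2) (three_le_circ hf)
      (fun u hu => by linear_combination h _ (hpts u hu))
    exact ⟨h1, (mul_eq_zero.1 h2).resolve_right hC0, (mul_eq_zero.1 h3).resolve_right (pow_ne_zero 2 hC0)⟩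
  -- a stabiliser element moving a point
  obtain ⟨x₁, hx₁, hx₁s⟩ := inK_sends hf hM hP hvv hee hve hll hl hRK hCrt
  obtain ⟨S, hS, hSx⟩ := exists_rot_to hf hM hP hvv hee hve hll hl hα hw hww hRv hRw hx₁ hCrt
  have hx₁0 := rt_ne_zero hf hvv hee hx₁
  obtain ⟨k, hkdef⟩ : ∃ k, k = S * R := ⟨_, rfl⟩
  have hk : InK M f P l k := hkdef ▸ inK_mul hf hll hl hS hRK
  have hkC : Sends k v e C C := hkdef ▸ hx₁s.trans (by simpa [mul_div_cancel₀ _ hx₁0] using hSx x₁)
  obtain ⟨X, hX, hkX⟩ : ∃ X, Rt f σ v e X ∧ ¬ Sends k v e X X := by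
    by_contra hall
    push Not at hall
    refine hc0 (hinf (a := c) (b := 1 + c' - x₁ / C * (1 + c * α)) (d := -(x₁ / C * (c' * α))) fun x hx => ?_).1
    obtain ⟨y, -, hys⟩ := inK_sends hf hM hP hvv hee hve hll hl hRK hx
    have h1 := Sends.unique hf hvv hee hve (hys.trans (hSx y)) (hkdef ▸ hall x hx)
    have hy : y = x * (x₁ / C) := by
      field_simp at h1 ⊢
      linear_combination h1
    have h2 := hratio hys
    rw [hy] at h2
    linear_combination h2
  -- `k` in a basis of fixed points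
  obtain ⟨a, ha, hka⟩ := hkC
  have hXC : X ≠ C := fun h => hkX (h ▸ ⟨a, ha, hka⟩)
  have hCX : (C : F) - X ≠ 0 := sub_ne_zero.2 hXC.symm
  obtain ⟨b, a', hkb⟩ : ∃ b a' : F,
      (k : Matrix ι ι F) *ᵥ (v + X • e) = b • (v + C • e) + a' • (v + X • e) := by
    have hc'' := plane_coord hf hP hvv hee hve
      (inK_maps hf hM hP hvv hee hve hll hl hk (pt_mem hf hP hvv hee hve X))
    generalize f ((k : Matrix ι ι F) *ᵥ (v + X • e)) v / f v v = s at hc''
    generalize f ((k : Matrix ι ι F) *ᵥ (v + X • e)) e / f e e = t at hc''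
    refine ⟨(t - s * X) / (C - X), s - (t - s * X) / (C - X), hc''.trans ?_⟩
    have ht : t = (t - s * X) / (C - X) * C + (s - (t - s * X) / (C - X)) * X := by field_simp; ring
    conv_lhs => rw [ht]
    module
  have hCC : f (v + C • e) (v + C • e) = 0 := by rw [form_pts hf hvv hee hve]; linear_combination hCrt
  have hXX : f (v + X • e) (v + X • e) = 0 := by rw [form_pts hf hvv hee hve]; linear_combination hX
  have hCX' : f (v + C • e) (v + X • e) ≠ 0 := by
    rw [form_pts hf hvv hee hve]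
    intro h
    have : (X - C) * f v v = 0 := by linear_combination X * h - C * hX
    rcases mul_eq_zero.1 this with h' | h'
    · exact hXC (sub_eq_zero.1 h')
    · exact hvv h'
  have haa' : a * σ a' = 1 := by
    have h := mem_isoU.1 (hM hk.1) (v + C • e) (v + X • e)
    rw [hka, hkb, hf.smul_left, herm_add_right hf, herm_smul_right hf, herm_smul_right hf, hCC, mul_zero,
      zero_add, ← mul_assoc] at h
    exact (mul_eq_right₀ hCX').1 h
  have ha' : a' ≠ 0 := fun h => by rw [h, map_zero, mul_zero] at haa'; exact zero_ne_one haa'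
  obtain ⟨m, hm⟩ := hk.2
  by_cases haeq : a = a'
  · subst haeq
    have hb : b ≠ 0 := fun hb => hkX ⟨a, ha, by rw [hkb, hb, zero_smul, zero_add]⟩
    have hpow : ∀ j : ℕ, ((k ^ j : GL ι F) : Matrix ι ι F) *ᵥ (v + C • e) = a ^ j • (v + C • e) ∧
        ((k ^ j : GL ι F) : Matrix ι ι F) *ᵥ (v + X • e) =
          a ^ j • (v + X • e) + (a ^ j * ((j : F) * b / a)) • (v + C • e) := by
      intro j
      induction j with
      | zero => simp
      | succ j ih =>
        rw [pow_succ, gl_mul_mulVec, gl_mul_mulVec, hka, hkb, mulVec_smul, ih.1, mulVec_add, mulVec_smul,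
          mulVec_smul, ih.1, ih.2]
        refine ⟨by rw [smul_smul, pow_succ, mul_comm], ?_⟩
        rw [Nat.cast_succ, pow_succ]
        match_scalars <;> field_simp <;> ring
    have hcard : 1 < Fintype.card F := Fintype.one_lt_card
    have ha1 := FiniteField.pow_card_sub_one_eq_one a ha
    have hcast : ((Fintype.card F - 1 : ℕ) : F) = -1 := by
      rw [Nat.cast_sub hcard.le, FiniteField.cast_card_eq_zero, Nat.cast_one, zero_sub]
    obtain ⟨h1, h2⟩ := hpow (Fintype.card F - 1)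
    rw [ha1, one_smul] at h1
    rw [ha1, one_smul, hcast, one_mul] at h2
    have hoff := offAct_pow hf hl hll hm (Fintype.card F - 1)
    rw [FiniteField.pow_card_sub_one_eq_one m hm.1] at hoff
    obtain ⟨d, hd0, hdσ, hd⟩ := has_of_unipotent hf hM hP hvv hee hve hll hl (M.pow_mem hk.1 _) hoff hCrt hX
      hXC.symm h1 (c := -1 * b / a) (div_ne_zero (mul_ne_zero (neg_ne_zero.2 one_ne_zero) hb) ha) h2
    exact hcon C hCrt d hd0 hdσ hd
  -- the second fixed point
  obtain ⟨g₀, hg₀⟩ : ∃ g₀, g₀ = b / (a' - a) := ⟨_, rfl⟩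
  obtain ⟨Yv, hYdef⟩ : ∃ Yv, Yv = v + X • e + g₀ • (v + C • e) := ⟨_, rfl⟩
  have hne : a' - a ≠ 0 := sub_ne_zero.2 (Ne.symm haeq)
  have hkY : (k : Matrix ι ι F) *ᵥ Yv = a' • Yv := by
    rw [hYdef, mulVec_add, mulVec_smul, hka, hkb]
    have hb : b = g₀ * (a' - a) := by rw [hg₀, div_mul_cancel₀ _ hne]
    rw [hb]
    module
  have hYY : f Yv Yv = 0 := by
    have h := mem_isoU.1 (hM hk.1) Yv Yv
    rw [hkY, hf.smul_left, herm_smul_right hf, ← mul_assoc] at h
    by_contra h0
    have h1 := (mul_eq_right₀ h0).1 h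
    have h2 : σ a' ≠ 0 := by simpa using ha'
    exact haeq (mul_right_cancel₀ h2 (haa'.trans h1.symm))
  have hYP : Yv ∈ P := hYdef ▸ P.add_mem (pt_mem hf hP hvv hee hve X) (P.smul_mem _ (pt_mem hf hP hvv hee hve C))
  have hY0 : Yv ≠ 0 := by
    intro h
    rw [hYdef] at h
    have h1 := congrArg (fun z => f z (v + C • e)) h
    rw [hf.add_left, hf.smul_left, hCC, mul_zero, add_zero, herm_zero_left hf] at h1
    exact hCX' (herm_swap_zero hf h1)
  obtain ⟨s, Y, hs, hY, hYe⟩ := iso_pt hf hP hvv hee hve hYP hYY hY0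
  have hkYe : (k : Matrix ι ι F) *ᵥ (v + Y • e) = a' • (v + Y • e) := by
    have := hkY
    rw [hYe, mulVec_smul, smul_comm] at this
    exact smul_right_injective _ hs this
  have hYC : Y ≠ C := by
    intro h
    rw [h, hka] at hkYe
    exact haeq (pt_smul_inj hf hee hve hkYe hvv).1
  have hYC' : Y - C ≠ 0 := sub_ne_zero.2 hYC
  -- every element fixing `C` fixes `Y`
  have hpartner : ∀ h, InK M f P l h → Sends h v e C C → Sends h v e Y Y := by
    intro h hh hhC
    obtain ⟨t, ht, htC⟩ := hhC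
    have hc'' := plane_coord hf hP hvv hee hve
      (inK_maps hf hM hP hvv hee hve hll hl hh (pt_mem hf hP hvv hee hve Y))
    generalize f ((h : Matrix ι ι F) *ᵥ (v + Y • e)) v / f v v = s₁ at hc''
    generalize f ((h : Matrix ι ι F) *ᵥ (v + Y • e)) e / f e e = t₁ at hc''
    obtain ⟨μ, hμ⟩ : ∃ μ, μ = (t₁ - s₁ * C) / (Y - C) := ⟨_, rfl⟩
    obtain ⟨ν, hν⟩ : ∃ ν, ν = s₁ - μ := ⟨_, rfl⟩
    have hhY : (h : Matrix ι ι F) *ᵥ (v + Y • e) = μ • (v + Y • e) + ν • (v + C • e) := by
      have ht₁ : t₁ = μ * Y + ν * C := by rw [hν, hμ]; field_simp; ring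
      rw [hc'', ht₁, show s₁ = μ + ν by rw [hν]; ring]
      module
    by_cases hν0 : ν = 0
    · rw [hν0, zero_smul, add_zero] at hhY
      refine ⟨μ, fun h0 => ?_, hhY⟩
      rw [h0, zero_smul, gl_mulVec_eq_zero] at hhY
      have h1 := congrArg (fun z => f z v) hhY
      simp only [hf.add_left, hf.smul_left, herm_swap_zero hf hve, mul_zero, add_zero, herm_zero_left hf] at h1
      exact hvv h1
    exfalso
    have hμ0 : μ ≠ 0 := by
      intro h0
      rw [h0, zero_smul, zero_add] at hhY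
      have h1 : (h : Matrix ι ι F) *ᵥ (v + Y • e - (ν / t) • (v + C • e)) = 0 := by
        rw [mulVec_sub, hhY, mulVec_smul, htC, smul_smul, div_mul_cancel₀ _ ht, sub_self]
      have h2 := sub_eq_zero.1 (gl_mulVec_eq_zero.1 h1)
      obtain ⟨h3, h4⟩ := pt_smul_inj hf hee hve ((one_smul F _).trans h2) hvv
      rw [← h3, one_mul, one_mul] at h4
      exact hYC h4
    obtain ⟨n, hn⟩ := hh.2
    have hoff := offAct_mul hf hl hll (offAct_mul hf hl hll hn hm) (offAct_inv hf hl hll
      (offAct_mul hf hl hll hm hn))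
    rw [show n * m * (m * n)⁻¹ = 1 by rw [mul_comm n m, mul_inv_cancel₀ (mul_ne_zero hm.1 hn.1)]] at hoff
    obtain ⟨g, hgdef⟩ : ∃ g, g = h * k * (k * h)⁻¹ := ⟨_, rfl⟩
    rw [← hgdef] at hoff
    have hg : ∀ z, (g : Matrix ι ι F) *ᵥ (((k * h : GL ι F) : Matrix ι ι F) *ᵥ z) =
        ((h * k : GL ι F) : Matrix ι ι F) *ᵥ z := fun z => by
      rw [← gl_mul_mulVec, hgdef, inv_mul_cancel_right]
    obtain ⟨zC, hzC⟩ : ∃ zC, zC = v + C • e := ⟨_, rfl⟩
    obtain ⟨zY, hzY⟩ : ∃ zY, zY = v + Y • e := ⟨_, rfl⟩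
    rw [← hzC] at htC hka
    rw [← hzC, ← hzY] at hhY
    rw [← hzY] at hkYe
    have hgC : (g : Matrix ι ι F) *ᵥ zC = zC := by
      have := hg zC
      simp only [gl_mul_mulVec, htC, hka, mulVec_smul, smul_smul] at this
      rw [mul_comm t a] at this
      exact smul_right_injective _ (mul_ne_zero ha ht) this
    have hgY : (g : Matrix ι ι F) *ᵥ zY = zY + ((a' - a) * ν / (a' * μ)) • zC := by
      have := hg zY
      simp only [gl_mul_mulVec, hhY, hkYe, hka, mulVec_add, mulVec_smul, hgC] at this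
      refine smul_right_injective _ (mul_ne_zero ha' hμ0) ?_
      show (a' * μ) • _ = (a' * μ) • _
      rw [smul_add, smul_smul, mul_div_cancel₀ _ (mul_ne_zero ha' hμ0)]
      linear_combination (norm := module) this
    rw [hzC] at hgC hgY
    rw [hzY] at hgY
    obtain ⟨d, hd0, hdσ, hd⟩ := has_of_unipotent hf hM hP hvv hee hve hll hl
      (hgdef ▸ M.mul_mem (M.mul_mem hh.1 hk.1) (M.inv_mem (M.mul_mem hk.1 hh.1))) hoff hCrt hY hYC.symm hgC
      (div_ne_zero (mul_ne_zero hne hν0) (mul_ne_zero ha' hμ0)) hgY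
    exact hcon C hCrt d hd0 hdσ hd
  -- the partner map commutes with `R`
  obtain ⟨κ, hκ⟩ : ∃ κ, κ = Y / C := ⟨_, rfl⟩
  have hκC : C * κ = Y := by rw [hκ, mul_div_cancel₀ _ hC0]
  have hκ1 : κ ≠ 1 := fun h => hYC (by rw [← hκC, h, mul_one])
  have hcomm : ∀ x y, Rt f σ v e x → Sends R v e x y → Sends R v e (x * κ) (y * κ) := by
    intro x y hx hxy
    have hx0 := rt_ne_zero hf hvv hee hx
    obtain ⟨y', hy', hy's⟩ := inK_sends hf hM hP hvv hee hve hll hl hRK hx
    obtain rfl := Sends.unique hf hvv hee hve hy's hxy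
    have hy0 := rt_ne_zero hf hvv hee hy'
    obtain ⟨A, hA, hAs⟩ := exists_rot_to hf hM hP hvv hee hve hll hl hα hw hww hRv hRw hCrt hx
    obtain ⟨B, hB, hBs⟩ := exists_rot_to hf hM hP hvv hee hve hll hl hα hw hww hRv hRw hy' hCrt
    have hTC : Sends (B * R * A) v e C C :=
      (hAs C).trans ((show Sends R v e (C * (x / C)) y' by rwa [mul_div_cancel₀ _ hC0]).trans
        (show Sends B v e y' C by simpa [mul_div_cancel₀ _ hy0] using hBs y'))
    have hTY := hpartner _ (inK_mul hf hll hl (inK_mul hf hll hl hB hRK) hA) hTC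
    have hrtY : Rt f σ v e (x * κ) := by
      have hY' := hY
      unfold Rt at hx hY' hCrt ⊢
      rw [← hκC, map_mul] at hY'
      rw [map_mul]
      have h1 : (κ * σ κ - 1) * f v v = 0 := by linear_combination (κ * σ κ) * hCrt - hY'
      have h2 := sub_eq_zero.1 ((mul_eq_zero.1 h1).resolve_right hvv)
      linear_combination hx + x * σ x * f e e * h2
    obtain ⟨y'', -, hy''s⟩ := inK_sends hf hM hP hvv hee hve hll hl hRK hrtY
    have h3 : Sends (B * R * A) v e Y (y'' * (C / y')) := by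
      have hA' := hAs Y
      rw [show Y * (x / C) = x * κ by rw [← hκC]; field_simp] at hA'
      exact hA'.trans (hy''s.trans (hBs y''))
    have h4 := Sends.unique hf hvv hee hve h3 hTY
    have h5 : y'' = y' * κ := by
      rw [← hκC] at h4
      field_simp at h4
      linear_combination h4
    exact h5 ▸ hy''s
  -- contradiction
  refine mul_ne_zero (mul_ne_zero hc0 hηA) (sub_ne_zero.2 hκ1.symm)
    (hinf (a := c * (1 + c * α) * (1 - κ)) (b := c * (c' * α) * (1 - κ ^ 2))
      (d := (1 + c') * (c' * α) * κ * (1 - κ)) fun x hx => ?_).1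
  obtain ⟨y, -, hxy⟩ := inK_sends hf hM hP hvv hee hve hll hl hRK hx
  linear_combination (1 + c * α + x * (c' * α)) * hratio (hcomm x y hx hxy) -
    κ * (1 + c * α + x * κ * (c' * α)) * hratio hxy

/-- one coefficient is carried to all points -/
theorem has_all {x₀ d : F} (hx₀ : Rt f σ v e x₀) (hd : Has M (v + x₀ • e) (d • hv hf (v + x₀ • e))) {x : F}
    (hx : Rt f σ v e x) : Has M (v + x • e) (d • hv hf (v + x • e)) := by
  have hx0 := rt_ne_zero hf hvv hee hx
  have hx₀0 := rt_ne_zero hf hvv hee hx₀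
  obtain ⟨u, hu, hux⟩ := exists_circ (σ := σ) (x := x₀ / x) (by
    have h : (x₀ * σ x₀ - x * σ x) * f e e = 0 := by linear_combination hx₀ - hx
    have h' : x₀ * σ x₀ = x * σ x := sub_eq_zero.1 ((mul_eq_zero.1 h).resolve_right hee)
    have hσ : σ x ≠ 0 := by simpa using hx0
    rw [map_div₀, div_mul_div_comm, h', div_self (mul_ne_zero hx0 hσ)])
  obtain ⟨g, hg, hgx⟩ := exists_rot hf hM hP hvv hee hve hll hl hα hw hww hRv hRw u hu
  have h1 := hd.conj hg.1
  rw [hgx] at h1
  have h2 : (d • hv hf (v + x₀ • e)) ᵥ* ((g⁻¹ : GL ι F) : Matrix ι ι F) =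
      (d * σ (u : F)) • hv hf (v + (x₀ / (u : F)) • e) := dot_ext hf fun z => by
    rw [← dotProduct_mulVec, smul_dotProduct, smul_dotProduct, hv_dot, hv_dot, smul_eq_mul, smul_eq_mul,
      ← mem_isoU.1 (hM hg.1), gl_mulVec_inv, hgx, herm_smul_right hf]
    ring
  have hu' : (u : F) * σ (u : F) = 1 := hu
  rw [h2, has_smul_iff, smul_smul, show (u : F) * (d * σ (u : F)) = d by
    linear_combination d * hu', hux, div_div_cancel₀ hx₀0] at h1
  exact h1

/-- a coefficient other than the inverse norm of `v` gives every transvection -/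
theorem full_of_coeff {x₀ d : F} (hx₀ : Rt f σ v e x₀) (hd0 : d ≠ 0) (hdσ : σ d = -d)
    (hd : Has M (v + x₀ • e) (d • hv hf (v + x₀ • e))) (hne : d * f v v ≠ 1) :
    ∀ z ∈ P, f z z = 0 → z ∈ centres hf M := by
  classical
  have hx₀0 := rt_ne_zero hf hvv hee hx₀
  have hiso : ∀ {x}, Rt f σ v e x → f (v + x • e) (v + x • e) = 0 := fun {x} hx => by
    rw [form_pts hf hvv hee hve]; linear_combination hx
  -- moving coefficients
  have hmove : ∀ {g : GL ι F}, g ∈ M → ∀ {x y a d' : F}, a ≠ 0 →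
      (g : Matrix ι ι F) *ᵥ (v + x • e) = a • (v + y • e) → Has M (v + x • e) (d' • hv hf (v + x • e)) →
      Has M (v + y • e) ((d' * (a * σ a)) • hv hf (v + y • e)) := by
    intro g hg x y a d' ha hgx h
    have h1 := h.conj hg
    rw [hgx] at h1
    have h2 : (d' • hv hf (v + x • e)) ᵥ* ((g⁻¹ : GL ι F) : Matrix ι ι F) =
        (d' * σ a) • hv hf (v + y • e) := dot_ext hf fun z => by
      rw [← dotProduct_mulVec, smul_dotProduct, smul_dotProduct, hv_dot, hv_dot, smul_eq_mul, smul_eq_mul,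
        ← mem_isoU.1 (hM hg), gl_mulVec_inv, hgx, herm_smul_right hf]
      ring
    rw [h2, has_smul_iff, smul_smul] at h1
    convert h1 using 2
    ring
  have hall : ∀ {d'}, Has M (v + x₀ • e) (d' • hv hf (v + x₀ • e)) → ∀ {x}, Rt f σ v e x →
      Has M (v + x • e) (d' • hv hf (v + x • e)) := fun {d'} h {x} hx =>
    has_all hf hM hP hvv hee hve hll hl hα hw hww hRv hRw hx₀ h hx
  have hback : ∀ {d' x}, Rt f σ v e x → Has M (v + x • e) (d' • hv hf (v + x • e)) →
      Has M (v + x₀ • e) (d' • hv hf (v + x₀ • e)) := fun {d' x} hx h =>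
    has_all hf hM hP hvv hee hve hll hl hα hw hww hRv hRw hx h hx₀
  let U : Set F := {d' | Has M (v + x₀ • e) (d' • hv hf (v + x₀ • e))}
  have hUfull : (∀ d', σ d' = -d' → d' ∈ U) → ∀ z ∈ P, f z z = 0 → z ∈ centres hf M := by
    intro h z hz hzz
    rcases eq_or_ne z 0 with rfl | hz0
    · exact centres_zero hf M
    obtain ⟨a, x, ha, hx, rfl⟩ := iso_pt hf hP hvv hee hve hz hzz hz0
    exact centres_smul hf ⟨hiso hx, fun c hc => hall (h c hc) hx⟩ a
  obtain ⟨γ, hγ⟩ : ∃ γ, γ = d * f v v := ⟨_, rfl⟩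
  rw [← hγ] at hne
  have hγ0 : γ ≠ 0 := hγ ▸ mul_ne_zero hd0 hvv
  have hσγ : σ γ = -γ := by rw [hγ, map_mul, hdσ, ← hf.herm, neg_mul]
  -- multipliers
  let Φ : Set {x : F // σ x = x} := {m | ∀ d' ∈ U, d' * (m : F) ∈ U}
  obtain ⟨h0d, hTM⟩ := hd
  have hmul : ∀ u ∈ circ σ, ∀ hm : σ ((1 + γ * (1 - (u : F))) * σ (1 + γ * (1 - (u : F)))) =
      (1 + γ * (1 - (u : F))) * σ (1 + γ * (1 - (u : F))),
      (⟨_, hm⟩ : {x : F // σ x = x}) ∈ Φ := by
    intro u hu hm d' hd'
    obtain ⟨a, ha⟩ : ∃ a, a = 1 + γ * (1 - (u : F)) := ⟨_, rfl⟩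
    show d' * ((1 + γ * (1 - (u : F))) * σ (1 + γ * (1 - (u : F)))) ∈ U
    rw [← ha]
    have hu' : (u : F) * σ u = 1 := hu
    obtain ⟨x, hxdef⟩ : ∃ x, x = x₀ * (u : F) := ⟨_, rfl⟩
    have hx : Rt f σ v e x := by
      unfold Rt at hx₀ ⊢
      rw [hxdef, map_mul]
      linear_combination hx₀ + x₀ * σ x₀ * f e e * hu'
    have hform : d * f (v + x • e) (v + x₀ • e) = γ * (1 - (u : F)) := by
      rw [form_pts hf hvv hee hve, hγ, hxdef]
      linear_combination (d * (u : F)) * hx₀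
    have hT : (tv (v + x₀ • e) (d • hv hf (v + x₀ • e)) h0d : Matrix ι ι F) *ᵥ (v + x • e) =
        a • v + (x₀ * ((u : F) + γ * (1 - (u : F)))) • e := by
      rw [tv_mulVec, smul_dotProduct, hv_dot, smul_eq_mul, hform, ha, hxdef]
      module
    by_cases ha0 : a = 0
    · rw [ha0, zero_mul, mul_zero]
      show Has M _ _
      rw [zero_smul]
      exact has_zero_right _
    obtain ⟨y, hy⟩ : ∃ y, y = x₀ * ((u : F) + γ * (1 - (u : F))) / a := ⟨_, rfl⟩
    have hTy : (tv (v + x₀ • e) (d • hv hf (v + x₀ • e)) h0d : Matrix ι ι F) *ᵥ (v + x • e) = a • (v + y • e) := by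
      rw [hT, smul_add, smul_smul, hy, mul_div_cancel₀ _ ha0]
    have hyrt : Rt f σ v e y := by
      have h1 := mem_isoU.1 (hM hTM) (v + x • e) (v + x • e)
      rw [hTy, hf.smul_left, herm_smul_right hf, hiso hx, mul_eq_zero, or_iff_right ha0, mul_eq_zero,
        map_eq_zero, or_iff_right ha0, form_pts hf hvv hee hve] at h1
      unfold Rt
      linear_combination h1
    exact hback hyrt (hmove hTM ha0 hTy (hall hd' hx))
  obtain ⟨q, hq, hFq, hS, hcirc⟩ := exists_sizes hf
  have hΦcard : Nat.card (circ σ) ≤ 2 * Fintype.card {m // m ∈ Φ} := by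
    have hfix : ∀ u : circ σ, σ ((1 + γ * (1 - ((u : Fˣ) : F))) * σ (1 + γ * (1 - ((u : Fˣ) : F)))) =
        (1 + γ * (1 - ((u : Fˣ) : F))) * σ (1 + γ * (1 - ((u : Fˣ) : F))) := fun u => by
      rw [map_mul, hf.involutive, mul_comm]
    let φ : circ σ → {m // m ∈ Φ} := fun u => ⟨⟨_, hfix u⟩, hmul u u.2 (hfix u)⟩
    rw [Nat.card_eq_fintype_card, ← Finset.card_univ]
    refine le_trans (Finset.card_le_mul_card_image (f := φ) _ 2 fun b _ => ?_)
      (Nat.mul_le_mul_left 2 (Finset.card_le_univ _))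
    by_contra hb
    obtain ⟨x, y, z, hx, hy, hz, hxy, hxz, hyz⟩ := Finset.two_lt_card_iff.1 (not_le.1 hb)
    simp only [Finset.mem_filter, Finset.mem_univ, true_and] at hx hy hz
    have hroot : ∀ u : circ σ, φ u = b → (γ + γ ^ 2) + (1 - ((b : {x : F // σ x = x}) : F) - 2 * γ ^ 2) *
        ((u : Fˣ) : F) + (γ ^ 2 - γ) * ((u : Fˣ) : F) ^ 2 = 0 := fun u hu => by
      have h1 : ((u : Fˣ) : F) * σ ((u : Fˣ) : F) = 1 := u.2
      have h2 : (1 + γ * (1 - ((u : Fˣ) : F))) * σ (1 + γ * (1 - ((u : Fˣ) : F))) =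
          ((b : {x : F // σ x = x}) : F) := congrArg (fun t : {m // m ∈ Φ} => (t.1 : F)) hu
      rw [map_add, map_mul, map_sub, map_one, hσγ] at h2
      linear_combination ((u : Fˣ) : F) * h2 - (γ * (1 + γ * (1 - ((u : Fˣ) : F)))) * h1
    have hne' : ∀ {a c : circ σ}, a ≠ c → ((a : Fˣ) : F) ≠ ((c : Fˣ) : F) := fun h e =>
      h (Subtype.ext (Units.ext e))
    obtain ⟨h1, -, h3⟩ := quad_zero (hne' hxy) (hne' hxz) (hne' hyz) (hroot x hx) (hroot y hy) (hroot z hz)
    have hγ1 : γ = 1 := by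
      have : γ * (γ - 1) = 0 := by linear_combination h3
      exact sub_eq_zero.1 ((mul_eq_zero.1 this).resolve_left hγ0)
    exact hne hγ1
  -- the multipliers are the whole fixed field
  have hUadd : ∀ {a b : F}, a ∈ U → b ∈ U → a + b ∈ U := fun {a b} ha hb => by
    show Has M _ _
    rw [add_smul]
    exact Has.add_right ha hb
  have hUneg : ∀ {a : F}, a ∈ U → -a ∈ U := fun {a} ha => by
    show Has M _ _
    rw [neg_smul]
    exact Has.neg ha
  have hΦsub : ∀ {a b : {x : F // σ x = x}}, a ∈ Φ → b ∈ Φ → ∀ h, (⟨(a : F) - b, h⟩ : {x : F // σ x = x}) ∈ Φ :=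
    fun {a b} ha hb h d' hd' => by
      show d' * ((a : F) - b) ∈ U
      rw [mul_sub, sub_eq_add_neg]
      exact hUadd (ha d' hd') (hUneg (hb d' hd'))
  have hΦall : ∀ m, m ∈ Φ := by
    by_contra hcon
    push Not at hcon
    obtain ⟨r, hr⟩ := hcon
    have hdiv : ∀ {a b : {x : F // σ x = x}}, a ∈ Φ → b ∈ Φ → (b : F) ≠ 0 → ∀ h,
        (⟨(a : F) / b, h⟩ : {x : F // σ x = x}) ∈ Φ := by
      intro a b ha hb hb0 h d' hd'
      have hinv : ∀ j : ℕ, ∀ d'' ∈ U, d'' * (b : F) ^ j ∈ U := by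
        intro j
        induction j with
        | zero => intro d'' h''; simpa using h''
        | succ j ih => intro d'' h''; rw [pow_succ, ← mul_assoc]; exact hb _ (ih d'' h'')
      have hcard : 1 < Fintype.card F := Fintype.one_lt_card
      have he : (b : F) ^ (Fintype.card F - 2) = (b : F)⁻¹ := by
        refine eq_inv_of_mul_eq_one_left ?_
        rw [← pow_succ, show Fintype.card F - 2 + 1 = Fintype.card F - 1 by omega,
          FiniteField.pow_card_sub_one_eq_one _ hb0]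
      show d' * ((a : F) / b) ∈ U
      rw [div_eq_mul_inv, ← mul_assoc, ← he]
      exact hinv _ _ (ha d' hd')
    let ψ : {m // m ∈ Φ} × {m // m ∈ Φ} → {x : F // σ x = x} := fun p =>
      ⟨(p.1.1 : F) + (p.2.1 : F) * (r : F), by rw [map_add, map_mul, p.1.1.2, p.2.1.2, r.2]⟩
    have hinj : Function.Injective ψ := by
      rintro ⟨⟨a, ha⟩, ⟨b, hb⟩⟩ ⟨⟨a', ha'⟩, ⟨b', hb'⟩⟩ h
      have h1 : (a : F) + (b : F) * r = (a' : F) + (b' : F) * r := congrArg Subtype.val h
      by_cases hbb : (b : F) = b'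
      · obtain rfl := Subtype.ext hbb
        obtain rfl := Subtype.ext (add_right_cancel h1)
        rfl
      · refine absurd ?_ hr
        have hne : (b : F) - b' ≠ 0 := sub_ne_zero.2 hbb
        have hr' : r = ⟨((a' : F) - a) / ((b : F) - b'), by
            rw [map_div₀, map_sub, map_sub, a.2, a'.2, b.2, b'.2]⟩ :=
          Subtype.ext (by rw [eq_div_iff hne]; linear_combination h1)
        rw [hr']
        exact hdiv (hΦsub ha' ha (by rw [map_sub, a.2, a'.2])) (hΦsub hb hb' (by rw [map_sub, b.2, b'.2])) hne _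
    have h1 := Fintype.card_le_of_injective ψ hinj
    rw [Fintype.card_prod, ← Nat.card_eq_fintype_card (α := {x : F // σ x = x}), hS] at h1
    rw [hcirc] at hΦcard
    have h4 : (q + 1) * (q + 1) ≤ (2 * Fintype.card {m // m ∈ Φ}) * (2 * Fintype.card {m // m ∈ Φ}) :=
      Nat.mul_le_mul hΦcard hΦcard
    nlinarith
  refine hUfull fun d' hd' => ?_
  have hm : σ (d' / d) = d' / d := by rw [map_div₀, hd', hdσ, neg_div_neg_eq]
  have := hΦall ⟨d' / d, hm⟩ d ⟨h0d, hTM⟩
  rwa [show d * (d' / d) = d' by field_simp] at this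

end Plane

/-- two tori give all isotropic centres of their plane -/
theorem centres_of_two_tori {M : Subgroup (GL ι F)} (hM : M ≤ isoU f) {P : Submodule F (ι → F)} {v e l : ι → F}
    (hP : P = Submodule.span F {v, e}) (hvv : f v v ≠ 0) (hee : f e e ≠ 0) (hve : f v e = 0) (hll : f l l ≠ 0)
    (hl : ∀ p ∈ P, f l p = 0) {w : ι → F} {α : F} (hα : α ≠ 0) (hw : w = α • v + e) (hww : f w w ≠ 0)
    (hRv : RefAct (σ := σ) (f := f) M P l v) (hRw : RefAct (σ := σ) (f := f) M P l w) :
    ∀ z ∈ P, f z z = 0 → z ∈ centres hf M := by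
  obtain ⟨x₀, hx₀, d, hd0, hdσ, hd⟩ := exists_transvection hf hM hP hvv hee hve hll hl hα hw hww hRv hRw
  by_cases hdv : d * f v v = 1
  swap
  · exact full_of_coeff hf hM hP hvv hee hve hll hl hα hw hww hRv hRw hx₀ hd0 hdσ hd hdv
  -- exchange the roles of the two vectors
  obtain ⟨β, hβ⟩ : ∃ β, β = f v w / f w w := ⟨_, rfl⟩
  obtain ⟨e', he'⟩ : ∃ e', e' = v - β • w := ⟨_, rfl⟩
  have hfvw : f v w = σ α * f v v := by
    rw [hw, herm_add_right hf, herm_smul_right hf, hve, add_zero]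
  have hσα : σ α ≠ 0 := by simpa using hα
  have hNw : f w w = α * σ α * f v v + f e e := by
    rw [hw]
    simp only [hf.add_left, herm_add_right hf, hf.smul_left, herm_smul_right hf, hve, herm_swap_zero hf hve]
    ring
  have hwe' : f w e' = 0 := by
    rw [he', herm_sub_right hf, herm_smul_right hf, hβ, map_div₀, ← hf.herm w v, ← hf.herm w w,
      div_mul_cancel₀ _ hww, sub_self]
  have hfwv : f w v = α * f v v := by rw [hf.herm w v, hfvw, map_mul, hf.involutive, ← hf.herm v v]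
  have he'e' : f e' e' = f v v * f e e / f w w := by
    have h1 : f e' e' = f v e' := by
      rw [show f e' e' = f (v - β • w) e' by rw [← he'], herm_sub_left hf, hf.smul_left, hwe', mul_zero, sub_zero]
    rw [h1, he', herm_sub_right hf, herm_smul_right hf, hβ, map_div₀, ← hf.herm w v, ← hf.herm w w, hfwv, hfvw,
      eq_div_iff hww, sub_mul, show α * f v v / f w w * (σ α * f v v) * f w w = α * f v v * (σ α * f v v) by
        field_simp, hNw]
    ring
  have hP' : P = Submodule.span F {w, e'} := by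
    rw [hP]
    refine le_antisymm (Submodule.span_le.2 ?_) (Submodule.span_le.2 ?_)
    · rintro _ (rfl | rfl)
      · exact Submodule.mem_span_pair.2 ⟨β, 1, by rw [he']; module⟩
      · exact Submodule.mem_span_pair.2 ⟨1 - α * β, -α, by rw [he', hw]; module⟩
    · rintro _ (rfl | rfl)
      · exact Submodule.mem_span_pair.2 ⟨α, 1, by rw [hw, one_smul]⟩
      · exact Submodule.mem_span_pair.2 ⟨1 - β * α, -β, by rw [he', hw]; module⟩
  obtain ⟨hα', hvw⟩ : β ≠ 0 ∧ v = β • w + e' :=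
    ⟨hβ ▸ div_ne_zero (hfvw ▸ mul_ne_zero hσα hvv) hww, by rw [he']; abel⟩
  have hee' : f e' e' ≠ 0 := he'e' ▸ div_ne_zero (mul_ne_zero hvv hee) hww
  by_contra hcon
  -- the coefficient `d` seen from `w`
  have hconst : ∀ x, Rt f σ v e x → d * (f (v + x • e) w * σ (f (v + x • e) w)) = f w w := by
    intro x hx
    have hxd := has_all hf hM hP hvv hee hve hll hl hα hw hww hRv hRw hx₀ hd hx
    have hzz : f (v + x • e) (v + x • e) = 0 := by rw [form_pts hf hvv hee hve]; linear_combination hx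
    have hz0 : v + x • e ≠ 0 := fun h => hvv (by
      have h1 := congrArg (fun z => f z v) h
      simpa only [hf.add_left, hf.smul_left, herm_swap_zero hf hve, mul_zero, add_zero, herm_zero_left hf] using h1)
    obtain ⟨a, y, ha, hy, he⟩ := iso_pt hf hP' hww hee' hwe' (pt_mem hf hP hvv hee hve x) hzz hz0
    rw [he, has_smul_iff, hv_smul, smul_smul, smul_smul, mul_assoc] at hxd
    have hcoef : σ (a * (d * σ a)) = -(a * (d * σ a)) := by
      rw [map_mul, map_mul, hdσ, hf.involutive]; ring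
    have hσa : σ a ≠ 0 := by simpa using ha
    have h1 : a * (d * σ a) * f w w = 1 := by
      by_contra hne
      exact hcon (full_of_coeff hf hM hP' hww hee' hwe' hll hl hα' hvw hvv hRw hRv hy
        (mul_ne_zero ha (mul_ne_zero hd0 hσa)) hcoef hxd hne)
    have h2 : f (v + x • e) w = a * f w w := by
      rw [he, hf.smul_left, hf.add_left, hf.smul_left, herm_swap_zero hf hwe', mul_zero, add_zero]
    rw [h2, map_mul, ← hf.herm]
    linear_combination (f w w) * h1
  obtain ⟨C, hC0⟩ : ∃ C, C = x₀ := ⟨_, rfl⟩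
  have hx₀0 := rt_ne_zero hf hvv hee hx₀
  obtain ⟨A, hA⟩ : ∃ A, A = σ α * f v v := ⟨_, rfl⟩
  obtain ⟨B, hB⟩ : ∃ B, B = x₀ * f e e := ⟨_, rfl⟩
  have hfz : ∀ x, f (v + x • e) w = A + x * f e e := fun x => by
    rw [hf.add_left, hf.smul_left, hfvw, hA, hw, herm_add_right hf, herm_smul_right hf,
      herm_swap_zero hf hve, mul_zero, zero_add]
  have hzero := quad_circ_zero (σ := σ) (a := A * σ B)
    (b := A * σ A + B * σ B - f w w / d) (c := B * σ A) (three_le_circ hf) fun u hu => by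
      have hu' : (u : F) * σ u = 1 := hu
      have hx : Rt f σ v e (x₀ * (u : F)) := by
        show x₀ * (u : F) * σ (x₀ * (u : F)) * f e e + f v v = 0
        rw [map_mul]
        linear_combination hx₀ + x₀ * σ x₀ * f e e * hu'
      have h := hconst _ hx
      rw [hfz, show A + x₀ * (u : F) * f e e = A + B * (u : F) by rw [hB]; ring, map_add, map_mul] at h
      field_simp
      linear_combination (u : F) * h - d * (A * σ B + B * σ B * (u : F)) * hu'
  exact mul_ne_zero (hB ▸ mul_ne_zero hx₀0 hee) (by simpa [hA] using ⟨hα, hvv⟩) hzero.2.2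

end CfsgLib.Perm.Trans.Unit
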