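import Cfsg.Agent.Lib.Perm.Trans.UnitMax
import Cfsg.Agent.Lib.Perm.Trans.SubfLines

/-!
# Subfield structures of odd degree on unitary spaces
-/

set_option autoImplicit false
set_option linter.all false

namespace CfsgLib.Perm.Trans.Unit

open scoped Matrix
open Matrix Cfsg.Geo CfsgLib.Perm.Asch CfsgLib.Perm.Trans
open CfsgLib.Perm.Trans.Subf (em lift em_add em_neg em_sub em_smul em_sum em_zero em_injective em_ne_zero exists_coords lift_em lift_mem ext_em)

variable {ι : Type} [Fintype ι] [DecidableEq ι] {F : Type*} [Field F] [Fintype F]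
variable {σ : F ≃+* F} {f : (ι → F) → (ι → F) → F} {F₀ : Subfield F} {P : GL ι F} {r : ℕ}

/-- subfields are finite -/
@[reducible] noncomputable def subfieldFintype (K : Subfield F) : Fintype K := Fintype.ofFinite K

attribute [local instance] subfieldFintype

/-- rational hermitian forms -/
structure HermRat (σ : F ≃+* F) (f : (ι → F) → (ι → F) → F) (F₀ : Subfield F) (P : GL ι F) (r : ℕ) : Prop where
  form : IsUnitaryForm σ f
  prime : r.Prime
  two_lt : 2 < r
  card : Fintype.card F = Nat.card F₀ ^ r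
  rat : ∀ a b : ι → F₀, f (em F₀ P a) (em F₀ P b) ∈ F₀

variable (D : HermRat σ f F₀ P r)
include D

omit D in
theorem pow_eq_self (x : F) (hx : x ∈ F₀) : x ^ Nat.card F₀ = x := by
  have h := FiniteField.pow_card (⟨x, hx⟩ : F₀)
  rw [← Nat.card_eq_fintype_card] at h
  exact congrArg Subtype.val h

omit D in
theorem mem_of_pow_eq_self {x : F} (hx : x ^ Nat.card F₀ = x) : x ∈ F₀ := by
  classical
  have hc : 1 < Nat.card F₀ := Finite.one_lt_card
  obtain ⟨S, hS⟩ : ∃ S : Finset F, S = Finset.univ.image (fun a : F₀ => (a : F)) := ⟨_, rfl⟩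
  have hne := FiniteField.X_pow_card_sub_X_ne_zero F hc
  have hsub : S ⊆ (Polynomial.X ^ Nat.card F₀ - Polynomial.X : Polynomial F).roots.toFinset := fun y hy => by
    rw [hS, Finset.mem_image] at hy
    obtain ⟨a, -, rfl⟩ := hy
    rw [Multiset.mem_toFinset, Polynomial.mem_roots hne]
    rw [Polynomial.IsRoot, Polynomial.eval_sub, Polynomial.eval_pow, Polynomial.eval_X, pow_eq_self (a : F) a.2,
      sub_self]
  have hcard : (Polynomial.X ^ Nat.card F₀ - Polynomial.X : Polynomial F).roots.toFinset.card ≤ S.card := by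
    refine (Multiset.toFinset_card_le _).trans ((Polynomial.card_roots' _).trans ?_)
    rw [FiniteField.X_pow_card_sub_X_natDegree_eq F hc, hS, Finset.card_image_of_injective _ Subtype.val_injective,
      Finset.card_univ, Nat.card_eq_fintype_card]
  have h1 : x ∈ S := by
    rw [Finset.eq_of_subset_of_card_le hsub hcard, Multiset.mem_toFinset, Polynomial.mem_roots hne]
    rw [Polynomial.IsRoot, Polynomial.eval_sub, Polynomial.eval_pow, Polynomial.eval_X, hx, sub_self]
  rw [hS, Finset.mem_image] at h1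
  obtain ⟨a, -, rfl⟩ := h1
  exact a.2

theorem hr_bar_mem {x : F} (hx : x ∈ F₀) : σ x ∈ F₀ :=
  mem_of_pow_eq_self (by rw [← map_pow, pow_eq_self x hx])

/-- a root of a quadratic equation over the subfield is in it -/
theorem hr_mem_of_quad {p t n : F} (ht : t ∈ F₀) (hn : n ∈ F₀) (hp : p * p = t * p + n) : p ∈ F₀ := by
  by_contra hp0
  have hall : ∀ x : F, x ∈ {x : F | ∃ a b : F₀, x = (a : F) + (b : F) * p} := Subf.eq_univ_of_closed D.prime D.card
    (fun x ⟨a, b, hx⟩ y ⟨a', b', hy⟩ => ⟨a + a', b + b', by rw [hx, hy]; push_cast; ring⟩)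
    (fun x ⟨a, b, hx⟩ y ⟨a', b', hy⟩ => ⟨a * a' + b * b' * ⟨_, hn⟩, a * b' + b * a' + b * b' * ⟨_, ht⟩, by
      rw [hx, hy]; push_cast; linear_combination ((b : F) * b') * hp⟩)
    (fun a => ⟨a, 0, by push_cast; ring⟩) (s := p) ⟨0, 1, by push_cast; ring⟩ hp0
  have hsurj : Function.Surjective fun c : F₀ × F₀ => (c.1 : F) + (c.2 : F) * p := fun x => by
    obtain ⟨a, b, hab⟩ := hall x
    exact ⟨(a, b), hab.symm⟩
  have h1 := Nat.card_le_card_of_surjective _ hsurj
  rw [Nat.card_prod, Nat.card_eq_fintype_card, D.card, ← sq] at h1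
  have h2 : 1 < Nat.card F₀ := Finite.one_lt_card
  exact absurd ((Nat.pow_le_pow_iff_right h2).1 h1) (by have := D.two_lt; omega)

/-- the involution does not fix the subfield -/
theorem hr_not_fixed : ∃ θ : F₀, σ (θ : F) ≠ θ := by
  by_contra hcon
  push Not at hcon
  have hfix : ∀ x : F, σ x = x → x ∈ F₀ := fun x hx => by
    by_contra hx0
    obtain ⟨y, hy⟩ := exists_not_fixed D.form
    exact hy (Subf.eq_univ_of_closed D.prime D.card (C := {z | σ z = z})
      (fun a ha b hb => by simp only [Set.mem_setOf_eq] at *; rw [map_add, ha, hb])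
      (fun a ha b hb => by simp only [Set.mem_setOf_eq] at *; rw [map_mul, ha, hb])
      (fun a => hcon a) (s := x) hx hx0 y)
  obtain ⟨y, hy⟩ := exists_not_fixed D.form
  have hy0 : y ∈ F₀ := hr_mem_of_quad D (t := y + σ y) (n := -(y * σ y))
    (hfix _ (by rw [map_add, D.form.involutive, add_comm]))
    (hfix _ (by rw [map_neg, map_mul, D.form.involutive, mul_comm])) (by ring)
  exact hy (hcon ⟨y, hy0⟩)

/-- the involution of the subfield -/
def hrBar : F₀ ≃+* F₀ where
  toFun x := ⟨σ (x : F), hr_bar_mem D x.2⟩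
  invFun x := ⟨σ (x : F), hr_bar_mem D x.2⟩
  left_inv x := Subtype.ext (D.form.involutive _)
  right_inv x := Subtype.ext (D.form.involutive _)
  map_mul' x y := Subtype.ext (map_mul σ _ _)
  map_add' x y := Subtype.ext (map_add σ _ _)

theorem hrBar_coe (x : F₀) : ((hrBar D x : F₀) : F) = σ (x : F) := rfl

/-- the form on the rational vectors -/
def hrForm (a b : ι → F₀) : F₀ := ⟨f (em F₀ P a) (em F₀ P b), D.rat a b⟩

theorem hrForm_coe (a b : ι → F₀) : ((hrForm D a b : F₀) : F) = f (em F₀ P a) (em F₀ P b) := rfl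

theorem hrForm_unitary : IsUnitaryForm (hrBar D) (hrForm D) where
  ne_refl h := by
    obtain ⟨θ, hθ⟩ := hr_not_fixed D
    exact hθ (congrArg Subtype.val (RingEquiv.congr_fun h θ))
  involutive a := Subtype.ext (D.form.involutive _)
  add_left x y v := Subtype.ext (by push_cast; rw [hrForm_coe, hrForm_coe, hrForm_coe, em_add, D.form.add_left])
  smul_left c x v := Subtype.ext (by push_cast; rw [hrForm_coe, hrForm_coe, em_smul, D.form.smul_left])
  herm v w := Subtype.ext (by rw [hrBar_coe, hrForm_coe, hrForm_coe, D.form.herm])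
  nondegenerate v hv := by
    have hex : ∃ y, f (em F₀ P v) (em F₀ P y) ≠ 0 := by
      by_contra hcon
      push Not at hcon
      obtain ⟨z, hz⟩ := (D.form.nondegenerate _ (em_ne_zero F₀ P hv)).2
      obtain ⟨a, rfl⟩ := exists_coords F₀ P z
      refine hz ?_
      clear hz
      induction (Finset.univ : Finset ι) using Finset.induction_on with
      | empty => rw [Finset.sum_empty, herm_zero_right D.form]
      | @insert i s hi ih =>
        rw [Finset.sum_insert hi, herm_add_right D.form, ih, herm_smul_right D.form, hcon, mul_zero, add_zero]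
    obtain ⟨y, hy⟩ := hex
    exact ⟨⟨y, fun h => hy (herm_swap_zero D.form (congrArg Subtype.val h))⟩,
      ⟨y, fun h => hy (congrArg Subtype.val h)⟩⟩

theorem hr_em_iso {a : ι → F₀} (h : hrForm D a a = 0) : f (em F₀ P a) (em F₀ P a) = 0 :=
  congrArg Subtype.val h

theorem hr_em_zero {a b : ι → F₀} (h : hrForm D a b = 0) : f (em F₀ P a) (em F₀ P b) = 0 :=
  congrArg Subtype.val h

theorem hr_em_one {a b : ι → F₀} (h : hrForm D a b = 1) : f (em F₀ P a) (em F₀ P b) = 1 :=
  congrArg Subtype.val h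

/-- a rational isometry stays an isometry -/
theorem hr_lift_iso {g : GL ι F₀} (hg : g ∈ isoU (hrForm D)) : lift F₀ P g ∈ isoU f := by
  refine mem_isoU.2 fun x y => ?_
  obtain ⟨a, rfl⟩ := exists_coords F₀ P x
  obtain ⟨b, rfl⟩ := exists_coords F₀ P y
  have key : ∀ a b, f ((lift F₀ P g : Matrix ι ι F) *ᵥ em F₀ P a) ((lift F₀ P g : Matrix ι ι F) *ᵥ em F₀ P b) =
      f (em F₀ P a) (em F₀ P b) := fun a b => by
    rw [lift_em, lift_em, ← hrForm_coe D, ← hrForm_coe D, mem_isoU.1 hg]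
  have hR : ∀ (s : Finset ι) (u : ι → F), (∀ j, f ((lift F₀ P g : Matrix ι ι F) *ᵥ u)
      ((lift F₀ P g : Matrix ι ι F) *ᵥ em F₀ P (Pi.single j 1)) = f u (em F₀ P (Pi.single j 1))) →
      f ((lift F₀ P g : Matrix ι ι F) *ᵥ u) ((lift F₀ P g : Matrix ι ι F) *ᵥ ∑ j ∈ s, b j • em F₀ P (Pi.single j 1)) =
        f u (∑ j ∈ s, b j • em F₀ P (Pi.single j 1)) := by
    intro s u hu
    induction s using Finset.induction_on with
    | empty => simp [herm_zero_right D.form]
    | @insert i s hi ih =>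
      rw [Finset.sum_insert hi, mulVec_add, herm_add_right D.form, ih, mulVec_smul, herm_smul_right D.form, hu,
        herm_add_right D.form, herm_smul_right D.form]
  refine hR _ _ fun j => ?_
  clear hR
  induction (Finset.univ : Finset ι) using Finset.induction_on with
  | empty => simp [herm_zero_left D.form]
  | @insert i s hi ih =>
    rw [Finset.sum_insert hi, mulVec_add, D.form.add_left, ih, mulVec_smul, D.form.smul_left, key, D.form.add_left,
      D.form.smul_left]

omit D in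
theorem det_lift (g : GL ι F₀) :
    (lift F₀ P g : Matrix ι ι F).det = (((g : Matrix ι ι F₀).det : F₀) : F) := by
  show ((P * Matrix.GeneralLinearGroup.map (F₀.subtype : F₀ →+* F) g * P⁻¹ : GL ι F) : Matrix ι ι F).det = _
  rw [Units.val_mul, Units.val_mul, det_units_conj]
  exact ((F₀.subtype : F₀ →+* F).map_det _).symm

theorem hr_lift_su {g : GL ι F₀} (hg : g ∈ isoU (hrForm D)) (hd : (g : Matrix ι ι F₀).det = 1) :
    lift F₀ P g ∈ subfieldSubgroup F₀ P ⊓ (isoU f ⊓ specialLinear ι F) :=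
  ⟨lift_mem F₀ P g, hr_lift_iso D hg, Units.ext (by
    show (lift F₀ P g : Matrix ι ι F).det = 1
    rw [det_lift, hd]; rfl)⟩

omit D in
/-- `M` contains the transvection with centre `v` and coefficient `c` -/
def UT (f : (ι → F) → (ι → F) → F) (M : Subgroup (GL ι F)) (v : ι → F) (c : F) : Prop :=
  ∃ t ∈ M, ∀ x, (t : Matrix ι ι F) *ᵥ x = x + (c * f x v) • v

omit D in
theorem UT.conj {M : Subgroup (GL ι F)} {v : ι → F} {c : F} (h : UT f M v c) (hM : M ≤ isoU f) {g : GL ι F}
    (hg : g ∈ M) : UT f M ((g : Matrix ι ι F) *ᵥ v) c := by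
  obtain ⟨t, ht, htx⟩ := h
  refine ⟨g * t * g⁻¹, M.mul_mem (M.mul_mem hg ht) (M.inv_mem hg), fun x => ?_⟩
  rw [gl_mul_mulVec, gl_mul_mulVec, htx, mulVec_add, mulVec_smul, gl_mulVec_inv]
  congr 3
  conv_rhs => rw [← gl_mulVec_inv g x, mem_isoU.1 (hM hg)]

theorem UT.smul_iff {M : Subgroup (GL ι F)} {v : ι → F} {t c : F} :
    UT f M (t • v) c ↔ UT f M v (c * (t * σ t)) := by
  constructor <;> rintro ⟨g, hg, hgx⟩ <;> refine ⟨g, hg, fun x => ?_⟩ <;>
    rw [hgx, herm_smul_right D.form, smul_smul] <;> congr 2 <;> ring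

omit D in
theorem UT.zero (M : Subgroup (GL ι F)) (v : ι → F) : UT f M v 0 :=
  ⟨1, M.one_mem, fun x => by rw [Units.val_one, one_mulVec, zero_mul, zero_smul, add_zero]⟩

theorem UT.add {M : Subgroup (GL ι F)} {v : ι → F} (hv : f v v = 0) {a b : F} (h : UT f M v a) (h' : UT f M v b) :
    UT f M v (a + b) := by
  obtain ⟨s, hs, hsx⟩ := h
  obtain ⟨t, ht, htx⟩ := h'
  refine ⟨s * t, M.mul_mem hs ht, fun x => ?_⟩
  rw [gl_mul_mulVec, hsx, htx, D.form.add_left, D.form.smul_left, hv]
  module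

theorem UT.neg {M : Subgroup (GL ι F)} {v : ι → F} (hv : f v v = 0) {a : F} (h : UT f M v a) :
    UT f M v (-a) := by
  obtain ⟨s, hs, hsx⟩ := h
  refine ⟨s⁻¹, M.inv_mem hs, fun x => ?_⟩
  have h1 : (s : Matrix ι ι F) *ᵥ (x + (-a * f x v) • v) = x := by
    rw [hsx, D.form.add_left, D.form.smul_left, hv]
    module
  conv_lhs => rw [← h1, gl_inv_mulVec]

/-- four commuting transvections -/
theorem UT.bilin {M : Subgroup (GL ι F)} {e x : ι → F} (hee : f e e = 0) (hxx : f x x = 0) (hex : f e x = 0)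
    {a b c : F} (h0 : UT f M e c) (ha : UT f M (e + a • x) c) (hb : UT f M (e + b • x) c)
    (hab : UT f M (e + (a + b) • x) c) : UT f M x (c * (a * σ b + b * σ a)) := by
  have hiso : ∀ s : F, f (e + s • x) (e + s • x) = 0 := fun s => by
    simp only [D.form.add_left, herm_add_right D.form, D.form.smul_left, herm_smul_right D.form, hee, hxx, hex,
      herm_swap_zero D.form hex, mul_zero, add_zero]
  obtain ⟨t₀, ht₀, h₀x⟩ := h0
  obtain ⟨tab, htab, habx⟩ := hab
  obtain ⟨ta, hta, hax⟩ := UT.neg D (hiso a) ha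
  obtain ⟨tb, htb, hbx⟩ := UT.neg D (hiso b) hb
  refine ⟨tab * t₀ * ta * tb, M.mul_mem (M.mul_mem (M.mul_mem htab ht₀) hta) htb, fun y => ?_⟩
  simp only [gl_mul_mulVec, hbx, hax, h₀x, habx, D.form.add_left, herm_add_right D.form, D.form.smul_left,
    herm_smul_right D.form, hee, hxx, hex, herm_swap_zero D.form hex, mul_zero, add_zero, zero_add, map_add]
  module

variable {M : Subgroup (GL ι F)} (hHM : subfieldSubgroup F₀ P ⊓ (isoU f ⊓ specialLinear ι F) ≤ M)
include hHM

theorem hr_rat_tv {a : ι → F₀} (ha : hrForm D a a = 0) {c : F₀} (hc : hrBar D c = -c) :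
    UT f M (em F₀ P a) (c : F) := by
  have hf' := hrForm_unitary D
  have h0 := utv_orth hf' ha c
  refine ⟨lift F₀ P (tv a (c • hv hf' a) h0),
    hHM (hr_lift_su D (mem_isoU.2 (utv_isometry hf' a ha hc h0)) (congrArg Units.val (tv_mem_SL a _ h0))), ?_⟩
  have hc' : σ (c : F) = -(c : F) := by rw [← hrBar_coe D, hc]; rfl
  have h1 := utv_orth D.form (hr_em_iso D ha) (c : F)
  have heq : lift F₀ P (tv a (c • hv hf' a) h0) = tv (em F₀ P a) ((c : F) • hv D.form (em F₀ P a)) h1 :=
    ext_em F₀ P fun b => by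
      rw [lift_em, tv_mulVec, tv_mulVec, smul_dotProduct, smul_dotProduct, hv_dot, hv_dot, em_add, em_smul,
        smul_eq_mul, smul_eq_mul]
      push_cast
      rw [hrForm_coe]
  intro x
  rw [heq, tv_mulVec, smul_dotProduct, hv_dot, smul_eq_mul]

theorem hr_hasTv : HasTv (hrForm_unitary D) (M.comap (lift F₀ P)) ⊤ := fun u _ huu c hc =>
  ⟨utv_orth (hrForm_unitary D) huu c, hHM (hr_lift_su D
    (mem_isoU.2 (utv_isometry (hrForm_unitary D) u huu hc _)) (congrArg Units.val (tv_mem_SL u _ _)))⟩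

/-- rational isotropic vectors are conjugate -/
theorem hr_transitive (hn : 3 ≤ Fintype.card ι) {a b : ι → F₀} (ha : hrForm D a a = 0) (hb : hrForm D b b = 0)
    (ha0 : a ≠ 0) (hb0 : b ≠ 0) : ∃ g ∈ M, (g : Matrix ι ι F) *ᵥ em F₀ P a = em F₀ P b := by
  obtain ⟨t, ht, hta⟩ := move_iso_vec (hrForm_unitary D) (hr_hasTv D hHM) (isNondegenerateOn_top (hrForm_unitary D))
    (by rw [finrank_top, Module.finrank_fintype_fun_eq_card]; exact hn) Submodule.mem_top Submodule.mem_top ha0 hb0
    ha hb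
  exact ⟨lift F₀ P t, ht.1, by rw [lift_em, hta]⟩

omit hHM

/-- rational isotropic vectors exist in large subspaces -/
theorem hr_exists_orth (hn : 4 ≤ Fintype.card ι) (a b : ι → F₀) :
    ∃ y, y ≠ 0 ∧ hrForm D y y = 0 ∧ hrForm D y a = 0 ∧ hrForm D y b = 0 := by
  have hf' := hrForm_unitary D
  obtain ⟨y, hy, hy0, hyy⟩ := exists_isotropic hf' (W := perpOf hf' a ⊓ perpOf hf' b) (by
    have h1 := finrank_perp hf' a
    have h2 := finrank_inf_perp hf' (perpOf hf' a) b
    omega)
  exact ⟨y, hy0, hyy, hy.1, hy.2⟩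

/-- an isometry sending the rational isotropic lines to rational lines is in the subfield group -/
theorem hr_subfield_of_iso_lines (hn : 4 ≤ Fintype.card ι) {g : GL ι F}
    (h : ∀ a : ι → F₀, hrForm D a a = 0 → ∃ (t : F) (b : ι → F₀), (g : Matrix ι ι F) *ᵥ em F₀ P a = t • em F₀ P b) :
    g ∈ subfieldSubgroup F₀ P := by
  have hf' := hrForm_unitary D
  obtain ⟨e, he0, hee, -, -⟩ := hr_exists_orth D hn 0 0
  obtain ⟨y, hy⟩ := (hf'.nondegenerate e he0).2
  obtain ⟨h', -, hhh, heh, -⟩ := exists_partner hf' (X := ⊤) Submodule.mem_top hee (y := y) Submodule.mem_top hy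
  obtain ⟨t₀, b₀, hb₀⟩ := h e hee
  have ht₀ : t₀ ≠ 0 := fun h0 => em_ne_zero F₀ P he0 (gl_mulVec_eq_zero.1 (by rw [hb₀, h0, zero_smul]))
  have hb₀0 : b₀ ≠ 0 := fun h0 => em_ne_zero F₀ P he0 (gl_mulVec_eq_zero.1 (by rw [hb₀, h0, em_zero, smul_zero]))
  let S : Submodule F₀ (ι → F₀) :=
    { carrier := {a | ∃ b, (g : Matrix ι ι F) *ᵥ em F₀ P a = t₀ • em F₀ P b}
      add_mem' := fun {a a'} ⟨b, hb⟩ ⟨b', hb'⟩ => ⟨b + b', by rw [em_add, mulVec_add, hb, hb', em_add, smul_add]⟩
      zero_mem' := ⟨0, by rw [em_zero, mulVec_zero, smul_zero]⟩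
      smul_mem' := fun c a ⟨b, hb⟩ => ⟨c • b, by rw [em_smul, mulVec_smul, hb, em_smul, smul_comm]⟩ }
  obtain ⟨δ, hδ, hδσ⟩ := exists_trace_zero hf'
  have hiso : ∀ z, hrForm D z z = 0 → hrForm D e z ≠ 0 → z ∈ S := by
    intro z hzz hez
    obtain ⟨t, b, hb⟩ := h z hzz
    obtain ⟨k, hk⟩ : ∃ k, k = δ / hrForm D z e := ⟨_, rfl⟩
    have hze : hrForm D z e ≠ 0 := fun h0 => hez (herm_swap_zero hf' h0)
    have hsum : hrForm D (e + k • z) (e + k • z) = 0 := by
      rw [herm_line hf' e z k, hee, hzz, hf'.herm e z, ← map_mul, hk, div_mul_cancel₀ _ hze, hδσ]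
      ring
    obtain ⟨s, d, hd⟩ := h _ hsum
    have hzind : z ∉ Submodule.span F₀ ({e} : Set (ι → F₀)) := fun hm => by
      obtain ⟨c, rfl⟩ := Submodule.mem_span_singleton.1 hm
      exact hez (by rw [herm_smul_right hf', hee, mul_zero])
    have hbind : b₀ ∉ Submodule.span F₀ ({b} : Set (ι → F₀)) := fun hm => by
      obtain ⟨c, hc⟩ := Submodule.mem_span_singleton.1 hm
      rcases eq_or_ne t 0 with ht | ht
      · exact hzind (by
          rw [show z = 0 from em_injective F₀ P (by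
            rw [em_zero]; exact gl_mulVec_eq_zero.1 (by rw [hb, ht, zero_smul]))]
          exact zero_mem _)
      have h1 : (g : Matrix ι ι F) *ᵥ (em F₀ P e - (t₀ * (c : F) / t) • em F₀ P z) = 0 := by
        rw [mulVec_sub, mulVec_smul, hb, hb₀, ← hc, em_smul, smul_smul, smul_smul, div_mul_cancel₀ _ ht, sub_self]
      rw [gl_mulVec_eq_zero, sub_eq_zero] at h1
      have h2 := congrArg (fun v => f v (em F₀ P e)) h1
      simp only [D.form.smul_left, hr_em_iso D hee] at h2
      have h3 : (t₀ * (c : F) / t) * f (em F₀ P z) (em F₀ P e) = 0 := h2.symm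
      rcases mul_eq_zero.1 h3 with h4 | h4
      · rw [h4, zero_smul] at h1
        exact em_ne_zero F₀ P he0 h1
      · exact hze (Subtype.ext h4)
    have hd' : t₀ • em F₀ P b₀ + (t * (k : F)) • em F₀ P b = s • em F₀ P d := by
      rw [← hd, em_add, em_smul, mulVec_add, mulVec_smul, hb₀, hb, smul_smul, mul_comm t]
    obtain ⟨p, hp⟩ := Subf.coeff_ratio F₀ P hbind hd'
    have hbind' : b ∉ Submodule.span F₀ ({b₀} : Set (ι → F₀)) := fun hm => by
      obtain ⟨c, hc⟩ := Submodule.mem_span_singleton.1 hm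
      rcases eq_or_ne c 0 with hc0 | hc0
      · refine hzind ?_
        rw [show z = 0 from em_injective F₀ P (by
          rw [em_zero]; exact gl_mulVec_eq_zero.1 (by rw [hb, ← hc, hc0, zero_smul, em_zero, smul_zero]))]
        exact zero_mem _
      · exact hbind (Submodule.mem_span_singleton.2 ⟨c⁻¹, by rw [← hc, smul_smul, inv_mul_cancel₀ hc0, one_smul]⟩)
    obtain ⟨q, hq⟩ := Subf.coeff_ratio F₀ P hbind' (by rw [add_comm]; exact hd')
    have hk0 : (k : F) ≠ 0 := fun h0 => div_ne_zero hδ hze (hk ▸ Subtype.ext h0)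
    have hp0 : (p : F) ≠ 0 := fun h0 => ht₀ (by rw [hp, h0, mul_zero])
    refine ⟨(q / (p * k)) • b, ?_⟩
    rw [hb, em_smul, smul_smul]
    congr 1
    push_cast
    rw [hp]
    field_simp
    linear_combination hq
  have htop := subspace_le_of_pair hf' (X := ⊤) (S := S) Submodule.mem_top hee Submodule.mem_top hhh heh
    ⟨b₀, hb₀⟩ (fun z _ hz hne => hiso z hz hne)
  exact Subf.mem_subfieldSubgroup_of_image F₀ P ht₀ fun i => htop Submodule.mem_top

end CfsgLib.Perm.Trans.Unit
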