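import Cfsg.Agent.Lib.Perm.Trans.UnitSubfEmb
import Cfsg.Agent.Lib.Perm.Dickson.SubfieldPair

/-!
# Overgroups of unitary subfield groups of odd degree: two transvection groups in a plane

With small transvection groups the products of rational points and centres have rational norms, so the centres are
rational.
-/

set_option autoImplicit false
set_option linter.all false

namespace CfsgLib.Perm.Trans.Unit

open scoped Matrix
open Matrix Cfsg.Geo CfsgLib.Perm.Asch CfsgLib.Perm.Trans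
open CfsgLib.Perm.Trans.Subf (em lift em_add em_neg em_sub em_smul em_sum em_zero em_injective em_ne_zero exists_coords lift_em lift_mem ext_em)

attribute [local instance] subfieldFintype

variable {ι : Type} [Fintype ι] [DecidableEq ι] {F : Type*} [Field F] [Fintype F]
variable {σ : F ≃+* F} {f : (ι → F) → (ι → F) → F} {F₀ : Subfield F} {P : GL ι F} {r : ℕ}
variable (D : HermRat σ f F₀ P r) {M : Subgroup (GL ι F)}
variable (hHM : subfieldSubgroup F₀ P ⊓ (isoU f ⊓ specialLinear ι F) ≤ M)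
variable (hM : M ≤ isoU f ⊓ specialLinear ι F) (hT : Tight D M)
include D

/-- the cardinality of the fixed fields -/
theorem hr_fixed_card : ∀ K : Subfield F, (∀ x, x ∈ K ↔ σ x = x) →
    Fintype.card K = Nat.card (F₀.comap K.subtype) ^ r := by
  classical
  intro K hK
  obtain ⟨ψ, hψ⟩ := hr_not_fixed D
  have hne : σ (ψ : F) - ψ ≠ 0 := sub_ne_zero.2 hψ
  have split : ∀ z : F, ∃ x y : K, z = (x : F) + (ψ : F) * y := fun z => by
    obtain ⟨y, hy⟩ : ∃ y, y = (σ z - z) / (σ (ψ : F) - ψ) := ⟨_, rfl⟩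
    have hyσ : σ y = y := by
      rw [hy, map_div₀, map_sub, map_sub, D.form.involutive, D.form.involutive, ← neg_sub (σ z), ← neg_sub (σ (ψ : F)),
        neg_div_neg_eq]
    refine ⟨⟨z - ψ * y, (hK _).2 ?_⟩, ⟨y, (hK _).2 hyσ⟩, by show z = z - ψ * y + ψ * y; ring⟩
    rw [map_sub, map_mul, hyσ, hy]
    field_simp
    ring
  have uniq : ∀ x y x' y' : K, (x : F) + (ψ : F) * y = x' + (ψ : F) * y' → x = x' ∧ y = y' := by
    intro x y x' y' h
    have h' := congrArg σ h
    simp only [map_add, map_mul, (hK _).1 x.2, (hK _).1 y.2, (hK _).1 x'.2, (hK _).1 y'.2] at h'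
    have hy : (y : F) = y' :=
      sub_eq_zero.1 ((mul_eq_zero.1 (show (σ (ψ : F) - ψ) * ((y : F) - y') = 0 by linear_combination h' - h)).resolve_left hne)
    exact ⟨Subtype.ext (by rw [hy] at h; exact add_right_cancel h), Subtype.ext hy⟩
  have h1 : Fintype.card F = Fintype.card K ^ 2 := by
    rw [sq, ← Fintype.card_prod]
    exact (Fintype.card_of_bijective (f := fun p : K × K => (p.1 : F) + (ψ : F) * p.2)
      ⟨fun p q h => Prod.ext (uniq _ _ _ _ h).1 (uniq _ _ _ _ h).2, fun z => by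
        obtain ⟨x, y, h⟩ := split z; exact ⟨(x, y), h.symm⟩⟩).symm
  obtain ⟨K₀, hK₀⟩ : ∃ K₀, K₀ = F₀.comap K.subtype := ⟨_, rfl⟩
  have h2 : Nat.card F₀ = Nat.card K₀ ^ 2 := by
    rw [sq, ← Nat.card_prod, hK₀]
    refine (Nat.card_eq_of_bijective (fun p : F₀.comap K.subtype × F₀.comap K.subtype =>
      (⟨((p.1 : K) : F) + (ψ : F) * ((p.2 : K) : F), F₀.add_mem p.1.2 (F₀.mul_mem ψ.2 p.2.2)⟩ : F₀))
      ⟨fun p q h => ?_, fun z => ?_⟩).symm
    · have h' := uniq _ _ _ _ (congrArg Subtype.val h)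
      exact Prod.ext (Subtype.ext h'.1) (Subtype.ext h'.2)
    · obtain ⟨x, y, h⟩ := split (z : F)
      have hy : (y : F) ∈ F₀ := by
        have h' := congrArg σ h
        simp only [map_add, map_mul, (hK _).1 x.2, (hK _).1 y.2] at h'
        rw [show (y : F) = (σ (z : F) - z) / (σ (ψ : F) - ψ) by rw [eq_div_iff hne]; linear_combination h - h']
        exact F₀.div_mem (F₀.sub_mem (hr_bar_mem D z.2) z.2) (F₀.sub_mem (hr_bar_mem D ψ.2) ψ.2)
      have hx : (x : F) ∈ F₀ := by
        rw [show (x : F) = z - ψ * y by linear_combination -h]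
        exact F₀.sub_mem z.2 (F₀.mul_mem ψ.2 hy)
      exact ⟨(⟨x, hx⟩, ⟨y, hy⟩), Subtype.ext h.symm⟩
  rw [← hK₀]
  refine Nat.pow_left_injective two_ne_zero ?_
  show Fintype.card K ^ 2 = (Nat.card K₀ ^ r) ^ 2
  rw [← h1, D.card, h2, ← pow_mul, ← pow_mul, mul_comm]

include hHM hM hT

/-- products of rational points and centres have rational norms -/
theorem norm_rational (h2 : (2 : F) ≠ 0) {a : ι → F₀} (haa : hrForm D a a = 0) {v : ι → F} (hvv : f v v = 0)
    (hv : ∀ c : F₀, hrBar D c = -c → UT f M v (c : F)) :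
    f (em F₀ P a) v * σ (f (em F₀ P a) v) ∈ F₀ := by
  classical
  obtain ⟨E, hE⟩ : ∃ E, E = em F₀ P a := ⟨_, rfl⟩
  obtain ⟨w, hw⟩ : ∃ w, w = f E v := ⟨_, rfl⟩
  rw [← hE, ← hw]
  rcases eq_or_ne w 0 with hw0 | hw0
  · rw [hw0, zero_mul]; exact F₀.zero_mem
  have ha0 : a ≠ 0 := fun h => hw0 (by rw [hw, hE, h, em_zero, herm_zero_left D.form])
  have hEE : f E E = 0 := hE ▸ hr_em_iso D haa
  obtain ⟨δ, hδ, hδσ⟩ := exists_trace_zero (hrForm_unitary D)
  have hδ' : (δ : F) ≠ 0 := fun h => hδ (Subtype.ext h)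
  have hδσ' : σ (δ : F) = -(δ : F) := by rw [← hrBar_coe D, hδσ]; rfl
  have hvE : f v E = σ w := by rw [hw, ← D.form.herm]
  have hσw : σ w ≠ 0 := by simpa using hw0
  let K : Subfield F := RingHom.eqLocusField (σ : F →+* F) (RingHom.id F)
  have hK : ∀ x, x ∈ K ↔ σ x = x := fun x => Iff.rfl
  obtain ⟨μ, hμ⟩ : ∃ μ, μ = (δ : F) * δ * (w * σ w) := ⟨_, rfl⟩
  have hμK : μ ∈ K := (hK _).2 (by rw [hμ, map_mul, map_mul, map_mul, hδσ', D.form.involutive]; ring)
  by_contra hn
  have hμ0 : (⟨μ, hμK⟩ : K) ∉ F₀.comap K.subtype := fun h => hn (by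
    have h' := F₀.div_mem (show μ ∈ F₀ from h) (F₀.mul_mem δ.2 δ.2)
    rwa [hμ, mul_div_cancel_left₀ _ (mul_ne_zero hδ' hδ')] at h')
  obtain ⟨V, hV⟩ : ∃ V, V = ((δ : F) * σ w)⁻¹ • v := ⟨_, rfl⟩
  have hvV : v = ((δ : F) * σ w) • V := by
    rw [hV, smul_smul, mul_inv_cancel₀ (mul_ne_zero hδ' hσw), one_smul]
  have hVE : f V E = (δ : F)⁻¹ := by
    rw [hV, D.form.smul_left, hvE]
    field_simp
  have hVv : f V v = 0 := by rw [hV, D.form.smul_left, hvv, mul_zero]
  -- the elements of `M` acting on the plane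
  let G : Subgroup (SpecialLinearGroup (Fin 2) K) :=
    { carrier := {A | ∃ g ∈ M, (g : Matrix ι ι F) *ᵥ E = (A.1 0 0 : F) • E + (A.1 1 0 : F) • V ∧
        (g : Matrix ι ι F) *ᵥ V = (A.1 0 1 : F) • E + (A.1 1 1 : F) • V ∧
        ∀ x, f x E = 0 → f x v = 0 → (g : Matrix ι ι F) *ᵥ x = x}
      one_mem' := ⟨1, M.one_mem, by simp, by simp, fun x _ _ => by simp⟩
      mul_mem' := by
        rintro A B ⟨g, hg, g1, g2, g3⟩ ⟨h, hh, h1, h2', h3⟩
        refine ⟨g * h, M.mul_mem hg hh, ?_, ?_, fun x hx hx' => by rw [gl_mul_mulVec, h3 x hx hx', g3 x hx hx']⟩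
        all_goals
          simp only [gl_mul_mulVec, h1, h2', mulVec_add, mulVec_smul, g1, g2, show (A * B).1 = A.1 * B.1 from rfl,
            Matrix.mul_apply, Fin.sum_univ_two]
          push_cast
          module
      inv_mem' := by
        rintro A ⟨g, hg, g1, g2, g3⟩
        have hdet : (A.1 0 0 : F) * (A.1 1 1 : F) - (A.1 0 1 : F) * (A.1 1 0 : F) = 1 := by
          have h := congrArg Subtype.val ((Matrix.det_fin_two A.1).symm.trans A.2)
          push_cast at h
          exact h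
        refine ⟨g⁻¹, M.inv_mem hg, ?_, ?_, fun x hx hx' => ?_⟩
        · have h : (g : Matrix ι ι F) *ᵥ ((A.1 1 1 : F) • E + (-(A.1 1 0 : F)) • V) = E := by
            simp only [mulVec_add, mulVec_smul, g1, g2]
            match_scalars <;> first | linear_combination hdet | ring
          rw [show (A⁻¹).1 = !![A.1 1 1, -A.1 0 1; -A.1 1 0, A.1 0 0] from Matrix.adjugate_fin_two A.1]
          simp only [Matrix.of_apply, Matrix.cons_val', Matrix.cons_val_zero, Matrix.cons_val_one, Matrix.empty_val',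
            Matrix.cons_val_fin_one]
          conv_lhs => rw [← h, gl_inv_mulVec]
          push_cast
          rfl
        · have h : (g : Matrix ι ι F) *ᵥ ((-(A.1 0 1 : F)) • E + (A.1 0 0 : F) • V) = V := by
            simp only [mulVec_add, mulVec_smul, g1, g2]
            match_scalars <;> first | linear_combination hdet | ring
          rw [show (A⁻¹).1 = !![A.1 1 1, -A.1 0 1; -A.1 1 0, A.1 0 0] from Matrix.adjugate_fin_two A.1]
          simp only [Matrix.of_apply, Matrix.cons_val', Matrix.cons_val_zero, Matrix.cons_val_one, Matrix.empty_val',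
            Matrix.cons_val_fin_one]
          conv_lhs => rw [← h, gl_inv_mulVec]
          push_cast
          rfl
        · conv_lhs => rw [← g3 x hx hx', gl_inv_mulVec] }
  have hup : ∀ t ∈ F₀.comap K.subtype, CfsgLib.Perm.Dickson.upS t ∈ G := by
    intro t ht
    have htF : (t : F) ∈ F₀ := ht
    obtain ⟨c, hc⟩ : ∃ c : F₀, (c : F) = (δ : F) * t := ⟨⟨_, F₀.mul_mem δ.2 htF⟩, rfl⟩
    obtain ⟨g, hg, hgx⟩ := hr_rat_tv D hHM haa (c := c) (Subtype.ext (by
      rw [hrBar_coe, hc, map_mul, hδσ', (hK _).1 t.2]; push_cast; rw [hc]; ring))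
    rw [← hE, hc] at hgx
    refine ⟨g, hg, ?_, ?_, fun x hx _ => by rw [hgx, hx, mul_zero, zero_smul, add_zero]⟩
    · rw [hgx, hEE]; simp [CfsgLib.Perm.Dickson.upS]
    · rw [hgx, hVE]; simp [CfsgLib.Perm.Dickson.upS]
      match_scalars <;> field_simp
  have hlo : CfsgLib.Perm.Dickson.loS (⟨μ, hμK⟩ : K) ∈ G := by
    obtain ⟨g, hg, hgx⟩ := hv δ hδσ
    refine ⟨g, hg, ?_, ?_, fun x _ hx => by rw [hgx, hx, mul_zero, zero_smul, add_zero]⟩
    · rw [hgx, ← hw]; simp [CfsgLib.Perm.Dickson.loS]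
      rw [hvV, hμ]
      match_scalars <;> ring
    · rw [hgx, hVv]; simp [CfsgLib.Perm.Dickson.loS]
  have h2K : (2 : K) ≠ 0 := fun h => h2 (by rw [← map_ofNat K.subtype, h, map_zero])
  have hall := CfsgLib.Perm.Dickson.all_upper_of_pair h2K D.prime
    (fun h => absurd h (by have := D.two_lt; omega)) (hr_fixed_card D K hK) hup hμ0 hlo
  refine hμ0 ?_
  obtain ⟨g, hg, g1, g2, g3⟩ := hall (⟨μ, hμK⟩ : K)
  have hUT : UT f M E ((δ : F) * μ) := by
    refine ⟨g, hg, fun x => ?_⟩
    simp [CfsgLib.Perm.Dickson.upS] at g1 g2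
    obtain ⟨α, hα⟩ : ∃ α, α = f x v / w := ⟨_, rfl⟩
    obtain ⟨β, hβ⟩ : ∃ β, β = (δ : F) * f x E := ⟨_, rfl⟩
    obtain ⟨y, hy⟩ : ∃ y, y = x - α • E - β • V := ⟨_, rfl⟩
    have hyE : f y E = 0 := by
      rw [hy, herm_sub_left D.form, herm_sub_left D.form, D.form.smul_left, D.form.smul_left, hEE, hVE, hβ]
      field_simp
      ring
    have hyv : f y v = 0 := by
      rw [hy, herm_sub_left D.form, herm_sub_left D.form, D.form.smul_left, D.form.smul_left, hVv, ← hw, hα,
        div_mul_cancel₀ _ hw0]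
      ring
    rw [show x = α • E + β • V + y by rw [hy]; abel, mulVec_add, mulVec_add, mulVec_smul, mulVec_smul, g1, g2,
      g3 y hyE hyv, D.form.add_left, D.form.add_left, D.form.smul_left, D.form.smul_left, hEE, hVE, hyE]
    match_scalars <;> field_simp <;> ring
  rw [hE] at hUT
  have h := hT a ha0 haa _ (by rw [map_mul, hδσ', (hK μ).1 hμK, neg_mul]) hUT
  have h' := F₀.div_mem h δ.2
  rwa [mul_div_cancel_left₀ _ hδ'] at h'

/-- centres of conjugates of rational transvections are rational points -/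
theorem centre_rational_of_norm (h2 : (2 : F) ≠ 0) (hn : 4 ≤ Fintype.card ι) {g : GL ι F} (hg : g ∈ M) {a' : ι → F₀}
    (ha' : hrForm D a' a' = 0) :
    ∃ (t : F) (d : ι → F₀), (g : Matrix ι ι F) *ᵥ em F₀ P a' = t • em F₀ P d := by
  have hf' := hrForm_unitary D
  have hgiso := mem_isoU.1 (hM hg).1
  obtain ⟨v, hv⟩ : ∃ v, v = (g : Matrix ι ι F) *ᵥ em F₀ P a' := ⟨_, rfl⟩
  rw [← hv]
  obtain ⟨L, hL⟩ : ∃ L : (ι → F₀) → F, L = fun b => f (em F₀ P b) v := ⟨_, rfl⟩
  have hLadd : ∀ b c, L (b + c) = L b + L c := fun b c => by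
    simp only [hL]; rw [em_add, D.form.add_left]
  have hLsmul : ∀ (s : F₀) b, L (s • b) = (s : F) * L b := fun s b => by
    simp only [hL]; rw [em_smul, D.form.smul_left]
  have hnorm : ∀ b, hrForm D b b = 0 → L b * σ (L b) ∈ F₀ := fun b hb => by
    rw [hL]
    exact norm_rational D hHM hM hT h2 hb (by rw [hv, hgiso, hr_em_iso D ha'])
      fun c hc => hv ▸ hr_conj_centre D hHM hM hg ha' hc
  obtain ⟨θ, hθ⟩ := hr_not_fixed D
  have pair : ∀ b c, hrForm D b b = 0 → hrForm D c c = 0 → hrForm D c b = 0 → L b ≠ 0 → L c / L b ∈ F₀ := by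
    intro b c hb hc hcb hb0
    obtain ⟨z, hz⟩ : ∃ z, z = L c / L b := ⟨_, rfl⟩
    rw [← hz]
    have hNb0 : L b * σ (L b) ≠ 0 := mul_ne_zero hb0 (by simpa using hb0)
    have key : ∀ s : F₀, (z + s) * σ (z + s) ∈ F₀ := fun s => by
      have hiso : hrForm D (c + s • b) (c + s • b) = 0 := by
        rw [herm_line hf' c b s, hb, hc, hcb, herm_swap_zero hf' hcb]; ring
      have h := F₀.div_mem (hnorm _ hiso) (hnorm b hb)
      rwa [show L (c + s • b) = (z + s) * L b by
          rw [hLadd, hLsmul, add_mul, hz, div_mul_cancel₀ _ hb0],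
        map_mul, mul_mul_mul_comm, mul_div_cancel_right₀ _ hNb0] at h
    have h0 := key 0
    rw [ZeroMemClass.coe_zero, add_zero] at h0
    have htr : ∀ s : F₀, z * σ (s : F) + s * σ z ∈ F₀ := fun s => by
      have h := F₀.sub_mem (F₀.sub_mem (key s) h0) (F₀.mul_mem s.2 (hr_bar_mem D s.2))
      rwa [map_add, show (z + (s : F)) * (σ z + σ (s : F)) - z * σ z - (s : F) * σ (s : F) =
        z * σ (s : F) + s * σ z by ring] at h
    have h1 := htr 1
    rw [OneMemClass.coe_one, map_one, mul_one, one_mul] at h1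
    rw [show z = ((z * σ (θ : F) + θ * σ z) - θ * (z + σ z)) / (σ (θ : F) - θ) by
      rw [eq_div_iff (sub_ne_zero.2 hθ)]; ring]
    exact F₀.div_mem (F₀.sub_mem (htr θ) (F₀.mul_mem θ.2 h1)) (F₀.sub_mem (hr_bar_mem D θ.2) θ.2)
  -- the vectors with rational ratio
  obtain ⟨e₀, h₀, -, -, -⟩ := hr_exists_orth D hn 0 0
  have hee₀ : ∃ e h : ι → F₀, hrForm D e e = 0 ∧ hrForm D h h = 0 ∧ hrForm D e h = 1 := by
    obtain ⟨e, he0, hee, -, -⟩ := hr_exists_orth D hn 0 0
    obtain ⟨y, hy⟩ := (hf'.nondegenerate e he0).2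
    obtain ⟨h, -, hhh, heh, -⟩ := exists_partner hf' (X := ⊤) Submodule.mem_top hee (y := y) Submodule.mem_top hy
    exact ⟨e, h, hee, hhh, heh⟩
  obtain ⟨e, h, hee, hhh, heh⟩ := hee₀
  by_cases hzero : ∀ b, hrForm D b b = 0 → L b = 0
  · let S : Submodule F₀ (ι → F₀) :=
      { carrier := {b | L b = 0}
        add_mem' := fun {b c} hb hc => by show L (b + c) = 0; rw [hLadd, hb, hc, add_zero]
        zero_mem' := by show L 0 = 0; rw [hL]; simp [em_zero, herm_zero_left D.form]
        smul_mem' := fun s b hb => by show L (s • b) = 0; rw [hLsmul, hb, mul_zero] }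
    have htop := subspace_le_of_pair hf' (X := ⊤) (S := S) Submodule.mem_top hee Submodule.mem_top hhh heh
      (hzero e hee) (fun z _ hz _ => hzero z hz)
    refine ⟨0, 0, ?_⟩
    rw [zero_smul]
    refine eq_of_herm D.form fun q => ?_
    obtain ⟨b, rfl⟩ := exists_coords F₀ P q
    rw [herm_zero_right D.form]
    induction (Finset.univ : Finset ι) using Finset.induction_on with
    | empty => simp [herm_zero_left D.form]
    | @insert i s hi ih =>
      have h0 : L (Pi.single i 1) = 0 := htop Submodule.mem_top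
      simp only [hL] at h0
      rw [Finset.sum_insert hi, D.form.add_left, ih, D.form.smul_left, h0, mul_zero, add_zero]
  push Not at hzero
  obtain ⟨a₀, ha₀, hL₀⟩ := hzero
  have ha₀0 : a₀ ≠ 0 := fun h => hL₀ (by rw [h, hL]; simp [em_zero, herm_zero_left D.form])
  let S : Submodule F₀ (ι → F₀) :=
    { carrier := {b | L b / L a₀ ∈ F₀}
      add_mem' := fun {b c} hb hc => by
        show L (b + c) / L a₀ ∈ F₀
        rw [hLadd, add_div]; exact F₀.add_mem hb hc
      zero_mem' := by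
        show L 0 / L a₀ ∈ F₀
        rw [hL]; simp [em_zero, herm_zero_left D.form, F₀.zero_mem]
      smul_mem' := fun s b hb => by
        show L (s • b) / L a₀ ∈ F₀
        rw [hLsmul, mul_div_assoc]; exact F₀.mul_mem s.2 hb }
  have trans : ∀ {b c d : F}, c ≠ 0 → b / c ∈ F₀ → c / d ∈ F₀ → b / d ∈ F₀ := fun {b c d} hc h1 h3 => by
    have h := F₀.mul_mem h1 h3
    rwa [div_mul_div_cancel₀ hc] at h
  have hiso : ∀ c, hrForm D c c = 0 → L c / L a₀ ∈ F₀ := by
    intro c hc
    by_cases hca : hrForm D c a₀ = 0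
    · exact pair a₀ c ha₀ hc hca hL₀
    obtain ⟨p, hp0, hpp, hpa, hpc⟩ := hr_exists_orth D hn a₀ c
    by_cases hLp : L p = 0
    swap
    · exact trans hLp (pair p c hpp hc (herm_swap_zero hf' hpc) hLp) (pair a₀ p ha₀ hpp hpa hL₀)
    -- a partner of `p` orthogonal to `a₀` and `c`
    obtain ⟨q, hqq, hpq, hqa, hqc⟩ : ∃ q, hrForm D q q = 0 ∧ hrForm D p q = 1 ∧ hrForm D q a₀ = 0 ∧
        hrForm D q c = 0 := by
      have hnot : p ∉ Submodule.span F₀ ({a₀, c} : Set (ι → F₀)) := fun hm => by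
        obtain ⟨s, t, hst⟩ := Submodule.mem_span_pair.1 hm
        rw [← hst, hf'.add_left, hf'.smul_left, hf'.smul_left, ha₀, mul_zero, zero_add] at hpa
        rw [← hst, hf'.add_left, hf'.smul_left, hf'.smul_left, hc, mul_zero, add_zero] at hpc
        refine hp0 ?_
        rw [← hst, (mul_eq_zero.1 hpa).resolve_right hca,
          (mul_eq_zero.1 hpc).resolve_right (fun h => hca (herm_swap_zero hf' h)), zero_smul, zero_smul, add_zero]
      obtain ⟨φ, hφp, hφ⟩ := exists_dual _ hnot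
      obtain ⟨y, hy⟩ := exists_rep hf' φ
      obtain ⟨q, hq, hqq, hpq, -⟩ := exists_partner hf' (X := perpOf hf' a₀ ⊓ perpOf hf' c) ⟨hpa, hpc⟩ hpp (y := y)
        ⟨herm_swap_zero hf' (by rw [hy, hφ a₀ (Submodule.subset_span (by simp))]),
          herm_swap_zero hf' (by rw [hy, hφ c (Submodule.subset_span (by simp))])⟩
        (by rw [hy, hφp]; exact one_ne_zero)
      exact ⟨q, hqq, hpq, hq.1, hq.2⟩
    by_cases hLq : L q = 0
    swap
    · exact trans hLq (pair q c hqq hc (herm_swap_zero hf' hqc) hLq) (pair a₀ q ha₀ hqq hqa hL₀)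
    obtain ⟨k, hk⟩ : ∃ k, k = -(hrForm D c a₀)⁻¹ := ⟨_, rfl⟩
    obtain ⟨b, hb⟩ : ∃ b, b = q + k • c := ⟨_, rfl⟩
    have hqp : hrForm D q p = 1 := by rw [hf'.herm, hpq, map_one]
    have hbb : hrForm D b b = 0 := by
      rw [hb, herm_line hf' q c k, hqq, hc, hqc, herm_swap_zero hf' hqc]; ring
    have hbc : hrForm D b c = 0 := by rw [hb, hf'.add_left, hf'.smul_left, hqc, hc, mul_zero, add_zero]
    have hap : hrForm D (a₀ + p) (a₀ + p) = 0 := by
      rw [hf'.add_left, herm_add_right hf', herm_add_right hf', ha₀, hpp, hpa, herm_swap_zero hf' hpa]; ring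
    have hba : hrForm D b (a₀ + p) = 0 := by
      rw [hb, hf'.add_left, hf'.smul_left, herm_add_right hf', herm_add_right hf', hqa, hqp,
        herm_swap_zero hf' hpc, hk, zero_add, add_zero, neg_mul, inv_mul_cancel₀ hca, add_neg_cancel]
    have hLap : L (a₀ + p) = L a₀ := by rw [hLadd, hLp, add_zero]
    have h1 := pair (a₀ + p) b hap hbb hba (by rwa [hLap])
    rw [hLap, show L b = (k : F) * L c by rw [hb, hLadd, hLsmul, hLq, zero_add], mul_div_assoc] at h1
    have hk0 : (k : F) ≠ 0 := fun h => by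
      have hk' : k = 0 := Subtype.ext h
      rw [hk, neg_eq_zero, inv_eq_zero] at hk'
      exact hca hk'
    have h3 := F₀.mul_mem (F₀.inv_mem k.2) h1
    rwa [inv_mul_cancel_left₀ hk0] at h3
  have htop := subspace_le_of_pair hf' (X := ⊤) (S := S) Submodule.mem_top hee Submodule.mem_top hhh heh
    (hiso e hee) (fun z _ hz _ => hiso z hz)
  let φ : (ι → F₀) →ₗ[F₀] F₀ :=
    { toFun := fun b => ⟨L b / L a₀, htop Submodule.mem_top⟩
      map_add' := fun b c => Subtype.ext (by push_cast; rw [hLadd, add_div])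
      map_smul' := fun s b => Subtype.ext (by
        push_cast [RingHom.id_apply, smul_eq_mul]; rw [hLsmul, mul_div_assoc]) }
  obtain ⟨u, hu⟩ := exists_rep hf' (fvec φ)
  refine ⟨σ (L a₀), u, eq_of_herm D.form fun q => ?_⟩
  obtain ⟨b, rfl⟩ := exists_coords F₀ P q
  have key : ∀ b : ι → F₀, f (em F₀ P b) v = f (em F₀ P b) (σ (L a₀) • em F₀ P u) := fun b => by
    rw [herm_smul_right D.form, D.form.involutive, ← hrForm_coe D b u, hu, fvec_dot]
    show _ = L a₀ * (L b / L a₀)
    rw [mul_div_cancel₀ _ hL₀, hL]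
  induction (Finset.univ : Finset ι) using Finset.induction_on with
  | empty => simp [herm_zero_left D.form]
  | @insert i s hi ih =>
    rw [Finset.sum_insert hi, D.form.add_left, D.form.add_left, ih, D.form.smul_left, D.form.smul_left, key]

/-- in odd characteristic small transvection groups force rationality -/
theorem tight_le_of_odd (h2 : (2 : F) ≠ 0) (hn : 4 ≤ Fintype.card ι) :
    M ≤ subfieldSubgroup F₀ P ⊓ (isoU f ⊓ specialLinear ι F) := fun g hg =>
  ⟨hr_subfield_of_iso_lines D hn fun a ha => centre_rational_of_norm D hHM hM hT h2 hn hg ha, hM hg⟩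

end CfsgLib.Perm.Trans.Unit
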