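import Cfsg.Agent.Lib.Perm.Trans.UnitSubfMax
import Cfsg.Agent.Lib.Perm.Trans.UnitSubfNorm

/-!
# Unitary subfield subgroups of odd degree in dimension six and more
-/

set_option autoImplicit false
set_option linter.all false

namespace CfsgLib.Perm.Trans.Unit

open scoped Matrix
open Matrix Cfsg.Geo CfsgLib.Perm.Asch CfsgLib.Perm.Trans

variable {ι : Type} [Fintype ι] [DecidableEq ι] {F : Type*} [Field F] [Fintype F]
variable {σ : F ≃+* F} {f : (ι → F) → (ι → F) → F} {F₀ : Subfield F} {P : GL ι F} {r : ℕ}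
variable (D : HermRat σ f F₀ P r)
include D

/-- subfield subgroups of odd degree are maximal from dimension four on -/
theorem herm_subfield_maximal_six (hn : 4 ≤ Fintype.card ι) :
    IsMaximalIn (isoU f ⊓ specialLinear ι F) (subfieldSubgroup F₀ P ⊓ (isoU f ⊓ specialLinear ι F)) := by
  refine herm_subfield_maximal_of D hn fun M hHM hM hT => ?_
  by_cases h2 : (2 : F) = 0
  · obtain ⟨i₁, h₁, i₂, h₂, h₁₂, h₂₂, h₁1, h₂1, hn₁, hn₂, hnc⟩ := exists_involutions_two D (by omega) h2
    exact tight_le_of_two D hHM hM hT h2 hn h₁ h₂ h₁₂ h₂₂ h₁1 h₂1 hnc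
  · exact tight_le_of_odd D hHM hM hT h2 (by omega)

end CfsgLib.Perm.Trans.Unit
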