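import Cfsg.Agent.Lib.Perm.Trans.UnitMax
import Cfsg.Agent.Lib.Perm.Trans.SubfLines
import Cfsg.Agent.Lib.Perm.Trans.OrthB
import Cfsg.Agent.Lib.Perm.Trans.OrthSim

/-!
# Orthogonal structures over the fixed field in unitary spaces: real parts, Heisenberg elements, spreading centres
-/

set_option autoImplicit false
set_option linter.all false

namespace CfsgLib.Perm.Trans.Unit.ORat

open scoped Matrix
open Matrix Cfsg.Geo CfsgLib.Perm.Asch CfsgLib.Perm.Trans
open CfsgLib.Perm.Trans.Subf (em em_add em_neg em_sub em_smul em_zero em_injective em_ne_zero exists_coords inv_em)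

variable {ι : Type} [Fintype ι] [DecidableEq ι] {F : Type*} [Field F] [Fintype F]
variable {σ : F ≃+* F} {f : (ι → F) → (ι → F) → F} {F₀ : Subfield F} {P : GL ι F} {θ : F}

/-- the data of an orthogonal form on the rational vectors -/
structure OD (σ : F ≃+* F) (f : (ι → F) → (ι → F) → F) (F₀ : Subfield F) (P : GL ι F) (θ : F) : Prop where
  form : IsUnitaryForm σ f
  fix : ∀ x : F, x ∈ F₀ ↔ σ x = x
  rat : ∀ a b : ι → F₀, f (em F₀ P a) (em F₀ P b) ∈ F₀
  two : (2 : F) ≠ 0
  ne_zero : θ ≠ 0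
  bar : σ θ = -θ
  big : 4 ≤ Fintype.card ι

variable (D : OD σ f F₀ P θ)
include D

theorem sfix (a : F₀) : σ (a : F) = a := (D.fix _).1 a.2

theorem two' : (2 : F₀) ≠ 0 := fun h => D.two (by have := congrArg Subtype.val h; exact this)

theorem split_eq (z : F) : z = (z + σ z) / 2 + θ * ((z - σ z) / (2 * θ)) := by
  have h1 := D.two
  have h2 := D.ne_zero
  field_simp
  ring

theorem re_mem (z : F) : (z + σ z) / 2 ∈ F₀ := (D.fix _).2 (by
  rw [map_div₀, map_add, D.form.involutive, map_ofNat, add_comm])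

theorem im_mem (z : F) : (z - σ z) / (2 * θ) ∈ F₀ := (D.fix _).2 (by
  rw [map_div₀, map_sub, map_mul, D.form.involutive, map_ofNat, D.bar, mul_neg, div_neg, ← neg_div, neg_sub])

theorem coe_split_unique {x y x' y' : F₀} (h : (x : F) + θ * y = x' + θ * y') : x = x' ∧ y = y' := by
  have h' := congrArg σ h
  simp only [map_add, map_mul, sfix D, D.bar] at h'
  have e1 : (2 : F) * ((x : F) - x') = 0 := by linear_combination h + h'
  have e2 : (2 * θ) * ((y : F) - y') = 0 := by linear_combination h - h'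
  exact ⟨Subtype.ext (sub_eq_zero.1 ((mul_eq_zero.1 e1).resolve_left D.two)),
    Subtype.ext (sub_eq_zero.1 ((mul_eq_zero.1 e2).resolve_left (mul_ne_zero D.two D.ne_zero)))⟩

/-- the rational part -/
def rp : (ι → F) →ₗ[F₀] (ι → F₀) where
  toFun x i := ⟨((((P⁻¹ : GL ι F) : Matrix ι ι F) *ᵥ x) i + σ ((((P⁻¹ : GL ι F) : Matrix ι ι F) *ᵥ x) i)) / 2, re_mem D _⟩
  map_add' x y := funext fun i => Subtype.ext (by
    simp only [mulVec_add, Pi.add_apply, map_add]; push_cast; ring)
  map_smul' c x := funext fun i => Subtype.ext (by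
    show ((((P⁻¹ : GL ι F) : Matrix ι ι F) *ᵥ ((c : F) • x)) i + σ ((((P⁻¹ : GL ι F) : Matrix ι ι F) *ᵥ ((c : F) • x)) i)) / 2 =
      (c : F) * (((((P⁻¹ : GL ι F) : Matrix ι ι F) *ᵥ x) i + σ ((((P⁻¹ : GL ι F) : Matrix ι ι F) *ᵥ x) i)) / 2)
    rw [mulVec_smul, Pi.smul_apply, smul_eq_mul, map_mul, sfix D]
    ring)

/-- the irrational part -/
def ip : (ι → F) →ₗ[F₀] (ι → F₀) where
  toFun x i := ⟨((((P⁻¹ : GL ι F) : Matrix ι ι F) *ᵥ x) i - σ ((((P⁻¹ : GL ι F) : Matrix ι ι F) *ᵥ x) i)) / (2 * θ),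
    im_mem D _⟩
  map_add' x y := funext fun i => Subtype.ext (by
    simp only [mulVec_add, Pi.add_apply, map_add]; push_cast; ring)
  map_smul' c x := funext fun i => Subtype.ext (by
    show ((((P⁻¹ : GL ι F) : Matrix ι ι F) *ᵥ ((c : F) • x)) i - σ ((((P⁻¹ : GL ι F) : Matrix ι ι F) *ᵥ ((c : F) • x)) i)) / (2 * θ) =
      (c : F) * (((((P⁻¹ : GL ι F) : Matrix ι ι F) *ᵥ x) i - σ ((((P⁻¹ : GL ι F) : Matrix ι ι F) *ᵥ x) i)) / (2 * θ))
    rw [mulVec_smul, Pi.smul_apply, smul_eq_mul, map_mul, sfix D]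
    ring)

theorem decomp (x : ι → F) : x = em F₀ P (rp D x) + θ • em F₀ P (ip D x) := by
  have h : (fun i => ((rp D x i : F₀) : F)) + θ • (fun i => ((ip D x i : F₀) : F)) =
      ((P⁻¹ : GL ι F) : Matrix ι ι F) *ᵥ x := funext fun i => (split_eq D _).symm
  rw [Subf.em, Subf.em, ← mulVec_smul, ← mulVec_add, h, gl_mulVec_inv]

theorem parts_unique {x : ι → F} {a b : ι → F₀} (h : x = em F₀ P a + θ • em F₀ P b) :
    rp D x = a ∧ ip D x = b := by
  have key : ∀ i, rp D x i = a i ∧ ip D x i = b i := fun i => coe_split_unique D (by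
    have h1 := congrArg (fun y => (((P⁻¹ : GL ι F) : Matrix ι ι F) *ᵥ y) i) ((decomp D x).symm.trans h)
    simpa only [mulVec_add, mulVec_smul, Pi.add_apply, Pi.smul_apply, inv_em, smul_eq_mul] using h1)
  exact ⟨funext fun i => (key i).1, funext fun i => (key i).2⟩

theorem rat_parts (a : ι → F₀) : rp D (em F₀ P a) = a ∧ ip D (em F₀ P a) = 0 :=
  parts_unique D (by rw [em_zero, smul_zero, add_zero])

/-- the symmetric form on the rational vectors -/
def rb (_D : OD σ f F₀ P θ) (a b : ι → F₀) : F₀ := ⟨f (em F₀ P a) (em F₀ P b), _D.rat a b⟩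

theorem rb_coe (a b : ι → F₀) : ((rb D a b : F₀) : F) = f (em F₀ P a) (em F₀ P b) := rfl

theorem f_mixed (a b c e : ι → F₀) : f (em F₀ P a + θ • em F₀ P b) (em F₀ P c + θ • em F₀ P e) =
    ((rb D a c : F₀) : F) - θ * θ * (rb D b e : F₀) + θ * (((rb D b c : F₀) : F) - (rb D a e : F₀)) := by
  simp only [rb_coe, D.form.add_left, herm_add_right D.form, D.form.smul_left, herm_smul_right D.form, D.bar]
  ring

theorem rb_symmetric : IsSymmetricForm (rb D) where
  bilinear :=
    ⟨fun x y v => Subtype.ext (by push_cast; rw [rb_coe, rb_coe, rb_coe, em_add, D.form.add_left]),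
     fun c x v => Subtype.ext (by push_cast; rw [rb_coe, rb_coe, em_smul, D.form.smul_left]),
     fun v x y => Subtype.ext (by push_cast; rw [rb_coe, rb_coe, rb_coe, em_add, herm_add_right D.form]),
     fun c v x => Subtype.ext (by push_cast; rw [rb_coe, rb_coe, em_smul, herm_smul_right D.form, sfix D])⟩
  symm u v := Subtype.ext (by rw [rb_coe, rb_coe, D.form.herm, (D.fix _).1 (D.rat v u)])
  nondegenerate v hv := by
    obtain ⟨z, hz⟩ := (D.form.nondegenerate _ (em_ne_zero F₀ P hv)).2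
    have hex : ∃ y, rb D v y ≠ 0 := by
      by_contra hcon
      push Not at hcon
      refine hz ?_
      conv_lhs => rw [decomp D z]
      rw [herm_add_right D.form, herm_smul_right D.form, ← rb_coe D, ← rb_coe D, hcon, hcon]
      push_cast
      ring
    obtain ⟨y, hy⟩ := hex
    refine ⟨⟨y, fun hc => hy (Subtype.ext ?_)⟩, ⟨y, hy⟩⟩
    have h2 := congrArg Subtype.val hc
    rw [rb_coe] at h2
    rw [rb_coe, D.form.herm, h2]
    simp

omit D in
/-- a Heisenberg element at an isotropic point -/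
def IsH (f : (ι → F) → (ι → F) → F) (U A : ι → F) (g : GL ι F) : Prop :=
  ∀ x, (g : Matrix ι ι F) *ᵥ x = x + f x U • A - f x A • U - (f A A / 2 * f x U) • U

theorem exists_heis {U A : ι → F} (hU : f U U = 0) (hUA : f U A = 0) :
    ∃ g ∈ isoU f ⊓ specialLinear ι F, IsH f U A g := by
  have hAU : f A U = 0 := herm_swap_zero D.form hUA
  have hAA : σ (f A A) = f A A := (D.form.herm A A).symm
  obtain ⟨M', hM'⟩ : ∃ M' : Matrix ι ι F, M' = 1 + vecMulVec A (hv D.form U) +
      vecMulVec (-U) (hv D.form A + (f A A / 2) • hv D.form U) := ⟨_, rfl⟩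
  have happ : ∀ x, M' *ᵥ x = x + f x U • A - f x A • U - (f A A / 2 * f x U) • U := fun x => by
    rw [hM', add_mulVec, add_mulVec, one_mulVec, vecMulVec_mulVec, vecMulVec_mulVec, op_smul_eq_smul,
      op_smul_eq_smul, hv_dot, add_dotProduct, smul_dotProduct, hv_dot, hv_dot, smul_eq_mul, add_smul, smul_neg,
      smul_neg]
    abel
  have hiso : ∀ x y, f (M' *ᵥ x) (M' *ᵥ y) = f x y := by
    intro x y
    simp only [happ, herm_sub_left D.form, herm_sub_right D.form, D.form.add_left, herm_add_right D.form,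
      D.form.smul_left, herm_smul_right D.form, hU, hUA, hAU, map_mul, map_div₀, map_ofNat, hAA, ← D.form.herm]
    have := D.two
    field_simp
    ring
  have hdet : M'.det = 1 := by
    have key : ∀ (v w φ ψ : ι → F), (1 + vecMulVec v φ + vecMulVec w ψ).det =
        (1 + φ ⬝ᵥ v) * (1 + ψ ⬝ᵥ w) - (φ ⬝ᵥ w) * (ψ ⬝ᵥ v) := by
      intro v w φ ψ
      let C : Matrix ι (Fin 2) F := Matrix.of fun i j => if j = 0 then v i else w i
      let B : Matrix (Fin 2) ι F := Matrix.of fun j i => if j = 0 then φ i else ψ i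
      have hCB : 1 + vecMulVec v φ + vecMulVec w ψ = 1 + C * B := by
        rw [add_assoc]
        congr 1
        ext i j
        simp [C, B, Matrix.mul_apply, vecMulVec_apply, Fin.sum_univ_two]
      rw [hCB, det_one_add_mul_comm, det_fin_two]
      simp [C, B, Matrix.mul_apply, Matrix.one_apply, dotProduct]
    rw [hM', key, dotProduct_neg, dotProduct_neg, add_dotProduct, add_dotProduct, smul_dotProduct, smul_dotProduct,
      hv_dot, hv_dot, hv_dot, hv_dot, hU, hUA, hAU]
    simp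
  exact ⟨Matrix.GeneralLinearGroup.mkOfDetNeZero M' (by rw [hdet]; exact one_ne_zero),
    ⟨mem_isoU.2 hiso, Units.ext hdet⟩, happ⟩

/-- rational Heisenberg elements lie in the subfield group -/
theorem heis_rat {u a : ι → F₀} {g : GL ι F} (hg : IsH f (em F₀ P u) (em F₀ P a) g) :
    g ∈ subfieldSubgroup F₀ P := by
  refine Subf.mem_subfieldSubgroup_of_image F₀ P one_ne_zero fun i => ⟨?_, ?_⟩
  · exact Pi.single i 1 + rb D (Pi.single i 1) u • a - rb D (Pi.single i 1) a • u -
      (rb D a a / 2 * rb D (Pi.single i 1) u) • u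
  · rw [one_smul, hg, em_sub, em_sub, em_add, em_smul, em_smul, em_smul]
    push_cast
    simp only [rb_coe, show ((2 : F₀) : F) = 2 from rfl]

omit D in
/-- all rational multiples of a Heisenberg element lie in `M` -/
def HM (F₀ : Subfield F) (f : (ι → F) → (ι → F) → F) (M : Subgroup (GL ι F)) (U A : ι → F) : Prop :=
  f U U = 0 ∧ f U A = 0 ∧ ∀ l : F₀, ∃ g ∈ M, IsH f U ((l : F) • A) g

variable {M : Subgroup (GL ι F)}

theorem HM.rat (hHM : subfieldSubgroup F₀ P ⊓ (isoU f ⊓ specialLinear ι F) ≤ M) {u a : ι → F₀}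
    (hu : rb D u u = 0) (hua : rb D u a = 0) : HM F₀ f M (em F₀ P u) (em F₀ P a) := by
  have h1 : f (em F₀ P u) (em F₀ P u) = 0 := by rw [← rb_coe D, hu]; rfl
  have h2 : f (em F₀ P u) (em F₀ P a) = 0 := by rw [← rb_coe D, hua]; rfl
  refine ⟨h1, h2, fun l => ?_⟩
  have h3 : f (em F₀ P u) (em F₀ P (l • a)) = 0 := by rw [em_smul, herm_smul_right D.form, h2, mul_zero]
  obtain ⟨g, hg, hgH⟩ := exists_heis D h1 h3
  refine ⟨g, hHM ⟨heis_rat D hgH, hg⟩, ?_⟩
  rwa [em_smul] at hgH

theorem HM.conj (hM : M ≤ isoU f) {U A : ι → F} (h : HM F₀ f M U A) {k : GL ι F} (hk : k ∈ M) :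
    HM F₀ f M ((k : Matrix ι ι F) *ᵥ U) ((k : Matrix ι ι F) *ᵥ A) := by
  have hi := mem_isoU.1 (hM hk)
  refine ⟨by rw [hi, h.1], by rw [hi, h.2.1], fun l => ?_⟩
  obtain ⟨g, hg, hgH⟩ := h.2.2 l
  refine ⟨k * g * k⁻¹, M.mul_mem (M.mul_mem hk hg) (M.inv_mem hk), fun x => ?_⟩
  have key : ∀ c, f x ((k : Matrix ι ι F) *ᵥ c) = f (((k⁻¹ : GL ι F) : Matrix ι ι F) *ᵥ x) c := fun c => by
    conv_lhs => rw [← gl_mulVec_inv k x]
    rw [hi]
  rw [gl_mul_mulVec, gl_mul_mulVec, hgH, ← mulVec_smul, key, key, hi, mulVec_sub, mulVec_sub, mulVec_add,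
    mulVec_smul, mulVec_smul, mulVec_smul, mulVec_smul, gl_mulVec_inv]

theorem HM.of_smul {k : F} {U A : ι → F} (hk : k ≠ 0) (h : HM F₀ f M (k • U) A) : HM F₀ f M U (σ k • A) := by
  have hσ : σ k ≠ 0 := by simpa using hk
  have h1 := h.1
  have h2 := h.2.1
  rw [D.form.smul_left, herm_smul_right D.form, mul_eq_zero, mul_eq_zero] at h1
  rw [D.form.smul_left, mul_eq_zero] at h2
  refine ⟨(h1.resolve_left hk).resolve_left hσ, by rw [herm_smul_right D.form, h2.resolve_left hk, mul_zero], fun l => ?_⟩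
  obtain ⟨g, hg, hgH⟩ := h.2.2 l
  refine ⟨g, hg, fun x => ?_⟩
  rw [hgH]
  simp only [herm_smul_right D.form, D.form.smul_left, map_mul, D.form.involutive, sfix D]
  module

/-- two Heisenberg elements with irrational product give a transvection group -/
theorem centre_of_pair {U A B : ι → F} (hA : HM F₀ f M U A) (hB : HM F₀ f M U B) (hne : f A B ∉ F₀) :
    U ∈ centres D.form M := by
  refine ⟨hA.1, fun c hc => ?_⟩
  obtain ⟨k, hk⟩ : ∃ k, k = f A B - σ (f A B) := ⟨_, rfl⟩
  have hk0 : k ≠ 0 := hk ▸ sub_ne_zero.2 fun h => hne ((D.fix _).2 h.symm)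
  have hkc : σ k = -k := by rw [hk, map_sub, D.form.involutive, neg_sub]
  have hl : c / k ∈ F₀ := (D.fix _).2 (by rw [map_div₀, hc, hkc, neg_div_neg_eq])
  obtain ⟨g, hg, hgH⟩ := hA.2.2 ⟨c / k, hl⟩
  obtain ⟨g', hg', hgH'⟩ := hB.2.2 1
  have hU := hA.1
  have hUA := hA.2.1
  have hUB := hB.2.1
  have hAU := herm_swap_zero D.form hUA
  have hBU := herm_swap_zero D.form hUB
  have hcσ : σ (c / k) = c / k := (D.fix _).1 hl
  refine ⟨utv_orth D.form hU c, ?_⟩
  have heq : tv U (c • hv D.form U) (utv_orth D.form hU c) = (g * g') * (g' * g)⁻¹ := by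
    rw [eq_mul_inv_iff_mul_eq]
    refine gl_ext_vec fun x => ?_
    simp only [gl_mul_mulVec, tv_mulVec, smul_dotProduct, hv_dot, smul_eq_mul, hgH _, hgH' _]
    simp only [OneMemClass.coe_one, one_smul, D.form.add_left, herm_sub_left D.form, D.form.smul_left,
      herm_smul_right D.form, hU, hUA, hUB, hAU, hBU, hcσ, D.form.herm B A]
    match_scalars <;> field_simp <;> (try rw [hk]) <;> ring
  rw [heq]
  exact M.mul_mem (M.mul_mem hg hg') (M.inv_mem (M.mul_mem hg' hg))

theorem rb_isotropic (u : ι → F₀) : f (em F₀ P u) (em F₀ P u) = 0 ↔ rb D u u = 0 :=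
  ⟨fun h => Subtype.ext h, fun h => congrArg Subtype.val h⟩

/-- a singular vector in a subspace and a complement of a small one -/
theorem singular_avoid (W S : Submodule F₀ (ι → F₀)) (h : Module.finrank F₀ S + 3 ≤ Module.finrank F₀ W) :
    ∃ z ∈ W, rb D z z = 0 ∧ z ∉ S := by
  haveI : Fintype F₀ := Fintype.ofFinite _
  have hs := rb_symmetric D
  obtain ⟨C, hC⟩ := S.exists_isCompl
  have h1 := Submodule.finrank_sup_add_finrank_inf_eq W C
  have h2 : Module.finrank F₀ ↥(W ⊔ C) ≤ Fintype.card ι := by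
    have := Submodule.finrank_le (W ⊔ C)
    rwa [Module.finrank_fintype_fun_eq_card] at this
  have h3 := Submodule.finrank_add_eq_of_isCompl hC
  rw [Module.finrank_fintype_fun_eq_card] at h3
  obtain ⟨z, ⟨hzW, hzC⟩, hz0, hzz⟩ :=
    Orth.exists_zero_one (d := rb D) hs.bilinear.add_left hs.bilinear.smul_left hs.symm (W := W ⊓ C) (by omega)
  exact ⟨z, hzW, hzz, fun h => hz0 (Submodule.disjoint_def.1 hC.disjoint z h hzC)⟩

/-- orthogonal subspaces have complementary dimensions at most -/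
theorem finrank_add_le_of_orth {W U : Submodule F₀ (ι → F₀)} (h : ∀ x ∈ W, ∀ y ∈ U, rb D x y = 0) :
    Module.finrank F₀ W + Module.finrank F₀ U ≤ Fintype.card ι := by
  have hs := rb_symmetric D
  let T : (ι → F₀) →ₗ[F₀] (W →ₗ[F₀] F₀) :=
    { toFun := fun v => (Orth.sfl hs v).comp W.subtype
      map_add' := fun a b => LinearMap.ext fun x => hs.bilinear.add_right (x : ι → F₀) a b
      map_smul' := fun c a => LinearMap.ext fun x => hs.bilinear.smul_right c (x : ι → F₀) a }
  have hsurj : Function.Surjective T := by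
    intro L
    obtain ⟨L', hL'⟩ := LinearMap.exists_extend L
    obtain ⟨p, hp⟩ := Orth.exists_rep hs (fvec L')
    refine ⟨p, LinearMap.ext fun x => ?_⟩
    show rb D (x : ι → F₀) p = L x
    rw [hp, fvec_dot, ← hL']
    rfl
  have hker : U ≤ LinearMap.ker T := fun v hv => LinearMap.ext fun x => h x x.2 v hv
  have h1 := LinearMap.finrank_range_add_finrank_ker T
  rw [LinearMap.range_eq_top.2 hsurj, finrank_top, Module.finrank_fintype_fun_eq_card] at h1
  have h2 : Module.finrank F₀ (W →ₗ[F₀] F₀) = Module.finrank F₀ W := Subspace.dual_finrank_eq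
  have h3 := Submodule.finrank_mono hker
  omega

/-- a singular vector not orthogonal to `t` in the hyperplane of a singular vector -/
theorem exists_singular_pair_perp (h6 : 6 ≤ Fintype.card ι) {u t v : ι → F₀} (hv : rb D v u = 0)
    (htv : rb D t v ≠ 0) : ∃ w, rb D w u = 0 ∧ rb D w w = 0 ∧ rb D t w ≠ 0 := by
  haveI : Fintype F₀ := Fintype.ofFinite _
  have hs := rb_symmetric D
  have h1 := Orth.finrank_le_inf_ker (⊤ : Submodule F₀ (ι → F₀)) (Orth.sfl hs u)
  rw [finrank_top, Module.finrank_fintype_fun_eq_card, top_inf_eq] at h1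
  have h3 : Module.finrank F₀ (Submodule.span F₀ ({u} : Set (ι → F₀))) ≤ 1 :=
    (finrank_span_le_card _).trans (by simp)
  obtain ⟨z, hz, hzz, hzu⟩ := singular_avoid D (LinearMap.ker (Orth.sfl hs u)) (Submodule.span F₀ {u}) (by omega)
  obtain ⟨y, hy1, hy2⟩ := Orth.exists_pairing hs hzu
  obtain ⟨w, hw, hww, htw⟩ := Orth.exists_singular_pair' hs (two' D) (W := LinearMap.ker (Orth.sfl hs u))
    (t := t) (v := v) (z := z) (y := y) hv hz
    (show rb D y u = 0 by rw [hs.symm]; exact hy2 u (Submodule.mem_span_singleton_self u))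
    hzz (by rw [hy1]; exact one_ne_zero) htv
  exact ⟨w, hw, hww, htw⟩

/-- a rational centre spreads to orthogonal rational singular vectors, and any centre gives one -/
theorem spread (hM : M ≤ isoU f) (hHM : subfieldSubgroup F₀ P ⊓ (isoU f ⊓ specialLinear ι F) ≤ M) {v : ι → F}
    (hv : v ∈ centres D.form M) {p r u : ι → F₀} (hvd : v = em F₀ P p + θ • em F₀ P r) (hu : rb D u u = 0)
    (hup : rb D u p = 0) (hur : rb D u r = 0)
    (hnot : ¬(p ∈ Submodule.span F₀ ({u} : Set (ι → F₀)) ∧ r ∈ Submodule.span F₀ ({u} : Set (ι → F₀)))) :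
    em F₀ P u ∈ centres D.form M := by
  have hs := rb_symmetric D
  obtain ⟨b, hub, hb⟩ : ∃ b, rb D u b = 0 ∧ ¬(rb D b p = 0 ∧ rb D b r = 0) := by
    rw [not_and_or] at hnot
    rcases hnot with h | h <;> obtain ⟨b, hb1, hb2⟩ := Orth.exists_pairing hs h <;>
      refine ⟨b, hb2 u (Submodule.mem_span_singleton_self u), fun h' => ?_⟩
    · exact one_ne_zero (hb1.symm.trans ((hs.symm _ _).trans h'.1))
    · exact one_ne_zero (hb1.symm.trans ((hs.symm _ _).trans h'.2))
  obtain ⟨h0, hT⟩ := hv.2 θ D.bar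
  have hUv : f (em F₀ P u) v = 0 := by
    rw [hvd, herm_add_right D.form, herm_smul_right D.form, ← rb_coe D, ← rb_coe D, hup, hur]
    push_cast
    ring
  have hbv : f (em F₀ P b) v ≠ 0 := by
    intro h
    rw [hvd, herm_add_right D.form, herm_smul_right D.form, ← rb_coe D, ← rb_coe D, D.bar] at h
    exact hb (by
      obtain ⟨e1, e2⟩ := coe_split_unique D (x := rb D b p) (y := -rb D b r) (x' := 0) (y' := 0)
        (by push_cast; linear_combination h)
      exact ⟨e1, neg_eq_zero.1 e2⟩)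
  have hB := HM.rat D hHM hu hub
  have hB' := HM.conj D hM hB hT
  rw [tv_mulVec, smul_dotProduct, hv_dot, hUv, smul_zero, zero_smul, add_zero, tv_mulVec, smul_dotProduct, hv_dot,
    smul_eq_mul] at hB'
  refine centre_of_pair D hB hB' fun hmem => ?_
  have h1 := (D.fix _).1 hmem
  rw [herm_add_right D.form, herm_smul_right D.form, map_mul, D.bar, map_add, map_mul, map_mul, map_neg, D.bar,
    D.form.involutive, (D.fix _).1 (D.rat b b)] at h1
  have h2 : (2 * θ) * (σ (f (em F₀ P b) v) * f (em F₀ P b) v) = 0 := by linear_combination h1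
  exact mul_ne_zero (mul_ne_zero D.two D.ne_zero) (mul_ne_zero (by simpa using hbv) hbv) h2

/-- a nonzero centre gives every isotropic vector -/
theorem all_centres (h6 : 6 ≤ Fintype.card ι) (hM : M ≤ isoU f) (hHM : subfieldSubgroup F₀ P ⊓ (isoU f ⊓ specialLinear ι F) ≤ M) {v₀ : ι → F}
    (hv₀ : v₀ ∈ centres D.form M) (hv₀0 : v₀ ≠ 0) {v : ι → F} (hvv : f v v = 0) : v ∈ centres D.form M := by
  haveI : Fintype F₀ := Fintype.ofFinite _
  have hs := rb_symmetric D
  have h2 := two' D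
  have hkb : ∀ (W : Submodule F₀ (ι → F₀)) (z : ι → F₀),
      Module.finrank F₀ W ≤ Module.finrank F₀ ↥(W ⊓ LinearMap.ker (Orth.sfl hs z)) + 1 :=
    fun W z => Orth.finrank_le_inf_ker W _
  have hk1 : ∀ z, Fintype.card ι ≤ Module.finrank F₀ ↥(LinearMap.ker (Orth.sfl hs z)) + 1 := fun z => by
    have := hkb ⊤ z
    rwa [finrank_top, Module.finrank_fintype_fun_eq_card, top_inf_eq] at this
  have hsp1 : ∀ z : ι → F₀, Module.finrank F₀ (Submodule.span F₀ ({z} : Set (ι → F₀))) ≤ 1 := fun z =>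
    (finrank_span_le_card _).trans (by simp)
  -- a rational centre
  obtain ⟨u₁, hu₁0, hu₁, hu₁C⟩ : ∃ u, u ≠ 0 ∧ rb D u u = 0 ∧ em F₀ P u ∈ centres D.form M := by
    obtain ⟨p, hp⟩ : ∃ p, p = rp D v₀ := ⟨_, rfl⟩
    obtain ⟨r, hr⟩ : ∃ r, r = ip D v₀ := ⟨_, rfl⟩
    obtain ⟨z, hz⟩ : ∃ z, rb D z p ≠ 0 ∨ rb D z r ≠ 0 := by
      by_cases h : p = 0
      · have hr0 : r ≠ 0 := fun h' => hv₀0 (by rw [decomp D v₀, ← hp, ← hr, h, h', em_zero, smul_zero, add_zero])
        obtain ⟨z, hz⟩ := (hs.nondegenerate r hr0).2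
        exact ⟨z, Or.inr (by rwa [hs.symm])⟩
      · obtain ⟨z, hz⟩ := (hs.nondegenerate p h).2
        exact ⟨z, Or.inl (by rwa [hs.symm])⟩
    have h1 := hk1 p
    have h3 := hkb (LinearMap.ker (Orth.sfl hs p)) r
    have h4 := hkb (LinearMap.ker (Orth.sfl hs p) ⊓ LinearMap.ker (Orth.sfl hs r)) z
    obtain ⟨u, ⟨⟨hup, hur⟩, huz⟩, huu, hu0⟩ := singular_avoid D
      (LinearMap.ker (Orth.sfl hs p) ⊓ LinearMap.ker (Orth.sfl hs r) ⊓ LinearMap.ker (Orth.sfl hs z)) ⊥
      (by rw [finrank_bot]; omega)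
    refine ⟨u, fun h => hu0 (h ▸ Submodule.zero_mem _), huu, spread D hM hHM hv₀ (by rw [hp, hr]; exact decomp D v₀)
      huu hup hur fun h => ?_⟩
    have key : ∀ y ∈ Submodule.span F₀ ({u} : Set (ι → F₀)), rb D z y = 0 := fun y hy => by
      obtain ⟨c, rfl⟩ := Submodule.mem_span_singleton.1 hy
      rw [hs.bilinear.smul_right, hs.symm, show rb D u z = 0 from huz, mul_zero]
    exact hz.elim (fun h' => h' (key p h.1)) (fun h' => h' (key r h.2))
  -- all rational singular vectors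
  have step : ∀ {a b : ι → F₀}, em F₀ P a ∈ centres D.form M → rb D b b = 0 → rb D b a = 0 →
      a ∉ Submodule.span F₀ ({b} : Set (ι → F₀)) → em F₀ P b ∈ centres D.form M := fun {a b} ha hb hba hne =>
    spread D hM hHM ha (r := 0) (by rw [em_zero, smul_zero, add_zero]) hb hba
      (by rw [Orth.sym_zero_right hs]) fun h => hne h.1
  have hratC : ∀ u, rb D u u = 0 → em F₀ P u ∈ centres D.form M := by
    intro u hu
    rcases eq_or_ne u 0 with rfl | hu0
    · rw [em_zero]; exact centres_zero D.form M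
    obtain ⟨x, hx1, hx2⟩ : ∃ x, rb D x u₁ ≠ 0 ∧ rb D x u ≠ 0 := by
      obtain ⟨a, ha⟩ := (hs.nondegenerate u₁ hu₁0).2
      obtain ⟨b, hb⟩ := (hs.nondegenerate u hu0).2
      rw [hs.symm] at ha hb
      by_cases h1 : rb D a u = 0
      · by_cases h2 : rb D b u₁ = 0
        · exact ⟨a + b, by rwa [hs.bilinear.add_left, h2, add_zero], by rwa [hs.bilinear.add_left, h1, zero_add]⟩
        · exact ⟨b, h2, hb⟩
      · exact ⟨a, ha, h1⟩
    have h1 := hk1 u₁
    have h3 := hkb (LinearMap.ker (Orth.sfl hs u₁)) u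
    have h4 := hkb (LinearMap.ker (Orth.sfl hs u₁) ⊓ LinearMap.ker (Orth.sfl hs u)) x
    obtain ⟨w, ⟨⟨hw1, hwu⟩, hwx⟩, hww, hw0⟩ := singular_avoid D
      (LinearMap.ker (Orth.sfl hs u₁) ⊓ LinearMap.ker (Orth.sfl hs u) ⊓ LinearMap.ker (Orth.sfl hs x)) ⊥
      (by rw [finrank_bot]; omega)
    have hwx' : rb D w x = 0 := hwx
    have hwu' : rb D w u = 0 := hwu
    have hw : em F₀ P w ∈ centres D.form M := step hu₁C hww hw1 fun hm => by
      obtain ⟨c, rfl⟩ := Submodule.mem_span_singleton.1 hm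
      rw [hs.bilinear.smul_right, hs.symm x w, hwx', mul_zero] at hx1
      exact hx1 rfl
    refine step hw hu (by rw [hs.symm]; exact hwu') fun hm => ?_
    obtain ⟨c, hc⟩ := Submodule.mem_span_singleton.1 hm
    rw [← hc, hs.bilinear.smul_left] at hwx'
    rcases mul_eq_zero.1 hwx' with h | h
    · rw [h, zero_smul] at hc
      exact hw0 (hc ▸ Submodule.zero_mem _)
    · exact hx2 (by rw [hs.symm, h])
  -- the general vector
  have hB2 : ∀ {x y : ι → F₀}, rb D (x - y) (x - y) = rb D x x - 2 * rb D x y + rb D y y := fun {x y} => by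
    rw [Orth.sym_sub_left hs, Orth.sym_sub_right hs, Orth.sym_sub_right hs, hs.symm y x]
    ring
  have hsing : ∀ {p r : ι → F₀}, rb D p p = 0 → rb D r r = 0 → em F₀ P p + θ • em F₀ P r ∈ centres D.form M := by
    intro p r hp hr
    have hiso : ∀ {p r : ι → F₀}, rb D p p = 0 → rb D r r = 0 →
        f (em F₀ P p + θ • em F₀ P r) (em F₀ P p + θ • em F₀ P r) = 0 := fun {p r} hp hr => by
      rw [f_mixed D, hp, hr, hs.symm r p]
      push_cast
      ring
    have hyp : ∀ {p r : ι → F₀}, rb D p p = 0 → rb D r r = 0 → rb D p r ≠ 0 →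
        em F₀ P p + θ • em F₀ P r ∈ centres D.form M := fun {p r} hp hr hpr =>
      centres_line D.form hM (hratC p hp) (hratC r hr)
        (fun h => hpr (Subtype.ext (by rw [rb_coe, h]; rfl))) (hiso hp hr)
    by_cases hpr : rb D p r = 0
    swap
    · exact hyp hp hr hpr
    by_cases hdep : r ∈ Submodule.span F₀ ({p} : Set (ι → F₀))
    · obtain ⟨c, rfl⟩ := Submodule.mem_span_singleton.1 hdep
      rw [show em F₀ P p + θ • em F₀ P (c • p) = (1 + θ * c) • em F₀ P p by rw [em_smul, smul_smul, add_smul, one_smul]]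
      exact centres_smul D.form (hratC p hp) _
    obtain ⟨y, hy1, hy2⟩ := Orth.exists_pairing hs hdep
    have h1 := hk1 p
    obtain ⟨x, hx, hxx, hxr⟩ := exists_singular_pair_perp D h6 (u := p) (t := r) (v := y)
      (show rb D y p = 0 by rw [hs.symm]; exact hy2 p (Submodule.mem_span_singleton_self p))
      (by rw [hy1]; exact one_ne_zero)
    have hxp : rb D x p = 0 := hx
    have hp' : rb D (p - x) (p - x) = 0 := by rw [hB2, hp, hxx, hs.symm p x, hxp]; ring
    have hp'r : rb D (p - x) r ≠ 0 := by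
      rw [Orth.sym_sub_left hs, hpr, zero_sub, neg_ne_zero, hs.symm]; exact hxr
    have hl := centres_line D.form hM (hyp hp' hr hp'r) (hratC x hxx) (r := 1) ?_ ?_
    · rwa [one_smul, em_sub, show em F₀ P p - em F₀ P x + θ • em F₀ P r + em F₀ P x =
        em F₀ P p + θ • em F₀ P r by abel] at hl
    · intro h
      have e := f_mixed D (p - x) r x 0
      rw [em_zero, smul_zero, add_zero, h, Orth.sym_zero_right hs, Orth.sym_zero_right hs] at e
      obtain ⟨-, e2⟩ := coe_split_unique D (x := rb D (p - x) x) (y := rb D r x) (x' := 0) (y' := 0)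
        (by push_cast at e ⊢; linear_combination -e)
      exact hxr e2
    · rw [one_smul, em_sub, show em F₀ P p - em F₀ P x + θ • em F₀ P r + em F₀ P x =
        em F₀ P p + θ • em F₀ P r by abel]
      exact hiso hp hr
  obtain ⟨p, hp⟩ : ∃ p, p = rp D v := ⟨_, rfl⟩
  obtain ⟨r, hr⟩ : ∃ r, r = ip D v := ⟨_, rfl⟩
  have hvd : v = em F₀ P p + θ • em F₀ P r := by rw [hp, hr]; exact decomp D v
  obtain ⟨δ, hδ⟩ : ∃ δ : F₀, (δ : F) = θ * θ :=
    ⟨⟨θ * θ, (D.fix _).2 (by rw [map_mul, D.bar, neg_mul_neg])⟩, rfl⟩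
  have hq : rb D p p = δ * rb D r r := by
    have h := hvv
    rw [hvd, f_mixed D, hs.symm r p] at h
    refine Subtype.ext ?_
    push_cast
    rw [hδ]
    linear_combination h
  rw [hvd]
  by_cases hrr : rb D r r = 0
  · exact hsing (by rw [hq, hrr, mul_zero]) hrr
  have hδ0 : δ ≠ 0 := fun h => D.ne_zero (mul_self_eq_zero.1 (by rw [← hδ, h]; rfl))
  have hpp : rb D p p ≠ 0 := by rw [hq]; exact mul_ne_zero hδ0 hrr
  obtain ⟨x, hxx, hpx, hrx⟩ : ∃ x, rb D x x = 0 ∧ rb D p x ≠ 0 ∧ rb D r x ≠ 0 := by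
    obtain ⟨a, -, haa, hpa⟩ := exists_singular_pair_perp D h6 (u := 0) (t := p) (v := p)
      (Orth.sym_zero_right hs p) hpp
    by_cases hra : rb D r a = 0
    swap
    · exact ⟨a, haa, hpa, hra⟩
    have h1 := hk1 a
    obtain ⟨b, hb, hbb, hrb⟩ := exists_singular_pair_perp D h6 (u := a) (t := r) (v := r) hra hrr
    have hba : rb D b a = 0 := hb
    by_cases hpb : rb D p b = 0
    swap
    · exact ⟨b, hbb, hpb, hrb⟩
    refine ⟨a + b, ?_, by rwa [hs.bilinear.add_right, hpb, add_zero], by rwa [hs.bilinear.add_right, hra, zero_add]⟩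
    rw [hs.bilinear.add_left, hs.bilinear.add_right, hs.bilinear.add_right, haa, hbb, hs.symm a b, hba]
    ring
  obtain ⟨t1, ht1⟩ : ∃ t, t = δ * rb D r r / (2 * rb D p x) := ⟨_, rfl⟩
  obtain ⟨t2, ht2⟩ : ∃ t, t = rb D r r / (2 * rb D r x) := ⟨_, rfl⟩
  have hp' : rb D (p - t1 • x) (p - t1 • x) = 0 := by
    rw [hB2, hs.bilinear.smul_right, hs.bilinear.smul_left, hs.bilinear.smul_right, hxx, hq, ht1]
    field_simp
    ring
  have hr' : rb D (r - t2 • x) (r - t2 • x) = 0 := by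
    rw [hB2, hs.bilinear.smul_right, hs.bilinear.smul_left, hs.bilinear.smul_right, hxx, ht2]
    field_simp
    ring
  have e : em F₀ P (p - t1 • x) + θ • em F₀ P (r - t2 • x) + ((t1 : F) + θ * t2) • em F₀ P x =
      em F₀ P p + θ • em F₀ P r := by
    rw [em_sub, em_sub, em_smul, em_smul]
    module
  have hl := centres_line D.form hM (hsing hp' hr') (hratC x hxx) (r := (t1 : F) + θ * t2) ?_ ?_
  · rwa [e] at hl
  · intro h
    have e' := f_mixed D (p - t1 • x) (r - t2 • x) x 0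
    rw [em_zero, smul_zero, add_zero, h, Orth.sym_zero_right hs, Orth.sym_zero_right hs, Orth.sym_sub_left hs,
      Orth.sym_sub_left hs, hs.bilinear.smul_left, hs.bilinear.smul_left, hxx] at e'
    obtain ⟨e1, -⟩ := coe_split_unique D (x := rb D p x) (y := rb D r x) (x' := 0) (y' := 0)
      (by push_cast at e' ⊢; linear_combination -e')
    exact hpx e1
  · rw [e, ← hvd]; exact hvv

end CfsgLib.Perm.Trans.Unit.ORat
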