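import Cfsg.Agent.Lib.Perm.Trans.UnitSubfEmb

/-!
# Full transvection groups at rational points
-/

set_option autoImplicit false
set_option linter.all false

namespace CfsgLib.Perm.Trans.Unit

open scoped Matrix
open Matrix Cfsg.Geo CfsgLib.Perm.Asch CfsgLib.Perm.Trans
open CfsgLib.Perm.Trans.Subf (em lift em_add em_neg em_sub em_smul em_sum em_zero em_injective em_ne_zero exists_coords lift_em lift_mem ext_em)

attribute [local instance] subfieldFintype

variable {ι : Type} [Fintype ι] [DecidableEq ι] {F : Type*} [Field F] [Fintype F]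
variable {σ : F ≃+* F} {f : (ι → F) → (ι → F) → F} {F₀ : Subfield F} {P : GL ι F} {r : ℕ}
variable (D : HermRat σ f F₀ P r) {M : Subgroup (GL ι F)}
variable (hHM : subfieldSubgroup F₀ P ⊓ (isoU f ⊓ specialLinear ι F) ≤ M)
variable (hM : M ≤ isoU f ⊓ specialLinear ι F)
include D hHM hM

/-- one large transvection group gives all of them -/
theorem ut_of_large (hn : 4 ≤ Fintype.card ι) {a₀ : ι → F₀} (ha₀0 : a₀ ≠ 0) (ha₀ : hrForm D a₀ a₀ = 0) {c₀ : F}
    (hc₀σ : σ c₀ = -c₀) (hc₀ : UT f M (em F₀ P a₀) c₀) (hc₀F : c₀ ∉ F₀)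
    {a : ι → F₀} (ha : hrForm D a a = 0) {c : F} (hc : σ c = -c) : UT f M (em F₀ P a) c := by
  have hf' := hrForm_unitary D
  have hMiso : M ≤ isoU f := hM.trans inf_le_left
  let C : Set F := {c | σ c = -c ∧ ∀ a : ι → F₀, hrForm D a a = 0 → UT f M (em F₀ P a) c}
  suffices h : ∀ c, σ c = -c → c ∈ C from (h c hc).2 a ha
  clear hc ha
  have hbad : c₀ ∈ C := ⟨hc₀σ, fun b hb => by
    rcases eq_or_ne b 0 with rfl | hb0
    · exact ⟨1, M.one_mem, fun x => by rw [Units.val_one, one_mulVec, em_zero, smul_zero, add_zero]⟩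
    obtain ⟨g, hg, hga⟩ := hr_transitive D hHM (by omega) ha₀ hb ha₀0 hb0
    rw [← hga]
    exact hc₀.conj hMiso hg⟩
  have hrat : ∀ x : F₀, hrBar D x = -x → (x : F) ∈ C := fun x hx =>
    ⟨by rw [← hrBar_coe D, hx]; rfl, fun b hb => hr_rat_tv D hHM hb hx⟩
  have hCadd : ∀ x ∈ C, ∀ y ∈ C, x + y ∈ C := fun x hx y hy =>
    ⟨by rw [map_add, hx.1, hy.1, neg_add], fun b hb => UT.add D (hr_em_iso D hb) (hx.2 b hb) (hy.2 b hb)⟩
  have hCnorm : ∀ x ∈ C, ∀ μ : F₀, x * ((μ : F) * σ (μ : F)) ∈ C := fun x hx μ =>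
    ⟨by rw [map_mul, map_mul, D.form.involutive, hx.1]; ring, fun b hb => by
      have h1 := hx.2 (μ • b) (by rw [hf'.smul_left, herm_smul_right hf', hb, mul_zero, mul_zero])
      rwa [em_smul, UT.smul_iff D] at h1⟩
  have hCscale : ∀ x ∈ C, ∀ k : F₀, hrBar D k = k → x * (k : F) ∈ C := fun x hx k hk => by
    obtain ⟨μ, hμ⟩ := exists_norm hf' hk
    rw [← hμ]
    push_cast
    rw [hrBar_coe]
    exact hCnorm x hx μ
  -- closure under triple products
  obtain ⟨θ, hθ⟩ := exists_trace hf' (d := (-1 : F₀)) (by rw [map_neg, map_one])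
  have hθ' : (θ : F) + σ (θ : F) = -1 := by
    have h1 := congrArg Subtype.val hθ
    push_cast at h1
    rwa [hrBar_coe] at h1
  have hC3 : ∀ x ∈ C, ∀ x₁ ∈ C, ∀ x₂ ∈ C, x * (x₁ * x₂) ∈ C := by
    intro x hx x₁ hx₁ x₂ hx₂
    refine ⟨by rw [map_mul, map_mul, hx.1, hx₁.1, hx₂.1]; ring, fun e hee => ?_⟩
    rcases eq_or_ne e 0 with rfl | he0
    · exact ⟨1, M.one_mem, fun v => by rw [Units.val_one, one_mulVec, em_zero, smul_zero, add_zero]⟩
    obtain ⟨z, hz⟩ := (hf'.nondegenerate e he0).2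
    obtain ⟨h, -, hhh, heh, hhe⟩ := exists_partner hf' (X := ⊤) Submodule.mem_top hee (y := z) Submodule.mem_top hz
    obtain ⟨hnd, hdim⟩ := sub_perp hf' (isNondegenerateOn_top hf') (isNondegenerateOn_pair hf' hee hhh heh) le_top
    obtain ⟨u, hu, hu0, huu⟩ := exists_isotropic hf'
      (W := (⊤ : Submodule F₀ (ι → F₀)) ⊓ perp hf' (Submodule.span F₀ {e, h})) (by
        rw [finrank_top, Module.finrank_fintype_fun_eq_card] at hdim
        classical
        have : Module.finrank F₀ (Submodule.span F₀ ({e, h} : Set (ι → F₀))) ≤ 2 := by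
          refine (finrank_span_le_card _).trans ?_
          rw [Set.toFinset_insert, Set.toFinset_singleton]
          exact Finset.card_le_two
        omega)
    obtain ⟨z', hz', huz⟩ := (hnd u hu hu0).2
    obtain ⟨w, hw, hww, huw, hwu⟩ := exists_partner hf' hu huu hz' huz
    have hue : hrForm D u e = 0 := hu.2 e (Submodule.subset_span (by simp))
    have hwe : hrForm D w e = 0 := hw.2 e (Submodule.subset_span (by simp))
    have he' := hr_em_iso D hee
    have hu' := hr_em_iso D huu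
    have hue' := hr_em_zero D hue
    have heu' := herm_swap_zero D.form hue'
    -- elements adding multiples of `e` to `u`
    have step : ∀ y ∈ C, ∀ μ : F₀, ∃ g ∈ M, (g : Matrix ι ι F) *ᵥ em F₀ P e = em F₀ P e ∧
        (g : Matrix ι ι F) *ᵥ em F₀ P u = em F₀ P u + (y * (μ : F)) • em F₀ P e := by
      intro y hy μ
      have hiso : hrForm D (w + μ • e) (w + μ • e) = 0 := by
        rw [herm_line hf' w e μ, hww, hee, hwe, herm_swap_zero hf' hwe]; ring
      obtain ⟨t₁, ht₁, h₁⟩ := hy.2 _ hiso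
      obtain ⟨t₂, ht₂, h₂⟩ := UT.neg D (hr_em_iso D hww) (hy.2 w hww)
      obtain ⟨t₃, ht₃, h₃⟩ := UT.neg D he' (UT.smul_iff D |>.1 (show UT f M ((μ : F) • em F₀ P e) y from
        em_smul F₀ P μ e ▸ hy.2 _ (by rw [hf'.smul_left, herm_smul_right hf', hee, mul_zero, mul_zero])))
      have hw' := hr_em_iso D hww
      have hwe' := hr_em_zero D hwe
      have hew' := herm_swap_zero D.form hwe'
      have huw' := hr_em_one D huw
      refine ⟨t₃ * t₂ * t₁, M.mul_mem (M.mul_mem ht₃ ht₂) ht₁, ?_, ?_⟩ <;>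
        simp only [gl_mul_mulVec, h₁, h₂, h₃, em_add, em_smul, D.form.add_left, herm_add_right D.form,
          D.form.smul_left, herm_smul_right D.form, hw', he', hwe', hew', hue', huw', mul_zero, mul_one, add_zero,
          zero_smul] <;>
        module
    obtain ⟨g₁, hg₁, hg₁e, hg₁u⟩ := step x₁ hx₁ θ
    obtain ⟨g₂, hg₂, hg₂e, hg₂u⟩ := step x₂ hx₂ 1
    push_cast at hg₂u
    rw [mul_one] at hg₂u
    have h0 := hx.2 u huu
    have h3 := h0.conj hMiso (M.mul_mem hg₁ hg₂)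
    rw [gl_mul_mulVec, hg₂u, mulVec_add, mulVec_smul, hg₁u, hg₁e, add_assoc, ← add_smul] at h3
    have h4 := UT.bilin D hu' he' hue' h0 (hg₁u ▸ h0.conj hMiso hg₁) (hg₂u ▸ h0.conj hMiso hg₂) h3
    rw [map_mul, hx₁.1, hx₂.1] at h4
    rwa [show x * (x₁ * (θ : F) * -x₂ + x₂ * (-x₁ * σ (θ : F))) = x * (x₁ * x₂) by
      linear_combination -(x * (x₁ * x₂)) * hθ'] at h4
  -- the fixed field
  obtain ⟨δ, hδ0, hδσ⟩ := exists_trace_zero hf'
  have hδC := hrat δ hδσ
  have hδ' : (δ : F) ≠ 0 := fun h => hδ0 (Subtype.ext h)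
  have hδσ' : σ (δ : F) = -(δ : F) := hδC.1
  let R : Set F := {s | σ s = s ∧ (δ : F) * s ∈ C}
  obtain ⟨ψ, hψ⟩ := hr_not_fixed D
  have hRrat : ∀ s : F₀, σ (s : F) = s → (s : F) ∈ R := fun s hs => ⟨hs, by
    have := hrat (δ * s) (by rw [map_mul, hδσ, show hrBar D s = s from Subtype.ext hs, neg_mul])
    push_cast at this
    exact this⟩
  have hRadd : ∀ s ∈ R, ∀ t ∈ R, s + t ∈ R := fun s hs t ht =>
    ⟨by rw [map_add, hs.1, ht.1], by rw [mul_add]; exact hCadd _ hs.2 _ ht.2⟩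
  have hRmul : ∀ s ∈ R, ∀ t ∈ R, s * t ∈ R := fun s hs t ht =>
    ⟨by rw [map_mul, hs.1, ht.1], by
      have h1 := hC3 _ hδC _ hs.2 _ ht.2
      have h2 := hCscale _ h1 ((δ * δ)⁻¹) (by rw [map_inv₀, map_mul, hδσ, neg_mul_neg])
      push_cast at h2
      rwa [show (δ : F) * ((δ : F) * s * ((δ : F) * t)) * ((δ : F) * (δ : F))⁻¹ = (δ : F) * (s * t) by
        field_simp] at h2⟩
  let T : Set F := {y | ∃ s ∈ R, ∃ t ∈ R, y = s + (ψ : F) * t}
  have hne : (ψ : F) - σ (ψ : F) ≠ 0 := sub_ne_zero.2 (Ne.symm hψ)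
  have hψT : (ψ : F) + σ (ψ : F) ∈ R ∧ -((ψ : F) * σ (ψ : F)) ∈ R := by
    constructor
    · have := hRrat (ψ + hrBar D ψ) (by push_cast; rw [hrBar_coe, map_add, D.form.involutive, add_comm])
      push_cast at this
      rwa [hrBar_coe] at this
    · have := hRrat (-(ψ * hrBar D ψ)) (by
        push_cast; rw [hrBar_coe, map_neg, map_mul, D.form.involutive, mul_comm])
      push_cast at this
      rwa [hrBar_coe] at this
  have hT : ∀ y, y ∈ T := by
    refine Subf.eq_univ_of_closed D.prime D.card ?_ ?_ ?_ (s := c₀ / (δ : F)) ?_ ?_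
    · rintro _ ⟨s, hs, t, ht, rfl⟩ _ ⟨s', hs', t', ht', rfl⟩
      exact ⟨s + s', hRadd _ hs _ hs', t + t', hRadd _ ht _ ht', by ring⟩
    · rintro _ ⟨s, hs, t, ht, rfl⟩ _ ⟨s', hs', t', ht', rfl⟩
      exact ⟨s * s' + t * t' * -((ψ : F) * σ (ψ : F)),
        hRadd _ (hRmul _ hs _ hs') _ (hRmul _ (hRmul _ ht _ ht') _ hψT.2),
        s * t' + t * s' + t * t' * ((ψ : F) + σ (ψ : F)),
        hRadd _ (hRadd _ (hRmul _ hs _ ht') _ (hRmul _ ht _ hs')) _ (hRmul _ (hRmul _ ht _ ht') _ hψT.1), by ring⟩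
    · intro y
      obtain ⟨t, ht⟩ : ∃ t, t = (y - hrBar D y) / (ψ - hrBar D ψ) := ⟨_, rfl⟩
      have hne₀ : ψ - hrBar D ψ ≠ 0 := fun h => hne (by
        have := congrArg Subtype.val h
        push_cast at this
        rwa [hrBar_coe] at this)
      have htσ : hrBar D t = t := by
        rw [ht, map_div₀, map_sub, map_sub, hf'.involutive, hf'.involutive, ← neg_sub y, ← neg_sub ψ, neg_div_neg_eq]
      have hsσ : hrBar D (y - ψ * t) = y - ψ * t := by
        rw [map_sub, map_mul, htσ, sub_eq_sub_iff_sub_eq_sub, ht]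
        field_simp
        ring
      refine ⟨((y - ψ * t : F₀) : F), hRrat _ (congrArg Subtype.val hsσ), (t : F), hRrat _ (congrArg Subtype.val htσ),
        ?_⟩
      push_cast
      ring
    · exact ⟨c₀ / (δ : F), ⟨by rw [map_div₀, hc₀σ, hδσ', neg_div_neg_eq], by rw [mul_div_cancel₀ _ hδ']; exact hbad⟩,
        0, by simpa using hRrat 0 (by simp), by ring⟩
    · exact fun h => hc₀F (by
        have := F₀.mul_mem h δ.2
        rwa [div_mul_cancel₀ _ hδ'] at this)
  intro y hy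
  obtain ⟨s, hs, t, ht, hst⟩ := hT (y / (δ : F))
  have ht0 : t = 0 := by
    have h1 := congrArg σ hst
    rw [map_div₀, hy, hδσ', neg_div_neg_eq, map_add, map_mul, hs.1, ht.1, hst] at h1
    have h2 : ((ψ : F) - σ (ψ : F)) * t = 0 := by linear_combination h1
    exact (mul_eq_zero.1 h2).resolve_left hne
  have h5 := hs.2
  rwa [show (δ : F) * s = y by
    rw [← mul_div_cancel₀ y hδ', hst, ht0, mul_zero, add_zero]] at h5

end CfsgLib.Perm.Trans.Unit
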